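import Cfsg.Agent.Classification.BSW.Setup

/-!
# The local data of `PSL₂(q)`, `q ≡ 3, 5 (mod 8)`, used for its character table
-/

set_option autoImplicit false

namespace Cfsg.Agent.Ree.PSLCharDef

open Cfsg.Agent.Classification.BSW.Setup

variable {L : Type*} [Group L]

/-- `B` is an abelian trivial intersection subgroup inverted by the involution `r`, with
normaliser `B ∪ r B`. -/
structure TIInv (B : Subgroup L) (r : L) : Prop where
  comm : ∀ a ∈ B, ∀ b ∈ B, a * b = b * a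
  r_sq : r * r = 1
  r_not : r ∉ B
  inv : ∀ a ∈ B, r * a * r⁻¹ = a⁻¹
  ti : ∀ g, ∀ x ∈ B, x ≠ 1 → g * x * g⁻¹ ∈ B → g ∈ B ∨ r * g ∈ B

/-- The local data of `PSL₂(q)`, `q = 4 m + ε`, `m` odd: the torus `A` of even order `2 m` (through
the involution `t`, inverted by `s`), the torus `B` of odd order `2 m + ε` (inverted by `r`), and the
elements of order `p`. -/
structure PSLData (A B : Subgroup L) (t s r : L) (m : ℕ) (ε : ℤ) : Prop where
  bsw : BSWData A t s
  tiB : TIInv B r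
  ε_cases : ε = 1 ∨ ε = -1
  m_odd : Odd m
  card_A : Nat.card A = 2 * m
  card_B : (Nat.card B : ℤ) = 2 * m + ε
  cyclic_A : IsCyclic A
  cyclic_B : IsCyclic B
  card_L : 2 * (Nat.card L : ℤ) = (4 * m + ε) * ((4 * m + ε) ^ 2 - 1)
  card_cent : ∀ x : L, x ≠ 1 → ¬ ConjIn A x → ¬ ConjIn B x →
    (Nat.card (Subgroup.centralizer ({x} : Set L)) : ℤ) = 4 * m + ε

end Cfsg.Agent.Ree.PSLCharDef
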