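import Cfsg.Agent.ClassicalGeometry.PSLTorus
import Cfsg.Agent.ClassicalGeometry.SplitTorus
import Cfsg.Agent.LieRecognition.PSLTwoLocal
import Cfsg.Agent.Ree.PSLCharDef

/-!
# The tori of `PSL₂(q)` and the data `PSLData`
-/

set_option autoImplicit false

namespace Cfsg.Agent.Ree.PSLTori

open Matrix
open scoped MatrixGroups
open Cfsg.Agent.ClassicalGeometry.SplitTorus (dg wl dgHom dg_mul dg_one dg_inv mul00 mul01 mul10 mul11
  inv00 inv01 inv10 inv11 det_eq ext2 dg00 dg01 dg10 dg11 wl00 wl01 wl10 wl11)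
open Cfsg.Agent.ClassicalGeometry.PSLTorus (pr pr_surjective pr_eq_one_iff pr_eq_iff neg_one_ne_one
  pow_half)
open Cfsg.Agent.Classification.BSW.Setup
open Cfsg.Agent.Ree.PSLCharDef

section field

variable {F : Type*} [Field F]

/-- The companion matrix. -/
def comp (τ : F) : SL(2, F) := ⟨!![0, -1; 1, τ], by rw [det_fin_two_of]; ring⟩

@[simp] theorem comp00 (τ : F) : (comp τ) 0 0 = (0 : F) := rfl
@[simp] theorem comp01 (τ : F) : (comp τ) 0 1 = (-1 : F) := rfl
@[simp] theorem comp10 (τ : F) : (comp τ) 1 0 = (1 : F) := rfl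
@[simp] theorem comp11 (τ : F) : (comp τ) 1 1 = τ := rfl

/-- the trace -/
def tr (g : SL(2, F)) : F := g 0 0 + g 1 1

theorem tr_mul_comm (g h : SL(2, F)) : tr (g * h) = tr (h * g) := by
  simp only [tr, mul00, mul11]
  ring

theorem tr_conj (g h : SL(2, F)) : tr (g * h * g⁻¹) = tr h := by
  rw [tr_mul_comm, ← mul_assoc, inv_mul_cancel, one_mul]

/-- A quadratic form represents one. -/
theorem exists_repr [Fintype F] (h2 : (2 : F) ≠ 0) (b c d : F) (hD : d ^ 2 + 4 * b * c ≠ 0) :
    ∃ x y : F, c * x ^ 2 + d * x * y - b * y ^ 2 = 1 := by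
  by_cases hc : c = 0
  · have hd : d ≠ 0 := by
      rintro rfl
      rw [hc] at hD
      apply hD
      ring
    refine ⟨(1 + b) / d, 1, ?_⟩
    rw [hc]
    field_simp
    ring
  · have hodd : Fintype.card F % 2 = 1 := by
      have := (Cfsg.Agent.ClassicalGeometry.PSLTorus.two_ne_zero_iff_odd F).1 h2
      exact Nat.odd_iff.1 this
    obtain ⟨a, e, he⟩ := FiniteField.exists_root_sum_quadratic (R := F)
      (f := Polynomial.C (1 : F) * Polynomial.X ^ 2 + Polynomial.C 0 * Polynomial.X + Polynomial.C 0)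
      (g := Polynomial.C (-(d ^ 2 + 4 * b * c)) * Polynomial.X ^ 2 + Polynomial.C 0 * Polynomial.X +
        Polynomial.C (-(4 * c)))
      (Polynomial.degree_quadratic one_ne_zero) (Polynomial.degree_quadratic (neg_ne_zero.2 hD)) hodd
    simp at he
    have h22 : (4 : F) ≠ 0 := by
      have : (4 : F) = 2 * 2 := by norm_num
      rw [this]
      exact mul_ne_zero h2 h2
    refine ⟨(a - d * e) / (2 * c), e, ?_⟩
    field_simp
    linear_combination (1 : F) * he

/-- Every element of `SL₂(F)` of trace `τ`, `τ² ≠ 4`, is conjugate to the companion matrix. -/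
theorem exists_conj_comp [Fintype F] (h2 : (2 : F) ≠ 0) (g : SL(2, F)) (hτ : tr g ^ 2 ≠ 4) :
    ∃ P : SL(2, F), g * P = P * comp (tr g) := by
  have hdet := det_eq g
  obtain ⟨x, y, hxy⟩ := exists_repr h2 (g 0 1) (g 1 0) (g 1 1 - g 0 0) (by
    intro h
    apply hτ
    simp only [tr]
    linear_combination h + 4 * hdet)
  have hP : (!![x, g 0 0 * x + g 0 1 * y; y, g 1 0 * x + g 1 1 * y] :
      Matrix (Fin 2) (Fin 2) F).det = 1 := by
    rw [det_fin_two_of]
    linear_combination hxy
  set P : SL(2, F) := ⟨!![x, g 0 0 * x + g 0 1 * y; y, g 1 0 * x + g 1 1 * y], hP⟩ with hPdef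
  have P00 : P 0 0 = x := rfl
  have P01 : P 0 1 = g 0 0 * x + g 0 1 * y := rfl
  have P10 : P 1 0 = y := rfl
  have P11 : P 1 1 = g 1 0 * x + g 1 1 * y := rfl
  refine ⟨P, ?_⟩
  · apply ext2
    · rw [mul00, mul00, P00, P01, P10]; simp
    · rw [mul01, mul01, P00, P01, P11]; simp only [tr, comp01, comp11]; linear_combination (-x) * hdet
    · rw [mul10, mul10, P00, P10, P11]; simp
    · rw [mul11, mul11, P01, P10, P11]; simp only [tr, comp01, comp11]; linear_combination (-y) * hdet

theorem exists_conj_of_tr [Fintype F] (h2 : (2 : F) ≠ 0) (g h : SL(2, F)) (hτ : tr g ^ 2 ≠ 4)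
    (hgh : tr g = tr h) : ∃ k : SL(2, F), k * g * k⁻¹ = h := by
  obtain ⟨P, hP⟩ := exists_conj_comp h2 g hτ
  obtain ⟨Q, hQ⟩ := exists_conj_comp h2 h (hgh ▸ hτ)
  refine ⟨Q * P⁻¹, ?_⟩
  have h1 : P⁻¹ * g * P = comp (tr g) := by rw [mul_assoc, hP, inv_mul_cancel_left]
  have h3 : Q * comp (tr h) * Q⁻¹ = h := by rw [← hQ, mul_inv_cancel_right]
  calc Q * P⁻¹ * g * (Q * P⁻¹)⁻¹ = Q * (P⁻¹ * g * P) * Q⁻¹ := by group
    _ = h := by rw [h1, hgh, h3]

end field

/-- A torus of `SL₂(F)` of order `2 n`. -/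
structure IsTor {F : Type*} [Field F] (T : Subgroup SL(2, F)) (s : SL(2, F)) (n : ℕ) : Prop where
  cyc : ∃ a, T = Subgroup.zpowers a ∧ orderOf a = 2 * n
  neg : -1 ∈ T
  s_sq : s * s = -1
  s_inv : ∀ t ∈ T, s⁻¹ * t * s = t⁻¹
  s_not : s ∉ T
  ti : ∀ t ∈ T, t ≠ 1 → t ≠ -1 → ∀ g : SL(2, F), g⁻¹ * t * g ∈ T → g ∈ T ∨ g * s⁻¹ ∈ T

section split

variable {F : Type*} [Field F] [Fintype F]

omit [Fintype F] in
theorem dg_injective : Function.Injective (dgHom F) := by
  intro x y h
  have := congrArg (fun g : SL(2, F) => g 0 0) h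
  exact Units.ext this

omit [Fintype F] in
theorem wl_sq : wl F * wl F = -1 := by
  apply ext2
  · rw [mul00]; simp
  · rw [mul01]; simp
  · rw [mul10]; simp
  · rw [mul11]; simp

omit [Fintype F] in
theorem wl_conj_dg (t : Fˣ) : (wl F)⁻¹ * dg t * wl F = (dg t)⁻¹ := by
  rw [← dg_inv, mul_assoc, inv_mul_eq_iff_eq_mul]
  apply ext2
  · rw [mul00, mul00]; simp
  · rw [mul01, mul01]; simp
  · rw [mul10, mul10]; simp
  · rw [mul11, mul11]; simp

theorem isTor_split (n : ℕ) (hn : Fintype.card F = 2 * n + 1) :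
    IsTor (dgHom F).range (wl F) n := by
  have hcent : ∀ t : Fˣ, dg t ≠ 1 → dg t ≠ -1 → ∀ g : SL(2, F), dg t * g = g * dg t →
      g ∈ (dgHom F).range := by
    intro t h1 h2 g hg
    have ht : (t : F) - ((t⁻¹ : Fˣ) : F) ≠ 0 := by
      intro h
      have h3 : (t : F) * t = 1 := by
        have := congrArg (fun z => z * (t : F)) h
        simp only [sub_mul, zero_mul, Units.inv_mul] at this
        linear_combination this
      rcases mul_self_eq_one_iff.1 h3 with h4 | h4
      · apply h1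
        have : t = 1 := Units.ext h4
        rw [this, dg_one]
      · apply h2
        have : t = -1 := Units.ext (by rw [h4]; simp)
        rw [this]
        apply ext2 <;> simp
    have h01 := congrArg (fun y : SL(2, F) => y 0 1) hg
    have h10 := congrArg (fun y : SL(2, F) => y 1 0) hg
    simp only [mul01, mul10, dg00, dg01, dg10, dg11] at h01 h10
    have g01 : g 0 1 = 0 := by
      have : ((t : F) - ((t⁻¹ : Fˣ) : F)) * g 0 1 = 0 := by linear_combination h01
      exact (mul_eq_zero.1 this).resolve_left ht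
    have g10 : g 1 0 = 0 := by
      have : ((t : F) - ((t⁻¹ : Fˣ) : F)) * g 1 0 = 0 := by linear_combination -h10
      exact (mul_eq_zero.1 this).resolve_left ht
    have hdet := det_eq g
    rw [g01, g10, mul_zero, sub_zero] at hdet
    refine ⟨⟨g 0 0, g 1 1, hdet, by rw [mul_comm]; exact hdet⟩, ?_⟩
    change dg _ = g
    apply ext2
    · simp
    · simp [g01]
    · simp [g10]
    · simp
  refine ⟨?_, ?_, wl_sq, ?_, ?_, ?_⟩
  · obtain ⟨ζ, hζ⟩ := IsCyclic.exists_generator (α := Fˣ)
    refine ⟨dg ζ, ?_, ?_⟩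
    · ext g
      constructor
      · rintro ⟨u, rfl⟩
        obtain ⟨k, rfl⟩ := hζ u
        exact ⟨k, (map_zpow (dgHom F) ζ k).symm⟩
      · rintro ⟨k, rfl⟩
        exact ⟨ζ ^ k, map_zpow (dgHom F) ζ k⟩
    · have h1 : orderOf (dgHom F ζ) = orderOf ζ := orderOf_injective (dgHom F) dg_injective ζ
      have h3 : orderOf ζ = Nat.card Fˣ := orderOf_eq_card_of_forall_mem_zpowers hζ
      change orderOf (dgHom F ζ) = _
      rw [h1, h3, Nat.card_units, Nat.card_eq_fintype_card, hn]
      omega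
  · refine ⟨-1, ?_⟩
    change dg (-1) = -1
    apply ext2 <;> simp
  · rintro _ ⟨t, rfl⟩
    exact wl_conj_dg t
  · rintro ⟨t, ht⟩
    have := congrArg (fun g : SL(2, F) => g 0 1) ht
    change (dg t) 0 1 = (wl F) 0 1 at this
    rw [dg01, wl01] at this
    exact zero_ne_one this
  · rintro _ ⟨t, rfl⟩ h1 h2 g ⟨u, hu⟩
    change dg u = g⁻¹ * dg t * g at hu
    change dg t ≠ 1 at h1
    change dg t ≠ -1 at h2
    have htr : (t : F) + ((t⁻¹ : Fˣ) : F) = (u : F) + ((u⁻¹ : Fˣ) : F) := by
      have h3 : tr (dg t) = tr (dg u) := by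
        rw [hu]
        have := tr_conj g⁻¹ (dg t)
        rw [inv_inv] at this
        exact this.symm
      exact h3
    have hcase : u = t ∨ u = t⁻¹ := by
      have h4 : ((u : F) - t) * ((u : F) * t - 1) = 0 := by
        have e1 : (t : F) * ((t⁻¹ : Fˣ) : F) = 1 := Units.mul_inv t
        have e2 : (u : F) * ((u⁻¹ : Fˣ) : F) = 1 := Units.mul_inv u
        linear_combination (-(u : F) * t) * htr + (u : F) * e1 - (t : F) * e2
      rcases mul_eq_zero.1 h4 with h5 | h5
      · left
        exact Units.ext (sub_eq_zero.1 h5)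
      · right
        rw [eq_inv_iff_mul_eq_one]
        exact Units.ext (by rw [Units.val_mul, sub_eq_zero.1 h5]; rfl)
    rcases hcase with rfl | rfl
    · left
      apply hcent u h1 h2 g
      nth_rewrite 2 [hu]
      group
    · right
      apply hcent t h1 h2
      have h6 : dg t = wl F * dg t⁻¹ * (wl F)⁻¹ := by
        rw [dg_inv, ← wl_conj_dg]
        group
      have h7 : g * dg t⁻¹ = dg t * g := by
        rw [hu]; group
      calc dg t * (g * (wl F)⁻¹) = g * dg t⁻¹ * (wl F)⁻¹ := by rw [← mul_assoc, ← h7]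
        _ = g * (wl F)⁻¹ * (wl F * dg t⁻¹ * (wl F)⁻¹) := by group
        _ = g * (wl F)⁻¹ * dg t := by rw [← h6]

omit [Fintype F] in
theorem split_tr (h2 : (2 : F) ≠ 0) (τ : F) (hτ : IsSquare (τ ^ 2 - 4)) :
    ∃ t ∈ (dgHom F).range, tr t = τ := by
  obtain ⟨d, hd⟩ := hτ
  have h22 : (4 : F) ≠ 0 := by
    have : (4 : F) = 2 * 2 := by norm_num
    rw [this]
    exact mul_ne_zero h2 h2
  have h3 : (τ + d) / 2 * ((τ - d) / 2) = 1 := by
    field_simp
    linear_combination hd
  refine ⟨dg ⟨(τ + d) / 2, (τ - d) / 2, h3, by rw [mul_comm]; exact h3⟩, ⟨_, rfl⟩, ?_⟩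
  change (τ + d) / 2 + (τ - d) / 2 = τ
  field_simp
  ring

end split

section nonsplit

variable {F : Type*} [Field F] [Fintype F]

theorem isSquare_mul_of_not {x y : F} (hx : ¬ IsSquare x) (hy : ¬ IsSquare y) : IsSquare (x * y) := by
  classical
  by_cases hxy : x * y = 0
  · rw [hxy]; exact ⟨0, by simp⟩
  · have h1 := quadraticChar_neg_one_iff_not_isSquare.2 hx
    have h3 := quadraticChar_neg_one_iff_not_isSquare.2 hy
    rw [← quadraticChar_one_iff_isSquare hxy, map_mul, h1, h3]
    norm_num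

theorem exists_isTor_nonsplit (h2 : (2 : F) ≠ 0) (n : ℕ) (hn : Fintype.card F + 1 = 2 * n) :
    ∃ (T : Subgroup SL(2, F)) (s : SL(2, F)), IsTor T s n ∧
      ∀ τ : F, ¬ IsSquare (τ ^ 2 - 4) → ∃ t ∈ T, tr t = τ := by
  classical
  obtain ⟨a, s, K, ha, hs, hsa, hneg, hT, hunit, hcomm⟩ :=
    Cfsg.Agent.ClassicalGeometry.NonsplitTorus.exists_torus (F := F)
  have hq : 1 < Fintype.card F := Fintype.one_lt_card
  have h22 : (4 : F) ≠ 0 := by
    have : (4 : F) = 2 * 2 := by norm_num
    rw [this]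
    exact mul_ne_zero h2 h2
  have hinv : ∀ t ∈ Subgroup.zpowers a, s⁻¹ * t * s = t⁻¹ := by
    rintro _ ⟨k, rfl⟩
    change s⁻¹ * a ^ k * s = (a ^ k)⁻¹
    have h5 := conj_zpow (i := k) (a := s⁻¹) (b := a)
    rw [inv_inv] at h5
    rw [← h5, hsa, _root_.inv_zpow]
  have hcent : ∀ t ∈ Subgroup.zpowers a, t ≠ 1 → t ≠ -1 → ∀ g : SL(2, F), t * g = g * t →
        g ∈ Subgroup.zpowers a := by
    intro t ht h1 h3 g hg
    have hg' : (t : Matrix (Fin 2) (Fin 2) F) * (g : Matrix (Fin 2) (Fin 2) F) =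
        (g : Matrix (Fin 2) (Fin 2) F) * (t : Matrix (Fin 2) (Fin 2) F) := by
      have := congrArg (Subtype.val) hg
      simpa using this
    obtain ⟨α, β, hαβ⟩ := Cfsg.Agent.ClassicalGeometry.NonsplitTorus.commutant _ _ (fun c hc => by
      rcases Cfsg.Agent.ClassicalGeometry.NonsplitTorus.eq_one_or_of_smul t c hc with h | h
      · exact h1 h
      · exact h3 h) hg'
    rw [hT, hαβ]
    have htK := (hT t).mp ht
    exact K.add_mem (K.smul_mem K.one_mem α) (K.smul_mem htK β)
  have hTI : ∀ t ∈ Subgroup.zpowers a, t ≠ 1 → t ≠ -1 → ∀ g : SL(2, F),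
        g⁻¹ * t * g ∈ Subgroup.zpowers a → g ∈ Subgroup.zpowers a ∨ g * s⁻¹ ∈ Subgroup.zpowers a := by
    intro t ht h1 h3 g hg
    -- `g⁻¹ t g` has the same trace
    set u : SL(2, F) := g⁻¹ * t * g with hu
    have htr : tr t = tr u := by
      rw [hu]
      have := tr_conj g⁻¹ t
      rw [inv_inv] at this
      exact this.symm
    have hab : a * u = u * a := by
      obtain ⟨k, hk⟩ := hg
      have hk : a ^ k = u := hk
      rw [← hk]
      exact (Commute.refl a).zpow_right k
    have htu : t * u = u * t := by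
      obtain ⟨k, hk⟩ := ht
      have hk : a ^ k = t := hk
      obtain ⟨j, hj⟩ := hg
      have hj : a ^ j = u := hj
      rw [← hk, ← hj, ← _root_.zpow_add, ← _root_.zpow_add, add_comm]
    have hcase : u = t ∨ u = t⁻¹ := by
      have htK := (hT t).mp ht
      have huK := (hT u).mp hg
      have hCt := Cfsg.Agent.ClassicalGeometry.NonsplitTorus.mul_self_eq (t : Matrix (Fin 2) (Fin 2) F)
      have hCu := Cfsg.Agent.ClassicalGeometry.NonsplitTorus.mul_self_eq (u : Matrix (Fin 2) (Fin 2) F)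
      have htr' : (u : Matrix (Fin 2) (Fin 2) F).trace = (t : Matrix (Fin 2) (Fin 2) F).trace := by
        rw [Matrix.trace_fin_two, Matrix.trace_fin_two]
        exact htr.symm
      rw [t.2, one_smul] at hCt
      rw [u.2, one_smul, htr'] at hCu
      have hc := hcomm _ huK _ htK
      set σ := (t : Matrix (Fin 2) (Fin 2) F).trace with hσ
      have hprod : ((u : Matrix (Fin 2) (Fin 2) F) - (t : Matrix (Fin 2) (Fin 2) F)) *
          ((u : Matrix (Fin 2) (Fin 2) F) + (t : Matrix (Fin 2) (Fin 2) F) - σ • 1) = 0 := by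
        have e1 : ((u : Matrix (Fin 2) (Fin 2) F) - (t : Matrix (Fin 2) (Fin 2) F)) *
          ((u : Matrix (Fin 2) (Fin 2) F) + (t : Matrix (Fin 2) (Fin 2) F) - σ • 1) =
          (u : Matrix (Fin 2) (Fin 2) F) * u - σ • (u : Matrix (Fin 2) (Fin 2) F) -
          ((t : Matrix (Fin 2) (Fin 2) F) * t - σ • (t : Matrix (Fin 2) (Fin 2) F)) +
          ((u : Matrix (Fin 2) (Fin 2) F) * t - t * u) := by
          simp only [sub_mul, mul_sub, mul_add, mul_smul_comm, mul_one, smul_sub]
          abel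
        rw [e1, hCt, hCu, hc]
        abel
      by_cases hx : (u : Matrix (Fin 2) (Fin 2) F) - (t : Matrix (Fin 2) (Fin 2) F) = 0
      · left
        exact Subtype.ext (sub_eq_zero.mp hx)
      · right
        have hy := ((hunit _ (K.sub_mem huK htK) hx).mul_right_eq_zero).mp hprod
        rw [eq_inv_iff_mul_eq_one]
        apply Subtype.ext
        rw [Matrix.SpecialLinearGroup.coe_mul, Matrix.SpecialLinearGroup.coe_one]
        have e2 : (u : Matrix (Fin 2) (Fin 2) F) = σ • 1 - (t : Matrix (Fin 2) (Fin 2) F) := by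
          rw [eq_sub_iff_add_eq]
          exact sub_eq_zero.mp hy
        rw [e2, sub_mul, hCt]
        simp
    rcases hcase with h4 | h4
    · left
      apply hcent t ht h1 h3 g
      rw [hu, mul_assoc, inv_mul_eq_iff_eq_mul] at h4
      exact h4
    · right
      apply hcent t ht h1 h3
      have h6 : t = s * t⁻¹ * s⁻¹ := by
        rw [← hinv t ht]; group
      have h7 : g * t⁻¹ = t * g := by
        rw [← h4, hu]; group
      calc t * (g * s⁻¹) = g * t⁻¹ * s⁻¹ := by rw [← mul_assoc, ← h7]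
        _ = g * s⁻¹ * (s * t⁻¹ * s⁻¹) := by group
        _ = g * s⁻¹ * t := by rw [← h6]
  refine ⟨Subgroup.zpowers a, s, ⟨⟨a, rfl, by rw [ha, hn]⟩, hneg, hs, hinv, ?_, hTI⟩, ?_⟩
  · rintro ⟨k, hk⟩
    have hk : a ^ k = s := hk
    have h1 : s⁻¹ * a * s = a := by
      rw [← hk, mul_assoc, ← _root_.zpow_one_add, add_comm, _root_.zpow_add, _root_.zpow_one,
        inv_mul_cancel_left]
    rw [h1] at hsa
    have h2 : a ^ 2 = 1 := by
      rw [pow_two]
      nth_rewrite 1 [hsa]
      exact inv_mul_cancel a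
    have h3 := Nat.le_of_dvd (by norm_num) (orderOf_dvd_of_pow_eq_one h2)
    rw [ha] at h3
    omega
  · intro τ hτ
    have haK : (a : Matrix (Fin 2) (Fin 2) F) ∈ K := (hT a).1 (Subgroup.mem_zpowers a)
    have hdet := det_eq a
    set α := tr a with hα
    -- the discriminant of `a` is not a square
    have hns : ¬ IsSquare (α ^ 2 - 4) := by
      rintro ⟨e, he⟩
      have hM : ∀ c : F, (a : Matrix (Fin 2) (Fin 2) F) - c • (1 : Matrix (Fin 2) (Fin 2) F) ≠ 0 := by
        intro c hc
        rcases Cfsg.Agent.ClassicalGeometry.NonsplitTorus.eq_one_or_of_smul a c (sub_eq_zero.1 hc)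
          with h | h
        · rw [h, orderOf_one] at ha
          omega
        · have h3 : a ^ 2 = 1 := by rw [h]; simp
          have h4 := Nat.le_of_dvd (by norm_num) (orderOf_dvd_of_pow_eq_one h3)
          rw [ha] at h4
          omega
      have hmem : ∀ c : F, (a : Matrix (Fin 2) (Fin 2) F) - c • (1 : Matrix (Fin 2) (Fin 2) F) ∈ K :=
        fun c => K.sub_mem haK (K.smul_mem K.one_mem c)
      have hu := hunit _ (hmem ((α + e) / 2)) (hM _)
      have hprod : ((a : Matrix (Fin 2) (Fin 2) F) - ((α + e) / 2) • (1 : Matrix (Fin 2) (Fin 2) F)) *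
          ((a : Matrix (Fin 2) (Fin 2) F) - ((α - e) / 2) • (1 : Matrix (Fin 2) (Fin 2) F)) = 0 := by
        have he' : (α + e) / 2 * ((α - e) / 2) = 1 := by
          field_simp
          linear_combination he
        have hCa := Cfsg.Agent.ClassicalGeometry.NonsplitTorus.mul_self_eq (a : Matrix (Fin 2) (Fin 2) F)
        rw [a.2, one_smul, Matrix.trace_fin_two] at hCa
        change _ = α • _ - _ at hCa
        rw [sub_mul, mul_sub, mul_sub, hCa, mul_smul_comm, mul_one, smul_mul_assoc, one_mul,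
          smul_mul_smul_comm, he', one_mul, one_smul]
        have h5 : α • (a : Matrix (Fin 2) (Fin 2) F) =
          ((α - e) / 2) • (a : Matrix (Fin 2) (Fin 2) F) + ((α + e) / 2) • (a : Matrix (Fin 2) (Fin 2) F) := by
          rw [← add_smul]
          congr 1
          field_simp
          ring
        rw [h5]
        abel
      exact hM _ ((hu.mul_right_eq_zero).mp hprod)
    have hα0 : α ^ 2 - 4 ≠ 0 := by
      intro h
      apply hns
      rw [h]
      exact ⟨0, by simp⟩
    obtain ⟨f, hf⟩ := isSquare_mul_of_not hτ hns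
    have hf' : (f / (α ^ 2 - 4)) ^ 2 * (α ^ 2 - 4) = τ ^ 2 - 4 := by
      field_simp
      linear_combination -hf
    set e := f / (α ^ 2 - 4) with he
    set b : Matrix (Fin 2) (Fin 2) F := (τ / 2 - e * (α / 2)) • (1 : Matrix (Fin 2) (Fin 2) F) +
      e • (a : Matrix (Fin 2) (Fin 2) F) with hb
    have hbK : b ∈ K := K.add_mem (K.smul_mem K.one_mem _) (K.smul_mem haK _)
    have b00 : b 0 0 = τ / 2 - e * (α / 2) + e * a 0 0 := by simp [hb]
    have b01 : b 0 1 = e * a 0 1 := by simp [hb]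
    have b10 : b 1 0 = e * a 1 0 := by simp [hb]
    have b11 : b 1 1 = τ / 2 - e * (α / 2) + e * a 1 1 := by simp [hb]
    have hαe : α = a 0 0 + a 1 1 := rfl
    have hbdet : b.det = 1 := by
      rw [det_fin_two, b00, b01, b10, b11]
      have h6 : 4 * ((τ / 2 - e * (α / 2) + e * a 0 0) * (τ / 2 - e * (α / 2) + e * a 1 1) -
        e * a 0 1 * (e * a 1 0)) = 4 * 1 := by
        field_simp
        rw [hαe] at hf' ⊢
        linear_combination (4 * e ^ 2) * hdet - hf'
      exact mul_left_cancel₀ h22 h6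
    refine ⟨⟨b, hbdet⟩, (hT _).2 hbK, ?_⟩
    change b 0 0 + b 1 1 = τ
    rw [b00, b11]
    field_simp
    rw [hαe]
    ring

end nonsplit

section psl

variable {F : Type*} [Field F]

local notation "PSL₂" => Matrix.ProjectiveSpecialLinearGroup (Fin 2)

theorem mem_map_iff {T : Subgroup SL(2, F)} (hneg : (-1 : SL(2, F)) ∈ T) (g : SL(2, F)) :
    pr F g ∈ T.map (pr F) ↔ g ∈ T := by
  constructor
  · rintro ⟨h, hh, hgh⟩
    rcases (pr_eq_iff _ _).1 hgh with h1 | h1
    · rw [← h1]; exact hh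
    · have h2 : g = -1 * h := by rw [h1]; simp
      rw [h2]
      exact mul_mem hneg hh
  · intro h
    exact ⟨g, h, rfl⟩

theorem orderOf_pr (h2 : (2 : F) ≠ 0) (a : SL(2, F)) (n : ℕ) (ha : orderOf a = 2 * n)
    (hneg : (-1 : SL(2, F)) ∈ Subgroup.zpowers a) : orderOf (pr F a) = n := by
  have hpow := pow_half h2 a n ha hneg
  apply Nat.dvd_antisymm
  · apply orderOf_dvd_of_pow_eq_one
    rw [← map_pow, pr_eq_one_iff, hpow]
    exact Or.inr rfl
  · have h1 : (pr F a) ^ (orderOf (pr F a)) = 1 := pow_orderOf_eq_one _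
    rw [← map_pow, pr_eq_one_iff] at h1
    rcases h1 with h1 | h1
    · have h3 := orderOf_dvd_of_pow_eq_one h1
      rw [ha] at h3
      exact dvd_trans (Dvd.intro_left 2 rfl) h3
    · have h4 : a ^ (orderOf (pr F a) + n) = 1 := by
        rw [pow_add, h1, hpow]
        simp
      have h3 := orderOf_dvd_of_pow_eq_one h4
      rw [ha] at h3
      have h5 : n ∣ orderOf (pr F a) + n := dvd_trans (Dvd.intro_left 2 rfl) h3
      exact (Nat.dvd_add_left (dvd_refl n)).mp h5

variable {T : Subgroup SL(2, F)} {s : SL(2, F)} {n : ℕ}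

theorem IsTor.exists_map (h2 : (2 : F) ≠ 0) (h : IsTor T s n) :
    ∃ a : SL(2, F), a ∈ T ∧ T.map (pr F) = Subgroup.zpowers (pr F a) ∧ orderOf (pr F a) = n ∧
      orderOf a = 2 * n ∧ (-1 : SL(2, F)) ∈ Subgroup.zpowers a := by
  obtain ⟨a, ha, ho⟩ := h.cyc
  have hneg : (-1 : SL(2, F)) ∈ Subgroup.zpowers a := ha ▸ h.neg
  refine ⟨a, ha ▸ Subgroup.mem_zpowers a, ?_, orderOf_pr h2 a n ho hneg, ho, hneg⟩
  rw [ha, MonoidHom.map_zpowers]

theorem IsTor.tiInv (h2 : (2 : F) ≠ 0) (h : IsTor T s n) : TIInv (T.map (pr F)) (pr F s) := by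
  have hss : pr F s * pr F s = 1 := by
    rw [← map_mul, h.s_sq, pr_eq_one_iff]
    exact Or.inr rfl
  have hsinv : (pr F s)⁻¹ = pr F s := inv_eq_of_mul_eq_one_left hss
  refine ⟨?_, hss, ?_, ?_, ?_⟩
  · obtain ⟨a, -, ha, -⟩ := h.exists_map h2
    rw [ha]
    rintro _ ⟨i, rfl⟩ _ ⟨j, rfl⟩
    exact ((Commute.refl (pr F a)).zpow_zpow i j)
  · rw [mem_map_iff h.neg]
    exact h.s_not
  · rintro _ ⟨t, ht, rfl⟩
    have h3 := h.s_inv t ht
    have h4 := congrArg (pr F) h3
    rw [map_mul, map_mul, map_inv, map_inv, hsinv] at h4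
    rw [hsinv, h4]
  · rintro g _ ⟨t, ht, rfl⟩ h1 hg
    obtain ⟨g, rfl⟩ := pr_surjective F g
    rw [← map_inv, ← map_mul, ← map_mul, mem_map_iff h.neg] at hg
    rw [← map_mul, mem_map_iff h.neg, mem_map_iff h.neg]
    have h3 : t ≠ 1 ∧ t ≠ -1 := by
      rw [← not_or, ← pr_eq_one_iff]
      exact h1
    rcases h.ti t ht h3.1 h3.2 g⁻¹ (by rw [inv_inv]; exact hg) with h4 | h4
    · left
      rwa [inv_mem_iff] at h4
    · right
      rw [← inv_mem_iff]
      rw [_root_.mul_inv_rev]
      exact h4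

theorem IsTor.card_map (h2 : (2 : F) ≠ 0) (h : IsTor T s n) : Nat.card (T.map (pr F)) = n := by
  obtain ⟨a, -, ha, ho, -⟩ := h.exists_map h2
  rw [ha, Nat.card_zpowers, ho]

theorem IsTor.isCyclic_map (h2 : (2 : F) ≠ 0) (h : IsTor T s n) : IsCyclic (T.map (pr F)) := by
  obtain ⟨a, -, ha, ho, -⟩ := h.exists_map h2
  rw [ha]
  infer_instance

theorem IsTor.bsw [Fintype F] (h2 : (2 : F) ≠ 0) {m : ℕ} (hm : 0 < m) (h : IsTor T s (2 * m)) :
    ∃ t, BSWData (T.map (pr F)) t (pr F s) := by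
  have hti := h.tiInv h2
  obtain ⟨a, haT, ha, ho, -⟩ := h.exists_map h2
  have hodd : Odd (Fintype.card F) :=
    (Cfsg.Agent.ClassicalGeometry.PSLTorus.two_ne_zero_iff_odd F).1 h2
  set t := (pr F a) ^ m with ht
  have htm : t ∈ T.map (pr F) := by
    rw [ha]
    exact Subgroup.npow_mem_zpowers _ m
  have ht1 : t ≠ 1 := by
    intro h1
    have := Nat.le_of_dvd hm (ho ▸ orderOf_dvd_of_pow_eq_one h1)
    omega
  have htt : t * t = 1 := by
    rw [ht, ← pow_add, ← two_mul, ← ho, pow_orderOf_eq_one]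
  refine ⟨t, hti.comm, htm, ht1, htt, hti.r_sq, hti.r_not, hti.inv, ?_, hti.ti, ?_⟩
  · intro g hg
    apply hti.ti g t htm ht1
    rw [hg, mul_inv_cancel_right]
    exact htm
  · intro u hu huu
    obtain ⟨g, hg⟩ := Cfsg.Agent.LieRecognition.PSLTwoLocal.exists_conj_mk_w hodd u hu huu
    obtain ⟨k, hk⟩ := Cfsg.Agent.LieRecognition.PSLTwoLocal.exists_conj_mk_w hodd t ht1 htt
    refine ⟨k * g⁻¹, ?_⟩
    rw [← hk, ← hg]
    group

end psl

section central

variable {F : Type*} [Field F] [Fintype F]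

local notation "PSL₂" => Matrix.ProjectiveSpecialLinearGroup (Fin 2)

/-- The centraliser of a unipotent element of `PSL₂(q)` has order `q`. -/
theorem card_centralizer_unipotent (h2 : (2 : F) ≠ 0) (g : SL(2, F)) (h1 : g ≠ 1)
    (htr : tr g = 2) : Nat.card (Subgroup.centralizer ({pr F g} : Set (PSL₂ F))) = Fintype.card F := by
  have h22 : (4 : F) ≠ 0 := by
    have : (4 : F) = 2 * 2 := by norm_num
    rw [this]
    exact mul_ne_zero h2 h2
  have hdet := det_eq g
  have htr' : g 1 1 = 2 - g 0 0 := by rw [← htr, tr]; ring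
  -- the elements `1 + β (g - 1)`
  have hD : ∀ β : F, (!![1 + β * (g 0 0 - 1), β * g 0 1; β * g 1 0, 1 + β * (g 1 1 - 1)] :
      Matrix (Fin 2) (Fin 2) F).det = 1 := by
    intro β
    rw [det_fin_two_of, htr']
    rw [htr'] at hdet
    linear_combination (β ^ 2) * hdet
  let e : F → SL(2, F) := fun β =>
    ⟨!![1 + β * (g 0 0 - 1), β * g 0 1; β * g 1 0, 1 + β * (g 1 1 - 1)], hD β⟩
  have e00 : ∀ β, (e β) 0 0 = 1 + β * (g 0 0 - 1) := fun _ => rfl
  have e01 : ∀ β, (e β) 0 1 = β * g 0 1 := fun _ => rfl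
  have e10 : ∀ β, (e β) 1 0 = β * g 1 0 := fun _ => rfl
  have e11 : ∀ β, (e β) 1 1 = 1 + β * (g 1 1 - 1) := fun _ => rfl
  have hcomm : ∀ β, e β * g = g * e β := by
    intro β
    apply ext2
    · rw [mul00, mul00, e00, e01, e10]; ring
    · rw [mul01, mul01, e00, e01, e11]; ring
    · rw [mul10, mul10, e00, e10, e11]; ring
    · rw [mul11, mul11, e01, e10, e11]; ring
  have hne : g 0 1 ≠ 0 ∨ g 1 0 ≠ 0 := by
    by_contra hcon
    rw [not_or, not_not, not_not] at hcon
    apply h1
    have h3 : (g 0 0 - 1) * (g 0 0 - 1) = 0 := by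
      rw [htr', hcon.1, hcon.2] at hdet
      linear_combination -hdet
    have h4 : g 0 0 = 1 := sub_eq_zero.1 (mul_self_eq_zero.1 h3)
    apply ext2
    · rw [h4]; simp
    · rw [hcon.1]; simp
    · rw [hcon.2]; simp
    · rw [htr', h4]; norm_num
  let φ : F → Subgroup.centralizer ({pr F g} : Set (PSL₂ F)) := fun β =>
    ⟨pr F (e β), by
      rw [Subgroup.mem_centralizer_singleton_iff, ← map_mul, ← map_mul, hcomm β]⟩
  have hφ : Function.Bijective φ := by
    constructor
    · intro β γ hβγ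
      have h3 : pr F (e β) = pr F (e γ) := congrArg Subtype.val hβγ
      rcases (pr_eq_iff _ _).1 h3 with h4 | h4
      · have h01 := congrArg (fun y : SL(2, F) => y 0 1) h4
        have h10 := congrArg (fun y : SL(2, F) => y 1 0) h4
        simp only [e01, e10] at h01 h10
        rcases hne with h5 | h5
        · exact mul_right_cancel₀ h5 h01
        · exact mul_right_cancel₀ h5 h10
      · exfalso
        have h00 := congrArg (fun y : SL(2, F) => y 0 0) h4
        have h11 := congrArg (fun y : SL(2, F) => y 1 1) h4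
        have hn00 : (-(e γ)) 0 0 = -((e γ) 0 0) := by simp
        have hn11 : (-(e γ)) 1 1 = -((e γ) 1 1) := by simp
        simp only [hn00, hn11, e00, e11, htr'] at h00 h11
        apply h22
        linear_combination h00 + h11
    · rintro ⟨y, hy⟩
      obtain ⟨h, rfl⟩ := pr_surjective F y
      rw [Subgroup.mem_centralizer_singleton_iff, ← map_mul, ← map_mul, pr_eq_iff] at hy
      have hy' : h * g = g * h := by
        rcases hy with hy | hy
        · exact hy
        · exfalso
          have h3 : h * g * h⁻¹ = -g := by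
            rw [hy]; simp
          have h4 := tr_conj h g
          rw [h3] at h4
          have h5 : tr (-g) = - tr g := by simp [tr]; ring
          rw [h5, htr] at h4
          apply h22
          linear_combination -h4
      have hg' : (g : Matrix (Fin 2) (Fin 2) F) * (h : Matrix (Fin 2) (Fin 2) F) =
          (h : Matrix (Fin 2) (Fin 2) F) * (g : Matrix (Fin 2) (Fin 2) F) := by
        have := congrArg (Subtype.val) hy'
        simpa using this.symm
      obtain ⟨α, β, hαβ⟩ := Cfsg.Agent.ClassicalGeometry.NonsplitTorus.commutant _ _ (fun c hc => by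
        rcases Cfsg.Agent.ClassicalGeometry.NonsplitTorus.eq_one_or_of_smul g c hc with h4 | h4
        · exact h1 h4
        · have h5 : tr g = -2 := by rw [h4]; simp [tr]; ring
          rw [htr] at h5
          apply h22
          linear_combination h5) hg'
      have k00 : h 0 0 = α + β * g 0 0 := by
        have := congrFun (congrFun hαβ 0) 0
        simpa using this
      have k01 : h 0 1 = β * g 0 1 := by
        have := congrFun (congrFun hαβ 0) 1
        simpa using this
      have k10 : h 1 0 = β * g 1 0 := by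
        have := congrFun (congrFun hαβ 1) 0
        simpa using this
      have k11 : h 1 1 = α + β * g 1 1 := by
        have := congrFun (congrFun hαβ 1) 1
        simpa using this
      have hdh := det_eq h
      rw [k00, k01, k10, k11, htr'] at hdh
      rw [htr'] at hdet k11
      have h6 : (α + β) * (α + β) = 1 := by
        linear_combination hdh - (β ^ 2) * hdet
      rcases mul_self_eq_one_iff.1 h6 with h7 | h7
      · refine ⟨β, ?_⟩
        apply Subtype.ext
        change pr F (e β) = pr F h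
        congr 1
        have hα : α = 1 - β := by linear_combination h7
        apply ext2
        · rw [e00, k00, hα]; ring
        · rw [e01, k01]
        · rw [e10, k10]
        · rw [e11, k11, hα, htr']; ring
      · refine ⟨-β, ?_⟩
        apply Subtype.ext
        change pr F (e (-β)) = pr F h
        rw [pr_eq_iff]
        right
        have hα : α = -1 - β := by linear_combination h7
        have hn : ∀ i j, (-h) i j = -(h i j) := fun i j => by simp
        apply ext2
        · rw [e00, hn, k00, hα]; ring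
        · rw [e01, hn, k01]; ring
        · rw [e10, hn, k10]; ring
        · rw [e11, hn, k11, hα, htr']; ring
  rw [← Nat.card_congr (Equiv.ofBijective φ hφ), Nat.card_eq_fintype_card]

theorem card_centralizer_of_tr (h2 : (2 : F) ≠ 0) (g : SL(2, F)) (h1 : pr F g ≠ 1)
    (htr : tr g ^ 2 = 4) :
    Nat.card (Subgroup.centralizer ({pr F g} : Set (PSL₂ F))) = Fintype.card F := by
  have h3 : (tr g - 2) * (tr g + 2) = 0 := by linear_combination htr
  have h1' : g ≠ 1 ∧ g ≠ -1 := by
    rw [← not_or, ← pr_eq_one_iff]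
    exact h1
  rcases mul_eq_zero.1 h3 with h4 | h4
  · exact card_centralizer_unipotent h2 g h1'.1 (sub_eq_zero.1 h4)
  · have h5 : pr F g = pr F (-g) := by
      rw [pr_eq_iff]; right; rw [neg_neg]
    rw [h5]
    apply card_centralizer_unipotent h2 (-g)
    · intro h6
      exact h1'.2 (by rw [← h6, neg_neg])
    · have h7 : tr (-g) = - tr g := by simp [tr]; ring
      rw [h7]
      linear_combination -h4

end central

section main

variable {F : Type*} [Field F] [Fintype F]

local notation "PSL₂" => Matrix.ProjectiveSpecialLinearGroup (Fin 2)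

theorem conjIn_of_tr (h2 : (2 : F) ≠ 0) {T : Subgroup SL(2, F)} (g t : SL(2, F)) (ht : t ∈ T)
    (htr : tr t = tr g) (h4 : tr g ^ 2 ≠ 4) : ConjIn (T.map (pr F)) (pr F g) := by
  obtain ⟨k, hk⟩ := exists_conj_of_tr h2 g t h4 htr.symm
  refine ⟨pr F k, ?_⟩
  rw [← map_inv, ← map_mul, ← map_mul, hk]
  exact ⟨t, ht, rfl⟩

/-- The data of `PSL₂(q)`, `q = 4 m + ε`. -/
theorem exists_data (m : ℕ) (ε : ℤ) (hε : ε = 1 ∨ ε = -1) (hm : Odd m)
    (hq : (Fintype.card F : ℤ) = 4 * m + ε) :
    ∃ (A B : Subgroup (PSL₂ F)) (t s r : PSL₂ F), PSLData A B t s r m ε := by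
  have hm0 : 0 < m := hm.pos
  have hodd : Odd (Fintype.card F) := by
    rw [Nat.odd_iff]
    rcases hε with rfl | rfl <;> omega
  have h2 : (2 : F) ≠ 0 := (Cfsg.Agent.ClassicalGeometry.PSLTorus.two_ne_zero_iff_odd F).2 hodd
  have hcardL : 2 * (Nat.card (PSL₂ F) : ℤ) = (4 * m + ε) * ((4 * m + ε) ^ 2 - 1) := by
    have h3 := Cfsg.Agent.ClassicalGeometry.PSL2Basic.card_PSL2_odd F hodd
    have h4 : 1 ≤ Fintype.card F ^ 2 := Nat.one_le_pow _ _ Fintype.card_pos
    have h5 := congrArg (fun z : ℕ => (z : ℤ)) h3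
    push_cast [Nat.cast_sub h4] at h5
    rw [hq] at h5
    linarith
  have key : ∀ (T T' : Subgroup SL(2, F)) (s s' : SL(2, F)) (n' : ℕ), IsTor T s (2 * m) →
      IsTor T' s' n' → (n' : ℤ) = 2 * m + ε →
      (∀ τ : F, τ ^ 2 ≠ 4 → (∃ t ∈ T, tr t = τ) ∨ (∃ t ∈ T', tr t = τ)) →
      ∃ (A B : Subgroup (PSL₂ F)) (t s r : PSL₂ F), PSLData A B t s r m ε := by
    intro T T' s s' n' hT hT' hn' htr
    obtain ⟨t, ht⟩ := hT.bsw h2 hm0
    refine ⟨T.map (pr F), T'.map (pr F), t, pr F s, pr F s', ht, hT'.tiInv h2, hε, hm,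
      hT.card_map h2, ?_, hT.isCyclic_map h2, hT'.isCyclic_map h2, hcardL, ?_⟩
    · rw [hT'.card_map h2, hn']
    · intro x hx hA hB
      obtain ⟨g, rfl⟩ := pr_surjective F x
      have h4 : tr g ^ 2 = 4 := by
        by_contra h4
        rcases htr (tr g) h4 with ⟨u, hu, hu'⟩ | ⟨u, hu, hu'⟩
        · exact hA (conjIn_of_tr h2 g u hu hu' h4)
        · exact hB (conjIn_of_tr h2 g u hu hu' h4)
      rw [card_centralizer_of_tr h2 g hx h4, hq]
  rcases hε with hε | hε
  · have hT := isTor_split (F := F) (2 * m) (by omega)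
    obtain ⟨T', s', hT', htr⟩ := exists_isTor_nonsplit h2 (2 * m + 1) (by omega)
    refine key _ _ _ _ _ hT hT' (by rw [hε]; push_cast; ring) ?_
    intro τ _
    by_cases hs : IsSquare (τ ^ 2 - 4)
    · exact Or.inl (split_tr h2 τ hs)
    · exact Or.inr (htr τ hs)
  · have hT := isTor_split (F := F) (2 * m - 1) (by omega)
    obtain ⟨T', s', hT', htr⟩ := exists_isTor_nonsplit h2 (2 * m) (by omega)
    refine key _ _ _ _ _ hT' hT (by rw [hε]; omega) ?_
    intro τ _
    by_cases hs : IsSquare (τ ^ 2 - 4)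
    · exact Or.inr (split_tr h2 τ hs)
    · exact Or.inl (htr τ hs)

end main

end Cfsg.Agent.Ree.PSLTori
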