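import Mathlib
import Cfsg.Prelude.Def_Characters

/-!
# S0343: interface between the three parts of the proof

Notation: `q = |F| = 4 m + ε`, `ε = ±1`, `m` odd, `Q = ε q` (so `Q % 8 = 5`), `t` an involution of `G` with
`C(t) = ⟨t⟩ × L`, `L ≅ PSL(2, F)`, `V` a four-group containing `t`, `Y = O(C(V))` cyclic of order `m`.

* `Good` : the local data (output of the local part, input of the character part);
* `NumBase`, `NumTI` : the numerical data (output of the character part, input of the numerical part).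

`ι` is the set of irreducible characters of `G`, `deg χ = χ(1)`, `val χ = χ(t)`; `τ 1 = 1`, `τ 2`, `τ 3`
(degree `-(Q+1)/2`), `τ 4` (degree `Q`) are the signed characters of the principal `2`-block of `L`, all equal to `1`
on elements of even order of `L`, and `r i χ` (`i = 0, 1, 2`) is the scalar product of the restriction of `χ` to
`C(t) = ⟨t⟩ × L` with `(1 - sgn) ⊗ (τ (i+2) - τ 1)`. `a χ`, `b χ` are the scalar products of the restriction of `χ` to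
`V × Y` with `1 ⊗ (1 - θ)` and `ψ ⊗ (1 - θ)`, where `θ` is a linear character of `Y` of order a prime `ℓ`, and `ψ` a
nontrivial linear character of `V`. `σ` is the action on `ι` of a power map `g ↦ g ^ k` with `k ≡ 1` modulo the
`p`-prime part of `|G|` and `k` a non-square mod `p`.
-/

set_option autoImplicit false

namespace Cfsg.Agent.Ree.Interface

open Cfsg

/-- Local data. -/
structure Good {G : Type*} [Group G] (F : Type*) [Field F] [Fintype F]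
    (t : G) (L V Y : Subgroup G) (m : ℕ) (ε : ℤ) : Prop where
  eps : ε = 1 ∨ ε = -1
  card_F : (Fintype.card F : ℤ) = 4 * m + ε
  odd_m : Odd m
  one_lt_m : 1 < m
  ord_t : orderOf t = 2
  L_le : L ≤ Subgroup.centralizer ({t} : Set G)
  t_not_mem : t ∉ L
  cover : ∀ g ∈ Subgroup.centralizer ({t} : Set G), g ∈ L ∨ t * g ∈ L
  iso : Nonempty (L ≃* Matrix.ProjectiveSpecialLinearGroup (Fin 2) F)
  conj : ∀ u v : G, orderOf u = 2 → orderOf v = 2 → IsConj u v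
  sylow_card : ∀ P : Sylow 2 G, Nat.card P = 8
  sylow_exp : ∀ P : Sylow 2 G, ∀ x ∈ (P : Subgroup G), x * x = 1
  V_card : Nat.card V = 4
  V_exp : ∀ v ∈ V, v * v = 1
  t_mem_V : t ∈ V
  Y_le : Y ≤ L
  Y_cent : Y ≤ Subgroup.centralizer (V : Set G)
  Y_cyclic : IsCyclic Y
  Y_card : Nat.card Y = m
  /-- `C_G(y) = V Y` for `1 ≠ y ∈ Y` -/
  cent_y : ∀ y ∈ Y, y ≠ 1 → Subgroup.centralizer ({y} : Set G) = V ⊔ Y
  card_cent_V : Nat.card (Subgroup.centralizer (V : Set G)) = 8 * m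
  card_norm_V : Nat.card (Subgroup.normalizer (V : Set G)) = 24 * m
  /-- `V Y ∖ V` is a TI set with normalizer `N(V)` -/
  ti : ∀ v ∈ V, ∀ y ∈ Y, y ≠ 1 → ∀ g : G, g * (v * y) * g⁻¹ ∈ V ⊔ Y → g ∈ Subgroup.normalizer (V : Set G)
  /-- number of ways to write an element of `V Y ∖ V` as a product of two involutions -/
  inv_count : ∀ v ∈ V, ∀ y ∈ Y, y ≠ 1 →
    Nat.card {x : G × G // orderOf x.1 = 2 ∧ orderOf x.2 = 2 ∧ x.1 * x.2 = v * y} = 4 * m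

/-- The constant `κ = |L|³ / (2 m² |G|)`, in terms of `Q` and `g = |G|`. -/
def kappa (Q : ℤ) (g : ℕ) : ℚ := |(Q : ℚ)| ^ 3 * (Q - 1) * (Q + 1) ^ 3 / g

/-- Numerical data coming from the section of the involution `t`. -/
structure NumBase {ι : Type*} [Fintype ι] (Q : ℤ) (g : ℕ) (deg val : ι → ℤ) (r : Fin 3 → ι → ℤ)
    (one : ι) (σ : ι ≃ ι) : Prop where
  g_pos : 0 < g
  deg_pos : ∀ χ, 0 < deg χ
  deg_one : deg one = 1
  val_one : val one = 1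
  r_one : ∀ i, r i one = -1
  mod8 : ∀ χ, (8 : ℤ) ∣ deg χ - val χ
  deg_dvd : ∀ χ, deg χ ∣ (g : ℤ)
  omega : ∀ χ, deg χ * (|Q| * (Q ^ 2 - 1)) ∣ (g : ℤ) * val χ
  val_eq : ∀ χ, (∃ i, r i χ ≠ 0) → 2 * val χ = -(Q + 1) * (r 0 χ + r 1 χ) + 2 * Q * r 2 χ
  gram : ∀ i j, ∑ χ, r i χ * r j χ = if i = j then 4 else 2
  r_deg : ∀ i, ∑ χ, r i χ * deg χ = 0
  class0 : ∑ χ, (r 0 χ : ℚ) * (val χ : ℚ) ^ 2 / (deg χ : ℚ) = kappa Q g * (-2 / (Q + 1) - 1)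
  class1 : ∑ χ, (r 1 χ : ℚ) * (val χ : ℚ) ^ 2 / (deg χ : ℚ) = kappa Q g * (-2 / (Q + 1) - 1)
  class2 : ∑ χ, (r 2 χ : ℚ) * (val χ : ℚ) ^ 2 / (deg χ : ℚ) = kappa Q g * (1 / Q - 1)
  gal_deg : ∀ χ, deg (σ χ) = deg χ
  gal_val : ∀ χ, val (σ χ) = val χ
  gal0 : ∀ χ, r 0 (σ χ) = r 1 χ
  gal1 : ∀ χ, r 1 (σ χ) = r 0 χ
  gal2 : ∀ χ, r 2 (σ χ) = r 2 χ

/-- Numerical data coming from the TI set `V Y ∖ V` and the prime `ℓ ∣ m`; `k` is the full power of `ℓ` dividing `m`. -/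
structure NumTI {ι : Type*} [Fintype ι] (Q : ℤ) (g : ℕ) (deg val : ι → ℤ) (r : Fin 3 → ι → ℤ)
    (one : ι) (σ : ι ≃ ι) (k : ℕ) (a b : ι → ℤ) : Prop where
  a_one : a one = 1
  b_one : b one = 0
  cases : ∀ χ, (∃ i, r i χ ≠ 0) →
    (a χ = -r 0 χ - r 1 χ + r 2 χ ∧ b χ = 0 ∧ (k : ℤ) ∣ deg χ - (-r 0 χ - r 1 χ + r 2 χ)) ∨
      (a χ = 0 ∧ b χ = -(-r 0 χ - r 1 χ + r 2 χ))
  aa : ∑ χ, a χ ^ 2 = 7
  bb : ∑ χ, b χ ^ 2 = 3
  ab : ∑ χ, a χ * b χ = 0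
  a_deg : ∑ χ, a χ * deg χ = 0
  b_deg : ∑ χ, b χ * deg χ = 0
  a_val : ∑ χ, a χ * val χ = 0
  b_val : ∑ χ, b χ * val χ = 0
  a_class : ∑ χ, (a χ : ℚ) * (val χ : ℚ) ^ 2 / (deg χ : ℚ) = kappa Q g * ((Q - 1) ^ 2 / (Q * (Q + 1)))
  b_class : ∑ χ, (b χ : ℚ) * (val χ : ℚ) ^ 2 / (deg χ : ℚ) = 0
  gal_a : ∀ χ, a (σ χ) = a χ
  gal_b : ∀ χ, b (σ χ) = b χ

end Cfsg.Agent.Ree.Interface
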