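import Mathlib
import Cfsg.Agent.Ree.Interface
import Cfsg.Agent.TwoFusion.PSLTwoGood

/-!
# S0343: the local setup

Input: a finite group `G` in which all involutions are conjugate, with Sylow 2-subgroups of order 8 and
exponent 2, and an involution `t` with `C(t) ≅ ℤ/2 × PSL(2, q)`, `q = 4 m + ε`, `m` odd.

Output: the structure `Local`: involutions `t ∈ V`, `s ∉ V` in a Sylow 2-subgroup `S`, `|V| = 4`, an element `ρ` of
order 3 permuting `V∖{1}` and centralising `s`, and the cyclic group `Y` of order `m` with `C(V) = V × Y⟨s⟩`.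
-/

set_option autoImplicit false

namespace Cfsg.Agent.Ree.LocalSetup

open Cfsg.Agent.TwoFusion.PSLTwoGood (Good klein_comm klein_sq orderOf_two)

section Abstract

variable {L : Type*} [Group L]

/-- The structure of the centraliser of an involution `w` of `L` (dihedral group of order `4 m`, `m` odd), and of the
centralisers of the elements of its torus. -/
structure PSLDih (L : Type*) [Group L] (m : ℕ) : Prop where
  dih : ∀ w : L, orderOf w = 2 → ∃ (Y : Subgroup L) (s : L), IsCyclic Y ∧ Nat.card Y = m ∧ s * s = 1 ∧ s ≠ 1 ∧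
    s ≠ w ∧ s * w = w * s ∧ (∀ y ∈ Y, w * y = y * w) ∧ (∀ y ∈ Y, s * y * s⁻¹ = y⁻¹) ∧
    (∀ g, g * w = w * g → ∃ y ∈ Y, g = y ∨ g = w * y ∨ g = y * s ∨ g = w * y * s) ∧
    (∀ y ∈ Y, y ≠ 1 → ∀ g, g * y = y * g → ∃ z ∈ Y, g = z ∨ g = w * z)

theorem exists_two {P : Subgroup L} (h : IsKleinFour P) : ∃ a ∈ P, ∃ b ∈ P, a ≠ 1 ∧ b ≠ 1 ∧ a ≠ b := by
  have hc : Nat.card P = 4 := h.card_four
  have : Finite P := Nat.finite_of_card_ne_zero (by rw [hc]; norm_num)
  have hcard : 2 < (Set.univ : Set P).ncard := by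
    rw [Set.ncard_univ, hc]; norm_num
  obtain ⟨x, -, hx⟩ := Set.exists_mem_notMem_of_ncard_lt_ncard (s := {1})
    (t := (Set.univ : Set P)) (by rw [Set.ncard_singleton]; omega)
  obtain ⟨y, -, hy⟩ := Set.exists_mem_notMem_of_ncard_lt_ncard (s := {1, x})
    (t := (Set.univ : Set P)) (lt_of_le_of_lt (Set.ncard_insert_le _ _)
      (by rw [Set.ncard_singleton]; omega))
  simp only [Set.mem_singleton_iff, Set.mem_insert_iff, not_or] at hx hy
  exact ⟨x, x.2, y, y.2, fun h => hx (Subtype.ext h), fun h => hy.1 (Subtype.ext h),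
    fun h => hy.2 (Subtype.ext h.symm)⟩

theorem klein_cases {P : Subgroup L} (h : IsKleinFour P) {a b x : L} (ha : a ∈ P) (hb : b ∈ P) (hx : x ∈ P)
    (ha1 : a ≠ 1) (hb1 : b ≠ 1) (hab : a ≠ b) : x = 1 ∨ x = a ∨ x = b ∨ x = a * b := by
  by_contra hcon
  push Not at hcon
  obtain ⟨h1, h2, h3, h4⟩ := hcon
  have h5 := IsKleinFour.eq_mul_of_ne_all (G := P) (x := ⟨a, ha⟩) (y := ⟨b, hb⟩) (z := ⟨x, hx⟩)
    (fun h => ha1 (congrArg Subtype.val h)) (fun h => hb1 (congrArg Subtype.val h))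
    (fun h => hab (congrArg Subtype.val h)) (fun h => h1 (congrArg Subtype.val h))
    (fun h => h2 (congrArg Subtype.val h)) (fun h => h3 (congrArg Subtype.val h))
  exact h4 (congrArg Subtype.val h5)

theorem good_center [Finite L] (hL : Good L) {z : L} (hz : ∀ g, g * z = z * g) : z = 1 := by
  by_contra h1
  obtain ⟨P⟩ : Nonempty (Sylow 2 L) := inferInstance
  have hzP : z ∈ (P : Subgroup L) := hL.selfc P (by
    rw [Subgroup.mem_centralizer_iff]
    intro g _
    exact hz g)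
  have h2 : ∀ x ∈ (P : Subgroup L), x ≠ 1 → x = z := by
    intro x hx hx1
    obtain ⟨n, -, hn⟩ := hL.trans P hzP hx h1 hx1
    rw [← hn, hz n, mul_assoc, mul_inv_cancel, mul_one]
  obtain ⟨a, ha, b, hb, ha1, hb1, hab⟩ := exists_two (hL.klein P)
  exact hab ((h2 a ha ha1).trans (h2 b hb hb1).symm)

/-- A self-centralising four-group with an element of order 3 in its normalizer: the action is free. -/
theorem three_move {P : Subgroup L} (hP : IsKleinFour P) (hc : Subgroup.centralizer (P : Set L) ≤ P) {ρ : L}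
    (h3 : orderOf ρ = 3) (hn : ρ ∈ Subgroup.normalizer (P : Set L)) {v : L} (hv : v ∈ P) (hv1 : v ≠ 1) :
    ρ * v * ρ⁻¹ ≠ v := by
  intro h
  have hρ1 : ρ ≠ 1 := by
    rintro rfl
    rw [orderOf_one] at h3
    omega
  have hρP : ρ ∉ P := by
    intro hρ
    have h1 := klein_sq hP hρ
    have := orderOf_two hρ1 h1
    omega
  have hfix : ∀ x ∈ P, ρ * x * ρ⁻¹ = x := by
    intro x hx
    by_cases hx1 : x = 1
    · rw [hx1]; group
    by_cases hxv : x = v
    · rw [hxv, h]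
    have hmem : ρ * x * ρ⁻¹ ∈ P := (Subgroup.mem_normalizer_iff.1 hn x).1 hx
    rcases klein_cases hP hv hx hmem hv1 hx1 (Ne.symm hxv) with h1 | h1 | h1 | h1
    · exact absurd (conj_eq_one_iff.1 h1) hx1
    · exfalso
      apply hxv
      have h2 : ρ * x * ρ⁻¹ = ρ * v * ρ⁻¹ := by rw [h1, h]
      exact (mul_right_injective ρ) ((mul_left_injective ρ⁻¹) h2)
    · exact h1
    · exfalso
      have hvv := klein_sq hP hv
      have h2 : ρ * (ρ * x * ρ⁻¹) * ρ⁻¹ = x := by
        have : ρ * (v * x) * ρ⁻¹ = (ρ * v * ρ⁻¹) * (ρ * x * ρ⁻¹) := by group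
        rw [h1, this, h, h1, ← mul_assoc, hvv, one_mul]
      have h4 : ρ ^ 3 = 1 := by rw [← h3]; exact pow_orderOf_eq_one ρ
      have h5 : ρ * (ρ * (ρ * x * ρ⁻¹) * ρ⁻¹) * ρ⁻¹ = x := by
        have : ρ * (ρ * (ρ * x * ρ⁻¹) * ρ⁻¹) * ρ⁻¹ = ρ ^ 3 * x * (ρ ^ 3)⁻¹ := by
          simp only [pow_succ, pow_zero, one_mul, mul_inv_rev, mul_assoc]
        rw [this, h4]; group
      rw [h2, h1] at h5
      apply hv1
      exact mul_eq_right.1 h5
  apply hρP
  apply hc
  rw [Subgroup.mem_centralizer_iff]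
  intro x hx
  have := hfix x hx
  rw [mul_inv_eq_iff_eq_mul] at this
  exact this.symm

theorem good_three [Finite L] (hL : Good L) (P : Sylow 2 L) :
    ∃ ρ : L, orderOf ρ = 3 ∧ ρ ∈ Subgroup.normalizer ((P : Subgroup L) : Set L) ∧
      ∀ v ∈ (P : Subgroup L), v ≠ 1 → ρ * v * ρ⁻¹ ≠ v := by
  classical
  have hPk := hL.klein P
  obtain ⟨a, ha, b, hb, ha1, hb1, hab⟩ := exists_two hPk
  set N := Subgroup.normalizer ((P : Subgroup L) : Set L) with hN
  have h3 : 3 ∣ Nat.card N := by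
    let _ : MulAction N L := MulAction.compHom L ((MulAut.conj : L →* MulAut L).comp N.subtype)
    have h1 : ∀ (n : N) (x : L), n • x = (n : L) * x * (n : L)⁻¹ := fun n x => rfl
    have h2 : MulAction.orbit N a = ((P : Subgroup L) : Set L) \ {1} := by
      ext x
      rw [MulAction.mem_orbit_iff]
      constructor
      · rintro ⟨n, rfl⟩
        rw [h1]
        refine ⟨(Subgroup.mem_normalizer_iff.1 n.2 a).1 ha, ?_⟩
        intro h
        rw [Set.mem_singleton_iff] at h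
        exact ha1 (conj_eq_one_iff.1 h)
      · rintro ⟨hx, hx1⟩
        obtain ⟨n, hn, h⟩ := hL.trans P ha hx ha1 hx1
        exact ⟨⟨n, hn⟩, h⟩
    rw [← Subgroup.index_mul_card (MulAction.stabilizer N a), MulAction.index_stabilizer, h2]
    have h3 : (((P : Subgroup L) : Set L) \ {1}).ncard = 3 := by
      rw [Set.ncard_sdiff_singleton_of_mem (show (1 : L) ∈ ((P : Subgroup L) : Set L) from one_mem _)]
      have : ((P : Subgroup L) : Set L).ncard = 4 := hPk.card_four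
      omega
    rw [h3]
    exact Dvd.intro _ rfl
  have : Fact (Nat.Prime 3) := ⟨Nat.prime_three⟩
  obtain ⟨x, hx⟩ := exists_prime_orderOf_dvd_card' 3 h3
  have hx3 : orderOf (x : L) = 3 := by rw [Subgroup.orderOf_coe]; exact hx
  exact ⟨x, hx3, x.2, fun v hv hv1 => three_move hPk (hL.selfc P) hx3 x.2 hv hv1⟩

theorem PSLDih.of_mulEquiv {L L' : Type*} [Group L] [Group L'] {m : ℕ} (e : L ≃* L') (h : PSLDih L' m) :
    PSLDih L m := by
  constructor
  intro w hw
  obtain ⟨Y, s, hcyc, hcard, h1, h2, h3, h4, h5, h6, h7, h8⟩ := h.dih (e w) (by rw [MulEquiv.orderOf_eq, hw])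
  have hmem : ∀ y : L, y ∈ Y.map e.symm.toMonoidHom ↔ e y ∈ Y := by
    intro y
    constructor
    · rintro ⟨z, hz, rfl⟩
      change e (e.symm z) ∈ Y
      rw [e.apply_symm_apply]; exact hz
    · intro h
      exact ⟨e y, h, e.symm_apply_apply y⟩
  have e2 : Y ≃* Y.map e.symm.toMonoidHom := Y.equivMapOfInjective _ e.symm.injective
  refine ⟨Y.map e.symm.toMonoidHom, e.symm s, ?_, ?_, ?_, ?_, ?_, ?_, ?_, ?_, ?_, ?_⟩
  · exact e2.isCyclic.1 hcyc
  · rw [← hcard]; exact (Nat.card_congr e2.toEquiv).symm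
  · rw [← map_mul, h1, map_one]
  · intro h; exact h2 (by simpa using h)
  · intro h; exact h3 (by rw [← h, e.apply_symm_apply])
  · apply e.injective; rw [map_mul, map_mul, e.apply_symm_apply, h4]
  · intro y hy; apply e.injective; rw [map_mul, map_mul]; exact h5 _ ((hmem y).1 hy)
  · intro y hy
    apply e.injective
    rw [map_mul, map_mul, map_inv, map_inv, e.apply_symm_apply]; exact h6 _ ((hmem y).1 hy)
  · intro g hg
    obtain ⟨y, hy, h⟩ := h7 (e g) (by rw [← map_mul, hg, map_mul])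
    refine ⟨e.symm y, by rw [hmem, e.apply_symm_apply]; exact hy, ?_⟩
    rcases h with h | h | h | h
    · left; rw [← h, e.symm_apply_apply]
    · right; left; apply e.injective; rw [map_mul, e.apply_symm_apply]; exact h
    · right; right; left; apply e.injective; rw [map_mul, e.apply_symm_apply, e.apply_symm_apply]; exact h
    · right; right; right; apply e.injective
      rw [map_mul, map_mul, e.apply_symm_apply, e.apply_symm_apply]; exact h
  · intro y hy hy1 g hg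
    obtain ⟨z, hz, h⟩ := h8 (e y) ((hmem y).1 hy) (by intro h; exact hy1 (by simpa using h)) (e g)
      (by rw [← map_mul, hg, map_mul])
    refine ⟨e.symm z, by rw [hmem, e.apply_symm_apply]; exact hz, ?_⟩
    rcases h with h | h
    · left; rw [← h, e.symm_apply_apply]
    · right; apply e.injective; rw [map_mul, e.apply_symm_apply]; exact h

end Abstract


section Main

variable {G : Type*} [Group G]

local notation "PSL2" => Matrix.ProjectiveSpecialLinearGroup (Fin 2)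

theorem good_of_mod {F : Type*} [Field F] [Fintype F]
    (h8 : Fintype.card F % 8 = 3 ∨ Fintype.card F % 8 = 5) : Good (PSL2 F) :=
  have hodd : Odd (Fintype.card F) := Nat.odd_iff.2 (by omega)
  { klein := fun Q => Cfsg.Agent.S0276.result rfl h8 Q
    conj := fun x y hx hy => Cfsg.Agent.ClassicalGeometry.SLTwoFour.psl_isConj hodd x y hx hy
    hall := fun _ ha => Cfsg.Agent.TwoFusion.PSLTwoGood.hall hodd h8 ha
    selfc := fun Q => Cfsg.Agent.TwoFusion.PSLTwoGood.selfc hodd h8 Q }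

/-- `C(v) = ⟨v⟩ × K` with `K ≅ PSL(2, F)`. -/
structure Comp (F : Type*) [Field F] (v : G) (K : Subgroup G) : Prop where
  le : K ≤ Subgroup.centralizer ({v} : Set G)
  not_mem : v ∉ K
  cover : ∀ g ∈ Subgroup.centralizer ({v} : Set G), g ∈ K ∨ v * g ∈ K
  iso : Nonempty (K ≃* PSL2 F)

theorem comp_of_iso {F : Type*} [Field F] [Finite (PSL2 F)] (hL : Good (PSL2 F)) {t : G} (ht : orderOf t = 2)
    (e : Subgroup.centralizer ({t} : Set G) ≃* Multiplicative (ZMod 2) × PSL2 F) :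
    ∃ K : Subgroup G, Comp F t K := by
  have htC : t ∈ Subgroup.centralizer ({t} : Set G) := by
    rw [Subgroup.mem_centralizer_singleton_iff]
  obtain ⟨tt, htt⟩ : ∃ tt : Subgroup.centralizer ({t} : Set G), (tt : G) = t := ⟨⟨t, htC⟩, rfl⟩
  have h1 : ∀ g, g * tt = tt * g := by
    intro g
    apply Subtype.ext
    rw [Subgroup.coe_mul, Subgroup.coe_mul, htt]
    exact Subgroup.mem_centralizer_singleton_iff.1 g.2
  have h2 : (e tt).2 = 1 := by
    apply good_center hL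
    intro g
    have := congrArg e (h1 (e.symm (1, g)))
    rw [map_mul, map_mul, e.apply_symm_apply] at this
    exact congrArg Prod.snd this
  have h3 : (e tt).1 ≠ 1 := by
    intro h
    have h4 : e tt = 1 := Prod.ext h h2
    have h5 : tt = 1 := by simpa using h4
    rw [h5] at htt
    rw [← htt, Subgroup.coe_one, orderOf_one] at ht
    omega
  have h22 : ∀ a b : Multiplicative (ZMod 2), a ≠ 1 → b ≠ 1 → a * b = 1 := by decide
  let g : PSL2 F →* G := (Subgroup.subtype _).comp (e.symm.toMonoidHom.comp (MonoidHom.inr _ _))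
  have hgdef : ∀ x, g x = ((e.symm (1, x) : Subgroup.centralizer ({t} : Set G)) : G) := fun x => rfl
  have hg : Function.Injective g := by
    intro x y hxy
    rw [hgdef, hgdef] at hxy
    have := e.symm.injective (Subtype.ext hxy)
    exact congrArg Prod.snd this
  refine ⟨g.range, ?_, ?_, ?_, ⟨(MonoidHom.ofInjective hg).symm⟩⟩
  · rintro _ ⟨x, rfl⟩
    exact (e.symm (1, x)).2
  · rintro ⟨x, hx⟩
    apply h3
    have : e.symm (1, x) = tt := Subtype.ext ((hgdef x).symm.trans (hx.trans htt.symm))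
    rw [← this, e.apply_symm_apply]
  · intro y hy
    by_cases h : (e ⟨y, hy⟩).1 = 1
    · left
      refine ⟨(e ⟨y, hy⟩).2, ?_⟩
      rw [hgdef]
      have : ((1 : Multiplicative (ZMod 2)), (e ⟨y, hy⟩).2) = e ⟨y, hy⟩ := Prod.ext h.symm rfl
      rw [this, e.symm_apply_apply]
    · right
      refine ⟨(e ⟨y, hy⟩).2, ?_⟩
      rw [hgdef]
      have : ((1 : Multiplicative (ZMod 2)), (e ⟨y, hy⟩).2) = e (tt * ⟨y, hy⟩) := by
        rw [map_mul]
        apply Prod.ext
        · exact (h22 _ _ h3 h).symm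
        · change _ = (e tt).2 * _
          rw [h2, one_mul]
      rw [this, e.symm_apply_apply, Subgroup.coe_mul, htt]

theorem Comp.conj {F : Type*} [Field F] {v : G} {K : Subgroup G} (h : Comp F v K) (g : G) :
    Comp F (g * v * g⁻¹) (K.map (MulAut.conj g).toMonoidHom) where
  le := by
    rintro _ ⟨x, hx, rfl⟩
    rw [Subgroup.mem_centralizer_singleton_iff]
    change g * x * g⁻¹ * (g * v * g⁻¹) = (g * v * g⁻¹) * (g * x * g⁻¹)
    have h1 := Subgroup.mem_centralizer_singleton_iff.1 (h.le hx)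
    have h2 : g * x * g⁻¹ * (g * v * g⁻¹) = g * (x * v) * g⁻¹ := by group
    rw [h2, h1]; group
  not_mem := by
    rintro ⟨x, hx, h1⟩
    have : x = v := (MulAut.conj g).injective h1
    exact h.not_mem (this ▸ hx)
  cover := by
    intro y hy
    have h0 := Subgroup.mem_centralizer_singleton_iff.1 hy
    have h1 : g⁻¹ * y * g ∈ Subgroup.centralizer ({v} : Set G) := by
      rw [Subgroup.mem_centralizer_singleton_iff]
      have h2 : g⁻¹ * y * g * v = g⁻¹ * (y * (g * v * g⁻¹)) * g := by group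
      rw [h2, h0]; group
    rcases h.cover _ h1 with h2 | h2
    · left; exact ⟨_, h2, by change g * (g⁻¹ * y * g) * g⁻¹ = y; group⟩
    · right; exact ⟨_, h2, by change g * (v * (g⁻¹ * y * g)) * g⁻¹ = g * v * g⁻¹ * y; group⟩
  iso := by
    obtain ⟨f⟩ := h.iso
    exact ⟨(K.equivMapOfInjective _ (MulAut.conj g).injective).symm.trans f⟩

theorem klein_of {V : Subgroup G} (h4 : Nat.card V = 4) (h2 : ∀ v ∈ V, v * v = 1) : IsKleinFour V := by
  refine ⟨h4, ?_⟩
  have h1 : Monoid.exponent V ∣ 2 := Monoid.exponent_dvd_of_forall_pow_eq_one (fun x => by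
    rw [pow_two]; exact Subtype.ext (h2 x x.2))
  rcases (Nat.dvd_prime Nat.prime_two).1 h1 with h | h
  · exfalso
    have : Subsingleton V := Monoid.exp_eq_one_iff.1 h
    rw [Nat.card_of_subsingleton (1 : V)] at h4
    omega
  · exact h

theorem card_inf_comp {F : Type*} [Field F] {v : G} {K : Subgroup G} (h : Comp F v K) (S : Subgroup G)
    (hS : Nat.card S = 8) (hSc : ∀ x ∈ S, ∀ y ∈ S, x * y = y * x) (hv : v ∈ S) :
    Nat.card (S ⊓ K : Subgroup G) = 4 := by
  have h1 : (K.subgroupOf S).index = 2 := by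
    rw [Subgroup.index_eq_two_iff]
    refine ⟨⟨v, hv⟩, fun b => ?_⟩
    rw [Subgroup.mem_subgroupOf, Subgroup.mem_subgroupOf, Subgroup.coe_mul]
    have hb : (b : G) ∈ Subgroup.centralizer ({v} : Set G) := by
      rw [Subgroup.mem_centralizer_singleton_iff]; exact hSc _ b.2 _ hv
    change Xor ((b : G) * v ∈ K) ((b : G) ∈ K)
    rw [hSc _ b.2 _ hv]
    rcases h.cover b hb with h2 | h2
    · right
      exact ⟨h2, fun h3 => h.not_mem ((Subgroup.mul_mem_cancel_right K h2).1 h3)⟩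
    · left
      refine ⟨h2, fun h3 => h.not_mem ((Subgroup.mul_mem_cancel_right K h3).1 h2)⟩
  have h2 := (K.subgroupOf S).index_mul_card
  rw [h1, hS] at h2
  have h3 : Nat.card (K.subgroupOf S) = Nat.card (S ⊓ K : Subgroup G) := by
    rw [inf_comm, ← Subgroup.subgroupOf_map_subtype, Subgroup.card_map_of_injective S.subtype_injective]
  omega

theorem exists_rho [Finite G] {F : Type*} [Field F] (hgood : Good (PSL2 F)) {s : G}
    {K : Subgroup G} (h : Comp F s K) {V : Subgroup G} (hVK : V ≤ K) (hV : IsKleinFour V) :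
    ∃ ρ ∈ K, orderOf ρ = 3 ∧ ρ ∈ Subgroup.normalizer (V : Set G) ∧ ∀ v ∈ V, v ≠ 1 → ρ * v * ρ⁻¹ ≠ v := by
  have h2 : Fact (Nat.Prime 2) := ⟨Nat.prime_two⟩
  obtain ⟨f⟩ := h.iso
  have hK : Good K := Good.of_mulEquiv f hgood
  have hVc : Nat.card (V.subgroupOf K) = 4 := by
    rw [← hV.card_four, ← Subgroup.card_map_of_injective K.subtype_injective, Subgroup.subgroupOf_map_subtype,
      inf_eq_left.2 hVK]
  obtain ⟨Q, hQ⟩ : ∃ Q : Sylow 2 K, V.subgroupOf K ≤ Q :=
    (IsPGroup.of_card (n := 2) hVc).exists_le_sylow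
  have hQc : Nat.card (Q : Subgroup K) = 4 := (hK.klein Q).card_four
  have hQe : V.subgroupOf K = Q := Subgroup.eq_of_le_of_card_ge hQ (by rw [hVc, hQc])
  obtain ⟨ρ, h3, hn, hmove⟩ := good_three hK Q
  have hmem : ∀ x : K, x ∈ (Q : Subgroup K) ↔ (x : G) ∈ V := by
    intro x; rw [← hQe]; exact Subgroup.mem_subgroupOf
  refine ⟨ρ, ρ.2, by rw [Subgroup.orderOf_coe]; exact h3, ?_, ?_⟩
  · rw [Subgroup.mem_normalizer_iff]
    intro x
    constructor
    · intro hx
      exact (hmem _).1 ((Subgroup.mem_normalizer_iff.1 hn ⟨x, hVK hx⟩).1 ((hmem _).2 hx))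
    · intro hx
      have hxK : x ∈ K := by
        have h4 := mul_mem (mul_mem (inv_mem ρ.2) (hVK hx)) ρ.2
        have h5 : (ρ : G)⁻¹ * ((ρ : G) * x * (ρ : G)⁻¹) * ρ = x := by group
        rwa [h5] at h4
      exact (hmem _).1 ((Subgroup.mem_normalizer_iff.1 hn ⟨x, hxK⟩).2 ((hmem _).2 hx))
  · intro v hv hv1 hcon
    exact hmove ⟨v, hVK hv⟩ ((hmem _).2 hv) (fun h => hv1 (congrArg Subtype.val h)) (Subtype.ext hcon)

/-- The local setup of S0343. -/
structure Local (F : Type*) [Field F] [Fintype F] (t s ρ : G) (S : Sylow 2 G) (L Ls V Y : Subgroup G)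
    (m : ℕ) (ε : ℤ) : Prop where
  eps : ε = 1 ∨ ε = -1
  card_F : (Fintype.card F : ℤ) = 4 * m + ε
  odd_m : Odd m
  ord_t : orderOf t = 2
  ord_s : orderOf s = 2
  L_le : L ≤ Subgroup.centralizer ({t} : Set G)
  t_not_mem : t ∉ L
  cover : ∀ g ∈ Subgroup.centralizer ({t} : Set G), g ∈ L ∨ t * g ∈ L
  iso : Nonempty (L ≃* PSL2 F)
  conj : ∀ u v : G, orderOf u = 2 → orderOf v = 2 → IsConj u v
  sylow_card : ∀ P : Sylow 2 G, Nat.card P = 8
  sylow_exp : ∀ P : Sylow 2 G, ∀ x ∈ (P : Subgroup G), x * x = 1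
  V_card : Nat.card V = 4
  V_exp : ∀ v ∈ V, v * v = 1
  t_mem_V : t ∈ V
  Y_le : Y ≤ L
  Y_cent : Y ≤ Subgroup.centralizer (V : Set G)
  Y_cyclic : IsCyclic Y
  Y_card : Nat.card Y = m
  V_le : V ≤ S
  s_mem : s ∈ (S : Subgroup G)
  s_not_mem : s ∉ V
  s_inv : ∀ y ∈ Y, s * y * s⁻¹ = y⁻¹
  rho_ord : orderOf ρ = 3
  rho_s : ρ * s = s * ρ
  rho_norm : ρ ∈ Subgroup.normalizer (V : Set G)
  rho_S : ρ ∈ Subgroup.normalizer ((S : Subgroup G) : Set G)
  rho_move : ∀ v ∈ V, v ≠ 1 → ρ * v * ρ⁻¹ ≠ v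
  rho_Y : ∀ y ∈ Y, ρ * y * ρ⁻¹ ∈ Y
  mem_Y : ∀ g ∈ Subgroup.centralizer (V : Set G), g ^ m = 1 → g ∈ Y
  mem_cent_V : ∀ g ∈ Subgroup.centralizer (V : Set G), ∃ v ∈ V, ∃ y ∈ Y, g = v * y ∨ g = v * y * s
  mem_norm_V : ∀ g ∈ Subgroup.normalizer (V : Set G), ∃ c ∈ Subgroup.centralizer (V : Set G),
    ∃ i < 3, g = c * ρ ^ i
  card_cent_V : Nat.card (Subgroup.centralizer (V : Set G)) = 8 * m
  card_norm_V : Nat.card (Subgroup.normalizer (V : Set G)) = 24 * m
  cent_cent : ∀ v ∈ V, v ≠ 1 → ∀ y ∈ Y, y ≠ 1 →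
    Subgroup.centralizer ({v} : Set G) ⊓ Subgroup.centralizer ({y} : Set G) = V ⊔ Y
  Ls_le : Ls ≤ Subgroup.centralizer ({s} : Set G)
  s_not_mem_Ls : s ∉ Ls
  cover_s : ∀ g ∈ Subgroup.centralizer ({s} : Set G), g ∈ Ls ∨ s * g ∈ Ls
  iso_s : Nonempty (Ls ≃* PSL2 F)
  V_le_Ls : V ≤ Ls
  rho_mem_Ls : ρ ∈ Ls

theorem pow_odd {x : G} {m : ℕ} (hm : Odd m) (hx : x * x = 1) : x ^ m = x := by
  obtain ⟨k, rfl⟩ := hm
  rw [pow_succ, pow_mul, pow_two, hx, one_pow, one_mul]

/-- The part of the construction inside `C(t)`. -/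
theorem exists_torus [Finite G] {F : Type*} [Field F] {m : ℕ} (hm : Odd m)
    (hdih : PSLDih (PSL2 F) m) {t : G} (ht : orderOf t = 2) {L : Subgroup G} (hL : Comp F t L) {V : Subgroup G}
    (hVk : IsKleinFour V) (htV : t ∈ V) {s : G} (hsV : ∀ v ∈ V, v * s = s * v) (hs : s ∉ V) (hs2 : s * s = 1) :
    ∃ Y : Subgroup G, Y ≤ L ∧ Y ≤ Subgroup.centralizer (V : Set G) ∧ IsCyclic Y ∧ Nat.card Y = m ∧
      (∀ y ∈ Y, s * y * s⁻¹ = y⁻¹) ∧
      (∀ g ∈ Subgroup.centralizer (V : Set G), ∃ v ∈ V, ∃ y ∈ Y, g = v * y ∨ g = v * y * s) ∧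
      (∀ y ∈ Y, y ≠ 1 → ∀ g ∈ Subgroup.centralizer ({t} : Set G), g * y = y * g → ∃ v ∈ V, ∃ z ∈ Y, g = v * z) ∧
      (∀ g ∈ Subgroup.normalizer (V : Set G), g ∈ Subgroup.centralizer ({t} : Set G) →
        g ∈ Subgroup.centralizer (V : Set G)) := by
  have ht1 : t ≠ 1 := by rintro rfl; rw [orderOf_one] at ht; omega
  have htt : t * t = 1 := klein_sq hVk htV
  have hVC : V ≤ Subgroup.centralizer ({t} : Set G) := by
    intro v hv
    rw [Subgroup.mem_centralizer_singleton_iff]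
    exact klein_comm hVk hv htV
  -- the involution of `V ∩ L`
  obtain ⟨w, hwV, hwL, hw1, hVc⟩ : ∃ w ∈ V, w ∈ L ∧ w ≠ 1 ∧ ∀ v ∈ V, v = 1 ∨ v = t ∨ v = w ∨ v = t * w := by
    obtain ⟨a, ha, ha1, hat⟩ : ∃ a ∈ V, a ≠ 1 ∧ a ≠ t := by
      obtain ⟨x, hx, y, hy, hx1, hy1, hxy⟩ := exists_two hVk
      by_cases hxt : x = t
      · exact ⟨y, hy, hy1, fun h => hxy (hxt.trans h.symm)⟩
      · exact ⟨x, hx, hx1, hxt⟩
    rcases hL.cover a (hVC ha) with h | h
    · exact ⟨a, ha, h, ha1, fun v hv => klein_cases hVk htV ha hv ht1 ha1 (Ne.symm hat)⟩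
    · refine ⟨t * a, mul_mem htV ha, h, ?_, fun v hv => ?_⟩
      · intro h1
        apply hat
        have : t * (t * a) = t * 1 := by rw [h1]
        rwa [← mul_assoc, htt, one_mul, mul_one] at this
      · have h1 : t * (t * a) = a := by rw [← mul_assoc, htt, one_mul]
        rcases klein_cases hVk htV ha hv ht1 ha1 (Ne.symm hat) with h | h | h | h
        · exact Or.inl h
        · exact Or.inr (Or.inl h)
        · right; right; right; rw [h1]; exact h
        · right; right; left; exact h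
  have hww : w * w = 1 := klein_sq hVk hwV
  have htw : t * w = w * t := klein_comm hVk htV hwV
  obtain ⟨f⟩ := hL.iso
  obtain ⟨Y₀, s₀, hcyc, hcard, h1, -, -, h4, h5, h6, h7, h8⟩ := (hdih.of_mulEquiv f).dih ⟨w, hwL⟩ (by
    rw [Subgroup.orderOf_mk]; exact orderOf_two hw1 hww)
  have hYmem : ∀ y ∈ Y₀.map L.subtype, ∃ h : y ∈ L, (⟨y, h⟩ : L) ∈ Y₀ := by
    rintro _ ⟨z, hz, rfl⟩
    exact ⟨z.2, hz⟩
  have hYmem' : ∀ y : L, y ∈ Y₀ → (y : G) ∈ Y₀.map L.subtype := fun y hy => ⟨y, hy, rfl⟩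
  have e2 : Y₀ ≃* Y₀.map L.subtype := Y₀.equivMapOfInjective _ L.subtype_injective
  set Y := Y₀.map L.subtype with hY
  have hYL : Y ≤ L := Subgroup.map_subtype_le Y₀
  have hYcard : Nat.card Y = m := by rw [← hcard]; exact (Nat.card_congr e2.toEquiv).symm
  have hYcyc : IsCyclic Y := e2.isCyclic.1 hcyc
  have hwY : ∀ y ∈ Y, w * y = y * w := by
    intro y hy
    obtain ⟨h, hy0⟩ := hYmem y hy
    exact congrArg Subtype.val (h5 _ hy0)
  have htL : ∀ y ∈ L, t * y = y * t := by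
    intro y hy
    exact (Subgroup.mem_centralizer_singleton_iff.1 (hL.le hy)).symm
  have hVY : ∀ v ∈ V, ∀ y ∈ Y, v * y = y * v := by
    intro v hv y hy
    rcases hVc v hv with rfl | rfl | rfl | rfl
    · rw [one_mul, mul_one]
    · exact htL y (hYL hy)
    · exact hwY y hy
    · rw [mul_assoc, hwY y hy, ← mul_assoc, htL y (hYL hy), mul_assoc]
  have hs0Y : ∀ y ∈ Y, (s₀ : G) * y * (s₀ : G)⁻¹ = y⁻¹ := by
    intro y hy
    obtain ⟨h, hy0⟩ := hYmem y hy
    exact congrArg Subtype.val (h6 _ hy0)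
  have hYpow : ∀ y ∈ Y, y ^ m = 1 := by
    intro y hy
    have h := pow_card_eq_one' (x := (⟨y, hy⟩ : Y))
    rw [hYcard] at h
    exact congrArg Subtype.val h
  have hYodd : ∀ y ∈ Y, y * y = 1 → y = 1 := by
    intro y hy hyy
    rw [← pow_odd hm hyy]; exact hYpow y hy
  have hL0 : ∀ h ∈ L, h * w = w * h → ∃ v ∈ V, ∃ y ∈ Y, h = v * y ∨ h = v * y * s₀ := by
    intro h hh hw
    obtain ⟨y, hy, h9⟩ := h7 ⟨h, hh⟩ (Subtype.ext hw)
    rcases h9 with h9 | h9 | h9 | h9
    · exact ⟨1, one_mem _, y, hYmem' y hy, Or.inl (by rw [one_mul]; exact congrArg Subtype.val h9)⟩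
    · exact ⟨w, hwV, y, hYmem' y hy, Or.inl (congrArg Subtype.val h9)⟩
    · exact ⟨1, one_mem _, y, hYmem' y hy, Or.inr (by rw [one_mul]; exact congrArg Subtype.val h9)⟩
    · exact ⟨w, hwV, y, hYmem' y hy, Or.inr (congrArg Subtype.val h9)⟩
  have hC0 : ∀ g ∈ Subgroup.centralizer (V : Set G), ∃ v ∈ V, ∃ y ∈ Y, g = v * y ∨ g = v * y * s₀ := by
    intro g hg
    rw [Subgroup.mem_centralizer_iff] at hg
    have hgt : g ∈ Subgroup.centralizer ({t} : Set G) := by
      rw [Subgroup.mem_centralizer_singleton_iff]; exact (hg t htV).symm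
    have hgw := (hg w hwV).symm
    rcases hL.cover g hgt with h | h
    · exact hL0 g h hgw
    · obtain ⟨v, hv, y, hy, h9⟩ := hL0 (t * g) h (by rw [mul_assoc, hgw, ← mul_assoc, htw, mul_assoc])
      refine ⟨t * v, mul_mem htV hv, y, hy, ?_⟩
      have h10 : g = t * (t * g) := by rw [← mul_assoc, htt, one_mul]
      rcases h9 with h9 | h9
      · left; rw [h10, h9]; group
      · right; rw [h10, h9]; group
  obtain ⟨v₁, hv₁, y₁, hy₁, hs₁⟩ := hC0 s (by
    rw [Subgroup.mem_centralizer_iff]; exact fun v hv => hsV v hv)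
  replace hs₁ : s = v₁ * y₁ * s₀ := by
    rcases hs₁ with h | h
    · exfalso
      have h9 : y₁ = 1 := by
        apply hYodd y₁ hy₁
        have h10 : s * s = (v₁ * v₁) * (y₁ * y₁) := by
          rw [h]
          calc v₁ * y₁ * (v₁ * y₁) = v₁ * (y₁ * v₁) * y₁ := by group
            _ = v₁ * (v₁ * y₁) * y₁ := by rw [hVY v₁ hv₁ y₁ hy₁]
            _ = _ := by group
        rw [hs2, klein_sq hVk hv₁, one_mul] at h10
        exact h10.symm
      apply hs
      rw [h, h9, mul_one]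
      exact hv₁
    · exact h
  have hYcomm : ∀ y ∈ Y, ∀ z ∈ Y, y * z = z * y := by
    intro y hy z hz
    have := hYcyc.isMulCommutative.is_comm.comm (⟨y, hy⟩ : Y) ⟨z, hz⟩
    exact congrArg Subtype.val this
  refine ⟨Y, hYL, ?_, hYcyc, hYcard, ?_, ?_, ?_, ?_⟩
  · intro y hy
    rw [Subgroup.mem_centralizer_iff]
    exact fun v hv => hVY v hv y hy
  · intro y hy
    have h9 := hs0Y y hy
    calc s * y * s⁻¹ = v₁ * (y₁ * (s₀ * y * (s₀ : G)⁻¹) * y₁⁻¹) * v₁⁻¹ := by rw [hs₁]; group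
      _ = v₁ * (y₁ * y⁻¹ * y₁⁻¹) * v₁⁻¹ := by rw [h9]
      _ = v₁ * y⁻¹ * v₁⁻¹ := by rw [hYcomm y₁ hy₁ y⁻¹ (inv_mem hy)]; group
      _ = y⁻¹ := by rw [hVY v₁ hv₁ y⁻¹ (inv_mem hy)]; group
  · intro g hg
    obtain ⟨v, hv, y, hy, h9⟩ := hC0 g hg
    rcases h9 with h9 | h9
    · exact ⟨v, hv, y, hy, Or.inl h9⟩
    · refine ⟨v * v₁⁻¹, mul_mem hv (inv_mem hv₁), y * y₁⁻¹, mul_mem hy (inv_mem hy₁), Or.inr ?_⟩
      rw [h9, hs₁]
      have h10 := hVY v₁⁻¹ (inv_mem hv₁) (y * y₁⁻¹) (mul_mem hy (inv_mem hy₁))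
      calc v * y * (s₀ : G) = v * (y * y₁⁻¹ * v₁⁻¹) * (v₁ * y₁ * s₀) := by group
        _ = v * (v₁⁻¹ * (y * y₁⁻¹)) * (v₁ * y₁ * s₀) := by rw [h10]
        _ = _ := by group
  · intro y hy hy1 g hg hgy
    obtain ⟨hyL, hy0⟩ := hYmem y hy
    have hy0' : (⟨y, hyL⟩ : L) ≠ 1 := fun h => hy1 (congrArg Subtype.val h)
    rcases hL.cover g hg with h | h
    · obtain ⟨z, hz, h9⟩ := h8 _ hy0 hy0' ⟨g, h⟩ (Subtype.ext hgy)
      rcases h9 with h9 | h9
      · exact ⟨1, one_mem _, z, hYmem' z hz, by rw [one_mul]; exact congrArg Subtype.val h9⟩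
      · exact ⟨w, hwV, z, hYmem' z hz, congrArg Subtype.val h9⟩
    · obtain ⟨z, hz, h9⟩ := h8 _ hy0 hy0' ⟨t * g, h⟩ (Subtype.ext (by
        change t * g * y = y * (t * g)
        rw [mul_assoc, hgy, ← mul_assoc, htL y hyL, mul_assoc]))
      have h10 : g = t * (t * g) := by rw [← mul_assoc, htt, one_mul]
      rcases h9 with h9 | h9
      · refine ⟨t, htV, z, hYmem' z hz, ?_⟩
        rw [h10]; exact congrArg (fun x : L => t * (x : G)) h9
      · refine ⟨t * w, mul_mem htV hwV, z, hYmem' z hz, ?_⟩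
        rw [h10, mul_assoc t w]; exact congrArg (fun x : L => t * (x : G)) h9
  · intro g hg hgt
    rw [Subgroup.mem_centralizer_iff]
    have hg1 := Subgroup.mem_centralizer_singleton_iff.1 hgt
    have hgw : g * w * g⁻¹ ∈ L := by
      rcases hL.cover g hgt with h | h
      · exact mul_mem (mul_mem h hwL) (inv_mem h)
      · have h9 := mul_mem (mul_mem h hwL) (inv_mem h)
        have h10 : t * g * w * (t * g)⁻¹ = t * (g * w * g⁻¹) * t⁻¹ := by group
        have h11 : g * w * g⁻¹ ∈ Subgroup.centralizer ({t} : Set G) :=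
          mul_mem (mul_mem hgt (hL.le hwL)) (inv_mem hgt)
        have h12 := Subgroup.mem_centralizer_singleton_iff.1 h11
        rw [h10, ← h12] at h9
        have h13 : g * w * g⁻¹ * t * t⁻¹ = g * w * g⁻¹ := by group
        rwa [h13] at h9
    have hgV : g * w * g⁻¹ ∈ V := (Subgroup.mem_normalizer_iff.1 hg w).1 hwV
    have hgw2 : g * w = w * g := by
      rcases hVc _ hgV with h | h | h | h
      · exact absurd (conj_eq_one_iff.1 h) hw1
      · exact absurd (h ▸ hgw) hL.not_mem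
      · rwa [mul_inv_eq_iff_eq_mul] at h
      · exfalso
        rw [h] at hgw
        exact hL.not_mem ((Subgroup.mul_mem_cancel_right L hwL).1 hgw)
    intro v hv
    rcases hVc v hv with rfl | rfl | rfl | rfl
    · rw [one_mul, mul_one]
    · exact hg1.symm
    · exact hgw2.symm
    · rw [mul_assoc, ← hgw2, ← mul_assoc, ← hg1, mul_assoc]

theorem exists_local [Finite G] {F : Type*} [Field F] [Fintype F] {m : ℕ} {ε : ℤ}
    (heps : ε = 1 ∨ ε = -1) (hq : (Fintype.card F : ℤ) = 4 * m + ε) (hm : Odd m)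
    (hdih : PSLDih (PSL2 F) m)
    (hconj : ∀ u v : G, orderOf u = 2 → orderOf v = 2 → IsConj u v)
    (h8 : ∀ P : Sylow 2 G, Nat.card P = 8) (hexp : ∀ P : Sylow 2 G, ∀ x ∈ (P : Subgroup G), x * x = 1)
    {t : G} (ht : orderOf t = 2) {L : Subgroup G} (hL : Comp F t L) :
    ∃ (s ρ : G) (S : Sylow 2 G) (Ls V Y : Subgroup G), Local F t s ρ S L Ls V Y m ε := by
  have h2 : Fact (Nat.Prime 2) := ⟨Nat.prime_two⟩
  have hgood : Good (PSL2 F) := good_of_mod (by
    obtain ⟨k, hk⟩ := hm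
    rcases heps with h | h <;> omega)
  have ht1 : t ≠ 1 := by rintro rfl; rw [orderOf_one] at ht; omega
  obtain ⟨S, hS⟩ : ∃ S : Sylow 2 G, Subgroup.zpowers t ≤ S := by
    apply IsPGroup.exists_le_sylow
    apply IsPGroup.of_card (n := 1)
    rw [Nat.card_zpowers, ht, pow_one]
  have htS : t ∈ (S : Subgroup G) := hS (Subgroup.mem_zpowers t)
  have hSab : ∀ x ∈ (S : Subgroup G), ∀ y ∈ (S : Subgroup G), x * y = y * x := by
    intro x hx y hy
    have hx1 := hexp S x hx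
    have hy1 := hexp S y hy
    have hxy := hexp S _ (mul_mem hx hy)
    calc x * y = (x * y) * ((y * x) * (y * x)) := by rw [hexp S _ (mul_mem hy hx), mul_one]
      _ = x * (y * y) * x * (y * x) := by group
      _ = y * x := by rw [hy1, mul_one, hx1, one_mul]
  have hScomm : IsMulCommutative (S : Subgroup G) := ⟨⟨fun x y => Subtype.ext (hSab x x.2 y y.2)⟩⟩
  have hE4 := card_inf_comp hL (S : Subgroup G) (h8 S) hSab htS
  have hEk : IsKleinFour ((S : Subgroup G) ⊓ L : Subgroup G) := klein_of hE4 (fun v hv => hexp S v hv.1)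
  obtain ⟨a, haE, -, -, ha1, -, -⟩ := exists_two hEk
  obtain ⟨g, hg⟩ := isConj_iff.1 (hconj a t (orderOf_two ha1 (hexp S a haE.1)) ht)
  obtain ⟨n, hn, hnt⟩ : ∃ n ∈ Subgroup.normalizer ((S : Subgroup G) : Set G), n * a * n⁻¹ = t := by
    obtain ⟨n, hn, h⟩ := S.conj_eq_normalizer_conj_of_mem a g⁻¹ haE.1 (by rw [inv_inv, hg]; exact htS)
    refine ⟨n⁻¹, inv_mem hn, ?_⟩
    rw [inv_inv] at h ⊢
    rw [← h, hg]
  obtain ⟨s, hsdef⟩ : ∃ s, s = n * t * n⁻¹ := ⟨_, rfl⟩
  obtain ⟨Ls, hLsdef⟩ : ∃ Ls, Ls = L.map (MulAut.conj n).toMonoidHom := ⟨_, rfl⟩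
  have hLs : Comp F s Ls := by rw [hsdef, hLsdef]; exact hL.conj n
  have hsS : s ∈ (S : Subgroup G) := by
    rw [hsdef]; exact (Subgroup.mem_normalizer_iff.1 hn t).1 htS
  have hs2 : s * s = 1 := hexp S s hsS
  have hs1 : s ≠ 1 := by rw [hsdef]; exact fun h => ht1 (conj_eq_one_iff.1 h)
  obtain ⟨V, hVdef⟩ : ∃ V : Subgroup G, V = (S : Subgroup G) ⊓ Ls := ⟨_, rfl⟩
  have hVS : V ≤ S := by rw [hVdef]; exact inf_le_left
  have hVLs : V ≤ Ls := by rw [hVdef]; exact inf_le_right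
  have hV4 : Nat.card V = 4 := by rw [hVdef]; exact card_inf_comp hLs (S : Subgroup G) (h8 S) hSab hsS
  have hVexp : ∀ v ∈ V, v * v = 1 := fun v hv => hexp S v (hVS hv)
  have hVk : IsKleinFour V := klein_of hV4 hVexp
  have htV : t ∈ V := by
    rw [hVdef]
    refine ⟨htS, ?_⟩
    rw [hLsdef]
    exact ⟨a, haE.2, hnt⟩
  have hsV : s ∉ V := fun h => hLs.not_mem (hVLs h)
  have hsVc : ∀ v ∈ V, v * s = s * v := fun v hv => hSab v (hVS hv) s hsS
  obtain ⟨ρ, hρL, hρ3, hρN, hρm⟩ := exists_rho hgood hLs hVLs hVk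
  have hρs : ρ * s = s * ρ := Subgroup.mem_centralizer_singleton_iff.1 (hLs.le hρL)
  have hρS : ρ ∈ Subgroup.normalizer ((S : Subgroup G) : Set G) := by
    have hSV : ∀ x, x ∈ (S : Subgroup G) ↔ (x ∈ V ∨ s * x ∈ V) := by
      intro x
      constructor
      · intro hx
        have hxC : x ∈ Subgroup.centralizer ({s} : Set G) := by
          rw [Subgroup.mem_centralizer_singleton_iff]; exact hSab x hx s hsS
        rcases hLs.cover x hxC with h | h
        · left; rw [hVdef]; exact ⟨hx, h⟩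
        · right; rw [hVdef]; exact ⟨mul_mem hsS hx, h⟩
      · rintro (h | h)
        · exact hVS h
        · have := mul_mem hsS (hVS h)
          rwa [← mul_assoc, hs2, one_mul] at this
    rw [Subgroup.mem_normalizer_iff]
    intro x
    rw [hSV, hSV]
    have h1 : s * (ρ * x * ρ⁻¹) = ρ * (s * x) * ρ⁻¹ := by
      rw [← mul_assoc, ← mul_assoc, ← hρs]; group
    have h2 := Subgroup.mem_normalizer_iff.1 hρN x
    have h3 := Subgroup.mem_normalizer_iff.1 hρN (s * x)
    have h4 : x ∈ V ↔ ρ * x * ρ⁻¹ ∈ V := h2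
    have h5 : s * x ∈ V ↔ ρ * (s * x) * ρ⁻¹ ∈ V := h3
    rw [h1, ← h4, ← h5]
  obtain ⟨Y, hYL, hYC, hYcyc, hYcard, hsinv, hmemC, hcent, hnormC⟩ :=
    exists_torus hm hdih ht hL hVk htV hsVc hsV hs2
  have hVC : ∀ x, x ∈ Subgroup.centralizer (V : Set G) ↔ ∀ v ∈ V, v * x = x * v := by
    intro x; rw [Subgroup.mem_centralizer_iff]; rfl
  have hsC : s ∈ Subgroup.centralizer (V : Set G) := (hVC s).2 hsVc
  have hVVC : V ≤ Subgroup.centralizer (V : Set G) := fun x hx => (hVC x).2 fun v hv => klein_comm hVk hv hx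
  have hVY : ∀ v ∈ V, ∀ y ∈ Y, v * y = y * v := fun v hv y hy => (hVC y).1 (hYC hy) v hv
  have hYpow : ∀ y ∈ Y, y ^ m = 1 := by
    intro y hy
    have h := pow_card_eq_one' (x := (⟨y, hy⟩ : Y))
    rw [hYcard] at h
    exact congrArg Subtype.val h
  have hsY : ∀ y ∈ Y, s * y = y⁻¹ * s := by
    intro y hy
    have := hsinv y hy
    rwa [mul_inv_eq_iff_eq_mul] at this
  have hinv2 : ∀ v ∈ V, ∀ y ∈ Y, (v * y * s) * (v * y * s) = 1 := by
    intro v hv y hy
    calc (v * y * s) * (v * y * s) = v * y * (s * v) * y * s := by group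
      _ = v * y * (v * s) * y * s := by rw [hsVc v hv]
      _ = v * (y * v) * (s * y) * s := by group
      _ = v * (v * y) * (y⁻¹ * s) * s := by rw [← hVY v hv y hy, hsY y hy]
      _ = (v * v) * (s * s) := by group
      _ = 1 := by rw [hVexp v hv, hs2, one_mul]
  have hvym : ∀ v ∈ V, ∀ y ∈ Y, (v * y) ^ m = v := by
    intro v hv y hy
    have hc : Commute v y := hVY v hv y hy
    rw [hc.mul_pow, pow_odd hm (hVexp v hv), hYpow y hy, mul_one]
  have hmemY : ∀ g ∈ Subgroup.centralizer (V : Set G), g ^ m = 1 → g ∈ Y := by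
    intro g hg hgm
    obtain ⟨v, hv, y, hy, h | h⟩ := hmemC g hg
    · rw [h, hvym v hv y hy] at hgm
      rw [h, hgm, one_mul]; exact hy
    · have h1 := hinv2 v hv y hy
      rw [← h] at h1
      rw [pow_odd hm h1] at hgm
      rw [hgm]; exact one_mem _
  have hρC : ∀ x ∈ Subgroup.centralizer (V : Set G), ρ * x * ρ⁻¹ ∈ Subgroup.centralizer (V : Set G) := by
    intro x hx
    rw [hVC] at hx ⊢
    intro v hv
    have hv' : ρ⁻¹ * v * ρ ∈ V := by
      have := (Subgroup.mem_normalizer_iff.1 (inv_mem hρN) v).1 hv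
      rwa [inv_inv] at this
    have h1 := hx _ hv'
    calc v * (ρ * x * ρ⁻¹) = ρ * ((ρ⁻¹ * v * ρ) * x) * ρ⁻¹ := by group
      _ = ρ * (x * (ρ⁻¹ * v * ρ)) * ρ⁻¹ := by rw [h1]
      _ = _ := by group
  have hρY : ∀ y ∈ Y, ρ * y * ρ⁻¹ ∈ Y := by
    intro y hy
    apply hmemY _ (hρC y (hYC hy))
    rw [conj_pow, hYpow y hy]; group
  have hρ3' : ρ ^ 3 = 1 := by rw [← hρ3]; exact pow_orderOf_eq_one ρ
  -- conjugation by powers of `ρ`
  have hρVmem : ∀ v ∈ V, ρ * v * ρ⁻¹ ∈ V := fun v hv => (Subgroup.mem_normalizer_iff.1 hρN v).1 hv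
  have hρt1 : ρ * t * ρ⁻¹ ≠ 1 := fun h => ht1 (conj_eq_one_iff.1 h)
  have hVt : ∀ v ∈ V, v ≠ 1 → ∃ i < 3, v = ρ ^ i * t * (ρ ^ i)⁻¹ := by
    intro v hv hv1
    rcases klein_cases hVk htV (hρVmem t htV) hv ht1 hρt1 (hρm t htV ht1).symm with h | h | h | h
    · exact absurd h hv1
    · exact ⟨0, by omega, by rw [h]; simp⟩
    · exact ⟨1, by omega, by rw [h]; simp⟩
    · refine ⟨2, by omega, ?_⟩
      -- `ρ² t ρ⁻²` is neither `1`, `t`, nor `ρ t ρ⁻¹`
      have h1 : ρ ^ 2 * t * (ρ ^ 2)⁻¹ = ρ * (ρ * t * ρ⁻¹) * ρ⁻¹ := by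
        simp only [pow_two, mul_inv_rev, mul_assoc]
      have h2 : ρ * (ρ * t * ρ⁻¹) * ρ⁻¹ ∈ V := hρVmem _ (hρVmem t htV)
      rcases klein_cases hVk htV (hρVmem t htV) h2 ht1 hρt1 (hρm t htV ht1).symm with h3 | h3 | h3 | h3
      · exact absurd (conj_eq_one_iff.1 h3) hρt1
      · exfalso
        apply hρm t htV ht1
        have h4 : ρ * (ρ * (ρ * t * ρ⁻¹) * ρ⁻¹) * ρ⁻¹ = ρ ^ 3 * t * (ρ ^ 3)⁻¹ := by
          simp only [pow_succ, pow_zero, one_mul, mul_inv_rev, mul_assoc]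
        rw [h3, hρ3'] at h4
        rw [h4]; group
      · exact absurd h3 (hρm _ (hρVmem t htV) hρt1)
      · rw [h1, h3, h]
  have hNpow : ∀ i : ℕ, ρ ^ i ∈ Subgroup.normalizer (V : Set G) := fun i => pow_mem hρN i
  have hpowC : ∀ i : ℕ, ∀ x ∈ Subgroup.centralizer (V : Set G),
      ρ ^ i * x * (ρ ^ i)⁻¹ ∈ Subgroup.centralizer (V : Set G) := by
    intro i
    induction i with
    | zero => intro x hx; simpa using hx
    | succ i ih =>
      intro x hx
      have h1 : ρ ^ (i + 1) * x * (ρ ^ (i + 1))⁻¹ = ρ * (ρ ^ i * x * (ρ ^ i)⁻¹) * ρ⁻¹ := by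
        rw [pow_succ' ρ i]; simp only [mul_inv_rev, mul_assoc]
      rw [h1]
      exact hρC _ (ih x hx)
  have hpowY : ∀ i : ℕ, ∀ y ∈ Y, ρ ^ i * y * (ρ ^ i)⁻¹ ∈ Y := by
    intro i y hy
    apply hmemY _ (hpowC i y (hYC hy))
    rw [conj_pow, hYpow y hy]; group
  have hpowinv : ∀ i : ℕ, ∃ j : ℕ, (ρ ^ i)⁻¹ = ρ ^ j := by
    intro i
    refine ⟨2 * i, ?_⟩
    rw [inv_eq_iff_mul_eq_one, ← pow_add]
    have : i + 2 * i = 3 * i := by ring
    rw [this, pow_mul, hρ3', one_pow]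
  have hpowY' : ∀ i : ℕ, ∀ y ∈ Y, (ρ ^ i)⁻¹ * y * ρ ^ i ∈ Y := by
    intro i y hy
    obtain ⟨j, hj⟩ := hpowinv i
    have h1 := hpowY j y hy
    rwa [← hj, inv_inv] at h1
  -- the normalizer
  have hmemN : ∀ g ∈ Subgroup.normalizer (V : Set G), ∃ c ∈ Subgroup.centralizer (V : Set G),
      ∃ i < 3, g = c * ρ ^ i := by
    intro g hg
    have h1 : g * t * g⁻¹ ∈ V := (Subgroup.mem_normalizer_iff.1 hg t).1 htV
    obtain ⟨i, hi, h2⟩ := hVt _ h1 (fun h => ht1 (conj_eq_one_iff.1 h))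
    have h3 : (ρ ^ i)⁻¹ * g ∈ Subgroup.normalizer (V : Set G) := mul_mem (inv_mem (hNpow i)) hg
    have h4 : (ρ ^ i)⁻¹ * g ∈ Subgroup.centralizer ({t} : Set G) := by
      rw [Subgroup.mem_centralizer_singleton_iff]
      calc (ρ ^ i)⁻¹ * g * t = (ρ ^ i)⁻¹ * (g * t * g⁻¹) * g := by group
        _ = (ρ ^ i)⁻¹ * (ρ ^ i * t * (ρ ^ i)⁻¹) * g := by rw [h2]
        _ = t * ((ρ ^ i)⁻¹ * g) := by group
    refine ⟨_, hpowC i _ (hnormC _ h3 h4), i, hi, by group⟩
  -- the subgroup `V ⊔ Y`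
  have hVYmem : ∀ g, g ∈ V ⊔ Y ↔ ∃ v ∈ V, ∃ y ∈ Y, g = v * y := by
    intro g
    constructor
    · intro hg
      have hVn : V ≤ Subgroup.normalizer (Y : Set G) := by
        intro v hv
        rw [Subgroup.mem_normalizer_iff]
        intro x
        constructor
        · intro hx
          have : v * x * v⁻¹ = x := by rw [hVY v hv x hx]; group
          rwa [this]
        · intro hx
          have h1 := hVY v hv _ hx
          have h2 : x = v⁻¹ * ((v * x * v⁻¹) * v) := by group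
          rw [h2, ← h1]
          simpa using hx
      have h1 : g ∈ ((V ⊔ Y : Subgroup G) : Set G) := hg
      rw [Subgroup.coe_mul_of_left_le_normalizer_right V Y hVn] at h1
      obtain ⟨v, hv, y, hy, h⟩ := h1
      exact ⟨v, hv, y, hy, h.symm⟩
    · rintro ⟨v, hv, y, hy, rfl⟩
      exact Subgroup.mul_mem_sup hv hy
  have hsVY : ∀ v ∈ V, ∀ y ∈ Y, s ≠ v * y := by
    intro v hv y hy h
    have h1 := hvym v hv y hy
    rw [← h, pow_odd hm hs2] at h1
    exact hsV (h1 ▸ hv)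
  have hdisj : ∀ x, x ∈ V → x ∈ Y → x = 1 := by
    intro x hx hy
    rw [← pow_odd hm (hVexp x hx)]; exact hYpow x hy
  have hcardC : Nat.card (Subgroup.centralizer (V : Set G)) = 8 * m := by
    let f : V × Y × Fin 2 → Subgroup.centralizer (V : Set G) := fun p =>
      ⟨p.1 * p.2.1 * s ^ (p.2.2 : ℕ), mul_mem (mul_mem (hVVC p.1.2) (hYC p.2.1.2)) (pow_mem hsC _)⟩
    have hf : Function.Bijective f := by
      constructor
      · rintro ⟨v, y, i⟩ ⟨v', y', i'⟩ h
        have h1 : (v : G) * y * s ^ (i : ℕ) = v' * y' * s ^ (i' : ℕ) := congrArg Subtype.val h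
        have hcase : (v : G) * y = v' * y' → v = v' ∧ y = y' := by
          intro h2
          have h3 : (v : G) = v' := by
            rw [← hvym v v.2 y y.2, ← hvym v' v'.2 y' y'.2, h2]
          refine ⟨Subtype.ext h3, Subtype.ext ?_⟩
          rw [h3] at h2
          exact mul_left_cancel h2
        have hne : (v : G) * y * s ≠ v' * y' := by
          intro h2
          have h3 : s = ((v : G) * y)⁻¹ * (v' * y') := by rw [← h2]; group
          have h4 : s ∈ V ⊔ Y := by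
            rw [h3]
            exact mul_mem (inv_mem (Subgroup.mul_mem_sup v.2 y.2)) (Subgroup.mul_mem_sup v'.2 y'.2)
          obtain ⟨v₂, hv₂, y₂, hy₂, h5⟩ := (hVYmem s).1 h4
          exact hsVY v₂ hv₂ y₂ hy₂ h5
        have hne' : (v : G) * y ≠ v' * y' * s := by
          intro h2
          have h3 : s = ((v' : G) * y')⁻¹ * (v * y) := by rw [h2]; group
          have h4 : s ∈ V ⊔ Y := by
            rw [h3]
            exact mul_mem (inv_mem (Subgroup.mul_mem_sup v'.2 y'.2)) (Subgroup.mul_mem_sup v.2 y.2)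
          obtain ⟨v₂, hv₂, y₂, hy₂, h5⟩ := (hVYmem s).1 h4
          exact hsVY v₂ hv₂ y₂ hy₂ h5
        fin_cases i <;> fin_cases i'
        · replace h1 : (v : G) * y = v' * y' := by simpa using h1
          obtain ⟨h2, h3⟩ := hcase h1
          rw [h2, h3]
        · exfalso; apply hne'; simpa using h1
        · exfalso; apply hne; simpa using h1
        · replace h1 : (v : G) * y = v' * y' := by simpa using h1
          obtain ⟨h2, h3⟩ := hcase h1
          rw [h2, h3]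
      · rintro ⟨g, hg⟩
        obtain ⟨v, hv, y, hy, h | h⟩ := hmemC g hg
        · exact ⟨(⟨v, hv⟩, ⟨y, hy⟩, 0), Subtype.ext (by simp [f, h])⟩
        · exact ⟨(⟨v, hv⟩, ⟨y, hy⟩, 1), Subtype.ext (by simp [f, h])⟩
    rw [← Nat.card_congr (Equiv.ofBijective f hf), Nat.card_prod, Nat.card_prod, hV4, hYcard, Nat.card_fin]
    ring
  have hcardN : Nat.card (Subgroup.normalizer (V : Set G)) = 24 * m := by
    let f : Subgroup.centralizer (V : Set G) × Fin 3 → Subgroup.normalizer (V : Set G) := fun p =>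
      ⟨p.1 * ρ ^ (p.2 : ℕ), mul_mem (Subgroup.centralizer_le_normalizer _ p.1.2) (hNpow _)⟩
    have hρpow : ∀ i : ℕ, i < 3 → ρ ^ i ∈ Subgroup.centralizer (V : Set G) → i = 0 := by
      intro i hi h
      have h1 := (hVC _).1 h t htV
      have key : ρ ∈ Subgroup.centralizer (V : Set G) → False := by
        intro h2
        apply hρm t htV ht1
        rw [← (hVC _).1 h2 t htV]; group
      rcases Nat.lt_or_ge i 1 with h3 | h3
      · omega
      exfalso
      rcases Nat.lt_or_ge i 2 with h4 | h4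
      · have : i = 1 := by omega
        subst this
        rw [pow_one] at h
        exact key h
      · have : i = 2 := by omega
        subst this
        apply key
        have h5 := mul_mem h h
        have h6 : ρ ^ 2 * ρ ^ 2 = ρ := by
          rw [← pow_add, show 2 + 2 = 3 + 1 by norm_num, pow_add, hρ3', one_mul, pow_one]
        rwa [h6] at h5
    have hf : Function.Bijective f := by
      constructor
      · rintro ⟨c, i⟩ ⟨c', i'⟩ h
        have h1 : (c : G) * ρ ^ (i : ℕ) = c' * ρ ^ (i' : ℕ) := congrArg Subtype.val h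
        have h2 : i = i' := by
          have key : ∀ (c c' : Subgroup.centralizer (V : Set G)) (i i' : Fin 3), (i : ℕ) ≤ i' →
              (c : G) * ρ ^ (i : ℕ) = c' * ρ ^ (i' : ℕ) → i = i' := by
            intro c c' i i' hle h1
            have h3 : ρ ^ ((i' : ℕ) - i) = (c' : G)⁻¹ * c := by
              have h4 : ρ ^ (i' : ℕ) = ρ ^ ((i' : ℕ) - i) * ρ ^ (i : ℕ) := by
                rw [← pow_add]; congr 1; omega
              rw [h4] at h1
              have h5 : (c : G) = c' * ρ ^ ((i' : ℕ) - i) := by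
                have h6 : (c : G) * ρ ^ (i : ℕ) = c' * ρ ^ ((i' : ℕ) - i) * ρ ^ (i : ℕ) := by
                  rw [h1, mul_assoc]
                exact mul_right_cancel h6
              rw [h5]; group
            have h7 := hρpow ((i' : ℕ) - i) (by omega) (by rw [h3]; exact mul_mem (inv_mem c'.2) c.2)
            exact Fin.ext (by omega)
          rcases le_total (i : ℕ) i' with h3 | h3
          · exact key c c' i i' h3 h1
          · exact (key c' c i' i h3 h1.symm).symm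
        subst h2
        have h3 : c = c' := Subtype.ext (mul_right_cancel h1)
        rw [h3]
      · rintro ⟨g, hg⟩
        obtain ⟨c, hc, i, hi, h⟩ := hmemN g hg
        exact ⟨(⟨c, hc⟩, ⟨i, hi⟩), Subtype.ext (by simp [f, h])⟩
    rw [← Nat.card_congr (Equiv.ofBijective f hf), Nat.card_prod, hcardC, Nat.card_fin]
    ring
  have hcc : ∀ v ∈ V, v ≠ 1 → ∀ y ∈ Y, y ≠ 1 →
      Subgroup.centralizer ({v} : Set G) ⊓ Subgroup.centralizer ({y} : Set G) = V ⊔ Y := by
    intro v hv hv1 y hy hy1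
    have hYcomm : ∀ a ∈ Y, ∀ b ∈ Y, a * b = b * a := by
      intro a ha b hb
      have := hYcyc.isMulCommutative.is_comm.comm (⟨a, ha⟩ : Y) ⟨b, hb⟩
      exact congrArg Subtype.val this
    apply le_antisymm
    · rintro g ⟨hgv, hgy⟩
      replace hgv := Subgroup.mem_centralizer_singleton_iff.1 hgv
      replace hgy := Subgroup.mem_centralizer_singleton_iff.1 hgy
      obtain ⟨i, -, hi⟩ := hVt v hv hv1
      -- conjugate back to `t`
      have h1 : (ρ ^ i)⁻¹ * g * ρ ^ i ∈ Subgroup.centralizer ({t} : Set G) := by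
        rw [Subgroup.mem_centralizer_singleton_iff]
        calc (ρ ^ i)⁻¹ * g * ρ ^ i * t = (ρ ^ i)⁻¹ * (g * (ρ ^ i * t * (ρ ^ i)⁻¹)) * ρ ^ i := by group
          _ = (ρ ^ i)⁻¹ * ((ρ ^ i * t * (ρ ^ i)⁻¹) * g) * ρ ^ i := by rw [← hi, hgv]
          _ = _ := by group
      have h2 : ((ρ ^ i)⁻¹ * g * ρ ^ i) * ((ρ ^ i)⁻¹ * y * ρ ^ i) =
          ((ρ ^ i)⁻¹ * y * ρ ^ i) * ((ρ ^ i)⁻¹ * g * ρ ^ i) := by
        calc ((ρ ^ i)⁻¹ * g * ρ ^ i) * ((ρ ^ i)⁻¹ * y * ρ ^ i) = (ρ ^ i)⁻¹ * (g * y) * ρ ^ i := by group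
          _ = (ρ ^ i)⁻¹ * (y * g) * ρ ^ i := by rw [hgy]
          _ = _ := by group
      have h3 : (ρ ^ i)⁻¹ * y * ρ ^ i ≠ 1 := by
        intro h
        apply hy1
        have : y = ρ ^ i * ((ρ ^ i)⁻¹ * y * ρ ^ i) * (ρ ^ i)⁻¹ := by group
        rw [this, h]; group
      obtain ⟨v', hv', z, hz, h4⟩ := hcent _ (hpowY' i y hy) h3 _ h1 h2
      rw [hVYmem]
      refine ⟨ρ ^ i * v' * (ρ ^ i)⁻¹, (Subgroup.mem_normalizer_iff.1 (hNpow i) v').1 hv',
        ρ ^ i * z * (ρ ^ i)⁻¹, hpowY i z hz, ?_⟩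
      calc g = ρ ^ i * ((ρ ^ i)⁻¹ * g * ρ ^ i) * (ρ ^ i)⁻¹ := by group
        _ = ρ ^ i * (v' * z) * (ρ ^ i)⁻¹ := by rw [h4]
        _ = _ := by group
    · rw [sup_le_iff]
      constructor
      · intro x hx
        refine ⟨?_, ?_⟩
        · exact Subgroup.mem_centralizer_singleton_iff.2 (klein_comm hVk hx hv)
        · exact Subgroup.mem_centralizer_singleton_iff.2 (hVY x hx y hy)
      · intro x hx
        refine ⟨?_, ?_⟩
        · exact Subgroup.mem_centralizer_singleton_iff.2 (hVY v hv x hx).symm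
        · exact Subgroup.mem_centralizer_singleton_iff.2 (hYcomm x hx y hy)
  exact ⟨s, ρ, S, Ls, V, Y,
    { eps := heps
      card_F := hq
      odd_m := hm
      ord_t := ht
      ord_s := orderOf_two hs1 hs2
      L_le := hL.le
      t_not_mem := hL.not_mem
      cover := hL.cover
      iso := hL.iso
      conj := hconj
      sylow_card := h8
      sylow_exp := hexp
      V_card := hV4
      V_exp := hVexp
      t_mem_V := htV
      Y_le := hYL
      Y_cent := hYC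
      Y_cyclic := hYcyc
      Y_card := hYcard
      V_le := hVS
      s_mem := hsS
      s_not_mem := hsV
      s_inv := hsinv
      rho_ord := hρ3
      rho_s := hρs
      rho_norm := hρN
      rho_S := hρS
      rho_move := hρm
      rho_Y := hρY
      mem_Y := hmemY
      mem_cent_V := hmemC
      mem_norm_V := hmemN
      card_cent_V := hcardC
      card_norm_V := hcardN
      cent_cent := hcc
      Ls_le := hLs.le
      s_not_mem_Ls := hLs.not_mem
      cover_s := hLs.cover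
      iso_s := hLs.iso
      V_le_Ls := hVLs
      rho_mem_Ls := hρL }⟩

end Main

end Cfsg.Agent.Ree.LocalSetup
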