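import Mathlib
import Cfsg.Agent.ClassicalGeometry.SplitTorus
import Cfsg.Agent.ClassicalGeometry.PSLTorus

/-!
# Borel subgroup and split torus of `PSL(2, q)`, `q` odd

`Data q E T w`: `E` is a (Sylow) subgroup of order `q`, `T` a cyclic group of order `(q - 1) / 2` normalising `E`, `w` an
involution inverting `T`; `E` is TI with normaliser `E T`, `T` is TI with normaliser `T ∪ T w`.
-/

set_option autoImplicit false

open Matrix Matrix.SpecialLinearGroup

namespace Cfsg.Agent.Ree.PSLBorel

open Cfsg.Agent.ClassicalGeometry.SplitTorus (mul00 mul01 mul10 mul11 inv00 inv01 inv10 inv11 det_eq ext2 dg wl up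
  dg00 dg01 dg10 dg11 wl00 wl01 wl10 wl11 up00 up01 up10 up11 dg_mul dg_one dg_inv dgHom up_add up_zero up_neg dg_conj_up)
open Cfsg.Agent.ClassicalGeometry.PSLTorus (pr pr_surjective pr_eq_one_iff pr_eq_iff two_ne_zero_iff_odd)

/-- Borel subgroup data. -/
structure Data {L : Type*} [Group L] (q : ℕ) (E T : Subgroup L) (w : L) : Prop where
  card_E : Nat.card E = q
  E_comm : ∀ x ∈ E, ∀ y ∈ E, x * y = y * x
  T_cyclic : IsCyclic T
  card_T : 2 * Nat.card T = q - 1
  w_sq : w * w = 1
  w_ne : w ≠ 1
  conj_E : ∀ x ∈ T, ∀ e ∈ E, x * e * x⁻¹ ∈ E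
  w_inv : ∀ x ∈ T, w * x * w⁻¹ = x⁻¹
  ti_E : ∀ e ∈ E, e ≠ 1 → ∀ g, g * e * g⁻¹ ∈ E → ∃ e' ∈ E, ∃ x ∈ T, g = e' * x
  ti_T : ∀ x ∈ T, x ≠ 1 → ∀ g, g * x * g⁻¹ ∈ T → g ∈ T ∨ g * w ∈ T

variable {F : Type*} [Field F]

/-- `up` followed by the projection. -/
def upHom (F : Type*) [Field F] : Multiplicative F →* ProjectiveSpecialLinearGroup (Fin 2) F where
  toFun b := pr F (up (Multiplicative.toAdd b))
  map_one' := by rw [toAdd_one, up_zero, map_one]
  map_mul' x y := by rw [toAdd_mul, up_add, map_mul]

theorem upHom_injective (h2 : (2 : F) ≠ 0) : Function.Injective (upHom F) := by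
  intro x y h
  have h1 : pr F (up (Multiplicative.toAdd x)) = pr F (up (Multiplicative.toAdd y)) := h
  rw [pr_eq_iff] at h1
  rcases h1 with h1 | h1
  · have := congrArg (fun A : SpecialLinearGroup (Fin 2) F => A 0 1) h1
    simpa using this
  · exfalso
    have := congrArg (fun A : SpecialLinearGroup (Fin 2) F => A 0 0) h1
    simp only [up00, Matrix.SpecialLinearGroup.coe_neg, Matrix.neg_apply] at this
    apply h2
    linear_combination this

theorem mem_range_up {g : SpecialLinearGroup (Fin 2) F} :
    pr F g ∈ (upHom F).range ↔ ∃ b : F, g = up b ∨ g = -up b := by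
  constructor
  · rintro ⟨b, hb⟩
    have h1 : pr F (up (Multiplicative.toAdd b)) = pr F g := hb
    rw [pr_eq_iff] at h1
    rcases h1 with h1 | h1
    · exact ⟨_, Or.inl h1.symm⟩
    · exact ⟨_, Or.inr (by rw [h1, neg_neg])⟩
  · rintro ⟨b, h | h⟩
    · exact ⟨Multiplicative.ofAdd b, by rw [h]; rfl⟩
    · refine ⟨Multiplicative.ofAdd b, ?_⟩
      change pr F (up b) = pr F g
      rw [pr_eq_iff]; right; rw [h, neg_neg]

theorem mem_range_dg {g : SpecialLinearGroup (Fin 2) F} :
    pr F g ∈ ((pr F).comp (dgHom F)).range ↔ ∃ a : Fˣ, g = dg a := by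
  constructor
  · rintro ⟨a, ha⟩
    have h1 : pr F (dg a) = pr F g := ha
    rw [pr_eq_iff] at h1
    rcases h1 with h1 | h1
    · exact ⟨_, h1.symm⟩
    · refine ⟨-a, ?_⟩
      have h3 : g = -dg a := by rw [h1, neg_neg]
      rw [h3]
      apply ext2 <;> simp
  · rintro ⟨a, h⟩
    exact ⟨a, by rw [h]; rfl⟩

theorem exists_data (F : Type*) [Field F] [Fintype F] (hodd : Odd (Fintype.card F)) :
    ∃ (E T : Subgroup (ProjectiveSpecialLinearGroup (Fin 2) F)) (w : ProjectiveSpecialLinearGroup (Fin 2) F),
      Data (Fintype.card F) E T w := by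
  classical
  have h2 : (2 : F) ≠ 0 := (two_ne_zero_iff_odd F).2 hodd
  refine ⟨(upHom F).range, ((pr F).comp (dgHom F)).range, pr F (wl F), ?_⟩
  have hcyc : IsCyclic ((pr F).comp (dgHom F)).range := isCyclic_of_surjective
    ((pr F).comp (dgHom F)).rangeRestrict ((pr F).comp (dgHom F)).rangeRestrict_surjective
  refine
    { card_E := ?_
      E_comm := ?_
      T_cyclic := hcyc
      card_T := ?_
      w_sq := ?_
      w_ne := ?_
      conj_E := ?_
      w_inv := ?_
      ti_E := ?_
      ti_T := ?_ }
  · rw [← Nat.card_congr (MonoidHom.ofInjective (upHom_injective h2)).toEquiv, ← Nat.card_eq_fintype_card]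
    rfl
  · rintro _ ⟨x, rfl⟩ _ ⟨y, rfl⟩
    rw [← map_mul, ← map_mul, mul_comm]
  · have h3 := Subgroup.index_ker ((pr F).comp (dgHom F))
    have h4 := Subgroup.card_mul_index ((pr F).comp (dgHom F)).ker
    rw [h3] at h4
    have h5 : Nat.card ((pr F).comp (dgHom F)).ker = 2 := by
      have h6 : ((pr F).comp (dgHom F)).ker = Subgroup.zpowers (-1 : Fˣ) := by
        ext a
        rw [MonoidHom.mem_ker]
        change pr F (dg a) = 1 ↔ _
        rw [pr_eq_one_iff]
        constructor
        · rintro (h | h)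
          · have := congrArg (fun A : SpecialLinearGroup (Fin 2) F => A 0 0) h
            simp only [dg00, Matrix.SpecialLinearGroup.coe_one, Matrix.one_apply_eq] at this
            have h7 : a = 1 := Units.ext this
            rw [h7]; exact one_mem _
          · have := congrArg (fun A : SpecialLinearGroup (Fin 2) F => A 0 0) h
            simp only [dg00, Matrix.SpecialLinearGroup.coe_neg, Matrix.neg_apply,
              Matrix.SpecialLinearGroup.coe_one, Matrix.one_apply_eq] at this
            have h7 : a = -1 := Units.ext (by rw [this]; simp)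
            rw [h7]; exact Subgroup.mem_zpowers _
        · intro h
          have h8 : a = 1 ∨ a = -1 := by
            rw [Subgroup.mem_zpowers_iff] at h
            obtain ⟨k, rfl⟩ := h
            rcases Int.even_or_odd k with hk | hk
            · left; exact hk.neg_one_zpow
            · right; exact hk.neg_one_zpow
          rcases h8 with rfl | rfl
          · left; exact dg_one
          · right
            apply ext2 <;> simp
      rw [h6, Nat.card_zpowers]
      apply orderOf_eq_prime
      · simp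
      · intro h
        apply h2
        have := congrArg Units.val h
        simp only [Units.val_neg, Units.val_one] at this
        linear_combination -this
    rw [h5, Nat.card_units] at h4
    rw [← Nat.card_eq_fintype_card (α := F)]
    exact h4
  · rw [← map_mul, pr_eq_one_iff]
    right
    apply ext2
    · rw [mul00]; simp
    · rw [mul01]; simp
    · rw [mul10]; simp
    · rw [mul11]; simp
  · rw [Ne, pr_eq_one_iff]
    rintro (h | h)
    · have := congrArg (fun A : SpecialLinearGroup (Fin 2) F => A 0 1) h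
      simp at this
    · have := congrArg (fun A : SpecialLinearGroup (Fin 2) F => A 0 1) h
      simp at this
  · rintro _ ⟨a, rfl⟩ _ ⟨b, rfl⟩
    refine ⟨Multiplicative.ofAdd ((a : F) ^ 2 * Multiplicative.toAdd b), ?_⟩
    change pr F (up ((a : F) ^ 2 * Multiplicative.toAdd b)) =
      pr F (dg a) * pr F (up (Multiplicative.toAdd b)) * (pr F (dg a))⁻¹
    rw [← map_inv, ← map_mul, ← map_mul, dg_conj_up]
  · rintro _ ⟨a, rfl⟩
    change pr F (wl F) * pr F (dg a) * (pr F (wl F))⁻¹ = (pr F (dg a))⁻¹
    rw [← map_inv, ← map_inv, ← map_mul, ← map_mul]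
    congr 1
    rw [mul_inv_eq_iff_eq_mul]
    apply ext2
    · rw [mul00, mul00, inv00, inv01]; simp
    · rw [mul01, mul01, inv00, inv01]; simp
    · rw [mul10, mul10, inv10, inv11]; simp
    · rw [mul11, mul11, inv10, inv11]; simp
  · rintro _ ⟨b, rfl⟩ hb g hg
    obtain ⟨g, rfl⟩ := pr_surjective F g
    change pr F (up (Multiplicative.toAdd b)) ≠ 1 at hb
    change pr F g * pr F (up (Multiplicative.toAdd b)) * (pr F g)⁻¹ ∈ _ at hg
    generalize (Multiplicative.toAdd b : F) = b at hb hg
    have hb0 : b ≠ 0 := by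
      rintro rfl
      apply hb
      rw [up_zero, map_one]
    rw [← map_inv, ← map_mul, ← map_mul, mem_range_up] at hg
    obtain ⟨c, hc⟩ := hg
    have h10 : g 1 0 = 0 := by
      have h3 : (g * up b * g⁻¹) 1 0 = 0 := by
        rcases hc with h | h <;> rw [h] <;> simp
      rw [mul10, mul10, mul11, inv00, inv10] at h3
      simp only [up00, up01, up10, up11, mul_one, mul_zero, add_zero] at h3
      have h4 : b * (g 1 0) ^ 2 = 0 := by linear_combination -h3
      rcases mul_eq_zero.1 h4 with h5 | h5
      · exact absurd h5 hb0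
      · exact pow_eq_zero_iff (two_ne_zero) |>.1 h5
    have hdet := det_eq g
    rw [h10, mul_zero, sub_zero] at hdet
    have ha0 : g 0 0 ≠ 0 := fun h => by rw [h, zero_mul] at hdet; exact zero_ne_one hdet
    refine ⟨pr F (up (g 0 1 * g 0 0)), ⟨Multiplicative.ofAdd _, rfl⟩, pr F (dg (Units.mk0 _ ha0)), ⟨_, rfl⟩, ?_⟩
    rw [← map_mul]
    congr 1
    have hinv : (g 0 0)⁻¹ = g 1 1 := inv_eq_of_mul_eq_one_right hdet
    apply ext2
    · rw [mul00]; simp
    · rw [mul01]; simp [ha0]
    · rw [mul10]; simp [h10]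
    · rw [mul11]; simp [hinv]
  · rintro _ ⟨a, rfl⟩ ha g hg
    obtain ⟨g, rfl⟩ := pr_surjective F g
    have ha2 : (a : F) ^ 2 ≠ 1 := by
      intro h
      apply ha
      change pr F (dg a) = 1
      rw [pr_eq_one_iff]
      have h3 : ((a : F) - 1) * (a + 1) = 0 := by linear_combination h
      rcases mul_eq_zero.1 h3 with h4 | h4
      · left
        have : a = 1 := Units.ext (by rw [Units.val_one]; linear_combination h4)
        rw [this, dg_one]
      · right
        have : a = -1 := Units.ext (by rw [Units.val_neg, Units.val_one]; linear_combination h4)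
        rw [this]
        apply ext2 <;> simp
    change pr F g * pr F (dg a) * (pr F g)⁻¹ ∈ _ at hg
    rw [← map_inv, ← map_mul, ← map_mul, mem_range_dg] at hg
    obtain ⟨c, hc⟩ := hg
    have haa : (a : F) * ((a⁻¹ : Fˣ) : F) = 1 := Units.mul_inv a
    have hne : (a : F) - ((a⁻¹ : Fˣ) : F) ≠ 0 := by
      intro h
      apply ha2
      linear_combination (a : F) * h + haa
    have h01 : g 0 0 * g 0 1 = 0 := by
      have h3 : (g * dg a * g⁻¹) 0 1 = 0 := by rw [hc]; simp
      rw [mul01, mul00, mul01, inv01, inv11] at h3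
      simp only [dg00, dg01, dg10, dg11, mul_zero, add_zero, zero_add] at h3
      have h4 : (g 0 0 * g 0 1) * ((a : F) - ((a⁻¹ : Fˣ) : F)) = 0 := by linear_combination -h3
      exact (mul_eq_zero.1 h4).resolve_right hne
    have h10 : g 1 0 * g 1 1 = 0 := by
      have h3 : (g * dg a * g⁻¹) 1 0 = 0 := by rw [hc]; simp
      rw [mul10, mul10, mul11, inv00, inv10] at h3
      simp only [dg00, dg01, dg10, dg11, mul_zero, add_zero, zero_add] at h3
      have h4 : (g 1 0 * g 1 1) * ((a : F) - ((a⁻¹ : Fˣ) : F)) = 0 := by linear_combination h3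
      exact (mul_eq_zero.1 h4).resolve_right hne
    have hdet := det_eq g
    by_cases h00 : g 0 0 = 0
    · right
      have hb0 : g 0 1 ≠ 0 := fun h => by rw [h00, h, zero_mul, zero_mul, sub_zero] at hdet; exact zero_ne_one hdet
      have hc0 : g 1 0 ≠ 0 := fun h => by rw [h00, h, zero_mul, mul_zero, sub_zero] at hdet; exact zero_ne_one hdet
      have h11 : g 1 1 = 0 := (mul_eq_zero.1 h10).resolve_left hc0
      rw [← map_mul, mem_range_dg]
      refine ⟨Units.mk0 (-g 0 1) (neg_ne_zero.2 hb0), ?_⟩
      rw [h00, zero_mul, zero_sub] at hdet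
      have hinv : (g 0 1)⁻¹ = -g 1 0 := inv_eq_of_mul_eq_one_right (by linear_combination hdet)
      apply ext2
      · rw [mul00]; simp [h00]
      · rw [mul01]; simp [h00]
      · rw [mul10]; simp [h11]
      · rw [mul11]; simp [h11, inv_neg, hinv]
    · left
      have hb0 : g 0 1 = 0 := (mul_eq_zero.1 h01).resolve_left h00
      have h11 : g 1 1 ≠ 0 := fun h => by rw [hb0, h, mul_zero, zero_mul, sub_zero] at hdet; exact zero_ne_one hdet
      have hc0 : g 1 0 = 0 := (mul_eq_zero.1 h10).resolve_right h11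
      rw [mem_range_dg]
      refine ⟨Units.mk0 _ h00, ?_⟩
      rw [hb0, zero_mul, sub_zero] at hdet
      have hinv : (g 0 0)⁻¹ = g 1 1 := inv_eq_of_mul_eq_one_right hdet
      apply ext2
      · simp
      · simp [hb0]
      · simp [hc0]
      · simp [hinv]

end Cfsg.Agent.Ree.PSLBorel
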