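import Cfsg.Agent.Ree.LocalSetup
import Cfsg.Agent.Ree.PSLTori

/-!
# `PSLDih` for `PSL₂(q)`, `q = 4 m + ε`
-/

set_option autoImplicit false

namespace Cfsg.Agent.Ree.PSLDihMain

open Cfsg.Agent.Ree Subgroup Cfsg.Agent.Classification.BSW.Setup

/-- The centraliser of an involution in a group with `PSLData`. -/
theorem dih_of_data {L : Type*} [Group L] [Finite L] {A : Subgroup L} {t s : L} {m : ℕ}
    (h : BSWData A t s) (hcyc : IsCyclic A) (hcard : Nat.card A = 2 * m) (hm : Odd m) :
    LocalSetup.PSLDih L m := by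
  constructor
  intro w hw
  -- the odd part of `A`
  obtain ⟨a, ha⟩ := hcyc.exists_generator
  have hao : orderOf a = 2 * m := by
    rw [← hcard]; exact orderOf_eq_card_of_forall_mem_zpowers ha
  obtain ⟨Y, hYA, hYc, hYm, hcov, htY⟩ : ∃ Y : Subgroup L, Y ≤ A ∧ IsCyclic Y ∧ Nat.card Y = m ∧
      (∀ g ∈ A, ∃ y ∈ Y, g = y ∨ g = t * y) ∧ t ∉ Y := by
    have ho : orderOf ((a : L) ^ 2) = m := by
      have h1 : orderOf (a : L) = 2 * m := by rw [Subgroup.orderOf_coe]; exact hao
      rw [orderOf_pow_of_dvd (by norm_num) ⟨m, h1⟩, h1]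
      omega
    have hcardY : Nat.card (zpowers ((a : L) ^ 2)) = m := by rw [Nat.card_zpowers, ho]
    have htY : t ∉ zpowers ((a : L) ^ 2) := by
      intro ht
      have h1 : orderOf t = 2 := orderOf_eq_prime (by rw [pow_two]; exact h.t_sq) h.t_ne
      have h2 : orderOf t ∣ Nat.card (zpowers ((a : L) ^ 2)) := by
        have := orderOf_dvd_natCard (⟨t, ht⟩ : zpowers ((a : L) ^ 2))
        rwa [Subgroup.orderOf_mk] at this
      rw [hcardY, h1] at h2
      obtain ⟨k, hk⟩ := hm
      omega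
    refine ⟨zpowers ((a : L) ^ 2), ?_, inferInstance, hcardY, ?_, htY⟩
    · rw [zpowers_le]; exact pow_mem a.2 2
    · -- `A = Y ∪ t Y` by counting: `Y` has index two in `A`
      intro g hg
      have hle : zpowers ((a : L) ^ 2) ≤ A := by rw [zpowers_le]; exact pow_mem a.2 2
      have hidx : ((zpowers ((a : L) ^ 2)).subgroupOf A).index = 2 := by
        have h1 := ((zpowers ((a : L) ^ 2)).subgroupOf A).card_mul_index
        have h2 : Nat.card ((zpowers ((a : L) ^ 2)).subgroupOf A) = m := by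
          rw [Nat.card_congr (subgroupOfEquivOfLe hle).toEquiv, hcardY]
        rw [h2, hcard, mul_comm 2 m] at h1
        exact Nat.eq_of_mul_eq_mul_left (hm.pos) h1
      by_cases hgY : g ∈ zpowers ((a : L) ^ 2)
      · exact ⟨g, hgY, Or.inl rfl⟩
      · refine ⟨t⁻¹ * g, ?_, Or.inr (by rw [mul_inv_cancel_left])⟩
        have h3 := (Subgroup.mul_mem_iff_of_index_two hidx (a := ⟨t, h.t_mem⟩⁻¹) (b := ⟨g, hg⟩)).2
        have h4 : (⟨t, h.t_mem⟩⁻¹ * ⟨g, hg⟩ : A) ∈ (zpowers ((a : L) ^ 2)).subgroupOf A := by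
          apply h3
          constructor
          · intro h5
            exfalso; apply htY
            rw [inv_mem_iff] at h5
            exact mem_subgroupOf.1 h5
          · intro h5
            exact absurd (mem_subgroupOf.1 h5) hgY
        exact mem_subgroupOf.1 h4
  obtain ⟨k, hk⟩ := h.conj w (by rintro rfl; rw [orderOf_one] at hw; omega)
    (by rw [← pow_two, ← hw]; exact pow_orderOf_eq_one w)
  have hwk : w = k⁻¹ * t * k := by rw [← hk]; simp only [mul_assoc, inv_mul_cancel_left, inv_mul_cancel, mul_one]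
  have hconj : ∀ x y : L, k⁻¹ * x * k * (k⁻¹ * y * k) = k⁻¹ * (x * y) * k := by
    intro x y; simp only [mul_assoc, mul_inv_cancel_left]
  have hmem : ∀ g : L, g ∈ Y.map (MulAut.conj k⁻¹).toMonoidHom ↔ k * g * k⁻¹ ∈ Y := by
    intro g
    rw [mem_map]
    constructor
    · rintro ⟨x, hx, rfl⟩
      simp only [MulEquiv.coe_toMonoidHom, MulAut.conj_apply, inv_inv, mul_assoc, mul_inv_cancel, mul_one,
        mul_inv_cancel_left]
      exact hx
    · intro hg
      refine ⟨_, hg, ?_⟩
      simp only [MulEquiv.coe_toMonoidHom, MulAut.conj_apply, inv_inv, mul_assoc, inv_mul_cancel, mul_one,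
        inv_mul_cancel_left]
  -- transport of an element
  have hback : ∀ g : L, g = k⁻¹ * (k * g * k⁻¹) * k := by
    intro g; simp only [mul_assoc, inv_mul_cancel_left, inv_mul_cancel, mul_one]
  have hYt : ∀ y ∈ Y, t * y = y * t := fun y hy => h.comm t h.t_mem y (hYA hy)
  refine ⟨Y.map (MulAut.conj k⁻¹).toMonoidHom, k⁻¹ * s * k, ?_, ?_, ?_, ?_, ?_, ?_, ?_, ?_, ?_, ?_⟩
  · exact isCyclic_of_surjective _ (Y.equivMapOfInjective _ (MulAut.conj k⁻¹).injective).surjective
  · rw [← hYm]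
    exact Nat.card_congr (Y.equivMapOfInjective _ (MulAut.conj k⁻¹).injective).symm.toEquiv
  · rw [hconj, h.s_sq, mul_one, inv_mul_cancel]
  · intro h1
    apply h.s_not
    have h2 : s = 1 := by
      have := congrArg (fun z => k * z * k⁻¹) h1
      simpa only [mul_assoc, mul_inv_cancel_left, mul_inv_cancel, mul_one] using this
    rw [h2]; exact one_mem _
  · intro h1
    apply h.s_not
    have h2 : s = t := by
      rw [hwk] at h1
      exact mul_left_cancel (mul_right_cancel h1)
    rw [h2]; exact h.t_mem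
  · rw [hwk, hconj, hconj]
    have h1 := h.inv t h.t_mem
    have h2 : t⁻¹ = t := inv_eq_of_mul_eq_one_left h.t_sq
    rw [h2, mul_inv_eq_iff_eq_mul] at h1
    rw [h1]
  · intro y hy
    rw [hmem] at hy
    rw [hwk, hback y, hconj, hconj, hYt _ hy]
  · intro y hy
    rw [hmem] at hy
    have h1 := h.inv _ (hYA hy)
    rw [hback y]
    have h2 : (k⁻¹ * s * k)⁻¹ = k⁻¹ * s⁻¹ * k := by simp only [mul_inv_rev, inv_inv, mul_assoc]
    rw [h2, hconj, hconj, h1]
    simp only [mul_inv_rev, inv_inv, mul_assoc]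
  · intro g hg
    have h1 : (k * g * k⁻¹) * t = t * (k * g * k⁻¹) := by
      rw [hwk] at hg
      have := congrArg (fun z => k * z * k⁻¹) hg
      simp only [mul_assoc, mul_inv_cancel_left, mul_inv_cancel, mul_one] at this ⊢
      exact this
    rcases h.cent _ h1 with h2 | h2
    · obtain ⟨y, hy, h3 | h3⟩ := hcov _ h2
      · refine ⟨k⁻¹ * y * k, ?_, Or.inl ?_⟩
        · rw [hmem]; simpa only [mul_assoc, mul_inv_cancel_left, mul_inv_cancel, mul_one] using hy
        · rw [← h3]; exact hback g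
      · refine ⟨k⁻¹ * y * k, ?_, Or.inr (Or.inl ?_)⟩
        · rw [hmem]; simpa only [mul_assoc, mul_inv_cancel_left, mul_inv_cancel, mul_one] using hy
        · rw [hwk, hconj, ← h3]; exact hback g
    · -- `s g' ∈ A`, so `g' = a' s` with `a' ∈ A`
      have h4 : k * g * k⁻¹ = (s * (k * g * k⁻¹))⁻¹ * s := by
        have h5 := h.inv _ h2
        have h6 : s⁻¹ = s := inv_eq_of_mul_eq_one_left h.s_sq
        rw [← h5, h6]
        simp only [mul_assoc, h.s_sq, mul_one]
        rw [← mul_assoc s s, h.s_sq, one_mul]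
      obtain ⟨y, hy, h3 | h3⟩ := hcov _ (inv_mem h2)
      · refine ⟨k⁻¹ * y * k, ?_, Or.inr (Or.inr (Or.inl ?_))⟩
        · rw [hmem]; simpa only [mul_assoc, mul_inv_cancel_left, mul_inv_cancel, mul_one] using hy
        · rw [hconj, ← h3, ← h4]; exact hback g
      · refine ⟨k⁻¹ * y * k, ?_, Or.inr (Or.inr (Or.inr ?_))⟩
        · rw [hmem]; simpa only [mul_assoc, mul_inv_cancel_left, mul_inv_cancel, mul_one] using hy
        · rw [hwk, hconj, hconj, ← h3, ← h4]; exact hback g
  · intro y hy hy1 g hg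
    rw [hmem] at hy
    have hy1' : k * y * k⁻¹ ≠ 1 := by
      intro h1
      apply hy1
      rw [hback y, h1, mul_one, inv_mul_cancel]
    have h1 : (k * g * k⁻¹) * (k * y * k⁻¹) * (k * g * k⁻¹)⁻¹ = k * y * k⁻¹ := by
      rw [mul_inv_eq_iff_eq_mul]
      have := congrArg (fun z => k * z * k⁻¹) hg
      simp only [mul_assoc, inv_mul_cancel_left] at this ⊢
      exact this
    rcases h.ti (k * g * k⁻¹) _ (hYA hy) hy1' (by rw [h1]; exact hYA hy) with h2 | h2
    · obtain ⟨z, hz, h3 | h3⟩ := hcov _ h2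
      · refine ⟨k⁻¹ * z * k, ?_, Or.inl ?_⟩
        · rw [hmem]; simpa only [mul_assoc, mul_inv_cancel_left, mul_inv_cancel, mul_one] using hz
        · rw [← h3]; exact hback g
      · refine ⟨k⁻¹ * z * k, ?_, Or.inr ?_⟩
        · rw [hmem]; simpa only [mul_assoc, mul_inv_cancel_left, mul_inv_cancel, mul_one] using hz
        · rw [hwk, hconj, ← h3]; exact hback g
    · -- `s g'` lies in `A` and centralises `y'`, so `s` centralises `y'`, which it inverts
      exfalso
      have h5 : s * (k * g * k⁻¹) * (k * y * k⁻¹) = (k * y * k⁻¹) * (s * (k * g * k⁻¹)) :=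
        h.comm _ h2 _ (hYA hy)
      have h6 : (k * g * k⁻¹) * (k * y * k⁻¹) = (k * y * k⁻¹) * (k * g * k⁻¹) := mul_inv_eq_iff_eq_mul.1 h1
      have h7 : s * (k * y * k⁻¹) = (k * y * k⁻¹) * s := by
        have hgen : ∀ x g' : L, s * g' * x = x * (s * g') → g' * x = x * g' → s * x = x * s := by
          intro x g' e1 e2
          have e3 : s * x * g' = x * s * g' := by
            rw [mul_assoc, ← e2, ← mul_assoc, e1, mul_assoc]
          exact mul_right_cancel e3
        exact hgen _ _ h5 h6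
      have h8 := h.inv _ (hYA hy)
      rw [h7, mul_inv_cancel_right] at h8
      have h9 : (k * y * k⁻¹) ^ 2 = 1 := by
        rw [pow_two]; nth_rewrite 2 [h8]; exact mul_inv_cancel _
      have h10 : orderOf (k * y * k⁻¹) ∣ 2 := orderOf_dvd_of_pow_eq_one h9
      have h11 : orderOf (k * y * k⁻¹) ∣ m := by
        have := orderOf_dvd_natCard (⟨k * y * k⁻¹, hy⟩ : Y)
        rwa [Subgroup.orderOf_mk, hYm] at this
      have h12 : orderOf (k * y * k⁻¹) ∣ Nat.gcd 2 m := Nat.dvd_gcd h10 h11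
      have h13 : Nat.gcd 2 m = 1 := (Nat.coprime_two_left.2 hm)
      rw [h13] at h12
      exact hy1' (orderOf_eq_one_iff.1 (Nat.dvd_one.1 h12))

/-- `PSL₂(q)`, `q = 4 m + ε`. -/
theorem pslDih {F : Type*} [Field F] [Fintype F] (m : ℕ) (ε : ℤ) (hε : ε = 1 ∨ ε = -1) (hm : Odd m)
    (hq : (Fintype.card F : ℤ) = 4 * m + ε) :
    LocalSetup.PSLDih (Matrix.ProjectiveSpecialLinearGroup (Fin 2) F) m := by
  obtain ⟨A, B, t, s, r, h⟩ := PSLTori.exists_data (F := F) m ε hε hm hq
  exact dih_of_data h.bsw h.cyclic_A h.card_A hm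

end Cfsg.Agent.Ree.PSLDihMain
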