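import Cfsg.Agent.Ree.LocalFinal
import Cfsg.Agent.Ree.LocalSetup

/-!
# S0343, local part: `Interface.Good` from `LocalSetup.Local` and `C(y) = V Y`
-/

set_option autoImplicit false

namespace Cfsg.Agent.Ree.LocalGood

open Subgroup Cfsg.Agent.Ree

variable {G : Type*} [Group G]

/-- `s` centralises `V`: both lie in a group of exponent two. -/
theorem s_comm {F : Type*} [Field F] [Fintype F] {t s ρ : G} {S : Sylow 2 G} {L Ls V Y : Subgroup G}
    {m : ℕ} {ε : ℤ} (h : LocalSetup.Local F t s ρ S L Ls V Y m ε) : ∀ v ∈ V, s * v = v * s := by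
  intro v hv
  have h1 := h.sylow_exp S s h.s_mem
  have h2 := h.sylow_exp S v (h.V_le hv)
  have h3 := h.sylow_exp S (s * v) (mul_mem h.s_mem (h.V_le hv))
  have h4 : (s * v)⁻¹ = s * v := inv_eq_of_mul_eq_one_left h3
  rw [mul_inv_rev, inv_eq_of_mul_eq_one_left h1, inv_eq_of_mul_eq_one_left h2] at h4
  exact h4.symm

/-- The complete local data. -/
theorem good_of_local [Finite G] {F : Type*} [Field F] [Fintype F] {t s ρ : G} {S : Sylow 2 G}
    {L Ls V Y : Subgroup G} {m : ℕ} {ε : ℤ} (h : LocalSetup.Local F t s ρ S L Ls V Y m ε) (hm : 1 < m)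
    (cent_y : ∀ y ∈ Y, y ≠ 1 → Subgroup.centralizer ({y} : Set G) = V ⊔ Y) :
    Interface.Good F t L V Y m ε := by
  have hodd : Odd (Nat.card Y) := by rw [h.Y_card]; exact h.odd_m
  have hs2 : s * s = 1 := by rw [← pow_two, ← h.ord_s]; exact pow_orderOf_eq_one s
  exact
    { eps := h.eps
      card_F := h.card_F
      odd_m := h.odd_m
      one_lt_m := hm
      ord_t := h.ord_t
      L_le := h.L_le
      t_not_mem := h.t_not_mem
      cover := h.cover
      iso := h.iso
      conj := h.conj
      sylow_card := h.sylow_card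
      sylow_exp := h.sylow_exp
      V_card := h.V_card
      V_exp := h.V_exp
      t_mem_V := h.t_mem_V
      Y_le := h.Y_le
      Y_cent := h.Y_cent
      Y_cyclic := h.Y_cyclic
      Y_card := h.Y_card
      cent_y := cent_y
      card_cent_V := h.card_cent_V
      card_norm_V := h.card_norm_V
      ti := LocalFinal.ti_of h.Y_cent h.V_exp hodd cent_y
      inv_count := by
        intro v hv y hy hy1
        have h1 := LocalFinal.inv_count_of h.Y_cent h.V_exp hodd cent_y hs2 (s_comm h) h.s_inv v hv y hy hy1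
        rw [h.V_card, h.Y_card] at h1
        exact h1 }

end Cfsg.Agent.Ree.LocalGood
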