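import Cfsg.Agent.Ree.Split
import Cfsg.Agent.Blocks.PrincipalSection
import Cfsg.Agent.Blocks.PPart
import Cfsg.Agent.S0145

/-!
# Rows of the characters of `G` at the section of an involution `t` with `C(t) = ⟨t⟩ × L`

`Tau M τ` : the four signed characters `τ 0 = 1`, `τ 1`, `τ 2`, `τ 3` of the principal `2`-block of `L`, equal to `1` on
the elements of even order, with sum `0` on the elements of odd order.

`r t L τ i χ` is the scalar product of the restriction of `χ` to `C(t)` with `(1 - sgn) ⊗ (τ (i+1) - τ 0)`.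
-/

set_option autoImplicit false

open Cfsg Cfsg.Agent.Characters.Core Cfsg.Agent.Blocks.Local
open Cfsg.Agent.Blocks.Basic (isIrrCharacter_one)
open scoped ComplexConjugate

namespace Cfsg.Agent.Ree.Rows

/-- The signed characters of the principal `2`-block of `L`. -/
structure Tau {L : Type*} [Group L] (M : Ideal AlgInt) (τ : Fin 4 → L → ℂ) : Prop where
  irr : ∀ i, IsIrrCharacter L (τ i) ∨ IsIrrCharacter L (-τ i)
  zero : τ 0 = fun _ => 1
  inj : ∀ i j, i ≠ j → τ i ≠ τ j ∧ τ i ≠ -τ j
  block : ∀ ρ : IrrCharacter L,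
    ρ ∈ principalBlock M L ↔ ∃ i, (ρ : L → ℂ) = τ i ∨ (ρ : L → ℂ) = -τ i
  even : ∀ i l, 2 ∣ orderOf l → τ i l = 1
  odd : ∀ l, ¬ 2 ∣ orderOf l → ∑ i, τ i l = 0

/-- `C(t) = ⟨t⟩ × L`, `t` an involution. -/
structure Setup {G : Type*} [Group G] (t : G) (L : Subgroup G) : Prop where
  ord_t : orderOf t = 2
  L_le : L ≤ Subgroup.centralizer ({t} : Set G)
  t_not_mem : t ∉ L
  cover : ∀ g ∈ Subgroup.centralizer ({t} : Set G), g ∈ L ∨ t * g ∈ L

/-- The rows. -/
noncomputable def r {G : Type*} [Group G] (t : G) (L : Subgroup G) (τ : Fin 4 → L → ℂ) (i : Fin 3)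
    (χ : IrrCharacter G) : ℤ :=
  ⌊((Nat.card L : ℂ)⁻¹ * ∑ᶠ l : L, (χ : G → ℂ) (t * l) * conj (τ i.succ l - 1)).re⌋

section TauLemmas

variable {L : Type*} [Group L] {M : Ideal AlgInt} {τ : Fin 4 → L → ℂ}

theorem Tau.classInner [Fintype L] (h : Tau M τ) (i j : Fin 4) :
    classInner (τ i) (τ j) = if i = j then 1 else 0 := by
  by_cases hij : i = j
  · subst hij
    rw [if_pos rfl]
    rcases h.irr i with h1 | h1
    · exact classInner_irr_self h1
    · have := classInner_irr_self h1
      rwa [classInner_neg_left, classInner_neg_right, neg_neg] at this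
  · rw [if_neg hij]
    obtain ⟨h2, h3⟩ := h.inj i j hij
    rcases h.irr i with h4 | h4 <;> rcases h.irr j with h5 | h5
    · exact classInner_irr_ne h4 h5 h2
    · have := classInner_irr_ne h4 h5 h3
      rwa [classInner_neg_right, neg_eq_zero] at this
    · have := classInner_irr_ne h4 h5 (fun h6 => h3 (by rw [← h6, neg_neg]))
      rwa [classInner_neg_left, neg_eq_zero] at this
    · have := classInner_irr_ne h4 h5 (fun h6 => h2 (neg_injective h6))
      rwa [classInner_neg_left, classInner_neg_right, neg_neg] at this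

theorem Tau.isClassFunction (h : Tau M τ) (i : Fin 4) : IsClassFunction L (τ i) := by
  rcases h.irr i with h1 | h1
  · exact isIrr_isClassFunction h1
  · intro g k
    have := isIrr_isClassFunction h1 g k
    simpa using this

open Classical in
/-- Sums over the principal block of `L`. -/
theorem Tau.sum_block [Fintype (IrrCharacter L)] (h : Tau M τ) (F : (L → ℂ) → ℂ)
    (hF : ∀ f, F (-f) = F f) :
    ∑ ρ : IrrCharacter L with ρ ∈ principalBlock M L, F ρ = ∑ i, F (τ i) := by
  let e : Fin 4 → IrrCharacter L := fun i =>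
    if h1 : IsIrrCharacter L (τ i) then ⟨τ i, h1⟩ else ⟨-τ i, (h.irr i).resolve_left h1⟩
  have he : ∀ i, ((e i : IrrCharacter L) : L → ℂ) = τ i ∨ ((e i : IrrCharacter L) : L → ℂ) = -τ i := by
    intro i
    by_cases h1 : IsIrrCharacter L (τ i)
    · left; simp only [e, dif_pos h1]
    · right; simp only [e, dif_neg h1]
  have hinj : Function.Injective e := by
    intro i j hij
    by_contra hne
    obtain ⟨h2, h3⟩ := h.inj i j hne
    have h4 := congrArg Subtype.val hij
    rcases he i with h5 | h5 <;> rcases he j with h6 | h6 <;> rw [h5, h6] at h4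
    · exact h2 h4
    · exact h3 h4
    · exact h3 (by rw [← h4, neg_neg])
    · exact h2 (neg_injective h4)
  have himg : (Finset.univ.filter (fun ρ : IrrCharacter L => ρ ∈ principalBlock M L)) =
      Finset.univ.image e := by
    ext ρ
    rw [Finset.mem_filter, Finset.mem_image]
    constructor
    · rintro ⟨-, h1⟩
      obtain ⟨i, hi⟩ := (h.block ρ).1 h1
      refine ⟨i, Finset.mem_univ _, ?_⟩
      have hρ := ρ.2
      have hneg : ∀ f : L → ℂ, IsIrrCharacter L f → ¬ IsIrrCharacter L (-f) := by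
        intro f hf hf'
        obtain ⟨n, hn, hn'⟩ := isIrr_apply_one hf
        obtain ⟨m, hm, hm'⟩ := isIrr_apply_one hf'
        rw [Pi.neg_apply, hn'] at hm'
        have : ((n + m : ℕ) : ℂ) = 0 := by push_cast; rw [← hm']; ring
        rw [Nat.cast_eq_zero] at this
        omega
      apply Subtype.ext
      rcases he i with h5 | h5 <;> rcases hi with h6 | h6
      · rw [h5, h6]
      · exfalso
        have h7 := (e i).2
        rw [h5] at h7
        rw [h6] at hρ
        exact hneg _ h7 hρ
      · exfalso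
        have h7 := (e i).2
        rw [h5] at h7
        rw [h6] at hρ
        exact hneg _ hρ h7
      · rw [h5, h6]
    · rintro ⟨i, -, rfl⟩
      exact ⟨Finset.mem_univ _, (h.block _).2 ⟨i, he i⟩⟩
  rw [himg, Finset.sum_image (fun _ _ _ _ h' => hinj h')]
  refine Finset.sum_congr rfl fun i _ => ?_
  rcases he i with h5 | h5 <;> rw [h5]
  exact hF _

theorem Tau.sub_zero_even (h : Tau M τ) (i : Fin 4) {l : L} (hl : 2 ∣ orderOf l) :
    (τ i - τ 0) l = 0 := by
  rw [Pi.sub_apply, h.even i l hl, h.even 0 l hl, sub_self]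

theorem Tau.isClassFunction_sub (h : Tau M τ) (i j : Fin 4) : IsClassFunction L (τ i - τ j) := by
  intro g k
  rw [Pi.sub_apply, Pi.sub_apply, h.isClassFunction i g k, h.isClassFunction j g k]

end TauLemmas

/-- Expansion of a sum of products of inner products. -/
theorem sum_inner_mul {L ι : Type*} [Group L] [Fintype L] [Fintype ι] (Φ : ι → L → ℂ)
    (a b : L → ℂ) :
    ∑ x, classInner (Φ x) a * conj (classInner (Φ x) b) =
      (Nat.card L : ℂ)⁻¹ * (Nat.card L : ℂ)⁻¹ *
        ∑ l : L, ∑ l' : L, conj (a l) * b l' * ∑ x, Φ x l * conj (Φ x l') := by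
  have h1 : ∀ x, classInner (Φ x) a * conj (classInner (Φ x) b) =
      (Nat.card L : ℂ)⁻¹ * (Nat.card L : ℂ)⁻¹ *
        ∑ l : L, ∑ l' : L, conj (a l) * b l' * (Φ x l * conj (Φ x l')) := by
    intro x
    rw [classInner_def, classInner_def, map_mul, map_inv₀, map_natCast, map_sum, mul_mul_mul_comm,
      Finset.sum_mul_sum]
    congr 1
    refine Finset.sum_congr rfl fun l _ => Finset.sum_congr rfl fun l' _ => ?_
    rw [map_mul, Complex.conj_conj]
    ring
  rw [Finset.sum_congr rfl fun x _ => h1 x, ← Finset.mul_sum]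
  congr 1
  rw [Finset.sum_comm]
  refine Finset.sum_congr rfl fun l _ => ?_
  rw [Finset.sum_comm]
  refine Finset.sum_congr rfl fun l' _ => ?_
  rw [Finset.mul_sum]

/-- Second orthogonality relations of the centralizer of a `p`-element. -/
theorem column_centralizer {G : Type*} [Group G] [Finite G] {p : ℕ} [Fact p.Prime]
    [Fintype (IrrCharacter G)] {z : G} {H : Subgroup G} [Fintype (IrrCharacter H)]
    (hH : H = Subgroup.centralizer ({z} : Set G)) (c c' : H)
    (hc : IsPPart p (c : G) z) (hc' : IsPPart p (c' : G) z) :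
    ∑ ζ : IrrCharacter G, (ζ : G → ℂ) (c : G) * conj ((ζ : G → ℂ) (c' : G)) =
      ∑ ξ : IrrCharacter H, (ξ : H → ℂ) c * conj ((ξ : H → ℂ) c') := by
  classical
  have := Fintype.ofFinite G
  rw [S0145.sum_irr_mul_conj, S0145.sum_irr_mul_conj]
  have hiff : IsConj (c : G) (c' : G) ↔ IsConj c c' := by
    constructor
    · intro h
      obtain ⟨w, hw⟩ := isConj_iff.1 h
      have hwH : w ∈ H := hH ▸ Blocks.PPart.mem_centralizer_of_conj hc hc' hw
      refine isConj_iff.2 ⟨⟨w, hwH⟩, Subtype.ext ?_⟩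
      simpa using hw
    · intro h
      obtain ⟨w, hw⟩ := isConj_iff.1 h
      refine isConj_iff.2 ⟨w, ?_⟩
      rw [← hw]
      simp
  have hcen : Nat.card (Subgroup.centralizer ({(c' : G)} : Set G)) =
      Nat.card (Subgroup.centralizer ({c'} : Set H)) := by
    have hmap : Subgroup.centralizer ({(c' : G)} : Set G) =
        (Subgroup.centralizer ({c'} : Set H)).map H.subtype := by
      ext w
      constructor
      · intro hw
        have h1 : w * (c' : G) * w⁻¹ = (c' : G) := by
          rw [Subgroup.mem_centralizer_singleton_iff.1 hw]; group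
        have hwH : w ∈ H := hH ▸ Blocks.PPart.mem_centralizer_of_conj hc' hc' h1
        refine ⟨⟨w, hwH⟩, ?_, rfl⟩
        refine Subgroup.mem_centralizer_singleton_iff.2 (Subtype.ext ?_)
        exact Subgroup.mem_centralizer_singleton_iff.1 hw
      · rintro ⟨w, hw, rfl⟩
        rw [Subgroup.mem_centralizer_singleton_iff]
        exact congrArg Subtype.val (Subgroup.mem_centralizer_singleton_iff.1 hw)
    rw [hmap]
    exact (Nat.card_congr ((Subgroup.centralizer ({c'} : Set H)).equivMapOfInjective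
      H.subtype H.subtype_injective).toEquiv).symm
  rw [hcen]
  simp only [hiff]

section Main

variable {G : Type*} [Group G] [Finite G] {t : G} {L : Subgroup G} {M : Ideal AlgInt}
  {τ : Fin 4 → L → ℂ}

omit [Finite G] in
theorem isPPart_mul (S : Setup t L) {l : L} (hl : ¬ 2 ∣ orderOf l) : IsPPart 2 (t * (l : G)) t :=
  Blocks.PPart.isPPart_mul (Subgroup.mem_centralizer_singleton_iff.1 (S.L_le l.2)).symm
    ⟨1, by rw [S.ord_t, pow_one]⟩ (by rwa [Subgroup.orderOf_coe])

/-- Second orthogonality on the section of `t`. -/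
theorem column (S : Setup t L) [Fintype (IrrCharacter G)] [Fintype (IrrCharacter L)] (l l' : L)
    (hl : ¬ 2 ∣ orderOf l) (hl' : ¬ 2 ∣ orderOf l') :
    ∑ ζ : IrrCharacter G, (ζ : G → ℂ) (t * l) * conj ((ζ : G → ℂ) (t * l')) =
      2 * ∑ ρ : IrrCharacter L, (ρ : L → ℂ) l * conj ((ρ : L → ℂ) l') := by
  have : Fact (Nat.Prime 2) := ⟨Nat.prime_two⟩
  obtain ⟨π, ι, z, hs, hz, hι⟩ := Split.exists_split (H := Subgroup.centralizer ({t} : Set G))
    S.ord_t rfl S.L_le S.t_not_mem S.cover
  have := Fintype.ofFinite G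
  have := Fintype.ofFinite L
  have := Fintype.ofFinite (Subgroup.centralizer ({t} : Set G))
  have : Finite (IrrCharacter (Subgroup.centralizer ({t} : Set G))) := finite_irr
  have := Fintype.ofFinite (IrrCharacter (Subgroup.centralizer ({t} : Set G)))
  have hc : ∀ k : L, ((z * ι k : Subgroup.centralizer ({t} : Set G)) : G) = t * k := by
    intro k
    rw [Subgroup.coe_mul, hz, hι]
  have h1 := column_centralizer (p := 2) rfl (z * ι l) (z * ι l')
    (by rw [hc]; exact isPPart_mul S hl) (by rw [hc]; exact isPPart_mul S hl')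
  rw [hc, hc] at h1
  rw [h1, hs.sum_irr_mul_conj]

/-- Products of the vectors `χ ↦ (χ (t ·), a)`. -/
theorem gram_vec (S : Setup t L) [Fintype L] [Fintype (IrrCharacter G)] {a b : L → ℂ}
    (ha : IsClassFunction L a) (hb : IsClassFunction L b) (ha0 : ∀ l, 2 ∣ orderOf l → a l = 0)
    (hb0 : ∀ l, 2 ∣ orderOf l → b l = 0) :
    ∑ ζ : IrrCharacter G, classInner (fun l : L => (ζ : G → ℂ) (t * l)) a *
      conj (classInner (fun l : L => (ζ : G → ℂ) (t * l)) b) = 2 * classInner b a := by
  have : Finite (IrrCharacter L) := finite_irr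
  have := Fintype.ofFinite (IrrCharacter L)
  rw [sum_inner_mul (fun (ζ : IrrCharacter G) (l : L) => (ζ : G → ℂ) (t * l)) a b]
  have h1 := sum_inner_mul (fun (ρ : IrrCharacter L) (l : L) => (ρ : L → ℂ) l) a b
  have h2 : ∑ ρ : IrrCharacter L, classInner (fun l => (ρ : L → ℂ) l) a *
      conj (classInner (fun l => (ρ : L → ℂ) l) b) = classInner b a := by
    rw [classInner_eq_sum hb ha]
    refine Finset.sum_congr rfl fun ρ _ => ?_
    rw [classInner_conj_symm, classInner_conj_symm, mul_comm]
  rw [← h2, h1, mul_left_comm]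
  congr 1
  rw [Finset.mul_sum]
  refine Finset.sum_congr rfl fun l _ => ?_
  rw [Finset.mul_sum]
  refine Finset.sum_congr rfl fun l' _ => ?_
  by_cases hl : 2 ∣ orderOf l
  · rw [ha0 l hl, map_zero, zero_mul, zero_mul, zero_mul, mul_zero]
  by_cases hl' : 2 ∣ orderOf l'
  · rw [hb0 l' hl', mul_zero, zero_mul, zero_mul, mul_zero]
  rw [column S l l' hl hl']
  ring

/-- Product with the degrees. -/
theorem vec_deg (S : Setup t L) [Fintype L] [Fintype (IrrCharacter G)] (a : L → ℂ) :
    ∑ ζ : IrrCharacter G, classInner (fun l : L => (ζ : G → ℂ) (t * l)) a *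
      conj ((ζ : G → ℂ) 1) = 0 := by
  classical
  have := Fintype.ofFinite G
  simp only [classInner_def, mul_assoc, Finset.sum_mul]
  rw [← Finset.mul_sum, Finset.sum_comm]
  refine mul_eq_zero_of_right _ (Finset.sum_eq_zero fun l _ => ?_)
  have h1 := S0145.sum_irr_mul_conj (G := G) (t * l) 1
  rw [if_neg] at h1
  · calc _ = conj (a l) * ∑ ζ : IrrCharacter G, (ζ : G → ℂ) (t * l) * conj ((ζ : G → ℂ) 1) := by
          rw [Finset.mul_sum]
          exact Finset.sum_congr rfl fun _ _ => by ring
      _ = 0 := by rw [h1, mul_zero]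
  · intro h
    have h2 : t * (l : G) = 1 := isConj_one_left.1 h
    apply S.t_not_mem
    rw [eq_inv_of_mul_eq_one_left h2]
    exact inv_mem l.2

/-- The multiplicities are integers. -/
theorem exists_int (S : Setup t L) (h : Tau M τ) [Fintype L] (i : Fin 4) (χ : IrrCharacter G) :
    ∃ n : ℤ, (n : ℂ) = classInner (fun l : L => (χ : G → ℂ) (t * l)) (τ i) := by
  obtain ⟨π, ι, z, hs, hz, hι⟩ := Split.exists_split (H := Subgroup.centralizer ({t} : Set G))
    S.ord_t rfl S.L_le S.t_not_mem S.cover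
  have := Fintype.ofFinite (Subgroup.centralizer ({t} : Set G))
  have key : ∀ ρ : L → ℂ, IsIrrCharacter L ρ →
      ∃ n : ℤ, (n : ℂ) = classInner (fun l : L => (χ : G → ℂ) (t * l)) ρ := by
    intro ρ hρ
    have hχ : IsCharacter (Subgroup.centralizer ({t} : Set G))
        (fun h => (χ : G → ℂ) (h : G)) :=
      isCharacter_comp (Subgroup.centralizer ({t} : Set G)).subtype (isIrr_isCharacter χ.2)
    obtain ⟨n, hn⟩ := classInner_isNat hχ (isIrr_isCharacter (hs.isIrr_ext false hρ))
    obtain ⟨m, hm⟩ := classInner_isNat hχ (isIrr_isCharacter (hs.isIrr_ext true hρ))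
    refine ⟨(n : ℤ) - m, ?_⟩
    have h1 := hs.classInner_ext_sub (fun h => (χ : G → ℂ) (h : G)) ρ
    rw [hn, hm] at h1
    push_cast
    rw [h1]
    congr 1
    funext l
    rw [Subgroup.coe_mul, hz, hι]
  rcases h.irr i with h1 | h1
  · exact key _ h1
  · obtain ⟨n, hn⟩ := key _ h1
    refine ⟨-n, ?_⟩
    rw [classInner_neg_right] at hn
    push_cast
    rw [hn, neg_neg]

theorem r_eq_classInner (S : Setup t L) (h : Tau M τ) [Fintype L] (i : Fin 3)
    (χ : IrrCharacter G) :
    (r t L τ i χ : ℂ) = classInner (fun l : L => (χ : G → ℂ) (t * l)) (τ i.succ - τ 0) := by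
  obtain ⟨n, hn⟩ := exists_int S h i.succ χ
  obtain ⟨m, hm⟩ := exists_int S h 0 χ
  have h1 : classInner (fun l : L => (χ : G → ℂ) (t * l)) (τ i.succ - τ 0) = ((n - m : ℤ) : ℂ) := by
    rw [classInner_sub_right, ← hn, ← hm, Int.cast_sub]
  have h2 : (Nat.card L : ℂ)⁻¹ * ∑ᶠ l : L, (χ : G → ℂ) (t * l) * conj (τ i.succ l - 1) =
      ((n - m : ℤ) : ℂ) := by
    rw [← h1, classInner_def, finsum_eq_sum_of_fintype, h.zero]
    rfl
  rw [h1, r, h2]
  norm_cast
  simp

theorem r_def (S : Setup t L) (h : Tau M τ) [Fintype L] (i : Fin 3) (χ : IrrCharacter G) :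
    (r t L τ i χ : ℂ) =
      (Nat.card L : ℂ)⁻¹ * ∑ l : L, (χ : G → ℂ) (t * l) * conj (τ i.succ l - 1) := by
  rw [r_eq_classInner S h, classInner_def, h.zero]
  rfl

theorem r_one (S : Setup t L) (h : Tau M τ) (i : Fin 3) (χ : IrrCharacter G)
    (hχ : (χ : G → ℂ) = fun _ => 1) : r t L τ i χ = -1 := by
  have := Fintype.ofFinite L
  have h1 := r_eq_classInner S h i χ
  have h2 : (fun l : L => (χ : G → ℂ) (t * l)) = τ 0 := by
    rw [hχ, h.zero]
  rw [h2, classInner_sub_right, h.classInner, h.classInner, if_neg (Fin.succ_ne_zero i).symm,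
    if_pos rfl] at h1
  exact_mod_cast h1.trans (by norm_num : (0 : ℂ) - 1 = ((-1 : ℤ) : ℂ))

theorem gram (S : Setup t L) (h : Tau M τ) [Fintype (IrrCharacter G)] (i j : Fin 3) :
    ∑ χ : IrrCharacter G, r t L τ i χ * r t L τ j χ = if i = j then 4 else 2 := by
  have := Fintype.ofFinite L
  have h1 := gram_vec S (h.isClassFunction_sub i.succ 0) (h.isClassFunction_sub j.succ 0)
    (fun l hl => h.sub_zero_even i.succ hl) (fun l hl => h.sub_zero_even j.succ hl)
  simp only [← r_eq_classInner S h] at h1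
  rw [classInner_sub_left, classInner_sub_right, classInner_sub_right, h.classInner, h.classInner,
    h.classInner, h.classInner, if_neg (Fin.succ_ne_zero j), if_neg (Fin.succ_ne_zero i).symm,
    if_pos rfl] at h1
  simp only [map_intCast] at h1
  by_cases hij : i = j
  · subst hij
    rw [if_pos rfl] at h1 ⊢
    exact_mod_cast h1.trans (by norm_num : (2 : ℂ) * (1 - 0 - (0 - 1)) = ((4 : ℤ) : ℂ))
  · rw [if_neg hij]
    rw [if_neg (fun h' => hij (Fin.succ_injective _ h').symm)] at h1
    exact_mod_cast h1.trans (by norm_num : (2 : ℂ) * (0 - 0 - (0 - 1)) = ((2 : ℤ) : ℂ))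

theorem r_deg (S : Setup t L) (h : Tau M τ) [Fintype (IrrCharacter G)] (i : Fin 3) :
    ∑ χ : IrrCharacter G, (r t L τ i χ : ℂ) * (χ : G → ℂ) 1 = 0 := by
  have := Fintype.ofFinite L
  have h1 := vec_deg S (τ i.succ - τ 0)
  simp only [← r_eq_classInner S h] at h1
  rw [← h1]
  refine Finset.sum_congr rfl fun χ _ => ?_
  obtain ⟨n, -, hn⟩ := isIrr_apply_one χ.2
  rw [hn, map_natCast]

open Classical in
/-- The component of a section in the principal block. -/
theorem sum_tau (hM : IsPModular 2 M) (S : Setup t L) (h : Tau M τ) [Fintype L]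
    (χ : IrrCharacter G) (l : L) (hl : ¬ 2 ∣ orderOf l) :
    ∑ i, classInner (fun l : L => (χ : G → ℂ) (t * l)) (τ i) * τ i l =
      if χ ∈ principalBlock M G then (χ : G → ℂ) (t * l) else 0 := by
  have : Fact (Nat.Prime 2) := ⟨Nat.prime_two⟩
  obtain ⟨π, ι, z, hs, hz, hι⟩ := Split.exists_split (H := Subgroup.centralizer ({t} : Set G))
    S.ord_t rfl S.L_le S.t_not_mem S.cover
  have := Fintype.ofFinite G
  have := Fintype.ofFinite (Subgroup.centralizer ({t} : Set G))
  have : Finite (IrrCharacter (Subgroup.centralizer ({t} : Set G))) := finite_irr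
  have := Fintype.ofFinite (IrrCharacter (Subgroup.centralizer ({t} : Set G)))
  have : Finite (IrrCharacter L) := finite_irr
  have := Fintype.ofFinite (IrrCharacter L)
  have hord : ∃ k : ℕ, orderOf t = 2 ^ k := ⟨1, by rw [S.ord_t, pow_one]⟩
  have h1 := Blocks.CentralizerSum.sum_components hM t hord
    (H := Subgroup.centralizer ({t} : Set G)) rfl
    Blocks.PrincipalSection.isPBlock_principalBlock
    (Blocks.PrincipalSection.mem_principalBlock_iff_induced hM t hord rfl) (ι l)
    (by rw [← Subgroup.orderOf_coe, hι, Subgroup.orderOf_coe]; exact hl) χ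
  rw [hs.sum_principalBlock hM, hι] at h1
  rw [← h1]
  symm
  have h2 : (fun l : L => (χ : G → ℂ) (t * ((ι l : Subgroup.centralizer ({t} : Set G)) : G))) =
      fun l : L => (χ : G → ℂ) (t * l) := by
    funext k
    rw [hι]
  rw [h2]
  exact h.sum_block (fun f => classInner (fun l : L => (χ : G → ℂ) (t * l)) f * f l)
    (fun f => by rw [classInner_neg_right, Pi.neg_apply, neg_mul_neg])

/-- The rows vanish outside of the principal block. -/
theorem r_eq_zero (hM : IsPModular 2 M) (S : Setup t L) (h : Tau M τ) (i : Fin 3)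
    (χ : IrrCharacter G) (hχ : χ ∉ principalBlock M G) : r t L τ i χ = 0 := by
  classical
  have := Fintype.ofFinite L
  have h1 : (r t L τ i χ : ℂ) = classInner
      (∑ j, classInner (fun l : L => (χ : G → ℂ) (t * l)) (τ j) • τ j) (τ i.succ - τ 0) := by
    rw [r_eq_classInner S h, classInner_sub_right, classInner_sub_right, classInner_sum_left,
      classInner_sum_left]
    simp only [classInner_smul_left, h.classInner, mul_ite, mul_one, mul_zero, Finset.sum_ite_eq',
      Finset.mem_univ, if_true]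
  have h2 : classInner
      (∑ j, classInner (fun l : L => (χ : G → ℂ) (t * l)) (τ j) • τ j) (τ i.succ - τ 0) = 0 := by
    rw [classInner_def]
    refine mul_eq_zero_of_right _ (Finset.sum_eq_zero fun l _ => ?_)
    by_cases hl : 2 ∣ orderOf l
    · rw [h.sub_zero_even i.succ hl, map_zero, mul_zero]
    · have h3 := sum_tau hM S h χ l hl
      rw [if_neg hχ] at h3
      rw [Finset.sum_apply]
      simp only [Pi.smul_apply, smul_eq_mul]
      rw [h3, zero_mul]
  rw [h2] at h1
  exact_mod_cast h1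

/-- Values on the section in terms of the row. -/
theorem val_section (hM : IsPModular 2 M) (S : Setup t L) (h : Tau M τ)
    (χ : IrrCharacter G) (hχ : χ ∈ principalBlock M G) (l : L) (hl : ¬ 2 ∣ orderOf l) :
    (χ : G → ℂ) (t * l) = ∑ i : Fin 3, (r t L τ i χ : ℂ) * τ i.succ l := by
  classical
  have := Fintype.ofFinite L
  have h1 := sum_tau hM S h χ l hl
  rw [if_pos hχ] at h1
  have h2 := h.odd l hl
  rw [Fin.sum_univ_succ] at h1 h2
  rw [← h1]
  simp only [r_eq_classInner S h, classInner_sub_right, sub_mul, Finset.sum_sub_distrib]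
  rw [← Finset.mul_sum]
  linear_combination classInner (fun l : L => (χ : G → ℂ) (t * l)) (τ 0) * h2

theorem val_section' (hM : IsPModular 2 M) (S : Setup t L) (h : Tau M τ)
    (χ : IrrCharacter G) (hχ : ∃ i, r t L τ i χ ≠ 0) (l : L) (hl : ¬ 2 ∣ orderOf l) :
    (χ : G → ℂ) (t * l) = ∑ i : Fin 3, (r t L τ i χ : ℂ) * τ i.succ l := by
  refine val_section hM S h χ ?_ l hl
  by_contra h1
  obtain ⟨i, hi⟩ := hχ
  exact hi (r_eq_zero hM S h i χ h1)

end Main

end Cfsg.Agent.Ree.Rows
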