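import Cfsg.Agent.Ree.Local2
import Cfsg.Agent.Ree.LocalGood
import Cfsg.Agent.Ree.PSLTauMain

/-!
# S0343, local part: the type of `ρ`, and `C_G(y) = V Y` from `LocalSetup.Local`
-/

set_option autoImplicit false

namespace Cfsg.Agent.Ree.RhoType

open Subgroup Cfsg.Agent.Ree Cfsg.Agent.Ree.PSLCharDef Cfsg.Agent.Classification.BSW.Setup

/-- An element of order `p` is conjugate into a subgroup of index prime to `p`. -/
theorem conj_into {H : Type*} [Group H] [Finite H] {p : ℕ} [Fact p.Prime] (A : Subgroup H) (hA : ¬ p ∣ A.index)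
    {x : H} (hx : orderOf x = p) : ∃ g : H, g * x * g⁻¹ ∈ A := by
  obtain ⟨P⟩ : Nonempty (Sylow p A) := inferInstance
  have hcard : Nat.card (((P : Subgroup A).map A.subtype)) = p ^ (Nat.card H).factorization p := by
    rw [Nat.card_congr ((P : Subgroup A).equivMapOfInjective _ A.subtype_injective).symm.toEquiv]
    rw [Sylow.card_eq_multiplicity]
    congr 1
    rw [← A.card_mul_index, Nat.factorization_mul Nat.card_pos.ne' (Subgroup.index_ne_zero_of_finite),
      Finsupp.add_apply, Nat.factorization_eq_zero_of_not_dvd hA, add_zero]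
  have hzp : IsPGroup p (zpowers x) := by
    refine IsPGroup.of_card (n := 1) ?_
    rw [Nat.card_zpowers, hx, pow_one]
  obtain ⟨Q, hQ⟩ := hzp.exists_le_sylow
  obtain ⟨c, hc⟩ := MulAction.exists_smul_eq H Q (Sylow.ofCard _ hcard)
  refine ⟨c, ?_⟩
  have h1 : c * x * c⁻¹ ∈ (c • Q : Sylow p H) := by
    change c * x * c⁻¹ ∈ ((c • Q : Sylow p H) : Subgroup H)
    rw [Sylow.coe_subgroup_smul]
    exact ⟨x, hQ (mem_zpowers _), rfl⟩
  rw [hc] at h1
  have h2 : c * x * c⁻¹ ∈ ((P : Subgroup A).map A.subtype) := h1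
  obtain ⟨a, -, ha⟩ := h2
  rw [← ha]
  exact a.2

/-- The centraliser of an element of order three in `PSL₂(q)` when `3` does not divide `m`. -/
theorem card_centralizer_three {L : Type*} [Group L] [Finite L] {A B : Subgroup L} {t s r : L} {m : ℕ} {ε : ℤ}
    (D : PSLData A B t s r m ε) (hm3 : ¬ 3 ∣ m) {x : L} (hx : orderOf x = 3) :
    (Nat.card (centralizer ({x} : Set L)) : ℤ) = 2 * m + ε ∨
      (Nat.card (centralizer ({x} : Set L)) : ℤ) = 4 * m + ε := by
  have hx1 : x ≠ 1 := by
    rintro rfl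
    rw [orderOf_one] at hx
    norm_num at hx
  by_cases hA : ConjIn A x
  · exfalso
    obtain ⟨g, hg⟩ := hA
    have h1 : orderOf (g * x * g⁻¹) = 3 := by
      rw [← hx]
      exact orderOf_injective (MulAut.conj g).toMonoidHom (MulAut.conj g).injective x
    have h2 := orderOf_dvd_natCard (⟨g * x * g⁻¹, hg⟩ : A)
    rw [Subgroup.orderOf_mk, h1, D.card_A] at h2
    exact hm3 ((Nat.Coprime.dvd_mul_left (by norm_num)).1 h2)
  by_cases hB : ConjIn B x
  · left
    obtain ⟨g, hg⟩ := hB
    rw [← D.card_B]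
    congr 1
    have h1 : centralizer ({g * x * g⁻¹} : Set L) = B := by
      have hgx1 : g * x * g⁻¹ ≠ 1 := fun h0 => hx1 (conj_eq_one_iff.1 h0)
      apply le_antisymm
      · intro z hz
        rw [mem_centralizer_singleton_iff] at hz
        have hz' : z * (g * x * g⁻¹) * z⁻¹ ∈ B := by rw [hz]; simpa using hg
        rcases D.tiB.ti z _ hg hgx1 hz' with h2 | h2
        · exact h2
        · exfalso
          -- `r` centralises and inverts `g x g⁻¹`
          have h3 : r * z * (g * x * g⁻¹) = g * x * g⁻¹ * (r * z) := (D.tiB.comm _ h2 _ hg)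
          have h4 : r * (g * x * g⁻¹) * r⁻¹ = g * x * g⁻¹ := by
            have h5 : r * (g * x * g⁻¹) * z = g * x * g⁻¹ * r * z := by
              rw [mul_assoc r, ← hz, ← mul_assoc, h3]; group
            have h6 := mul_right_cancel h5
            rw [h6]; group
          rw [D.tiB.inv _ hg] at h4
          have h5 : (g * x * g⁻¹) ^ 2 = 1 := by
            rw [pow_two]; nth_rewrite 1 [← h4]; exact inv_mul_cancel _
          have h6 : orderOf (g * x * g⁻¹) = 3 := by
            rw [← hx]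
            exact orderOf_injective (MulAut.conj g).toMonoidHom (MulAut.conj g).injective x
          have h7 := orderOf_dvd_of_pow_eq_one h5
          rw [h6] at h7
          norm_num at h7
      · intro z hz
        rw [mem_centralizer_singleton_iff]
        exact D.tiB.comm z hz _ hg
    rw [← h1]
    refine Nat.card_congr ((MulAut.conj g).toEquiv.subtypeEquiv ?_)
    intro z
    rw [mem_centralizer_singleton_iff]
    change _ ↔ g * z * g⁻¹ ∈ centralizer ({g * x * g⁻¹} : Set L)
    rw [mem_centralizer_singleton_iff]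
    constructor
    · intro h2
      calc g * z * g⁻¹ * (g * x * g⁻¹) = g * (z * x) * g⁻¹ := by group
        _ = g * (x * z) * g⁻¹ := by rw [h2]
        _ = _ := by group
    · intro h2
      calc z * x = g⁻¹ * (g * z * g⁻¹ * (g * x * g⁻¹)) * g := by group
        _ = g⁻¹ * (g * x * g⁻¹ * (g * z * g⁻¹)) * g := by rw [h2]
        _ = _ := by group
  · right
    exact D.card_cent x hx1 hA hB

variable {G : Type*} [Group G]

theorem rho_type [Finite G] {F : Type*} [Field F] [Fintype F] {t s ρ : G} {S : Sylow 2 G}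
    {L Ls V Y : Subgroup G} {m : ℕ} {ε : ℤ} (h : LocalSetup.Local F t s ρ S L Ls V Y m ε) :
    (∃ g : G, g * ρ * g⁻¹ ∈ Y) ∨ (¬ 3 ∣ m ∧ ∃ c : ℕ, Odd c ∧
      Nat.card (centralizer ({ρ} : Set G) ⊓ centralizer ({s} : Set G) : Subgroup G) = 2 * c ∧
      (m : ℤ) ∣ (c : ℤ) ^ 2 - 1) := by
  by_cases hm3 : 3 ∣ m
  · left
    -- move `ρ` into `C(t)`
    obtain ⟨g, hg⟩ := isConj_iff.1 (h.conj s t h.ord_s h.ord_t)
    have h1 : g * ρ * g⁻¹ ∈ centralizer ({t} : Set G) := by
      rw [mem_centralizer_singleton_iff, ← hg]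
      calc g * ρ * g⁻¹ * (g * s * g⁻¹) = g * (ρ * s) * g⁻¹ := by group
        _ = g * (s * ρ) * g⁻¹ := by rw [h.rho_s]
        _ = _ := by group
    have h2 : orderOf (g * ρ * g⁻¹) = 3 := by
      rw [← h.rho_ord]
      exact orderOf_injective (MulAut.conj g).toMonoidHom (MulAut.conj g).injective ρ
    have htt : t * t = 1 := by rw [← pow_two, ← h.ord_t]; exact pow_orderOf_eq_one t
    have h3 : g * ρ * g⁻¹ ∈ L := by
      set x := g * ρ * g⁻¹ with hx
      have hx3 : x ^ 3 = 1 := by rw [← h2]; exact pow_orderOf_eq_one x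
      rcases h.cover x h1 with h4 | h4
      · exact h4
      · exfalso
        apply h.t_not_mem
        have h5 : x * t = t * x := mem_centralizer_singleton_iff.1 h1
        have h6 : (t * x) ^ 3 ∈ L := L.pow_mem h4 3
        rw [(show Commute t x from h5.symm).mul_pow, hx3, mul_one, pow_succ, pow_two, htt, one_mul] at h6
        exact h6
    obtain ⟨A, B, t', s', r', D⟩ := PSLTauMain.exists_data_of_iso h.iso m ε h.eps h.odd_m h.card_F
    have : Fact (Nat.Prime 3) := ⟨Nat.prime_three⟩
    have hYL : Nat.card (Y.subgroupOf L) = m := by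
      rw [← h.Y_card]; exact Nat.card_congr (Subgroup.subgroupOfEquivOfLe h.Y_le).toEquiv
    have hindex : ¬ 3 ∣ (Y.subgroupOf L).index := by
      intro h4
      have h5 := (Y.subgroupOf L).card_mul_index
      have h6 := D.card_L
      rw [← h5, hYL] at h6
      have hm0 : (m : ℤ) ≠ 0 := by
        have := h.odd_m.pos
        omega
      have h7 : ((Y.subgroupOf L).index : ℤ) = 4 * (4 * m + ε) * (2 * m + ε) := by
        have h8 : (2 * (m : ℤ)) * ((Y.subgroupOf L).index : ℤ) =
            (2 * (m : ℤ)) * (4 * (4 * m + ε) * (2 * m + ε)) := by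
          push_cast at h6
          have hε2 : ε ^ 2 = 1 := by rcases h.eps with h9 | h9 <;> rw [h9] <;> norm_num
          linear_combination h6 + (4 * (m : ℤ) + ε) * hε2
        exact mul_left_cancel₀ (by omega) h8
      have h8 : (3 : ℤ) ∣ 4 * (4 * m + ε) * (2 * m + ε) := by rw [← h7]; exact_mod_cast h4
      obtain ⟨k, hk⟩ := hm3
      have h9 : (m : ℤ) = 3 * k := by exact_mod_cast hk
      rw [h9] at h8
      rcases h.eps with h10 | h10 <;> rw [h10] at h8 <;> ring_nf at h8 <;> omega
    obtain ⟨g', hg'⟩ := conj_into (Y.subgroupOf L) hindex (x := ⟨g * ρ * g⁻¹, h3⟩)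
      (by rw [Subgroup.orderOf_mk]; exact h2)
    have h4 : (g' : G) * (g * ρ * g⁻¹) * (g' : G)⁻¹ ∈ Y := hg'
    exact ⟨g' * g, by
      have : (g' : G) * g * ρ * ((g' : G) * g)⁻¹ = (g' : G) * (g * ρ * g⁻¹) * (g' : G)⁻¹ := by group
      rw [this]; exact h4⟩
  · right
    refine ⟨hm3, ?_⟩
    obtain ⟨A, B, t', s', r', D⟩ := PSLTauMain.exists_data_of_iso h.iso_s m ε h.eps h.odd_m h.card_F
    have hcent := card_centralizer_three D hm3 (x := ⟨ρ, h.rho_mem_Ls⟩)
      (by rw [Subgroup.orderOf_mk]; exact h.rho_ord)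
    set c := Nat.card (centralizer ({(⟨ρ, h.rho_mem_Ls⟩ : Ls)} : Set Ls)) with hc
    have hss : s * s = 1 := by rw [← pow_two, ← h.ord_s]; exact pow_orderOf_eq_one s
    have hsne : s ≠ 1 := by
      intro h0
      have := h.ord_s
      rw [h0, orderOf_one] at this
      norm_num at this
    have hcard : Nat.card (centralizer ({ρ} : Set G) ⊓ centralizer ({s} : Set G) : Subgroup G) = 2 * c := by
      have hZ : Nat.card (zpowers s) = 2 := by rw [Nat.card_zpowers, h.ord_s]
      rw [← hZ, hc, ← Nat.card_prod]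
      refine (Nat.card_congr (Equiv.ofBijective
        (fun p : zpowers s × centralizer ({(⟨ρ, h.rho_mem_Ls⟩ : Ls)} : Set Ls) =>
          (⟨(p.1 : G) * ((p.2 : Ls) : G), ?_, ?_⟩ :
            (centralizer ({ρ} : Set G) ⊓ centralizer ({s} : Set G) : Subgroup G))) ⟨?_, ?_⟩)).symm
      · have h1 : ((p.2 : Ls) : G) * ρ = ρ * ((p.2 : Ls) : G) :=
          congrArg Subtype.val (mem_centralizer_singleton_iff.1 p.2.2)
        obtain ⟨⟨_, k, rfl⟩, b⟩ := p
        apply mem_centralizer_singleton_iff.2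
        change s ^ k * ((b : Ls) : G) * ρ = ρ * (s ^ k * ((b : Ls) : G))
        have h2 : Commute (s ^ k) ρ := (show Commute s ρ from h.rho_s.symm).zpow_left k
        rw [mul_assoc, h1, ← mul_assoc, h2.eq, mul_assoc]
      · have h1 : ((p.2 : Ls) : G) * s = s * ((p.2 : Ls) : G) :=
          mem_centralizer_singleton_iff.1 (h.Ls_le (p.2 : Ls).2)
        obtain ⟨⟨_, k, rfl⟩, b⟩ := p
        apply mem_centralizer_singleton_iff.2
        change s ^ k * ((b : Ls) : G) * s = s * (s ^ k * ((b : Ls) : G))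
        have h2 : Commute (s ^ k) s := (Commute.refl s).zpow_left k
        rw [mul_assoc, h1, ← mul_assoc, h2.eq, mul_assoc]
      · rintro ⟨⟨a, ha⟩, b⟩ ⟨⟨a', ha'⟩, b'⟩ hab
        have h1 : a * ((b : Ls) : G) = a' * ((b' : Ls) : G) := congrArg Subtype.val hab
        have h2 : a'⁻¹ * a ∈ Ls := by
          have : a'⁻¹ * a = ((b' : Ls) : G) * ((b : Ls) : G)⁻¹ := by
            rw [inv_mul_eq_iff_eq_mul, ← mul_assoc, ← h1]; group
          rw [this]
          exact Ls.mul_mem (b' : Ls).2 (Ls.inv_mem (b : Ls).2)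
        have h3 : a'⁻¹ * a = 1 := by
          obtain ⟨k, hk⟩ := (zpowers s).mul_mem ((zpowers s).inv_mem ha') ha
          change s ^ k = a'⁻¹ * a at hk
          rcases Int.even_or_odd k with hk2 | hk2
          · obtain ⟨j, rfl⟩ := hk2
            rw [← hk, zpow_add, ← (Commute.refl s).mul_zpow, hss, one_zpow]
          · exfalso
            apply h.s_not_mem_Ls
            obtain ⟨j, rfl⟩ := hk2
            rw [zpow_add, two_mul, zpow_add, ← (Commute.refl s).mul_zpow, hss, one_zpow, one_mul, zpow_one] at hk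
            rw [hk]; exact h2
        have h4 : a = a' := (inv_mul_eq_one.1 h3).symm
        subst h4
        have h5 := mul_left_cancel h1
        exact Prod.ext rfl (Subtype.ext (Subtype.ext h5))
      · rintro ⟨x, hx1, hx2⟩
        have hxρ : x * ρ = ρ * x := mem_centralizer_singleton_iff.1 hx1
        rcases h.cover_s x hx2 with h1 | h1
        · refine ⟨(1, ⟨⟨x, h1⟩, ?_⟩), Subtype.ext (one_mul x)⟩
          exact mem_centralizer_singleton_iff.2 (Subtype.ext hxρ)
        · refine ⟨(⟨s, mem_zpowers s⟩, ⟨⟨s * x, h1⟩, ?_⟩), Subtype.ext ?_⟩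
          · apply mem_centralizer_singleton_iff.2
            apply Subtype.ext
            change s * x * ρ = ρ * (s * x)
            rw [mul_assoc, hxρ, ← mul_assoc, ← h.rho_s, mul_assoc]
          · change s * (s * x) = x
            rw [← mul_assoc, hss, one_mul]
    have hεs : ε ^ 2 = 1 := by rcases h.eps with h9 | h9 <;> rw [h9] <;> norm_num
    have hmod : (m : ℤ) ∣ (c : ℤ) ^ 2 - 1 := by
      rcases hcent with h1 | h1
      · exact ⟨4 * m + 4 * ε, by rw [h1]; linear_combination hεs⟩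
      · exact ⟨16 * m + 8 * ε, by rw [h1]; linear_combination hεs⟩
    have hodd : Odd c := by
      have h1 : Odd (c : ℤ) := by
        rcases hcent with h1 | h1 <;> rw [h1] <;> rcases h.eps with h9 | h9 <;> rw [h9]
        · exact ⟨m, by ring⟩
        · exact ⟨m - 1, by ring⟩
        · exact ⟨2 * m, by ring⟩
        · exact ⟨2 * m - 1, by ring⟩
      exact_mod_cast h1
    exact ⟨c, hodd, hcard, hmod⟩

/-- The local theorem from the structure `Local`. -/
theorem hyp_of_local [Finite G] {F : Type*} [Field F] [Fintype F] {t s ρ : G} {S : Sylow 2 G}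
    {L Ls V Y : Subgroup G} {m : ℕ} {ε : ℤ} (h : LocalSetup.Local F t s ρ S L Ls V Y m ε) :
    Local2.Hyp V Y s ρ m where
  V_card := h.V_card
  V_sq := h.V_exp
  Y_card := h.Y_card
  Y_odd := h.odd_m
  Y_comm := by
    intro x hx y hy
    have := h.Y_cyclic
    let _ : CommGroup Y := IsCyclic.commGroup
    exact congrArg Subtype.val (mul_comm (⟨x, hx⟩ : Y) ⟨y, hy⟩)
  V_Y := fun v hv y hy => mem_centralizer_iff.1 (h.Y_cent hy) v hv
  cent_cent := by
    intro v hv hv1 y hy hy1 g hgv hgy
    have h1 : g ∈ V ⊔ Y := by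
      rw [← h.cent_cent v hv hv1 y hy hy1]
      exact ⟨mem_centralizer_singleton_iff.2 hgv, mem_centralizer_singleton_iff.2 hgy⟩
    exact (LocalFinal.mem_sup_iff h.Y_cent).1 h1
  s_ord := h.ord_s
  s_V := LocalGood.s_comm h
  s_Y := h.s_inv
  ρ_s := h.rho_s
  ρ_V := fun v hv => (mem_normalizer_iff.1 h.rho_norm v).1 hv
  ρ_Y := h.rho_Y
  ρ_move := h.rho_move
  ρ_ord := h.rho_ord
  mem_cent_V := h.mem_cent_V
  mem_norm_V := h.mem_norm_V
  four := by
    intro g hg
    have : Fact (Nat.Prime 2) := ⟨Nat.prime_two⟩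
    -- an element of order 4
    obtain ⟨k, hk⟩ := hg
    have hk0 : k ≠ 0 := by
      rintro rfl
      exact (orderOf_pos g).ne' (by rw [hk])
    have h1 : orderOf (g ^ k) = 4 := by
      rw [orderOf_pow' g hk0, hk, Nat.gcd_eq_right ⟨4, by ring⟩]
      exact Nat.mul_div_cancel _ (Nat.pos_of_ne_zero hk0)
    have hzp : IsPGroup 2 (zpowers (g ^ k)) := by
      refine IsPGroup.of_card (n := 2) ?_
      rw [Nat.card_zpowers, h1]; norm_num
    obtain ⟨Q, hQ⟩ := hzp.exists_le_sylow
    have h2 := h.sylow_exp Q _ (hQ (mem_zpowers _))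
    have h3 : orderOf (g ^ k) ∣ 2 := orderOf_dvd_of_pow_eq_one (by rw [pow_two, h2])
    rw [h1] at h3
    norm_num at h3
  type := rho_type h

/-- `C_G(y) = V Y` for `1 ≠ y ∈ Y`. -/
theorem cent_y [Finite G] {F : Type*} [Field F] [Fintype F] {t s ρ : G} {S : Sylow 2 G}
    {L Ls V Y : Subgroup G} {m : ℕ} {ε : ℤ} (h : LocalSetup.Local F t s ρ S L Ls V Y m ε) :
    ∀ y ∈ Y, y ≠ 1 → centralizer ({y} : Set G) = V ⊔ Y :=
  fun _ hy hy1 => (hyp_of_local h).centralizer_eq hy hy1

/-- The complete local data `Good` from `Local`. -/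
theorem good [Finite G] {F : Type*} [Field F] [Fintype F] {t s ρ : G} {S : Sylow 2 G}
    {L Ls V Y : Subgroup G} {m : ℕ} {ε : ℤ} (h : LocalSetup.Local F t s ρ S L Ls V Y m ε) (hm : 1 < m) :
    Interface.Good F t L V Y m ε :=
  LocalGood.good_of_local h hm (cent_y h)

end Cfsg.Agent.Ree.RhoType
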