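import Cfsg.Agent.Ree.CoreInst
import Cfsg.Agent.Ree.RhoType
import Cfsg.Agent.Ree.PSLDihMain

/-!
# S0343: the main case `q ≡ 3, 5 (mod 8)`, `q ≥ 7`
-/

set_option autoImplicit false

namespace Cfsg.Agent.Ree.Assemble

theorem main {G : Type*} [Group G] [Finite G] {F : Type*} [Field F] [Fintype F]
    (h7 : 7 ≤ Fintype.card F) (hmod : Fintype.card F % 8 = 3 ∨ Fintype.card F % 8 = 5)
    (hconj : ∀ u v : G, orderOf u = 2 → orderOf v = 2 → IsConj u v)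
    (h8 : ∀ P : Sylow 2 G, Nat.card P = 8)
    (hexp : ∀ P : Sylow 2 G, ∀ x ∈ (P : Subgroup G), x * x = 1) {t : G} (ht : orderOf t = 2)
    (hC : Nonempty (Subgroup.centralizer ({t} : Set G) ≃*
      Multiplicative (ZMod 2) × Matrix.ProjectiveSpecialLinearGroup (Fin 2) F)) :
    ∃ m : ℕ, 1 ≤ m ∧ Fintype.card F = 3 ^ (2 * m + 1) ∧
      Nat.card G = (3 ^ (2 * m + 1)) ^ 3 * ((3 ^ (2 * m + 1)) ^ 3 + 1) * (3 ^ (2 * m + 1) - 1) := by
  obtain ⟨e⟩ := hC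
  obtain ⟨m, ε, hε, hm, hm1, hq⟩ : ∃ (m : ℕ) (ε : ℤ), (ε = 1 ∨ ε = -1) ∧ Odd m ∧ 1 < m ∧
      (Fintype.card F : ℤ) = 4 * m + ε := by
    rcases hmod with h | h
    · exact ⟨2 * (Fintype.card F / 8) + 1, -1, Or.inr rfl, odd_two_mul_add_one _, by omega, by
        push_cast; omega⟩
    · exact ⟨2 * (Fintype.card F / 8) + 1, 1, Or.inl rfl, odd_two_mul_add_one _, by omega, by
        push_cast; omega⟩
  obtain ⟨L, hL⟩ := LocalSetup.comp_of_iso (LocalSetup.good_of_mod hmod) ht e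
  obtain ⟨s, ρ, S, Ls, V, Y, hloc⟩ := LocalSetup.exists_local hε hq hm
    (PSLDihMain.pslDih m ε hε hm hq) hconj h8 hexp ht hL
  exact CoreInst.main (RhoType.good hloc hm1)

end Cfsg.Agent.Ree.Assemble
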