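import Mathlib
import Cfsg.Agent.S0224
import Cfsg.Agent.S1224
import Cfsg.Agent.S1225
import Cfsg.Agent.Lib.ProductSet

/-!
# S0343 [R1], the case `q = 3`

There is no finite simple group with Sylow 2-subgroups elementary abelian of order 8, a strongly embedded subgroup of
order 168 and centralisers of involutions of order 24.
-/

set_option autoImplicit false

namespace Cfsg.Agent.Ree.ReduceThree

open Subgroup
open scoped Pointwise

/-- The situation. -/
structure Three {G : Type*} [Group G] (S H : Subgroup G) : Prop where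
  se : Cfsg.IsStronglyEmbedded H
  cardH : Nat.card H = 168
  cardS : Nat.card S = 8
  SH : S ≤ H
  normal : ∀ h ∈ H, ∀ s ∈ S, h * s * h⁻¹ ∈ S
  exp : ∀ s ∈ S, s * s = 1
  selfc : ∀ g : G, (∀ s ∈ S, g * s = s * g) → g ∈ S
  cent : ∀ t : G, orderOf t = 2 → Nat.card (Subgroup.centralizer ({t} : Set G)) = 24
  centH : ∀ t ∈ S, t ≠ 1 → Subgroup.centralizer ({t} : Set G) ≤ H

theorem card_ge_49 {G : Type*} [Group G] [Finite G] {E : Subgroup G} {x y : G} (hx : x ∈ E) (hy : y ∈ E)
    (hx7 : orderOf x = 7) (hy7 : orderOf y = 7) (hE : Nat.card E < 49) : y ∈ Subgroup.zpowers x := by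
  have h7 : Nat.Prime 7 := by norm_num
  have h1 := Cfsg.Agent.Lib.ProductSet.card_mul_card_inf (Subgroup.zpowers x) (Subgroup.zpowers y)
  rw [Nat.card_zpowers, Nat.card_zpowers, hx7, hy7] at h1
  have h2 : Nat.card (((Subgroup.zpowers x : Subgroup G) : Set G) * ((Subgroup.zpowers y : Subgroup G) : Set G) :
      Set G) ≤ Nat.card E := by
    apply Nat.card_mono (Set.toFinite _)
    rintro _ ⟨a, ha, b, hb, rfl⟩
    exact mul_mem ((Subgroup.zpowers_le.2 hx) ha) ((Subgroup.zpowers_le.2 hy) hb)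
  have h3 : Nat.card (Subgroup.zpowers x ⊓ Subgroup.zpowers y : Subgroup G) ∣ 7 := by
    have := Subgroup.card_dvd_of_le (inf_le_right : Subgroup.zpowers x ⊓ Subgroup.zpowers y ≤ Subgroup.zpowers y)
    rwa [Nat.card_zpowers, hy7] at this
  rcases (Nat.dvd_prime h7).1 h3 with h4 | h4
  · rw [h4, mul_one] at h1
    omega
  · have h5 : Subgroup.zpowers x ⊓ Subgroup.zpowers y = Subgroup.zpowers y :=
      Subgroup.eq_of_le_of_card_ge inf_le_right (by rw [h4, Nat.card_zpowers, hy7])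
    have h6 : y ∈ Subgroup.zpowers x ⊓ Subgroup.zpowers y := by
      rw [h5]; exact Subgroup.mem_zpowers y
    exact h6.1

theorem orderOf_of_pow {G : Type*} [Group G] {x y : G} (hx7 : orderOf x = 7) (hy : y ∈ Subgroup.zpowers x)
    (hy1 : y ≠ 1) : orderOf y = 7 := by
  have h7 : Nat.Prime 7 := by norm_num
  have h1 : orderOf y ∣ 7 := by
    rw [← hx7]
    exact orderOf_dvd_of_mem_zpowers hy
  rcases (Nat.dvd_prime h7).1 h1 with h | h
  · exact absurd (orderOf_eq_one_iff.1 h) hy1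
  · exact h

variable {G : Type*} [Group G] [Finite G] {S H : Subgroup G}

theorem fix_iff (g k : G) : g • (QuotientGroup.mk k : G ⧸ H) = QuotientGroup.mk k ↔ k⁻¹ * g * k ∈ H := by
  rw [MulAction.Quotient.smul_mk, smul_eq_mul, eq_comm, QuotientGroup.eq, mul_assoc]

theorem conj_order (k g : G) : orderOf (k⁻¹ * g * k) = orderOf g := by
  have : k⁻¹ * g * k = MulAut.conj k⁻¹ g := by simp [MulAut.conj_apply]
  rw [this, MulEquiv.orderOf_eq]

namespace Three

variable (h : Three S H)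
include h

theorem comm {a b : G} (ha : a ∈ S) (hb : b ∈ S) : a * b = b * a := by
  have h1 := h.exp a ha
  have h3 := h.exp b hb
  have h4 := h.exp (a * b) (mul_mem ha hb)
  have h5 : a⁻¹ = a := inv_eq_of_mul_eq_one_left h1
  have h6 : b⁻¹ = b := inv_eq_of_mul_eq_one_left h3
  have h7 : (a * b)⁻¹ = a * b := inv_eq_of_mul_eq_one_left h4
  rw [← h7, mul_inv_rev, h5, h6]

theorem order_two {s : G} (hs : s ∈ S) (hs1 : s ≠ 1) : orderOf s = 2 :=
  orderOf_eq_prime (by rw [pow_two, h.exp s hs]) hs1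

/-- 2-elements of `H` of order 2 lie in `S`. -/
theorem invol_mem {t : G} (ht : t ∈ H) (ht2 : orderOf t = 2) : t ∈ S := by
  have hn : (S.subgroupOf H).Normal := ⟨fun s hs g => h.normal g g.2 s hs⟩
  have hc : Nat.card (S.subgroupOf H) = 8 := by
    rw [← h.cardS]
    exact Nat.card_congr (Subgroup.subgroupOfEquivOfLe h.SH).toEquiv
  have hi : (S.subgroupOf H).index = 21 := by
    have h1 := (S.subgroupOf H).card_mul_index
    rw [hc, h.cardH] at h1
    omega
  have h1 := (S.subgroupOf H).pow_index_mem (⟨t, ht⟩ : H)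
  rw [hi] at h1
  have h2 : t ^ 21 ∈ S := h1
  have h3 : t ^ 21 = t := by
    have h4 : t ^ 2 = 1 := by rw [← ht2, pow_orderOf_eq_one]
    calc t ^ 21 = (t ^ 2) ^ 10 * t := by group
      _ = t := by rw [h4, one_pow, one_mul]
  rwa [h3] at h2

/-- No element of order 7 commutes with an involution. -/
theorem not_comm {x t : G} (hx : orderOf x = 7) (ht : orderOf t = 2) (hc : x * t = t * x) : False := by
  have h1 : x ∈ Subgroup.centralizer ({t} : Set G) := Subgroup.mem_centralizer_singleton_iff.2 hc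
  have h2 : orderOf x ∣ Nat.card (Subgroup.centralizer ({t} : Set G)) := by
    have := orderOf_dvd_natCard (⟨x, h1⟩ : Subgroup.centralizer ({t} : Set G))
    rwa [Subgroup.orderOf_mk] at this
  rw [hx, h.cent t ht] at h2
  omega

/-- An element of order 7 of `H` permutes the involutions of `S` transitively. -/
theorem trans {x s t : G} (hxH : x ∈ H) (hx : orderOf x = 7) (hs : s ∈ S) (hs1 : s ≠ 1) (ht : t ∈ S) (ht1 : t ≠ 1) :
    ∃ k : ℕ, x ^ k * s * (x ^ k)⁻¹ = t := by
  classical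
  have hmem : ∀ k : ℕ, x ^ k * s * (x ^ k)⁻¹ ∈ S := fun k => h.normal _ (pow_mem hxH k) s hs
  let f : Fin 7 → G := fun k => x ^ (k : ℕ) * s * (x ^ (k : ℕ))⁻¹
  have hf : Function.Injective f := by
    have key : ∀ i j : Fin 7, i < j → f i ≠ f j := by
      intro i j hij hfij
      have h1 : x ^ (i : ℕ) * s * (x ^ (i : ℕ))⁻¹ = x ^ (j : ℕ) * s * (x ^ (j : ℕ))⁻¹ := hfij
      set m := (j : ℕ) - i with hm
      have hj : (j : ℕ) = i + m := by omega
      have h2 : s = x ^ m * s * (x ^ m)⁻¹ := by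
        rw [hj, pow_add] at h1
        have h3 : x ^ (i : ℕ) * s * (x ^ (i : ℕ))⁻¹ = x ^ (i : ℕ) * (x ^ m * s * (x ^ m)⁻¹) * (x ^ (i : ℕ))⁻¹ := by
          rw [h1]; group
        exact mul_left_cancel (mul_right_cancel h3)
      rw [eq_mul_inv_iff_mul_eq] at h2
      have hm0 : m ≠ 0 := by omega
      have hm7 : m < 7 := by omega
      have hxm : orderOf (x ^ m) = 7 := by
        apply orderOf_of_pow hx (Subgroup.mem_zpowers_iff.2 ⟨m, by simp⟩)
        intro h3
        have h4 := orderOf_dvd_of_pow_eq_one h3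
        rw [hx] at h4
        exact hm0 (Nat.eq_zero_of_dvd_of_lt h4 hm7)
      exact h.not_comm hxm (h.order_two hs hs1) h2.symm
    intro i j hij
    rcases lt_trichotomy i j with h1 | h1 | h1
    · exact absurd hij (key i j h1)
    · exact h1
    · exact absurd hij.symm (key j i h1)
  have hrange : Set.range f = (S : Set G) \ {1} := by
    apply Set.eq_of_subset_of_ncard_le
    · rintro _ ⟨k, rfl⟩
      refine ⟨hmem k, fun h1 => hs1 ?_⟩
      have h2 : x ^ (k : ℕ) * s * (x ^ (k : ℕ))⁻¹ = 1 := h1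
      rw [mul_inv_eq_one] at h2
      exact mul_left_cancel (h2.trans (mul_one _).symm)
    · rw [Set.ncard_sdiff (by rw [Set.singleton_subset_iff]; exact S.one_mem), Set.ncard_singleton,
        ← Nat.card_coe_set_eq, ← Nat.card_coe_set_eq, Nat.card_range_of_injective hf, Nat.card_fin]
      have : Nat.card ((S : Subgroup G) : Set G) = 8 := h.cardS
      rw [this]
    · exact Set.toFinite _
  have : t ∈ Set.range f := by rw [hrange]; exact ⟨ht, ht1⟩
  obtain ⟨k, hk⟩ := this
  exact ⟨k, hk⟩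

theorem exists_inv : ∃ t ∈ S, t ≠ 1 := by
  by_contra hcon
  push Not at hcon
  have : S = ⊥ := by rw [Subgroup.eq_bot_iff_forall]; exact hcon
  have h1 := h.cardS
  rw [this, Subgroup.card_bot] at h1
  omega

/-- An element of order 7 of `H` is self-centralising in `H`. -/
theorem cent_seven {x y : G} (hxH : x ∈ H) (hx : orderOf x = 7) (hy : y ∈ H) (hc : x * y = y * x) :
    y ∈ Subgroup.zpowers x := by
  by_contra hyx
  obtain ⟨t, ht, ht1⟩ := h.exists_inv
  set Y := H ⊓ Subgroup.centralizer ({x} : Set G) with hY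
  have hxY : x ∈ Y := ⟨hxH, Subgroup.mem_centralizer_singleton_iff.2 rfl⟩
  have hyY : y ∈ Y := ⟨hy, Subgroup.mem_centralizer_singleton_iff.2 hc.symm⟩
  have hcY : 7 ∣ Nat.card Y := by
    have := Subgroup.card_dvd_of_le (Subgroup.zpowers_le.2 hxY)
    rwa [Nat.card_zpowers, hx] at this
  have hY7 : Nat.card Y ≠ 7 := by
    intro h1
    have h2 : Subgroup.zpowers x = Y := Subgroup.eq_of_le_of_card_ge (Subgroup.zpowers_le.2 hxY)
      (by rw [h1, Nat.card_zpowers, hx])
    rw [← h2] at hyY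
    exact hyx hyY
  have hY14 : 14 ≤ Nat.card Y := by
    obtain ⟨k, hk⟩ := hcY
    have : 0 < Nat.card Y := Nat.card_pos
    rw [hk] at this hY7 ⊢
    have h1 : k ≠ 0 := by rintro rfl; omega
    have h2 : k ≠ 1 := by rintro rfl; omega
    omega
  have hprod := Cfsg.Agent.Lib.ProductSet.card_mul_card_inf Y (Subgroup.centralizer ({t} : Set G))
  have hle : Nat.card ((Y : Set G) * ((Subgroup.centralizer ({t} : Set G) : Subgroup G) : Set G) : Set G) ≤ 168 := by
    rw [← h.cardH]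
    apply Nat.card_mono (Set.toFinite _)
    rintro _ ⟨a, ha, b, hb, rfl⟩
    exact mul_mem ha.1 (h.centH t ht ht1 hb)
  rw [h.cent t (h.order_two ht ht1)] at hprod
  have h2 : 2 ≤ Nat.card (Y ⊓ Subgroup.centralizer ({t} : Set G) : Subgroup G) := by
    by_contra hcon
    have h3 : Nat.card (Y ⊓ Subgroup.centralizer ({t} : Set G) : Subgroup G) ≤ 1 := by omega
    have h4 : Nat.card Y * 24 ≤ 168 * 1 := by
      rw [← hprod]
      exact Nat.mul_le_mul hle h3
    omega
  have h3 : Nontrivial (Y ⊓ Subgroup.centralizer ({t} : Set G) : Subgroup G) :=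
    Finite.one_lt_card_iff_nontrivial.1 h2
  obtain ⟨⟨ρ, hρ⟩, hρ1⟩ := exists_ne (1 : (Y ⊓ Subgroup.centralizer ({t} : Set G) : Subgroup G))
  have hρne : ρ ≠ 1 := fun h1 => hρ1 (Subtype.ext h1)
  have hρx : ρ * x = x * ρ := Subgroup.mem_centralizer_singleton_iff.1 hρ.1.2
  have hρt : ρ * t = t * ρ := Subgroup.mem_centralizer_singleton_iff.1 hρ.2
  have hρS : ρ ∈ S := by
    apply h.selfc
    intro s hs
    by_cases hs1 : s = 1
    · rw [hs1, mul_one, one_mul]
    · obtain ⟨k, hk⟩ := h.trans hxH hx ht ht1 hs hs1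
      have h1 : Commute ρ x := hρx
      have h4 : Commute ρ t := hρt
      rw [← hk]
      exact ((h1.pow_right k).mul_right h4).mul_right (h1.pow_right k).inv_right
  exact h.not_comm hx (h.order_two hρS hρne) hρx.symm

/-- `y` of order 7 in a point stabiliser: version for all points of `cent_seven`. -/
theorem cent_seven' {x y : G} {c : G ⧸ H} (hx : orderOf x = 7) (hxc : x • c = c) (hyc : y • c = c)
    (hc : x * y = y * x) : y ∈ Subgroup.zpowers x := by
  induction c using QuotientGroup.induction_on with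
  | H k =>
    rw [fix_iff] at hxc hyc
    have h1 := h.cent_seven hxc (by rw [conj_order, hx]) hyc (by
      have h2 : k⁻¹ * x * k * (k⁻¹ * y * k) = k⁻¹ * (x * y) * k := by group
      have h3 : k⁻¹ * y * k * (k⁻¹ * x * k) = k⁻¹ * (y * x) * k := by group
      rw [h2, h3, hc])
    obtain ⟨n, hn⟩ := Subgroup.mem_zpowers_iff.1 h1
    refine Subgroup.mem_zpowers_iff.2 ⟨n, ?_⟩
    have h4 : (k⁻¹ * x * k) ^ n = k⁻¹ * x ^ n * k := by
      have := conj_zpow (i := n) (a := k⁻¹) (b := x)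
      rw [inv_inv] at this
      exact this
    rw [h4] at hn
    exact mul_left_cancel (mul_right_cancel hn)

/-- An involution inverting an element of order 7 has no common fixed point with it. -/
theorem no_fix {x j : G} {c : G ⧸ H} (hx : orderOf x = 7) (hj : orderOf j = 2) (hjx : j * x * j⁻¹ = x⁻¹)
    (hxc : x • c = c) (hjc : j • c = c) : False := by
  induction c using QuotientGroup.induction_on with
  | H k =>
    rw [fix_iff] at hxc hjc
    have h1 : k⁻¹ * j * k ∈ S := h.invol_mem hjc (by rw [conj_order, hj])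
    have h2 := h.normal _ hxc _ h1
    have h3 := mul_mem (inv_mem h1) h2
    have h4 : (k⁻¹ * j * k)⁻¹ * (k⁻¹ * x * k * (k⁻¹ * j * k) * (k⁻¹ * x * k)⁻¹) = k⁻¹ * (j⁻¹ * x * j * x⁻¹) * k := by
      group
    rw [h4] at h3
    have hjj : j⁻¹ = j := inv_eq_of_mul_eq_one_left (by rw [← pow_two, ← hj, pow_orderOf_eq_one])
    have h5 : j⁻¹ * x * j = x⁻¹ := by
      rw [hjj] at hjx ⊢
      exact hjx
    rw [h5] at h3
    have h6 := h.exp _ h3
    have h7 : k⁻¹ * (x⁻¹ * x⁻¹) * k * (k⁻¹ * (x⁻¹ * x⁻¹) * k) = k⁻¹ * (x ^ 4)⁻¹ * k := by group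
    rw [h7] at h6
    have h8 : x ^ 4 = 1 := by
      have h9 : (x ^ 4)⁻¹ = k * (k⁻¹ * (x ^ 4)⁻¹ * k) * k⁻¹ := by group
      rw [h6] at h9
      have h10 : (x ^ 4)⁻¹ = 1 := by rw [h9]; group
      exact inv_eq_one.1 h10
    have h9 := orderOf_dvd_of_pow_eq_one h8
    rw [hx] at h9
    omega

/-- An involution fixes at most one point. -/
theorem fix_unique {t : G} {c d : G ⧸ H} (ht : orderOf t = 2) (hc : t • c = c) (hd : t • d = d) : c = d := by
  induction c using QuotientGroup.induction_on with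
  | H k =>
    rw [fix_iff] at hc
    have h1 := (Cfsg.Agent.S0224.result H h.se.1 h.se.2.1).1 h.se _ hc (by rw [conj_order, ht])
    rw [Nat.card_eq_one_iff_unique] at h1
    obtain ⟨h2, -⟩ := h1
    have h3 : (k⁻¹ * t * k) • (k⁻¹ • d) = k⁻¹ • d := by
      rw [smul_smul]
      have : k⁻¹ * t * k * k⁻¹ = k⁻¹ * t := by group
      rw [this, mul_smul, hd]
    have h4 : (k⁻¹ * t * k) • (QuotientGroup.mk 1 : G ⧸ H) = QuotientGroup.mk 1 := by
      rw [fix_iff]; simpa using hc
    have h5 := h2.elim ⟨_, h3⟩ ⟨_, h4⟩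
    have h6 : k⁻¹ • d = (QuotientGroup.mk 1 : G ⧸ H) := congrArg Subtype.val h5
    rw [inv_smul_eq_iff] at h6
    rw [h6]
    change (QuotientGroup.mk k : G ⧸ H) = QuotientGroup.mk (k * 1)
    rw [mul_one]

/-- Elements of order 7 fixing two given points. -/
theorem two_points {x y : G} {c d : G ⧸ H} (hcd : c ≠ d) (hx : orderOf x = 7) (hy : orderOf y = 7)
    (hxc : x • c = c) (hxd : x • d = d) (hyc : y • c = c) (hyd : y • d = d) : y ∈ Subgroup.zpowers x := by
  set E := MulAction.stabilizer G c ⊓ MulAction.stabilizer G d with hE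
  have hmem : ∀ g, g ∈ E ↔ g • c = c ∧ g • d = d := fun g => by
    rw [hE, Subgroup.mem_inf, MulAction.mem_stabilizer_iff, MulAction.mem_stabilizer_iff]
  apply card_ge_49 ((hmem x).2 ⟨hxc, hxd⟩) ((hmem y).2 ⟨hyc, hyd⟩) hx hy
  have hodd : ¬ 2 ∣ Nat.card E := by
    intro h2
    have : Fact (Nat.Prime 2) := ⟨Nat.prime_two⟩
    obtain ⟨t, ht⟩ := exists_prime_orderOf_dvd_card' (G := E) 2 h2
    have h3 := (hmem t).1 t.2
    refine hcd (h.fix_unique (t := (t : G)) (by rw [← ht, Subgroup.orderOf_coe]) h3.1 h3.2)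
  have hdvd : Nat.card E ∣ 168 := by
    have h1 : Nat.card (MulAction.stabilizer G c) = 168 := by
      induction c using QuotientGroup.induction_on with
      | H k =>
        rw [← h.cardH]
        refine Nat.card_congr ⟨fun g => ⟨k⁻¹ * g * k, ?_⟩, fun g => ⟨k * g * k⁻¹, ?_⟩, ?_, ?_⟩
        · exact (fix_iff _ _).1 g.2
        · rw [MulAction.mem_stabilizer_iff, fix_iff]
          have : k⁻¹ * (k * g * k⁻¹) * k = g := by group
          rw [this]; exact g.2
        · intro g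
          apply Subtype.ext
          change k * (k⁻¹ * g * k) * k⁻¹ = g
          group
        · intro g
          apply Subtype.ext
          change k⁻¹ * (k * g * k⁻¹) * k = g
          group
    rw [← h1]
    exact Subgroup.card_dvd_of_le inf_le_left
  have h3 : Nat.Coprime (Nat.card E) (2 ^ 3) :=
    Nat.Coprime.pow_right _ (((Nat.Prime.coprime_iff_not_dvd Nat.prime_two).2 hodd).symm)
  have h4 : Nat.card E ∣ 21 := by
    apply h3.dvd_of_dvd_mul_left
    norm_num
    exact hdvd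
  have h5 := Nat.le_of_dvd (by norm_num) h4
  omega

theorem exists_swap {c d : G ⧸ H} (hcd : c ≠ d) : ∃ j : G, orderOf j = 2 ∧ j • c = d ∧ j • d = c := by
  have h1 := Cfsg.Agent.S1224.result H h.se c d hcd
  obtain ⟨t, ht, ht1⟩ := h.exists_inv
  have h2 : Nonempty {t : G // orderOf t = 2 ∧ t ∈ H} := ⟨t, h.order_two ht ht1, h.SH ht⟩
  have h3 : 0 < Nat.card {i : G // orderOf i = 2 ∧ i • c = d} := by
    rw [h1]; exact Nat.card_pos
  obtain ⟨⟨j, hj2, hj⟩⟩ := (Nat.card_pos_iff.1 h3).1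
  refine ⟨j, hj2, hj, ?_⟩
  rw [← hj, smul_smul, ← pow_two, ← hj2, pow_orderOf_eq_one, one_smul]

/-- An involution swapping two fixed points of an element of order 7 inverts it. -/
theorem inverts {x j : G} {c d : G ⧸ H} (hcd : c ≠ d) (hx : orderOf x = 7) (hxc : x • c = c) (hxd : x • d = d)
    (hj : orderOf j = 2) (hjc : j • c = d) (hjd : j • d = c) : j * x * j⁻¹ = x⁻¹ := by
  have hjj : j⁻¹ = j := inv_eq_of_mul_eq_one_left (by rw [← pow_two, ← hj, pow_orderOf_eq_one])
  have h1 : orderOf (j * x * j⁻¹) = 7 := by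
    have : j * x * j⁻¹ = MulAut.conj j x := rfl
    rw [this, MulEquiv.orderOf_eq, hx]
  have h2 : (j * x * j⁻¹) • c = c := by
    rw [hjj, mul_smul, mul_smul, hjc, hxd, hjd]
  have h3 : (j * x * j⁻¹) • d = d := by
    rw [hjj, mul_smul, mul_smul, hjd, hxc, hjc]
  have h4 := h.two_points hcd hx h1 hxc hxd h2 h3
  have h5 : Commute x (j * x * j⁻¹) := by
    obtain ⟨n, hn⟩ := Subgroup.mem_zpowers_iff.1 h4
    rw [← hn]
    exact Commute.self_zpow x n
  set z := x * (j * x * j⁻¹) with hz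
  have hzx : z ∈ Subgroup.zpowers x := mul_mem (Subgroup.mem_zpowers x) h4
  have hzj : z * j = j * z := by
    have h6 : j * z = (j * x * j⁻¹) * (j * j * x * (j⁻¹ * j⁻¹)) * j := by rw [hz]; group
    have h7 : j * j = 1 := by rw [← pow_two, ← hj, pow_orderOf_eq_one]
    rw [h6, hjj, h7, one_mul, mul_one, ← hjj, hz, h5.eq]
    rw [hjj]
  by_cases hz1 : z = 1
  · rw [hz] at hz1
    exact (inv_eq_of_mul_eq_one_right hz1).symm
  · exact absurd (h.not_comm (orderOf_of_pow hx hzx hz1) hj hzj) id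

/-- The centraliser of an element of order 7 fixes all its fixed points. -/
theorem cent_fix {x y : G} {c : G ⧸ H} (hx : orderOf x = 7) (hxc : x • c = c) (hc : x * y = y * x) : y • c = c := by
  by_contra hne
  obtain ⟨j, hj, hjc, hjd⟩ := h.exists_swap (Ne.symm hne)
  have hxd : x • (y • c) = y • c := by rw [smul_smul, hc, mul_smul, hxc]
  have hinv := h.inverts (Ne.symm hne) hx hxc hxd hj hjc hjd
  set z := y⁻¹ * j with hz
  have hzc : z • c = c := by rw [hz, mul_smul, hjc, inv_smul_smul]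
  have hyc : Commute x y := hc
  have hzx : z * x * z⁻¹ = x⁻¹ := by
    have h1 : z * x * z⁻¹ = y⁻¹ * (j * x * j⁻¹) * y := by rw [hz]; group
    rw [h1, hinv]
    have h2 : Commute y⁻¹ x⁻¹ := hyc.symm.inv_inv
    rw [h2.eq, inv_mul_cancel_right]
  have hzx' : z * x = x⁻¹ * z := by rw [← hzx]; group
  have hcomm : x * (z * z) = (z * z) * x := by
    have h3 : z * z * x = x * (z * z) := by
      calc z * z * x = z * (z * x) := by group
        _ = z * (x⁻¹ * z) := by rw [hzx']
        _ = (z * x * z⁻¹)⁻¹ * (z * z) := by group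
        _ = x * (z * z) := by rw [hzx, inv_inv]
    exact h3.symm
  have hz2 : z * z ∈ Subgroup.zpowers x := h.cent_seven' hx hxc (by rw [mul_smul, hzc, hzc]) hcomm
  -- `z` inverts `z * z`
  have hinvp : ∀ u ∈ Subgroup.zpowers x, z * u * z⁻¹ = u⁻¹ := by
    intro u hu
    obtain ⟨n, rfl⟩ := Subgroup.mem_zpowers_iff.1 hu
    rw [← conj_zpow, hzx, inv_zpow]
  have h4 := hinvp _ hz2
  have h5 : z * (z * z) * z⁻¹ = z * z := by group
  rw [h5] at h4
  have h6 : (z * z) * (z * z) = 1 := by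
    nth_rewrite 1 [h4]
    rw [inv_mul_cancel]
  have hzz : z * z = 1 := by
    by_contra hzz
    have h7 := orderOf_of_pow hx hz2 hzz
    have h8 : orderOf (z * z) ∣ 2 := orderOf_dvd_of_pow_eq_one (by rw [pow_two, h6])
    rw [h7] at h8
    omega
  have hz1 : z ≠ 1 := by
    intro hz1
    rw [hz1, one_mul, inv_one, mul_one] at hzx
    have h7 : x ^ 2 = 1 := by
      rw [pow_two]
      nth_rewrite 1 [hzx]
      rw [inv_mul_cancel]
    have h8 := orderOf_dvd_of_pow_eq_one h7
    rw [hx] at h8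
    omega
  exact h.no_fix hx (orderOf_eq_prime (by rw [pow_two, hzz]) hz1) hzx hxc hzc

/-- An element of order 7 has at most two fixed points. -/
theorem no_three {x : G} {c d e : G ⧸ H} (hcd : c ≠ d) (hce : c ≠ e) (hde : d ≠ e) (hx : orderOf x = 7)
    (hxc : x • c = c) (hxd : x • d = d) (hxe : x • e = e) : False := by
  obtain ⟨j₁, hj₁, h1, h2⟩ := h.exists_swap hcd
  obtain ⟨j₂, hj₂, h3, h4⟩ := h.exists_swap hce
  have h5 := h.inverts hcd hx hxc hxd hj₁ h1 h2
  have h6 := h.inverts hce hx hxc hxe hj₂ h3 h4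
  have h7 : x * (j₁ * j₂) = j₁ * j₂ * x := by
    have h8 : j₂ * x = x⁻¹ * j₂ := by rw [← h6]; group
    have h9 : j₁ * x⁻¹ = x * j₁ := by
      have : j₁ * x⁻¹ = (j₁ * x * j₁⁻¹)⁻¹ * j₁ := by group
      rw [this, h5, inv_inv]
    rw [mul_assoc, h8, ← mul_assoc j₁, h9, mul_assoc]
  have h8 := h.cent_fix hx hxc h7
  rw [mul_smul, h3] at h8
  have h9 : j₁ • e = j₁ • d := by rw [h8, h2]
  exact hde ((smul_left_cancel j₁ h9).symm)

/-- Every point other than the base point is fixed by an element of order 7 of `H`. -/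
theorem exists_seven {d : G ⧸ H} (hd : (QuotientGroup.mk 1 : G ⧸ H) ≠ d) :
    ∃ x ∈ H, orderOf x = 7 ∧ x • d = d := by
  classical
  obtain ⟨u, hu, hu1, hu2⟩ := h.exists_swap hd
  have huH : u ∉ H := by
    intro huH
    apply hd
    rw [← hu1, MulAction.Quotient.smul_mk, smul_eq_mul, mul_one, QuotientGroup.eq]
    simpa using huH
  obtain ⟨t, ht, ht1⟩ := h.exists_inv
  set D := H ⊓ H.map (MulAut.conj u).toMonoidHom with hD
  let act : MulAction D G := MulAction.compHom G ((MulAut.conj : G →* MulAut G).comp D.subtype)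
  have hact : ∀ (n : D) (g : G), n • g = n * g * (n : G)⁻¹ := fun n g => rfl
  have horb : MulAction.orbit D t = (S : Set G) \ {1} := by
    ext s
    constructor
    · rintro ⟨n, hn⟩
      have hn' : (n : G) * t * (n : G)⁻¹ = s := hn
      rw [← hn']
      refine ⟨h.normal _ n.2.1 _ ht, fun h1 => ht1 ?_⟩
      have h2 : (n : G) * t * (n : G)⁻¹ = 1 := h1
      rw [mul_inv_eq_one] at h2
      exact mul_left_cancel (h2.trans (mul_one _).symm)
    · rintro ⟨hs, hs1⟩
      obtain ⟨⟨δ, hδ, hδ2⟩, -⟩ := Cfsg.Agent.S1225.result H h.se u hu huH t s (h.order_two ht ht1) (h.SH ht)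
        (h.order_two hs hs1) (h.SH hs)
      exact ⟨⟨δ, hδ⟩, hδ2⟩
  have h3 := MulAction.index_stabilizer D t
  rw [horb, Set.ncard_sdiff (by rw [Set.singleton_subset_iff]; exact S.one_mem), Set.ncard_singleton,
    ← Nat.card_coe_set_eq] at h3
  have h4 : Nat.card ((S : Subgroup G) : Set G) = 8 := h.cardS
  rw [h4] at h3
  have h7 : 7 ∣ Nat.card D := by
    rw [← (MulAction.stabilizer D t).card_mul_index, h3]
    exact Dvd.intro_left _ rfl
  have : Fact (Nat.Prime 7) := ⟨by norm_num⟩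
  obtain ⟨x, hx⟩ := exists_prime_orderOf_dvd_card' (G := D) 7 h7
  refine ⟨x, x.2.1, by rw [← hx, Subgroup.orderOf_coe], ?_⟩
  obtain ⟨y, hy, hyx⟩ := x.2.2
  have hyx' : u * y * u⁻¹ = x := hyx
  rw [← hu1, MulAction.Quotient.smul_mk, smul_eq_mul, mul_one, fix_iff, ← hyx']
  have : u⁻¹ * (u * y * u⁻¹) * u = y := by group
  rw [this]; exact hy

theorem card_compl_le : Nat.card {d : G ⧸ H // (QuotientGroup.mk 1 : G ⧸ H) ≠ d} ≤ 8 := by
  classical
  have h7 : Fact (Nat.Prime 7) := ⟨by norm_num⟩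
  have hn : Nat.card (Sylow 7 H) ≤ 8 := by
    obtain ⟨P⟩ : Nonempty (Sylow 7 H) := inferInstance
    have h1 := card_sylow_modEq_one 7 H
    have h2 := P.card_dvd_index
    have h3 : Nat.card P = 7 := by
      have h4 := P.card_eq_multiplicity
      rw [h.cardH] at h4
      have h5 : (168 : ℕ).factorization 7 = 1 := by
        have h6 : (168 : ℕ) = 7 ^ 1 * 24 := by norm_num
        rw [h6, Nat.factorization_mul (by norm_num) (by norm_num), Finsupp.add_apply,
          Nat.Prime.factorization_pow (by norm_num), Finsupp.single_eq_same,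
          Nat.factorization_eq_zero_of_not_dvd (by norm_num)]
      rw [h5, pow_one] at h4
      exact h4
    have h4 : (P : Subgroup H).index = 24 := by
      have h5 := (P : Subgroup H).card_mul_index
      have h6 : Nat.card (P : Subgroup H) = 7 := h3
      rw [h6, h.cardH] at h5
      omega
    rw [h4] at h2
    have h5 : Nat.card (Sylow 7 H) ≤ 24 := Nat.le_of_dvd (by norm_num) h2
    have h6 : Nat.card (Sylow 7 H) % 7 = 1 := h1
    generalize Nat.card (Sylow 7 H) = n at h2 h5 h6 ⊢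
    interval_cases n <;> omega
  refine le_trans ?_ hn
  choose f hfH hf7 hfd using fun d : {d : G ⧸ H // (QuotientGroup.mk 1 : G ⧸ H) ≠ d} => h.exists_seven d.2
  have hfac : (Nat.card H).factorization 7 = 1 := by
    have h6 : (168 : ℕ) = 7 ^ 1 * 24 := by norm_num
    rw [h.cardH, h6, Nat.factorization_mul (by norm_num) (by norm_num), Finsupp.add_apply,
      Nat.Prime.factorization_pow (by norm_num), Finsupp.single_eq_same,
      Nat.factorization_eq_zero_of_not_dvd (by norm_num)]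
  have hcard : ∀ d, Nat.card (Subgroup.zpowers (⟨f d, hfH d⟩ : H)) = 7 ^ (Nat.card H).factorization 7 := by
    intro d
    rw [hfac, pow_one, Nat.card_zpowers, Subgroup.orderOf_mk, hf7]
  refine Nat.card_le_card_of_injective (fun d => Sylow.ofCard _ (hcard d)) ?_
  intro d e hde
  have h1 : Subgroup.zpowers (⟨f d, hfH d⟩ : H) = Subgroup.zpowers (⟨f e, hfH e⟩ : H) :=
    congrArg (fun P : Sylow 7 H => (P : Subgroup H)) hde
  have h2 : (⟨f d, hfH d⟩ : H) ∈ Subgroup.zpowers (⟨f e, hfH e⟩ : H) := by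
    rw [← h1]; exact Subgroup.mem_zpowers _
  have h3 : f d • (e : G ⧸ H) = e := by
    obtain ⟨n, hn⟩ := Subgroup.mem_zpowers_iff.1 h2
    have h4 : f e ^ n = f d := congrArg Subtype.val hn
    rw [← h4]
    have h5 : f e ∈ MulAction.stabilizer G (e : G ⧸ H) := hfd e
    exact (MulAction.stabilizer G (e : G ⧸ H)).zpow_mem h5 n
  by_contra hne
  have h4 : f d • (QuotientGroup.mk 1 : G ⧸ H) = QuotientGroup.mk 1 := by
    rw [fix_iff]; simpa using hfH d
  exact h.no_three d.2 e.2 (fun h5 => hne (Subtype.ext h5)) (hf7 d) h4 (hfd d) h3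

theorem regular {g : G} (hg : g ∉ H) {u : G} (hu : u ∈ S) (hgu : g⁻¹ * (u * g) ∈ H) : u = 1 := by
  by_contra hu1
  have h1 : u • (QuotientGroup.mk g : G ⧸ H) = QuotientGroup.mk g := by
    rw [fix_iff, mul_assoc]; exact hgu
  have h2 : u • (QuotientGroup.mk 1 : G ⧸ H) = QuotientGroup.mk 1 := by
    rw [fix_iff]; simpa using h.SH hu
  have h3 := h.fix_unique (h.order_two hu hu1) h2 h1
  rw [QuotientGroup.eq] at h3
  apply hg
  simpa using h3

theorem orbit_eq {g : G} (hg : g ∉ H) :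
    Set.range (fun u : S => (u : G) • (QuotientGroup.mk g : G ⧸ H)) = {d | (QuotientGroup.mk 1 : G ⧸ H) ≠ d} := by
  have hinj : Function.Injective (fun u : S => (u : G) • (QuotientGroup.mk g : G ⧸ H)) := by
    intro u v huv
    have h1 : (u : G) • (QuotientGroup.mk g : G ⧸ H) = (v : G) • (QuotientGroup.mk g : G ⧸ H) := huv
    have h2 : ((v : G)⁻¹ * u) • (QuotientGroup.mk g : G ⧸ H) = QuotientGroup.mk g := by
      rw [mul_smul, h1, inv_smul_smul]
    rw [fix_iff, mul_assoc] at h2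
    have h3 := h.regular hg (mul_mem (inv_mem v.2) u.2) h2
    rw [inv_mul_eq_one] at h3
    exact Subtype.ext h3.symm
  apply Set.eq_of_subset_of_ncard_le
  · rintro _ ⟨u, rfl⟩ h1
    apply hg
    have h2 : (QuotientGroup.mk 1 : G ⧸ H) = QuotientGroup.mk ((u : G) * g) := h1
    rw [QuotientGroup.eq, inv_one, one_mul] at h2
    have h3 := mul_mem (inv_mem (h.SH u.2)) h2
    rwa [inv_mul_cancel_left] at h3
  · rw [← Nat.card_coe_set_eq, ← Nat.card_coe_set_eq, Nat.card_range_of_injective hinj, h.cardS]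
    exact h.card_compl_le
  · exact Set.toFinite _

/-- For three points, an involution fixing the third and swapping the first two. -/
theorem exists_swap_fix {a b c : G ⧸ H} (hab : a ≠ b) (hac : a ≠ c) (hbc : b ≠ c) :
    ∃ i : G, orderOf i = 2 ∧ i • a = b ∧ i • b = a ∧ i • c = c := by
  induction c using QuotientGroup.induction_on with
  | H g =>
    obtain ⟨g₁, hg₁⟩ : ∃ g₁ : G, (QuotientGroup.mk g₁ : G ⧸ H) = g⁻¹ • a := QuotientGroup.mk_surjective _
    have hg : g • (QuotientGroup.mk 1 : G ⧸ H) = QuotientGroup.mk g := by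
      rw [MulAction.Quotient.smul_mk, smul_eq_mul, mul_one]
    have hg₁H : g₁ ∉ H := by
      intro h1
      apply hac
      have h2 : (QuotientGroup.mk g₁ : G ⧸ H) = QuotientGroup.mk 1 := by
        rw [QuotientGroup.eq, mul_one]; exact inv_mem h1
      rw [h2] at hg₁
      rw [← hg, hg₁, smul_inv_smul]
    have h3 : g⁻¹ • b ∈ {d | (QuotientGroup.mk 1 : G ⧸ H) ≠ d} := by
      intro h4
      apply hbc
      rw [← hg, h4, smul_inv_smul]
    rw [← h.orbit_eq hg₁H] at h3
    obtain ⟨u, hu⟩ := h3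
    have hu' : (u : G) • (g⁻¹ • a) = g⁻¹ • b := by rw [← hg₁]; exact hu
    have hu1 : (u : G) ≠ 1 := by
      intro h4
      rw [h4, one_smul] at hu'
      exact hab (smul_left_cancel _ hu')
    have hi : g * u * g⁻¹ = MulAut.conj g u := rfl
    have hia : (g * (u : G) * g⁻¹) • a = b := by
      rw [mul_smul, mul_smul, hu', smul_inv_smul]
    have hi2 : orderOf (g * (u : G) * g⁻¹) = 2 := by
      rw [hi, MulEquiv.orderOf_eq, h.order_two u.2 hu1]
    refine ⟨g * u * g⁻¹, hi2, hia, ?_, ?_⟩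
    · rw [← hia, smul_smul, ← pow_two, ← hi2, pow_orderOf_eq_one, one_smul]
    · rw [fix_iff]
      have : g⁻¹ * (g * u * g⁻¹) * g = u := by group
      rw [this]
      exact h.SH u.2

/-- The involutions moving the base point to a point `b ≠ a` are conjugate under an element of order 7. -/
theorem swap_conj {a b : G ⧸ H} {x i j : G} (hab : a ≠ b) (hx : orderOf x = 7) (hxa : x • a = a) (hxb : x • b = b)
    (hi : orderOf i = 2) (hia : i • a = b) (hj : orderOf j = 2) (hja : j • a = b) :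
    ∃ k : ℕ, x ^ k * i * (x ^ k)⁻¹ = j := by
  classical
  have hpa : ∀ k : ℕ, (x ^ k)⁻¹ • a = a := fun k => by
    rw [inv_smul_eq_iff]
    exact ((MulAction.stabilizer G a).pow_mem (MulAction.mem_stabilizer_iff.2 hxa) k : x ^ k • a = a).symm
  have hpb : ∀ k : ℕ, x ^ k • b = b := fun k =>
    (MulAction.stabilizer G b).pow_mem (MulAction.mem_stabilizer_iff.2 hxb) k
  let f : Fin 7 → {i : G // orderOf i = 2 ∧ i • a = b} := fun k =>
    ⟨x ^ (k : ℕ) * i * (x ^ (k : ℕ))⁻¹, by
      have : x ^ (k : ℕ) * i * (x ^ (k : ℕ))⁻¹ = MulAut.conj (x ^ (k : ℕ)) i := rfl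
      rw [this, MulEquiv.orderOf_eq, hi], by
      rw [mul_smul, mul_smul, hpa, hia, hpb]⟩
  have hf : Function.Injective f := by
    have key : ∀ m n : Fin 7, m < n → f m ≠ f n := by
      intro m n hmn hfmn
      have h1 : x ^ (m : ℕ) * i * (x ^ (m : ℕ))⁻¹ = x ^ (n : ℕ) * i * (x ^ (n : ℕ))⁻¹ := congrArg Subtype.val hfmn
      set l := (n : ℕ) - m with hl
      have hn : (n : ℕ) = m + l := by omega
      have h2 : i = x ^ l * i * (x ^ l)⁻¹ := by
        rw [hn, pow_add] at h1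
        have h3 : x ^ (m : ℕ) * i * (x ^ (m : ℕ))⁻¹ = x ^ (m : ℕ) * (x ^ l * i * (x ^ l)⁻¹) * (x ^ (m : ℕ))⁻¹ := by
          rw [h1]; group
        exact mul_left_cancel (mul_right_cancel h3)
      rw [eq_mul_inv_iff_mul_eq] at h2
      have hl0 : l ≠ 0 := by omega
      have hl7 : l < 7 := by omega
      have hxl : orderOf (x ^ l) = 7 := by
        apply orderOf_of_pow hx (Subgroup.mem_zpowers_iff.2 ⟨l, by simp⟩)
        intro h3
        have h4 := orderOf_dvd_of_pow_eq_one h3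
        rw [hx] at h4
        exact hl0 (Nat.eq_zero_of_dvd_of_lt h4 hl7)
      exact h.not_comm hxl hi h2.symm
    intro m n hmn
    rcases lt_trichotomy m n with h1 | h1 | h1
    · exact absurd hmn (key m n h1)
    · exact h1
    · exact absurd hmn.symm (key n m h1)
  have hcard : Nat.card {i : G // orderOf i = 2 ∧ i • a = b} = 7 := by
    rw [Cfsg.Agent.S1224.result H h.se a b hab]
    have h1 : Nat.card {t : G // orderOf t = 2 ∧ t ∈ H} = Nat.card ((S : Set G) \ {1} : Set G) := by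
      refine Nat.card_congr (Equiv.subtypeEquivRight fun t => ?_)
      constructor
      · rintro ⟨h1, h2⟩
        refine ⟨h.invol_mem h2 h1, ?_⟩
        rintro rfl
        rw [orderOf_one] at h1
        omega
      · rintro ⟨h1, h2⟩
        exact ⟨h.order_two h1 h2, h.SH h1⟩
    rw [h1, Nat.card_coe_set_eq, Set.ncard_sdiff (by rw [Set.singleton_subset_iff]; exact S.one_mem),
      Set.ncard_singleton, ← Nat.card_coe_set_eq]
    have : Nat.card ((S : Subgroup G) : Set G) = 8 := h.cardS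
    rw [this]
  have hsurj : Function.Surjective f := by
    have : Nonempty (Fin 7 ≃ {i : G // orderOf i = 2 ∧ i • a = b}) :=
      ⟨(Finite.equivFinOfCardEq hcard).symm⟩
    exact (Finite.injective_iff_surjective_of_equiv this.some).1 hf
  obtain ⟨k, hk⟩ := hsurj ⟨j, hj, hja⟩
  exact ⟨k, congrArg Subtype.val hk⟩

omit h in
/-- The case `q = 3` does not occur. -/
theorem false [IsSimpleGroup G] (h : Three S H) : False := by
  classical
  obtain ⟨g₀, hg₀⟩ : ∃ g : G, g ∉ H := by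
    by_contra hcon
    push Not at hcon
    exact h.se.1 (eq_top_iff.2 fun g _ => hcon g)
  set a : G ⧸ H := QuotientGroup.mk 1 with ha
  set b : G ⧸ H := QuotientGroup.mk g₀ with hb
  have hstab : ∀ g : G, g • a = a ↔ g ∈ H := by
    intro g
    rw [ha, fix_iff, inv_one, one_mul, mul_one]
  have hab : a ≠ b := by
    intro h1
    rw [ha, hb, QuotientGroup.eq, inv_one, one_mul] at h1
    exact hg₀ h1
  obtain ⟨t, ht, ht1⟩ := h.exists_inv
  have htt : t * t = 1 := h.exp t ht
  have ht2 : orderOf t = 2 := h.order_two ht ht1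
  have hta : t • a = a := (hstab t).2 (h.SH ht)
  set c := t • b with hc
  have htc : t • c = b := by rw [hc, smul_smul, htt, one_smul]
  have hac : a ≠ c := by
    intro h1
    apply hab
    rw [← htc, ← h1, hta]
  have hbc : b ≠ c := fun h1 => hab (h.fix_unique ht2 hta h1.symm)
  obtain ⟨i, hi2, hia, hib, hic⟩ := h.exists_swap_fix hab hac hbc
  have hii : i * i = 1 := by rw [← pow_two, ← hi2, pow_orderOf_eq_one]
  have hinv : i⁻¹ = i := inv_eq_of_mul_eq_one_left hii
  have htinv : t⁻¹ = t := inv_eq_of_mul_eq_one_left htt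
  have hiH : i ∉ H := by
    intro h1
    rw [← hstab, hia] at h1
    exact hab h1.symm
  obtain ⟨x, hxH, hx7, hxb⟩ := h.exists_seven hab
  have hxa : x • a = a := (hstab x).2 hxH
  have hxi : i * x * i⁻¹ = x⁻¹ := h.inverts hab hx7 hxa hxb hi2 hia hib
  -- the relation
  have hrel : i * t * i = t * i * t := by
    set w := i * t * (i * t) * (i * t) with hw
    have h1 : (i * t) • a = b := by rw [mul_smul, hta, hia]
    have h2 : (i * t) • b = c := by rw [mul_smul, ← hc, hic]
    have h3 : (i * t) • c = a := by rw [mul_smul, htc, hib]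
    have hwa : w • a = a := by rw [hw, mul_smul, mul_smul, h1, h2, h3]
    have hwb : w • b = b := by rw [hw, mul_smul, mul_smul, h2, h3, h1]
    have hwc : w • c = c := by rw [hw, mul_smul, mul_smul, h3, h1, h2]
    have hwH : w ∈ H := (hstab w).1 hwa
    have h4 : t * (w * t * w⁻¹) = 1 := by
      have h5 : t * (w * t * w⁻¹) ∈ S := mul_mem ht (h.normal w hwH t ht)
      by_contra hne
      apply hab
      apply h.fix_unique (h.order_two h5 hne) ((hstab _).2 (h.SH h5))
      have h6 : w⁻¹ • b = b := by rw [inv_smul_eq_iff, hwb]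
      rw [mul_smul, mul_smul, mul_smul, h6, ← hc, hwc, htc]
    have h5 : w * t = t * w := by
      have h6 : w * t * w⁻¹ = t := by
        rw [← mul_right_inj t, h4, htt]
      rwa [mul_inv_eq_iff_eq_mul] at h6
    have hit : (i * t)⁻¹ = t * i := by rw [mul_inv_rev, hinv, htinv]
    have h6 : t * w * t = w⁻¹ := by
      rw [hw, mul_inv_rev (i * t * (i * t)) (i * t), mul_inv_rev (i * t) (i * t), hit]
      have : t * (i * t * (i * t) * (i * t)) * t = t * i * (t * i * (t * i)) * (t * t) := by group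
      rw [this, htt, mul_one]
    have h7 : w * w = 1 := by
      have h8 : w = w⁻¹ := by
        rw [← h6, mul_assoc, h5, ← mul_assoc, htt, one_mul]
      nth_rewrite 1 [h8]
      rw [inv_mul_cancel]
    have h8 : w = 1 := by
      by_contra hne
      exact hab (h.fix_unique (orderOf_eq_prime (by rw [pow_two, h7]) hne) hwa hwb)
    have h9 : i * t * i * (t * i * t) = 1 := by
      rw [← h8, hw]; group
    have h10 : (t * i * t)⁻¹ = t * i * t := by rw [mul_inv_rev, mul_inv_rev, hinv, htinv, mul_assoc]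
    rwa [mul_eq_one_iff_eq_inv, h10] at h9
  -- the subgroup `H₀ = S ⟨x⟩`
  have hxS : ∀ z ∈ Subgroup.zpowers x, ∀ s ∈ S, z * s * z⁻¹ ∈ S := fun z hz s hs =>
    h.normal z ((Subgroup.zpowers_le.2 hxH) hz) s hs
  let H0 : Subgroup G :=
    { carrier := {g | ∃ s ∈ S, ∃ z ∈ Subgroup.zpowers x, g = s * z}
      one_mem' := ⟨1, one_mem _, 1, one_mem _, (mul_one 1).symm⟩
      mul_mem' := by
        rintro _ _ ⟨s, hs, z, hz, rfl⟩ ⟨s', hs', z', hz', rfl⟩
        refine ⟨s * (z * s' * z⁻¹), mul_mem hs (hxS z hz s' hs'), z * z', mul_mem hz hz', by group⟩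
      inv_mem' := by
        rintro _ ⟨s, hs, z, hz, rfl⟩
        refine ⟨z⁻¹ * s⁻¹ * z⁻¹⁻¹, hxS z⁻¹ (inv_mem hz) _ (inv_mem hs), z⁻¹, inv_mem hz, by group⟩ }
  have hH0 : ∀ g, g ∈ H0 ↔ ∃ s ∈ S, ∃ z ∈ Subgroup.zpowers x, g = s * z := fun g => Iff.rfl
  have hSH0 : S ≤ H0 := fun s hs => ⟨s, hs, 1, one_mem _, (mul_one s).symm⟩
  have hxH0 : Subgroup.zpowers x ≤ H0 := fun z hz => ⟨1, one_mem _, z, hz, (one_mul z).symm⟩
  have hH0H : H0 ≤ H := by
    rintro _ ⟨s, hs, z, hz, rfl⟩
    exact mul_mem (h.SH hs) ((Subgroup.zpowers_le.2 hxH) hz)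
  have hH0card : Nat.card H0 < 168 := by
    have h1 : Nat.card H0 ≤ Nat.card (S × Subgroup.zpowers x) := by
      refine Nat.card_le_card_of_surjective
        (fun p : S × Subgroup.zpowers x => (⟨(p.1 : G) * p.2, ⟨p.1, p.1.2, p.2, p.2.2, rfl⟩⟩ : H0)) ?_
      rintro ⟨_, s, hs, z, hz, rfl⟩
      exact ⟨(⟨s, hs⟩, ⟨z, hz⟩), rfl⟩
    rw [Nat.card_prod, h.cardS, Nat.card_zpowers, hx7] at h1
    omega
  have hzi : ∀ z ∈ Subgroup.zpowers x, i * z * i = z⁻¹ := by
    intro z hz
    obtain ⟨n, rfl⟩ := Subgroup.mem_zpowers_iff.1 hz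
    have h1 := conj_zpow (i := n) (a := i) (b := x)
    rw [hxi] at h1
    nth_rewrite 2 [← hinv]
    rw [← h1, inv_zpow]
  -- the double coset
  let M : Set G := {g | g ∈ H0 ∨ ∃ p ∈ H0, ∃ r ∈ H0, g = p * i * r}
  have hMl : ∀ g ∈ M, ∀ p ∈ H0, p * g ∈ M := by
    rintro g (hg | ⟨q, hq, r, hr, rfl⟩) p hp
    · exact Or.inl (mul_mem hp hg)
    · exact Or.inr ⟨p * q, mul_mem hp hq, r, hr, by group⟩
  have hMr : ∀ g ∈ M, ∀ p ∈ H0, g * p ∈ M := by
    rintro g (hg | ⟨q, hq, r, hr, rfl⟩) p hp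
    · exact Or.inl (mul_mem hg hp)
    · exact Or.inr ⟨q, hq, r * p, mul_mem hr hp, by group⟩
  have hiM : ∀ g ∈ H0, i * g * i ∈ M := by
    rintro _ ⟨s, hs, z, hz, rfl⟩
    by_cases hs1 : s = 1
    · rw [hs1, one_mul, hzi z hz]
      exact Or.inl (hxH0 (inv_mem hz))
    · obtain ⟨k, hk⟩ := h.trans hxH hx7 ht ht1 hs hs1
      have hxk : x ^ k ∈ Subgroup.zpowers x := pow_mem (Subgroup.mem_zpowers x) k
      have hkz : (x ^ k)⁻¹ * z ∈ Subgroup.zpowers x := mul_mem (inv_mem hxk) hz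
      have h1 : i * (s * z) * i = (i * x ^ k * i) * (i * t * i) * (i * ((x ^ k)⁻¹ * z) * i) := by
        have h2 : (i * x ^ k * i) * (i * t * i) * (i * ((x ^ k)⁻¹ * z) * i) =
            i * x ^ k * (i * i) * t * (i * i) * ((x ^ k)⁻¹ * z) * i := by group
        rw [h2, hii, mul_one, mul_one, ← hk]
        group
      rw [h1, hrel, hzi _ hxk, hzi _ hkz]
      refine Or.inr ⟨(x ^ k)⁻¹ * t, mul_mem (hxH0 (inv_mem hxk)) (hSH0 ht), t * ((x ^ k)⁻¹ * z)⁻¹,
        mul_mem (hSH0 ht) (hxH0 (inv_mem hkz)), by group⟩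
  let M0 : Subgroup G :=
    { carrier := M
      one_mem' := Or.inl (one_mem _)
      mul_mem' := by
        rintro g g' hg (hg' | ⟨p, hp, r, hr, rfl⟩)
        · exact hMr g hg g' hg'
        · rcases hg with hg | ⟨q, hq, u, hu, rfl⟩
          · exact hMl _ (Or.inr ⟨p, hp, r, hr, rfl⟩) g hg
          · have h1 : q * i * u * (p * i * r) = q * (i * (u * p) * i) * r := by group
            rw [h1]
            exact hMr _ (hMl _ (hiM _ (mul_mem hu hp)) q hq) r hr
      inv_mem' := by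
        rintro g (hg | ⟨p, hp, r, hr, rfl⟩)
        · exact Or.inl (inv_mem hg)
        · refine Or.inr ⟨r⁻¹, inv_mem hr, p⁻¹, inv_mem hp, ?_⟩
          rw [mul_inv_rev, mul_inv_rev, hinv, mul_assoc] }
  have hM0 : ∀ g, g ∈ M0 ↔ g ∈ H0 ∨ ∃ p ∈ H0, ∃ r ∈ H0, g = p * i * r := fun g => Iff.rfl
  have hi0 : i ∈ M0 := Or.inr ⟨1, one_mem _, 1, one_mem _, by group⟩
  have hH0M : H0 ≤ M0 := fun g hg => Or.inl hg
  -- transitivity of `S`
  have htr : ∀ g : G, g • a ≠ a → ∃ s ∈ S, s • b = g • a := by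
    intro g hg
    have h1 : g • a ∈ {d | (QuotientGroup.mk 1 : G ⧸ H) ≠ d} := fun h2 => hg h2.symm
    rw [← h.orbit_eq hg₀] at h1
    obtain ⟨s, hs⟩ := h1
    exact ⟨s, s.2, hs⟩
  have hfix : ∀ g ∈ H, ∃ s ∈ S, s • b = g • b := by
    intro g hg
    have h1 : (g * i) • a ≠ a := by
      rw [mul_smul, hia]
      intro h2
      apply hab
      have h3 : g • a = a := (hstab g).2 hg
      exact (smul_left_cancel g (h2.trans h3.symm)).symm
    obtain ⟨s, hs, h2⟩ := htr (g * i) h1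
    exact ⟨s, hs, by rw [h2, mul_smul, hia]⟩
  -- `H` normalises `H₀` and `M₀`
  have hnx : ∀ g ∈ H, g * x * g⁻¹ ∈ H0 := by
    intro g hg
    obtain ⟨s, hs, h1⟩ := hfix g hg
    have hga : (s⁻¹ * g) • a = a := (hstab _).2 (mul_mem (inv_mem (h.SH hs)) hg)
    have hgb : (s⁻¹ * g) • b = b := by rw [mul_smul, ← h1, inv_smul_smul]
    have hga' : (s⁻¹ * g)⁻¹ • a = a := by rw [inv_smul_eq_iff, hga]
    have hgb' : (s⁻¹ * g)⁻¹ • b = b := by rw [inv_smul_eq_iff, hgb]
    have h2 : (s⁻¹ * g) * x * (s⁻¹ * g)⁻¹ ∈ Subgroup.zpowers x := by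
      apply h.two_points hab hx7 _ hxa hxb
      · rw [mul_smul, mul_smul, hga', hxa, hga]
      · rw [mul_smul, mul_smul, hgb', hxb, hgb]
      · have : (s⁻¹ * g) * x * (s⁻¹ * g)⁻¹ = MulAut.conj (s⁻¹ * g) x := rfl
        rw [this, MulEquiv.orderOf_eq, hx7]
    have h3 : g * x * g⁻¹ = s * ((s⁻¹ * g) * x * (s⁻¹ * g)⁻¹) * s⁻¹ := by group
    rw [h3]
    exact mul_mem (mul_mem (hSH0 hs) (hxH0 h2)) (inv_mem (hSH0 hs))
  have hnH0 : ∀ g ∈ H, ∀ p ∈ H0, g * p * g⁻¹ ∈ H0 := by
    rintro g hg _ ⟨s, hs, z, hz, rfl⟩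
    obtain ⟨n, rfl⟩ := Subgroup.mem_zpowers_iff.1 hz
    have h1 : g * (s * x ^ n) * g⁻¹ = (g * s * g⁻¹) * (g * x ^ n * g⁻¹) := by group
    rw [h1, ← conj_zpow]
    exact mul_mem (hSH0 (h.normal g hg s hs)) (zpow_mem (hnx g hg) n)
  have hni : ∀ g ∈ H, g * i * g⁻¹ ∈ M0 := by
    intro g hg
    obtain ⟨s, hs, h1⟩ := hfix g hg
    have hga : (s⁻¹ * g) • a = a := (hstab _).2 (mul_mem (inv_mem (h.SH hs)) hg)
    have hgb : (s⁻¹ * g) • b = b := by rw [mul_smul, ← h1, inv_smul_smul]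
    have hga' : (s⁻¹ * g)⁻¹ • a = a := by rw [inv_smul_eq_iff, hga]
    obtain ⟨k, hk⟩ := h.swap_conj hab hx7 hxa hxb hi2 hia
      (j := (s⁻¹ * g) * i * (s⁻¹ * g)⁻¹) (by
        have : (s⁻¹ * g) * i * (s⁻¹ * g)⁻¹ = MulAut.conj (s⁻¹ * g) i := rfl
        rw [this, MulEquiv.orderOf_eq, hi2]) (by
        rw [mul_smul, mul_smul, hga', hia, hgb])
    have h3 : g * i * g⁻¹ = s * ((s⁻¹ * g) * i * (s⁻¹ * g)⁻¹) * s⁻¹ := by group
    rw [h3, ← hk]
    have hxk : x ^ k ∈ M0 := hH0M (hxH0 (pow_mem (Subgroup.mem_zpowers x) k))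
    have hsM : s ∈ M0 := hH0M (hSH0 hs)
    exact mul_mem (mul_mem hsM (mul_mem (mul_mem hxk hi0) (inv_mem hxk))) (inv_mem hsM)
  have hnM : ∀ g ∈ H, ∀ m ∈ M0, g * m * g⁻¹ ∈ M0 := by
    rintro g hg m (hm | ⟨p, hp, r, hr, rfl⟩)
    · exact hH0M (hnH0 g hg m hm)
    · have h1 : g * (p * i * r) * g⁻¹ = (g * p * g⁻¹) * (g * i * g⁻¹) * (g * r * g⁻¹) := by group
      rw [h1]
      exact mul_mem (mul_mem (hH0M (hnH0 g hg p hp)) (hni g hg)) (hH0M (hnH0 g hg r hr))
  have hnormal : M0.Normal := by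
    constructor
    intro m hm g
    by_cases hgH : g ∈ H
    · exact hnM g hgH m hm
    · have h1 : g • a ≠ a := fun h2 => hgH ((hstab g).1 h2)
      obtain ⟨s, hs, h2⟩ := htr g h1
      -- `g = s i r` with `r ∈ H`
      have hr : i * s⁻¹ * g ∈ H := by
        rw [← hstab, mul_smul, mul_smul, ← h2, inv_smul_smul, hib]
      have h3 := hnM _ hr m hm
      have hsi : s * i ∈ M0 := mul_mem (hH0M (hSH0 hs)) hi0
      have h4 := mul_mem (mul_mem hsi h3) (inv_mem hsi)
      have h5 : s * i * (i * s⁻¹ * g * m * (i * s⁻¹ * g)⁻¹) * (s * i)⁻¹ = g * m * g⁻¹ := by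
        have h6 : s * i * (i * s⁻¹ * g * m * (i * s⁻¹ * g)⁻¹) * (s * i)⁻¹ =
            s * (i * i) * s⁻¹ * g * m * g⁻¹ * s * (i * i)⁻¹ * s⁻¹ := by group
        rw [h6, hii]; group
      rwa [h5] at h4
  rcases hnormal.eq_bot_or_eq_top with h1 | h1
  · have h2 : t ∈ M0 := hH0M (hSH0 ht)
    rw [h1] at h2
    exact ht1 h2
  · have h2 : H ≤ H0 := by
      intro g hg
      have h3 : g ∈ M0 := by rw [h1]; exact Subgroup.mem_top g
      rcases h3 with h3 | ⟨p, hp, r, hr, rfl⟩
      · exact h3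
      · exfalso
        apply hiH
        have h4 := mul_mem (mul_mem (inv_mem (hH0H hp)) hg) (inv_mem (hH0H hr))
        have h5 : p⁻¹ * (p * i * r) * r⁻¹ = i := by group
        rwa [h5] at h4
    have h3 := Nat.card_mono (Set.toFinite _) h2
    have h4 : Nat.card H ≤ Nat.card H0 := h3
    rw [h.cardH] at h4
    omega

end Three

end Cfsg.Agent.Ree.ReduceThree
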