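import Mathlib
import Cfsg.Agent.Ree.ReduceCount
import Cfsg.Agent.Ree.ReducePSL
import Cfsg.Agent.Ree.ReduceThree
import Cfsg.Agent.S0252
import Cfsg.Agent.S0253
import Cfsg.Agent.S0448

/-!
# S0343 [R1]: reduction to `q ≡ 3, 5 (mod 8)`, `q > 5`, one class of involutions, `|N(S)| = 168`, `C(S) = S`
-/

set_option autoImplicit false

namespace Cfsg.Agent.Ree.Reduce

open Subgroup
open scoped Pointwise

local notation "PSL2" => Matrix.ProjectiveSpecialLinearGroup (Fin 2)

/-- Common output for `q ≡ 3, 5 (mod 8)`. -/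
structure Out {G : Type*} [Group G] (t : G) (S : Sylow 2 G) : Prop where
  mem : t ∈ S
  exp : ∀ x ∈ S, x * x = 1
  card : Nat.card S = 8
  tr : ∀ x ∈ S, x ≠ 1 → ∃ n ∈ Subgroup.normalizer ((S : Subgroup G) : Set G), n * t * n⁻¹ = x
  cent : Subgroup.centralizer ((S : Subgroup G) : Set G) = S
  cardNC : Nat.card (Subgroup.normalizer ((S : Subgroup G) : Set G) ⊓ Subgroup.centralizer ({t} : Set G) :
    Subgroup G) = 24
  cardN : Nat.card (Subgroup.normalizer ((S : Subgroup G) : Set G)) = 168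
  ab : ∀ a ∈ S, ∀ b ∈ S, a * b = b * a

section

variable {G : Type*} [Group G] [Finite G] {F : Type*} [Field F] [Fintype F]

theorem sylow_comm (hab : ∀ P : Sylow 2 G, ∀ a b : P, a * b = b * a) {t : G} {L : Type*} [Group L] [Finite L]
    (e : Subgroup.centralizer ({t} : Set G) ≃* Multiplicative (ZMod 2) × L) (P : Sylow 2 L) :
    IsMulCommutative (P : Subgroup L) := by
  have h2 : Fact (Nat.Prime 2) := ⟨Nat.prime_two⟩
  have hP2 : IsPGroup 2 (ReduceFusion.pull e (P : Subgroup L)) := by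
    obtain ⟨n, hn⟩ := IsPGroup.iff_card.1 P.isPGroup'
    apply IsPGroup.of_card (n := n + 1)
    rw [ReduceFusion.card_pull, hn, pow_succ, mul_comm]
  obtain ⟨S, hS⟩ := hP2.exists_le_sylow
  refine ⟨⟨fun x y => Subtype.ext ?_⟩⟩
  have hx : ((e.symm (1, (x : L)) : Subgroup.centralizer ({t} : Set G)) : G) ∈ S := by
    apply hS
    rw [ReduceFusion.mem_pull_coe, e.apply_symm_apply]
    exact x.2
  have hy : ((e.symm (1, (y : L)) : Subgroup.centralizer ({t} : Set G)) : G) ∈ S := by
    apply hS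
    rw [ReduceFusion.mem_pull_coe, e.apply_symm_apply]
    exact y.2
  have h1 := congrArg Subtype.val (hab S ⟨_, hx⟩ ⟨_, hy⟩)
  have h3 : e.symm (1, (x : L)) * e.symm (1, (y : L)) = e.symm (1, (y : L)) * e.symm (1, (x : L)) :=
    Subtype.ext h1
  have h4 := congrArg e h3
  rw [map_mul, map_mul, e.apply_symm_apply, e.apply_symm_apply] at h4
  exact congrArg Prod.snd h4

theorem out_of_odd [IsSimpleGroup G] (hab : ∀ P : Sylow 2 G, ∀ a b : P, a * b = b * a) (t : G) (ht : orderOf t = 2)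
    (e : Subgroup.centralizer ({t} : Set G) ≃* Multiplicative (ZMod 2) × PSL2 F)
    (hodd : Odd (Fintype.card F)) (h8 : Fintype.card F % 8 = 3 ∨ Fintype.card F % 8 = 5) :
    ∃ S : Sylow 2 G, Out t S := by
  have h2 : Fact (Nat.Prime 2) := ⟨Nat.prime_two⟩
  obtain ⟨Q⟩ : Nonempty (Sylow 2 (PSL2 F)) := inferInstance
  have hQk : IsKleinFour (Q : Subgroup (PSL2 F)) := Cfsg.Agent.S0276.result rfl h8 Q
  have hQ4 : Nat.card Q = 4 := IsKleinFour.card_four (G := (Q : Subgroup (PSL2 F)))
  have hQsq : ∀ x ∈ Q, x * x = 1 := fun x hx => Cfsg.Agent.TwoFusion.PSLTwoGood.klein_sq hQk hx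
  have hQc : Subgroup.centralizer ((Q : Subgroup (PSL2 F)) : Set (PSL2 F)) = Q := by
    apply le_antisymm (Cfsg.Agent.TwoFusion.PSLTwoGood.selfc hodd h8 Q)
    intro x hx
    rw [Subgroup.mem_centralizer_iff]
    intro y hy
    exact Cfsg.Agent.TwoFusion.PSLTwoGood.klein_comm hQk hy hx
  obtain ⟨S, hSeq, htS, hexp, hScard, htr, hCS, hNC, hN⟩ := ReduceFusion.fusion hab t ht e
    (ReducePSL.center_trivial hodd h8) Q hQsq (by rw [hQ4])
    (fun x y hx hy => Cfsg.Agent.ClassicalGeometry.SLTwoFour.psl_isConj hodd x y hx hy)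
  have hab' : ∀ a ∈ S, ∀ b ∈ S, a * b = b * a := fun a ha b hb => congrArg Subtype.val (hab S ⟨a, ha⟩ ⟨b, hb⟩)
  rw [ReducePSL.card_normalizer hodd h8 Q] at hNC hN
  have hQ4' : Nat.card (Q : Subgroup (PSL2 F)) = 4 := hQ4
  rw [hQc, hQ4'] at hCS
  rw [hQ4] at hN hScard
  refine ⟨S, htS, hexp, hScard, htr, ?_, hNC, hN, hab'⟩
  symm
  apply Subgroup.eq_of_le_of_card_ge
  · intro x hx
    rw [Subgroup.mem_centralizer_iff]
    intro y hy
    exact hab' y hy x hx
  · rw [hCS]
    exact hScard.ge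

end

namespace Out

variable {G : Type*} [Group G] [Finite G] {t : G} {S : Sylow 2 G} (h : Out t S)
include h

theorem conj (u : G) (hu : orderOf u = 2) : IsConj t u := by
  have h2 : Fact (Nat.Prime 2) := ⟨Nat.prime_two⟩
  obtain ⟨R, hR⟩ : ∃ R : Sylow 2 G, Subgroup.zpowers u ≤ R := by
    apply IsPGroup.exists_le_sylow
    apply IsPGroup.of_card (n := 1)
    rw [Nat.card_zpowers, hu, pow_one]
  obtain ⟨g, hg⟩ := MulAction.exists_smul_eq G R S
  have h3 : g * u * g⁻¹ ∈ S := by
    rw [← hg]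
    have : u ∈ (R : Subgroup G) := hR (Subgroup.mem_zpowers u)
    exact Subgroup.smul_mem_pointwise_smul u (MulAut.conj g) (R : Subgroup G) this
  have h4 : g * u * g⁻¹ ≠ 1 := by
    intro h4
    rw [mul_inv_eq_one] at h4
    have h5 : u = 1 := mul_left_cancel (h4.trans (mul_one g).symm)
    rw [h5, orderOf_one] at hu
    omega
  obtain ⟨n, -, hn⟩ := h.tr _ h3 h4
  have h5 : IsConj t (g * u * g⁻¹) := isConj_iff.2 ⟨n, hn⟩
  exact h5.trans (isConj_iff.2 ⟨g⁻¹, by group⟩)

theorem one_class (u v : G) (hu : orderOf u = 2) (hv : orderOf v = 2) : IsConj u v :=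
  (h.conj u hu).symm.trans (h.conj v hv)

theorem card_sylow (P : Sylow 2 G) : Nat.card P = 8 := by
  have h2 : Fact (Nat.Prime 2) := ⟨Nat.prime_two⟩
  rw [← h.card]
  exact Nat.card_congr (Sylow.equiv P S).toEquiv

theorem exp_sylow (P : Sylow 2 G) (x : G) (hx : x ∈ P) : x * x = 1 := by
  have h2 : Fact (Nat.Prime 2) := ⟨Nat.prime_two⟩
  have e := Sylow.equiv P S
  have h1 : (⟨x, hx⟩ * ⟨x, hx⟩ : (P : Subgroup G)) = 1 := by
    apply e.injective
    rw [map_mul, map_one]
    exact Subtype.ext (h.exp _ (e ⟨x, hx⟩).2)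
  exact congrArg Subtype.val h1

theorem card_normalizer (P : Sylow 2 G) :
    Nat.card (Subgroup.normalizer ((P : Subgroup G) : Set G)) = 168 := by
  have h2 : Fact (Nat.Prime 2) := ⟨Nat.prime_two⟩
  have h1 := (Subgroup.normalizer ((P : Subgroup G) : Set G)).card_mul_index
  have h3 := (Subgroup.normalizer ((S : Subgroup G) : Set G)).card_mul_index
  have h5 : Nat.card (Sylow 2 G) = (Subgroup.normalizer ((P : Subgroup G) : Set G)).index :=
    Sylow.card_eq_index_normalizer P
  have h6 : Nat.card (Sylow 2 G) = (Subgroup.normalizer ((S : Subgroup G) : Set G)).index :=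
    Sylow.card_eq_index_normalizer S
  rw [← h5, ← h3, ← h6, h.cardN] at h1
  exact Nat.eq_of_mul_eq_mul_right Nat.card_pos h1

theorem centralizer_eq (P : Sylow 2 G) : Subgroup.centralizer ((P : Subgroup G) : Set G) = P := by
  have h2 : Fact (Nat.Prime 2) := ⟨Nat.prime_two⟩
  obtain ⟨g, hg⟩ := MulAction.exists_smul_eq G S P
  have hmem : ∀ x : G, g * x * g⁻¹ ∈ P ↔ x ∈ S := by
    intro x
    rw [← hg]
    have h1 : g * x * g⁻¹ = MulAut.conj g • x := rfl
    have h3 : (g * x * g⁻¹ ∈ (g • S : Sylow 2 G)) ↔ (MulAut.conj g • x ∈ MulAut.conj g • (S : Subgroup G)) := Iff.rfl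
    rw [h3]
    exact Subgroup.smul_mem_pointwise_smul_iff
  ext x
  constructor
  · intro hx
    have h1 : g⁻¹ * x * g ∈ Subgroup.centralizer ((S : Subgroup G) : Set G) := by
      rw [Subgroup.mem_centralizer_iff] at hx ⊢
      intro y hy
      have h3 := hx (g * y * g⁻¹) ((hmem y).2 hy)
      have h4 : y * (g⁻¹ * x * g) = g⁻¹ * (g * y * g⁻¹ * x) * g := by group
      rw [h4, h3]; group
    rw [h.cent] at h1
    have h3 := (hmem _).2 h1
    have h4 : g * (g⁻¹ * x * g) * g⁻¹ = x := by group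
    rwa [h4] at h3
  · intro hx
    rw [Subgroup.mem_centralizer_iff]
    intro y hy
    have h1 : ∀ z ∈ P, g⁻¹ * z * g ∈ S := by
      intro z hz
      rw [← hmem]
      have h4 : g * (g⁻¹ * z * g) * g⁻¹ = z := by group
      rwa [h4]
    have h3 := h.ab _ (h1 y hy) _ (h1 x hx)
    have h4 : y * x = g * (g⁻¹ * y * g * (g⁻¹ * x * g)) * g⁻¹ := by group
    rw [h4, h3]; group

/-- If `|C(t)| = 24` then the normaliser of `S` is strongly embedded of order 168. -/
theorem three [IsSimpleGroup G] (ht : orderOf t = 2) (h24 : Nat.card (Subgroup.centralizer ({t} : Set G)) = 24) :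
    ReduceThree.Three (S : Subgroup G) (Subgroup.normalizer ((S : Subgroup G) : Set G)) := by
  have h2 : Fact (Nat.Prime 2) := ⟨Nat.prime_two⟩
  set H := Subgroup.normalizer ((S : Subgroup G) : Set G) with hH
  have hCt : Subgroup.centralizer ({t} : Set G) ≤ H := by
    have h1 : H ⊓ Subgroup.centralizer ({t} : Set G) = Subgroup.centralizer ({t} : Set G) :=
      Subgroup.eq_of_le_of_card_ge inf_le_right (by rw [h24, h.cardNC])
    rw [← h1]
    exact inf_le_left
  have hCs : ∀ s ∈ (S : Subgroup G), s ≠ 1 → Subgroup.centralizer ({s} : Set G) ≤ H := by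
    intro s hs hs1 g hg
    obtain ⟨n, hn, hns⟩ := h.tr s hs hs1
    have h1 := Subgroup.mem_centralizer_singleton_iff.1 hg
    have h3 : n⁻¹ * g * n ∈ H := by
      apply hCt
      rw [Subgroup.mem_centralizer_singleton_iff]
      have h4 : t = n⁻¹ * s * n := by rw [← hns]; group
      rw [h4]
      have h5 : n⁻¹ * g * n * (n⁻¹ * s * n) = n⁻¹ * (g * s) * n := by group
      rw [h5, h1]; group
    have h4 := mul_mem (mul_mem hn h3) (inv_mem hn)
    have h5 : n * (n⁻¹ * g * n) * n⁻¹ = g := by group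
    rwa [h5] at h4
  have hmemS : ∀ u ∈ H, orderOf u = 2 → u ∈ (S : Subgroup G) := by
    intro u hu hu2
    have h1 : IsPGroup 2 (Subgroup.zpowers u) := by
      apply IsPGroup.of_card (n := 1)
      rw [Nat.card_zpowers, hu2, pow_one]
    have h3 : Subgroup.zpowers u ⊓ Subgroup.normalizer ((S : Subgroup G) : Set G) = Subgroup.zpowers u ⊓ S :=
      h1.inf_normalizer_sylow S
    have h4 : u ∈ Subgroup.zpowers u ⊓ H := ⟨Subgroup.mem_zpowers u, hu⟩
    rw [hH, h3] at h4
    exact h4.2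
  refine ⟨⟨?_, ?_, ?_⟩, h.cardN, h.card, Subgroup.le_normalizer, ?_, h.exp, ?_, ?_, hCs⟩
  · intro htop
    have hn : (S : Subgroup G).Normal := Subgroup.normalizer_eq_top_iff.1 htop
    rcases hn.eq_bot_or_eq_top with h1 | h1
    · have h3 : Nat.card (S : Subgroup G) = 8 := h.card
      rw [h1, Subgroup.card_bot] at h3
      omega
    · have h3 : Nat.card (S : Subgroup G) = 8 := h.card
      have h4 : Nat.card (S : Subgroup G) = Nat.card G := by rw [h1]; exact Subgroup.card_top
      have h5 : Nat.card H = Nat.card G := by rw [htop]; exact Subgroup.card_top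
      have h6 : Nat.card H = 168 := h.cardN
      omega
  · have h1 : Nat.card H = 168 := h.cardN
    rw [h1]; decide
  · intro g hg
    rw [← Nat.not_even_iff_odd, even_iff_two_dvd]
    intro hdvd
    obtain ⟨u, hu⟩ := exists_prime_orderOf_dvd_card' (G := (H ⊓ H.map (MulAut.conj g).toMonoidHom : Subgroup G)) 2 hdvd
    have hu2 : orderOf (u : G) = 2 := by rw [← hu, Subgroup.orderOf_coe]
    have huS := hmemS u u.2.1 hu2
    obtain ⟨v, hv, hvu⟩ := u.2.2
    have hvu' : g * v * g⁻¹ = u := hvu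
    have hv2 : orderOf v = 2 := by
      rw [← hu2, ← hvu']
      have : g * v * g⁻¹ = MulAut.conj g v := rfl
      rw [this, MulEquiv.orderOf_eq]
    have hvS := hmemS v hv hv2
    have hgu : g⁻¹ * (u : G) * g = v := by rw [← hvu']; group
    have hcomm : IsMulCommutative (S : Subgroup G) := ⟨⟨fun a b => Subtype.ext (h.ab a a.2 b b.2)⟩⟩
    obtain ⟨n, hn, hn2⟩ := S.conj_eq_normalizer_conj_of_mem (u : G) g huS (by rw [hgu]; exact hvS)
    have hu1 : (u : G) ≠ 1 := by
      intro h1
      rw [h1, orderOf_one] at hu2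
      omega
    have h3 : g * n⁻¹ ∈ H := by
      apply hCs u huS hu1
      rw [Subgroup.mem_centralizer_singleton_iff]
      have h4 : g * n⁻¹ * u = g * (n⁻¹ * u * n) * n⁻¹ := by group
      rw [h4, ← hn2]; group
    apply hg
    have h4 := mul_mem h3 hn
    rwa [inv_mul_cancel_right] at h4
  · intro g hg s hs
    exact (Subgroup.mem_normalizer_iff.1 hg s).1 hs
  · intro g hg
    have h1 : g ∈ Subgroup.centralizer ((S : Subgroup G) : Set G) := by
      rw [Subgroup.mem_centralizer_iff]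
      intro s hs
      exact (hg s hs).symm
    rw [h.cent] at h1
    exact h1
  · intro τ hτ
    rw [← h24]
    exact (Cfsg.Agent.TwoFusion.PSLTwoGood.card_centralizer_eq (h.conj τ hτ)).symm

end Out

/-- **[R1]** -/
theorem reduce {G : Type*} [Group G] [Finite G] [IsSimpleGroup G]
    (hab : ∀ P : Sylow 2 G, ∀ a b : P, a * b = b * a)
    {F : Type*} [Field F] [Fintype F] (hq : 3 ≤ Fintype.card F) (t : G) (ht : orderOf t = 2)
    (hC : Nonempty (Subgroup.centralizer ({t} : Set G) ≃*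
      Multiplicative (ZMod 2) × Matrix.ProjectiveSpecialLinearGroup (Fin 2) F)) :
    ((Fintype.card F = 4 ∨ Fintype.card F = 5) ∧ Cfsg.IsJ1 G) ∨
    ((Fintype.card F % 8 = 3 ∨ Fintype.card F % 8 = 5) ∧ 5 < Fintype.card F ∧
      (∀ P : Sylow 2 G, Nat.card P = 8) ∧
      (∀ P : Sylow 2 G, ∀ x ∈ (P : Subgroup G), x * x = 1) ∧
      (∀ u v : G, orderOf u = 2 → orderOf v = 2 → IsConj u v) ∧
      (∀ P : Sylow 2 G, Nat.card (Subgroup.normalizer ((P : Subgroup G) : Set G)) = 168 ∧
        Subgroup.centralizer ((P : Subgroup G) : Set G) = P)) := by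
  have h2 : Fact (Nat.Prime 2) := ⟨Nat.prime_two⟩
  obtain ⟨e⟩ := hC
  -- the involution is 2-central
  have htc : Cfsg.IsTwoCentralInvolution t := by
    refine ⟨ht, ?_⟩
    obtain ⟨R, hR⟩ : ∃ R : Sylow 2 G, Subgroup.zpowers t ≤ R := by
      apply IsPGroup.exists_le_sylow
      apply IsPGroup.of_card (n := 1)
      rw [Nat.card_zpowers, ht, pow_one]
    have htR : t ∈ R := hR (Subgroup.mem_zpowers t)
    exact ⟨R, htR, fun x hx => congrArg Subtype.val (hab R ⟨x, hx⟩ ⟨t, htR⟩)⟩
  rcases Nat.even_or_odd (Fintype.card F) with heven | hodd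
  · -- `q` even
    left
    have hq4 : 4 ≤ Fintype.card F := by
      rcases Nat.lt_or_ge 3 (Fintype.card F) with h1 | h1
      · exact h1
      · have h3 : Fintype.card F = 3 := le_antisymm h1 hq
        rw [h3] at heven
        exact absurd heven (by decide)
    obtain ⟨Q, hQ, hQc, hconj⟩ := ReducePSL.even_case heven
    have h4 : 4 ∣ Nat.card Q := by
      obtain ⟨n, hn⟩ := IsPGroup.iff_card.1 Q.isPGroup'
      have hn' : Nat.card Q = 2 ^ n := hn
      rw [hn']
      have h5 : 2 ≤ n := by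
        by_contra hcon
        have h6 : n = 0 ∨ n = 1 := by omega
        rw [← hQc, hn'] at hq4
        rcases h6 with rfl | rfl
        · norm_num at hq4
        · norm_num at hq4
      exact pow_dvd_pow 2 h5
    have h5 := ReduceCount.card_eq_four hab t ht e (ReducePSL.psl_center hq4) Q hQ h4 hconj
    rw [hQc] at h5
    obtain ⟨e5⟩ := Cfsg.Agent.S0252.result h5
    exact ⟨Or.inl h5, Cfsg.Agent.S0448.result t htc (e.trans (MulEquiv.prodCongr (MulEquiv.refl _) e5))⟩
  · obtain ⟨P⟩ : Nonempty (Sylow 2 (PSL2 F)) := inferInstance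
    have h8 := Cfsg.Agent.TwoFusion.PSLTwoGood.mod_eight hodd P (sylow_comm hab e P)
    obtain ⟨S, hS⟩ := out_of_odd hab t ht e hodd h8
    rcases Nat.lt_or_ge 5 (Fintype.card F) with h5 | h5
    · right
      exact ⟨h8, h5, hS.card_sylow, hS.exp_sylow, hS.one_class,
        fun P => ⟨hS.card_normalizer P, hS.centralizer_eq P⟩⟩
    · have h35 : Fintype.card F = 3 ∨ Fintype.card F = 5 := by omega
      rcases h35 with h3 | h5
      · exfalso
        have h6 := Cfsg.Agent.ClassicalGeometry.PSL2Basic.card_PSL2_odd F hodd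
        have h7 : Nat.card (Subgroup.centralizer ({t} : Set G)) = 24 := by
          rw [Nat.card_congr e.toEquiv, Nat.card_prod]
          have h9 : Nat.card (Multiplicative (ZMod 2)) = 2 := by
            rw [Nat.card_eq_fintype_card]; rfl
          rw [h9]
          rw [h3] at h6
          omega
        exact (hS.three ht h7).false
      · left
        obtain ⟨e5⟩ := Cfsg.Agent.S0253.result h5
        exact ⟨Or.inr h5, Cfsg.Agent.S0448.result t htc (e.trans (MulEquiv.prodCongr (MulEquiv.refl _) e5))⟩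

end Cfsg.Agent.Ree.Reduce
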