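import Mathlib
import Cfsg.Agent.Characters.Core
import Cfsg.Agent.Characters.ClassMul
import Cfsg.Agent.S0876
import Cfsg.Agent.Characters.Linear
import Cfsg.Agent.OddOrderCharacters.CyclicTI

/-!
# S0343: integer vectors on `Irr(G)` attached to functions on subgroups (general lemmas)

* `sum_vec_mul` : scalar products of vectors `χ ↦ ∑ i, c i * conj (χ (x i))` by second orthogonality.
* `sum_vec_class` : class-sum equation `∑ χ, (∑ i, c i * conj (χ (x i))) χ(t)² / χ(1)`.
* `exists_int` : integrality of scalar products with generalized characters of a subgroup.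
* `NT Y`, `BT Y` : nontrivial linear characters of `Y`, and the same modulo inversion.
-/

set_option autoImplicit false

open scoped ComplexConjugate
open Cfsg

namespace Cfsg.Agent.Ree.VecDef

universe u
variable {G : Type u} [Group G]

/-- second orthogonality for vectors -/
theorem sum_vec_mul [Fintype G] [Fintype (IrrCharacter G)] {I J : Type*} [Fintype I] [Fintype J]
    (c : I → ℂ) (x : I → G) (d : J → ℂ) (y : J → G) :
    ∑ χ : IrrCharacter G, (∑ i, c i * conj ((χ : G → ℂ) (x i))) *
        conj (∑ j, d j * conj ((χ : G → ℂ) (y j))) =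
      ∑ i, ∑ j, c i * conj (d j) * (Nat.card {g : G // g * y j * g⁻¹ = x i} : ℂ) := by
  simp only [map_sum, map_mul, Complex.conj_conj, Finset.sum_mul_sum]
  rw [Finset.sum_comm]
  refine Finset.sum_congr rfl fun i _ => ?_
  rw [Finset.sum_comm]
  refine Finset.sum_congr rfl fun j _ => ?_
  rw [← Cfsg.Agent.S0876.sum_irr_mul_conj (y j) (x i), Finset.mul_sum]
  refine Finset.sum_congr rfl fun χ _ => ?_
  ring

/-- class-sum equation for vectors -/
theorem sum_vec_class [Fintype G] [Fintype (IrrCharacter G)] (t : G) {I : Type*} [Fintype I]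
    (c : I → ℂ) (x : I → G) :
    ∑ χ : IrrCharacter G, (∑ i, c i * conj ((χ : G → ℂ) (x i))) *
        ((χ : G → ℂ) t ^ 2 / (χ : G → ℂ) 1) =
      (Nat.card (Subgroup.centralizer ({t} : Set G)) : ℂ) ^ 2 / (Nat.card G : ℂ) *
        ∑ i, c i * (Nat.card {p : G × G // IsConj t p.1 ∧ IsConj t p.2 ∧ p.1 * p.2 = x i} : ℂ) := by
  have hC : (Nat.card (Subgroup.centralizer ({t} : Set G)) : ℂ) ≠ 0 := by
    exact_mod_cast Nat.card_pos.ne'
  have hG : (Nat.card G : ℂ) ≠ 0 := by exact_mod_cast Nat.card_pos.ne'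
  have hidx : (Nat.card (Subgroup.centralizer ({t} : Set G)) : ℂ) *
      ((Subgroup.centralizer ({t} : Set G)).index : ℂ) = (Nat.card G : ℂ) := by
    exact_mod_cast Cfsg.Agent.Characters.ClassMul.card_centralizer_mul_index t
  have hi : ∀ i, (Nat.card {p : G × G // IsConj t p.1 ∧ IsConj t p.2 ∧ p.1 * p.2 = x i} : ℂ) =
      (Nat.card G : ℂ) / (Nat.card (Subgroup.centralizer ({t} : Set G)) : ℂ) ^ 2 *
      ∑ χ : IrrCharacter G, (χ : G → ℂ) t * (χ : G → ℂ) t * conj ((χ : G → ℂ) (x i)) /
        (χ : G → ℂ) 1 := by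
    intro i
    rw [Cfsg.Agent.Characters.ClassMul.card_class_mul]
    congr 1
    rw [← hidx]
    have hI : ((Subgroup.centralizer ({t} : Set G)).index : ℂ) ≠ 0 := by
      intro h0
      rw [h0, mul_zero] at hidx
      exact hG hidx.symm
    field_simp
  simp only [hi]
  simp only [Finset.mul_sum, Finset.sum_mul]
  rw [Finset.sum_comm]
  refine Finset.sum_congr rfl fun i _ => Finset.sum_congr rfl fun χ _ => ?_
  field_simp

/-- restriction of a character to a subgroup -/
theorem isCharacter_restrict (H : Subgroup G) {χ : G → ℂ} (hχ : IsCharacter G χ) :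
    IsCharacter H (fun h : H => χ h) :=
  Cfsg.Agent.Characters.Core.isCharacter_comp H.subtype hχ

/-- scalar products of characters with generalized characters of a subgroup are integers -/
theorem exists_int [Finite G] (H : Subgroup G) [Fintype H] {θ : H → ℂ}
    (hθ : IsGeneralizedCharacter H θ) (χ : IrrCharacter G) :
    ∃ n : ℤ, (Nat.card H : ℂ)⁻¹ * ∑ h : H, θ h * conj ((χ : G → ℂ) h) = n := by
  obtain ⟨α, β, hα, hβ, rfl⟩ := hθ
  have hr := isCharacter_restrict H (Cfsg.Agent.Characters.Core.isIrr_isCharacter χ.2)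
  obtain ⟨a, ha⟩ := Cfsg.Agent.Characters.Core.classInner_isNat hα hr
  obtain ⟨b, hb⟩ := Cfsg.Agent.Characters.Core.classInner_isNat hβ hr
  refine ⟨(a : ℤ) - b, ?_⟩
  have h1 : classInner (α - β) (fun h : H => (χ : G → ℂ) h) = (a : ℂ) - b := by
    rw [Cfsg.Agent.Characters.Core.classInner_sub_left, ha, hb]
  rw [Cfsg.Agent.Characters.Core.classInner_def] at h1
  rw [h1]
  push_cast
  ring

/-- scalar products of pulled back characters with generalized characters are integers -/
theorem exists_int_hom [Finite G] {H : Type*} [Group H] [Fintype H] (φ : H →* G) {θ : H → ℂ}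
    (hθ : IsGeneralizedCharacter H θ) (χ : IrrCharacter G) :
    ∃ n : ℤ, (Nat.card H : ℂ)⁻¹ * ∑ h : H, θ h * conj ((χ : G → ℂ) (φ h)) = n := by
  obtain ⟨α, β, hα, hβ, rfl⟩ := hθ
  have hr : IsCharacter H (fun h : H => (χ : G → ℂ) (φ h)) :=
    Cfsg.Agent.Characters.Core.isCharacter_comp φ
      (Cfsg.Agent.Characters.Core.isIrr_isCharacter χ.2)
  obtain ⟨a, ha⟩ := Cfsg.Agent.Characters.Core.classInner_isNat hα hr
  obtain ⟨b, hb⟩ := Cfsg.Agent.Characters.Core.classInner_isNat hβ hr
  refine ⟨(a : ℤ) - b, ?_⟩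
  have h1 : classInner (α - β) (fun h : H => (χ : G → ℂ) (φ h)) = (a : ℂ) - b := by
    rw [Cfsg.Agent.Characters.Core.classInner_sub_left, ha, hb]
  rw [Cfsg.Agent.Characters.Core.classInner_def] at h1
  rw [h1]
  push_cast
  ring

/-- the vector attached to a function `ψ` on a subgroup `L` of `C(t)` -/
noncomputable def vecP (t : G) (L : Subgroup G) [Fintype L] (ψ : L → ℂ) (χ : G → ℂ) : ℂ :=
  (Nat.card L : ℂ)⁻¹ * ∑ l : L, ψ l * conj (χ (t * l))

/-- the vector attached to the function `α ⊗ (1 - b)` on `V × Y` -/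
noncomputable def vecD (V Y : Subgroup G) [Fintype V] [Fintype Y] (α : V → ℂ) (b : Y → ℂ)
    (χ : G → ℂ) : ℂ :=
  ((Nat.card V : ℂ) * (Nat.card Y : ℂ))⁻¹ * ∑ p : V × Y, α p.1 * (1 - b p.2) * conj (χ (p.1 * p.2))

section Types

variable (Y : Type*) [Group Y]

/-- nontrivial linear characters -/
abbrev NT : Type _ := {b : Y →* ℂˣ // b ≠ 1}

variable {Y}

/-- inversion on nontrivial linear characters -/
def invNT (b : NT Y) : NT Y := ⟨b.1⁻¹, fun h => b.2 (by
  ext y
  have h1 := DFunLike.congr_fun h y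
  rw [MonoidHom.inv_apply, MonoidHom.one_apply, inv_eq_one] at h1
  rw [h1]
  rfl)⟩

@[simp] theorem invNT_val (b : NT Y) : (invNT b).1 = b.1⁻¹ := rfl

theorem invNT_invNT (b : NT Y) : invNT (invNT b) = b := Subtype.ext (inv_inv b.1)

variable (Y)

/-- nontrivial linear characters modulo inversion -/
def ntSetoid : Setoid (NT Y) where
  r b b' := b' = b ∨ b' = invNT b
  iseqv := by
    refine ⟨fun b => Or.inl rfl, ?_, ?_⟩
    · rintro b b' (h | h)
      · exact Or.inl h.symm
      · right
        rw [h, invNT_invNT]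
    · rintro a b c (h | h) (h' | h')
      · left; rw [h', h]
      · right; rw [h', h]
      · right; rw [h', h]
      · left; rw [h', h, invNT_invNT]

/-- nontrivial linear characters modulo inversion -/
def BT : Type _ := Quotient (ntSetoid Y)

variable {Y}

/-- class modulo inversion -/
def cls (b : NT Y) : BT Y := Quotient.mk (ntSetoid Y) b

theorem cls_eq_iff (b b' : NT Y) : cls b = cls b' ↔ b' = b ∨ b' = invNT b :=
  ⟨fun h => Quotient.exact h, fun h => Quotient.sound h⟩

theorem cls_surj (c : BT Y) : ∃ b : NT Y, cls b = c := Quotient.exists_rep c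

theorem cls_inv (b : NT Y) : cls (invNT b) = cls b := ((cls_eq_iff b (invNT b)).2 (Or.inr rfl)).symm

instance instFiniteHom [Finite Y] : Finite (Y →* ℂˣ) := by
  apply Nat.finite_of_card_ne_zero
  rw [Cfsg.Agent.Characters.Linear.card_hom_eq_index_commutator]
  exact Subgroup.index_ne_zero_of_finite

instance instFiniteBT [Finite Y] : Finite (BT Y) := Quotient.finite _

noncomputable instance instFintypeBT [Finite Y] : Fintype (BT Y) := Fintype.ofFinite _

noncomputable instance instDecEqBT : DecidableEq (BT Y) := Classical.decEq _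

theorem card_hom [Finite Y] (hY : ∀ a b : Y, a * b = b * a) : Nat.card (Y →* ℂˣ) = Nat.card Y := by
  rw [Cfsg.Agent.Characters.Linear.card_hom_eq_index_commutator]
  have : commutator Y = ⊥ := by
    rw [commutator_def, Subgroup.commutator_eq_bot_iff_le_centralizer]
    intro a _
    rw [Subgroup.mem_centralizer_iff]
    intro b _
    exact hY b a
  rw [this, Subgroup.index_bot]

/-- linear characters of a group of odd order are not self-inverse -/
theorem invNT_ne [Finite Y] (hodd : Odd (Nat.card Y)) (b : NT Y) : invNT b ≠ b := by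
  intro h
  have h1 : b.1⁻¹ = b.1 := congrArg Subtype.val h
  apply b.2
  ext y
  have h2 : (b.1 y) * (b.1 y) = 1 := by
    have := DFunLike.congr_fun h1 y
    rw [MonoidHom.inv_apply] at this
    nth_rw 1 [← this]
    exact inv_mul_cancel _
  have h3 : (b.1 y) ^ Nat.card Y = 1 := by rw [← map_pow, pow_card_eq_one', map_one]
  obtain ⟨k, hk⟩ := hodd
  rw [hk, pow_succ, pow_mul, pow_two, h2, one_pow, one_mul] at h3
  rw [h3]
  rfl

open Classical in
/-- sums over nontrivial linear characters -/
theorem sum_NT [Finite Y] [Fintype (NT Y)] (hodd : Odd (Nat.card Y)) {R : Type*} [CommRing R]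
    (f : BT Y → R) :
    ∑ b : NT Y, f (cls b) = 2 * ∑ c : BT Y, f c := by
  rw [← Finset.sum_fiberwise (s := Finset.univ) (g := fun b : NT Y => cls b), Finset.mul_sum]
  refine Finset.sum_congr rfl fun c _ => ?_
  obtain ⟨b, rfl⟩ := cls_surj c
  have hs : (Finset.univ.filter fun b' : NT Y => cls b' = cls b) = {b, invNT b} := by
    ext b'
    simp only [Finset.mem_filter, Finset.mem_univ, true_and, Finset.mem_insert,
      Finset.mem_singleton]
    rw [eq_comm, cls_eq_iff]
  rw [hs, Finset.sum_pair (invNT_ne hodd b).symm, cls_inv]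
  ring

theorem two_mul_card_BT [Finite Y] (hY : ∀ a b : Y, a * b = b * a) (hodd : Odd (Nat.card Y)) :
    2 * Fintype.card (BT Y) + 1 = Nat.card Y := by
  classical
  have : Fintype (Y →* ℂˣ) := Fintype.ofFinite _
  have h := sum_NT (Y := Y) hodd (R := ℤ) (fun _ => 1)
  simp only [Finset.sum_const, Finset.card_univ, nsmul_eq_mul, mul_one] at h
  have h1 : Fintype.card (NT Y) = Fintype.card (Y →* ℂˣ) - 1 := by
    rw [Fintype.card_subtype_compl]
    simp
  have h2 : Fintype.card (Y →* ℂˣ) = Nat.card Y := by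
    rw [← card_hom hY, Nat.card_eq_fintype_card]
  have h3 : 0 < Nat.card Y := Nat.card_pos
  have h4 : Fintype.card (NT Y) = 2 * Fintype.card (BT Y) := by exact_mod_cast h
  omega

/-- orthogonality of linear characters -/
theorem sum_hom_mul_conj [Fintype Y] (b b' : Y →* ℂˣ) [Decidable (b = b')] :
    ∑ y : Y, (b y : ℂ) * conj (b' y : ℂ) = if b = b' then (Nat.card Y : ℂ) else 0 :=
  Cfsg.Agent.OddOrderCharacters.CyclicTI.sum_hom_mul_conj b b'

end Types

end Cfsg.Agent.Ree.VecDef
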