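import Cfsg.Agent.Ree.Interface
import Cfsg.Agent.Ree.Rows
import Cfsg.Agent.Ree.DegVal

/-!
# Assembly of `Interface.NumBase`
-/

set_option autoImplicit false

open Cfsg Cfsg.Agent.Characters.Core
open Cfsg.Agent.Ree.Interface Cfsg.Agent.Ree.Rows Cfsg.Agent.Ree.DegVal
open scoped ComplexConjugate

namespace Cfsg.Agent.Ree.CharFinal

variable {G : Type*} [Group G] {F : Type*} [Field F] [Fintype F]
  {t : G} {L V Y : Subgroup G} {m : ℕ} {ε : ℤ}

theorem setup (h : Good F t L V Y m ε) : Setup t L :=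
  ⟨h.ord_t, h.L_le, h.t_not_mem, h.cover⟩

theorem odd_card (h : Good F t L V Y m ε) : Odd (Fintype.card F) := by
  have h1 := h.card_F
  have : Odd (Fintype.card F : ℤ) := by
    rw [h1]
    rcases h.eps with h2 | h2 <;> rw [h2]
    · exact ⟨2 * m, by ring⟩
    · exact ⟨2 * m - 1, by ring⟩
  exact_mod_cast this

theorem abs_Q (h : Good F t L V Y m ε) : |ε * (Fintype.card F : ℤ)| = (Fintype.card F : ℤ) := by
  have h1 : |ε| = 1 := by rcases h.eps with h2 | h2 <;> rw [h2] <;> norm_num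
  rw [abs_mul, h1, one_mul, abs_of_nonneg (by positivity)]

theorem Q_sq (h : Good F t L V Y m ε) :
    (ε * (Fintype.card F : ℤ)) ^ 2 = (Fintype.card F : ℤ) ^ 2 := by
  have h1 : ε ^ 2 = 1 := by rcases h.eps with h2 | h2 <;> rw [h2] <;> norm_num
  rw [mul_pow, h1, one_mul]

/-- The order of `C(t)`. -/
theorem card_centralizer_t [Finite G] (h : Good F t L V Y m ε) :
    (Nat.card (Subgroup.centralizer ({t} : Set G)) : ℤ) =
      |ε * (Fintype.card F : ℤ)| * ((ε * (Fintype.card F : ℤ)) ^ 2 - 1) := by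
  rw [abs_Q h, Q_sq h]
  exact card_centralizer_psl (odd_card h) h.ord_t h.L_le h.t_not_mem h.cover h.iso

/-- The value at `t` in terms of the row. -/
theorem val_eq [Finite G] (h : Good F t L V Y m ε) {M : Ideal AlgInt} (hM : IsPModular 2 M)
    {τ : Fin 4 → L → ℂ} (hτ : Tau M τ) {Q : ℤ} (h1 : 2 * τ 1 1 = -(Q + 1))
    (h2 : 2 * τ 2 1 = -(Q + 1)) (h3 : τ 3 1 = Q) (χ : IrrCharacter G)
    (hχ : ∃ i, r t L τ i χ ≠ 0) :
    2 * val t χ = -(Q + 1) * (r t L τ 0 χ + r t L τ 1 χ) + 2 * Q * r t L τ 2 χ := by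
  have h4 := val_section' hM (setup h) hτ χ hχ 1 (by rw [orderOf_one]; norm_num)
  rw [Subgroup.coe_one, mul_one, ← val_coe h.ord_t, Fin.sum_univ_three] at h4
  have e0 : (Fin.succ 0 : Fin 4) = 1 := rfl
  have e1 : (Fin.succ 1 : Fin 4) = 2 := rfl
  have e2 : (Fin.succ 2 : Fin 4) = 3 := rfl
  rw [e0, e1, e2, h3] at h4
  have h5 : ((2 * val t χ : ℤ) : ℂ) =
      ((-(Q + 1) * (r t L τ 0 χ + r t L τ 1 χ) + 2 * Q * r t L τ 2 χ : ℤ) : ℂ) := by
    push_cast
    linear_combination 2 * h4 + (r t L τ 0 χ : ℂ) * h1 + (r t L τ 1 χ : ℂ) * h2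
  exact_mod_cast h5

/-- Assembly of `NumBase`. -/
theorem numBase [Finite G] [Fintype (IrrCharacter G)] (h : Good F t L V Y m ε)
    {M : Ideal AlgInt} (hM : IsPModular 2 M)
    {τ : Fin 4 → L → ℂ} (hτ : Tau M τ) {Q : ℤ} (hQ : Q = ε * Fintype.card F)
    (h1 : 2 * τ 1 1 = -(Q + 1)) (h2 : 2 * τ 2 1 = -(Q + 1)) (h3 : τ 3 1 = Q)
    {one : IrrCharacter G} (hone : (one : G → ℂ) = fun _ => 1)
    {σ : IrrCharacter G ≃ IrrCharacter G}
    (class0 : ∑ χ : IrrCharacter G, (r t L τ 0 χ : ℚ) * (val t χ : ℚ) ^ 2 / (deg χ : ℚ) =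
      kappa Q (Nat.card G) * (-2 / (Q + 1) - 1))
    (class1 : ∑ χ : IrrCharacter G, (r t L τ 1 χ : ℚ) * (val t χ : ℚ) ^ 2 / (deg χ : ℚ) =
      kappa Q (Nat.card G) * (-2 / (Q + 1) - 1))
    (class2 : ∑ χ : IrrCharacter G, (r t L τ 2 χ : ℚ) * (val t χ : ℚ) ^ 2 / (deg χ : ℚ) =
      kappa Q (Nat.card G) * (1 / Q - 1))
    (gal_deg : ∀ χ, deg (σ χ) = deg χ) (gal_val : ∀ χ, val t (σ χ) = val t χ)
    (gal0 : ∀ χ, r t L τ 0 (σ χ) = r t L τ 1 χ) (gal1 : ∀ χ, r t L τ 1 (σ χ) = r t L τ 0 χ)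
    (gal2 : ∀ χ, r t L τ 2 (σ χ) = r t L τ 2 χ) :
    NumBase Q (Nat.card G) deg (val t) (r t L τ) one σ where
  g_pos := Nat.card_pos
  deg_pos := deg_pos
  deg_one := deg_one one hone
  val_one := val_one h.ord_t one hone
  r_one := fun i => r_one (setup h) hτ i one hone
  mod8 := mod8 h.ord_t h.conj h.sylow_card h.sylow_exp
  deg_dvd := deg_dvd
  omega := by
    intro χ
    have h4 := card_centralizer_t h
    rw [← hQ] at h4
    rw [← h4]
    exact omega h.ord_t χ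
  val_eq := val_eq h hM hτ h1 h2 h3
  gram := gram (setup h) hτ
  r_deg := by
    intro i
    have h4 := r_deg (setup h) hτ i
    simp only [← deg_coe] at h4
    exact_mod_cast h4
  class0 := class0
  class1 := class1
  class2 := class2
  gal_deg := gal_deg
  gal_val := gal_val
  gal0 := gal0
  gal1 := gal1
  gal2 := gal2

end Cfsg.Agent.Ree.CharFinal
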