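import Mathlib
import Cfsg.Agent.Characters.Galois

/-!
# A field automorphism of `ℂ` fixing the roots of unity of order prime to `p` and moving `√(±p)`
-/

set_option autoImplicit false

namespace Cfsg.Agent.Ree.GalEx

open scoped ComplexConjugate

/-- The Gauss sum: an element of square `ε p` moved by the automorphism `ζ ↦ ζ ^ k`, `k` a
non-residue. -/
theorem exists_gauss (p : ℕ) [Fact p.Prime] (hp2 : p ≠ 2) (k : ℕ)
    (hk : quadraticChar (ZMod p) (k : ZMod p) = -1)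
    (σ : ℂ →+* ℂ) (hσ : ∀ z : ℂ, z ^ p = 1 → σ z = z ^ k) :
    ∃ g : ℂ, g ^ 2 = (ZMod.χ₄ p : ℤ) * p ∧ σ g = -g := by
  have hne : NeZero p := ⟨(Fact.out : p.Prime).ne_zero⟩
  set χ : MulChar (ZMod p) ℂ := (quadraticChar (ZMod p)).ringHomComp (Int.castRingHom ℂ) with hχ
  have hinj : Function.Injective (Int.castRingHom ℂ) := Int.cast_injective
  have hrc : ringChar (ZMod p) ≠ 2 := by rwa [ZMod.ringChar_zmod_n]
  have h1 : χ ≠ 1 := by
    rw [hχ]
    exact (MulChar.ringHomComp_ne_one_iff hinj).mpr (quadraticChar_ne_one hrc)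
  have h2 : χ.IsQuadratic := (quadraticChar_isQuadratic (ZMod p)).comp _
  have hψ := ZMod.isPrimitive_stdAddChar p
  refine ⟨gaussSum χ (ZMod.stdAddChar), ?_, ?_⟩
  · rw [gaussSum_sq h1 h2 hψ, ZMod.card, hχ, MulChar.ringHomComp_apply,
      quadraticChar_neg_one hrc, ZMod.card]
    rfl
  · have hk0 : (k : ZMod p) ≠ 0 := by
      intro h
      rw [h, quadraticChar_zero] at hk
      norm_num at hk
    set u : (ZMod p)ˣ := Units.mk0 (k : ZMod p) hk0 with hu
    have h3 : σ (gaussSum χ (ZMod.stdAddChar))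
        = gaussSum χ ((ZMod.stdAddChar).mulShift (u : ZMod p)) := by
      unfold gaussSum
      rw [map_sum]
      refine Finset.sum_congr rfl fun a _ => ?_
      rw [map_mul]
      congr 1
      · rw [hχ, MulChar.ringHomComp_apply, Int.coe_castRingHom, map_intCast]
      · rw [hσ _ (by
          rw [← AddChar.map_nsmul_eq_pow]
          simp), AddChar.mulShift_apply, hu, Units.val_mk0, ← AddChar.map_nsmul_eq_pow,
          nsmul_eq_mul]
    have h4 := gaussSum_mulShift χ (ZMod.stdAddChar) u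
    have h5 : χ (u : ZMod p) = -1 := by
      rw [hχ, MulChar.ringHomComp_apply, hu, Units.val_mk0, hk]
      norm_num
    rw [h5] at h4
    rw [h3, ← h4]
    ring

theorem pow_mod_of_pow {ζ : ℂ} {N : ℕ} (h : ζ ^ N = 1) (k : ℕ) : ζ ^ k = ζ ^ (k % N) := by
  conv_lhs => rw [← Nat.div_add_mod k N]
  rw [pow_add, pow_mul, h, one_pow, one_mul]

/-- There is an automorphism of `ℂ` fixing all roots of unity of order dividing `N` and prime to
`p`, and changing the sign of `√(ε p ^ n)`, where `ε p ^ n ≡ 1` modulo `4`, `n` odd. -/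
theorem exists_sigma {p n N : ℕ} [hp : Fact p.Prime] (hp2 : p ≠ 2) (hN : N ≠ 0) {ε : ℤ}
    (hε : ε = 1 ∨ ε = -1) (hq : (4 : ℤ) ∣ ε * (p : ℤ) ^ n - 1) (hn : Odd n) :
    ∃ σ : ℂ ≃+* ℂ, (∀ (ζ : ℂ) (k : ℕ), k ∣ N → ¬ p ∣ k → ζ ^ k = 1 → σ ζ = ζ) ∧
      ∀ z : ℂ, z ^ 2 = (ε : ℂ) * (p : ℂ) ^ n → σ z = -z := by
  have hpp : p.Prime := hp.out
  set N₀ := ordCompl[p] N with hN₀
  have hN₀0 : N₀ ≠ 0 := (Nat.ordCompl_pos p hN).ne'
  have hcop : Nat.Coprime N₀ p := (Nat.coprime_ordCompl hpp hN).symm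
  have hrc : ringChar (ZMod p) ≠ 2 := by rwa [ZMod.ringChar_zmod_n]
  obtain ⟨a, ha⟩ := quadraticChar_exists_neg_one hrc
  obtain ⟨k, hk1, hk2⟩ := Nat.chineseRemainder hcop 1 a.val
  have hka : (k : ZMod p) = a := by
    have := (ZMod.natCast_eq_natCast_iff _ _ _).mpr hk2
    rw [this, ZMod.natCast_zmod_val]
  have hkχ : quadraticChar (ZMod p) (k : ZMod p) = -1 := by rw [hka]; exact ha
  have hkp : Nat.Coprime k p := by
    rw [Nat.coprime_comm]
    refine (Nat.Prime.coprime_iff_not_dvd hpp).mpr fun h => ?_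
    rw [(ZMod.natCast_eq_zero_iff k p).mpr h, quadraticChar_zero] at hkχ
    norm_num at hkχ
  have hkN : Nat.Coprime k N₀ := by
    have h := hk1.gcd_eq
    rw [Nat.Coprime]
    rw [h]; simp
  have hM : N₀ * p ≠ 0 := mul_ne_zero hN₀0 hpp.ne_zero
  obtain ⟨σ, hσ⟩ := Characters.Galois.exists_ringEquiv_complex hM (Nat.Coprime.mul_right hkN hkp)
  obtain ⟨g, hg, hσg⟩ := exists_gauss p hp2 k hkχ (σ : ℂ →+* ℂ) (fun z hz =>
    hσ z (by rw [mul_comm, pow_mul, hz, one_pow]))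
  refine ⟨σ, fun ζ j hj hpj hζ => ?_, fun z hz => ?_⟩
  · have hj0 : j ∣ N₀ := by
      have h1 : j ∣ p ^ (N.factorization p) * N₀ := by
        rw [hN₀, Nat.ordProj_mul_ordCompl_eq_self]; exact hj
      exact (Nat.Coprime.pow_right _ (Nat.Coprime.symm
        ((Nat.Prime.coprime_iff_not_dvd hpp).mpr hpj))).dvd_of_dvd_mul_left h1
    have hz0 : ζ ^ N₀ = 1 := by
      obtain ⟨c, hc⟩ := hj0
      rw [hc, pow_mul, hζ, one_pow]
    rw [hσ ζ (by rw [pow_mul, hz0, one_pow])]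
    have hk1' : k % N₀ = 1 % N₀ := hk1
    calc ζ ^ k = ζ ^ (k % N₀) := (pow_mod_of_pow hz0 k)
      _ = ζ ^ (1 % N₀) := by rw [hk1']
      _ = ζ ^ 1 := (pow_mod_of_pow hz0 1).symm
      _ = ζ := pow_one ζ
  · have hp1 : p % 2 = 1 := hpp.eq_two_or_odd.resolve_left hp2
    have hp4 : p % 4 = 1 ∨ p % 4 = 3 := by omega
    obtain ⟨j, hj⟩ := hn
    have hsq : ((p : ℤ) ^ 2) % 4 = 1 := by
      rcases hp4 with h | h
      · have : (p : ℤ) % 4 = 1 := by omega
        rw [pow_two, Int.mul_emod, this]; norm_num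
      · have : (p : ℤ) % 4 = 3 := by omega
        rw [pow_two, Int.mul_emod, this]; norm_num
    have hpn : ((p : ℤ) ^ n - p) % 4 = 0 := by
      rw [hj, pow_succ, pow_mul]
      have h1 : (4 : ℤ) ∣ ((p : ℤ) ^ 2) ^ j - 1 := by
        have h2 : (4 : ℤ) ∣ (p : ℤ) ^ 2 - 1 := by omega
        have h3 := sub_one_dvd_pow_sub_one ((p : ℤ) ^ 2) j
        exact h2.trans h3
      have h4 : ((p : ℤ) ^ 2) ^ j * p - p = (((p : ℤ) ^ 2) ^ j - 1) * p := by ring
      rw [h4]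
      exact Int.emod_eq_zero_of_dvd (h1.mul_right _)
    have hχ : (ZMod.χ₄ p : ℤ) = ε := by
      rcases hp4 with h | h
      · rw [ZMod.χ₄_nat_one_mod_four h]
        rcases hε with h' | h'
        · exact h'.symm
        · exfalso
          rw [h'] at hq
          omega
      · rw [ZMod.χ₄_nat_three_mod_four h]
        rcases hε with h' | h'
        · exfalso
          rw [h'] at hq
          omega
        · exact h'.symm
    rw [hχ] at hg
    have hgz : z ^ 2 = (g * (p : ℂ) ^ j) ^ 2 := by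
      rw [hz, mul_pow, hg, hj]
      ring
    have hσ' : σ (g * (p : ℂ) ^ j) = -(g * (p : ℂ) ^ j) := by
      rw [map_mul, map_pow, map_natCast]
      rw [show σ g = -g from hσg]
      ring
    rcases sq_eq_sq_iff_eq_or_eq_neg.mp hgz with h | h
    · rw [h, hσ']
    · rw [h, map_neg, hσ']

/-- The version for a finite field with `4 m + ε` elements, `m` odd. -/
theorem exists_sigma_field {F : Type*} [Field F] [Fintype F] (p : ℕ) [hp : Fact p.Prime]
    [CharP F p] {m : ℕ} {ε : ℤ} (hε : ε = 1 ∨ ε = -1) (hm : Odd m)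
    (hq : (Fintype.card F : ℤ) = 4 * m + ε) {N : ℕ} (hN : N ≠ 0) :
    ∃ σ : ℂ ≃+* ℂ, (∀ (ζ : ℂ) (k : ℕ), k ∣ N → ¬ p ∣ k → ζ ^ k = 1 → σ ζ = ζ) ∧
      ∀ z : ℂ, z ^ 2 = (ε : ℂ) * (Fintype.card F : ℂ) → σ z = -z := by
  obtain ⟨n, -, hn⟩ := FiniteField.card F p
  obtain ⟨j, hj⟩ := hm
  have hodd : Odd (Fintype.card F) := by
    rw [← Int.odd_coe_nat, hq]
    rcases hε with h | h
    · exact ⟨2 * m, by rw [h]; ring⟩
    · exact ⟨2 * m - 1, by rw [h]; ring⟩
  have hp2 : p ≠ 2 := by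
    rintro rfl
    rw [hn] at hodd
    exact absurd hodd (by
      rw [Nat.not_odd_iff_even]
      exact (Nat.even_pow.mpr ⟨even_two, n.pos.ne'⟩))
  have hpo : Odd p := hp.out.odd_of_ne_two hp2
  have hnodd : Odd (n : ℕ) := by
    by_contra h
    rw [Nat.not_odd_iff_even] at h
    obtain ⟨i, hi⟩ := h
    have h1 : ((p : ℤ) ^ i) % 2 = 1 := by
      have : Odd ((p : ℤ) ^ i) := Odd.pow (by exact_mod_cast hpo)
      exact Int.odd_iff.mp this
    obtain ⟨c, hc⟩ : ∃ c : ℤ, (p : ℤ) ^ i = 2 * c + 1 := ⟨(p : ℤ) ^ i / 2, by omega⟩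
    have h2 : (Fintype.card F : ℤ) = ((p : ℤ) ^ i) ^ 2 := by
      rw [hn]; push_cast; rw [hi, pow_two, pow_add]
    have h3 : (Fintype.card F : ℤ) % 8 = 1 := by
      rw [h2, hc]
      have h4 : (2 * c + 1) ^ 2 = 4 * (c * (c + 1)) + 1 := by ring
      obtain ⟨d, hd⟩ := Int.even_mul_succ_self c
      rw [h4, hd]
      omega
    rcases hε with h | h <;> omega
  have h4 : (4 : ℤ) ∣ ε * (p : ℤ) ^ (n : ℕ) - 1 := by
    have h5 : (p : ℤ) ^ (n : ℕ) = 4 * m + ε := by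
      rw [← hq, hn]; push_cast; rfl
    rw [h5]
    rcases hε with h | h
    · exact ⟨m, by rw [h]; ring⟩
    · exact ⟨-m, by rw [h]; ring⟩
  obtain ⟨σ, h1, h2⟩ := exists_sigma hp2 hN hε h4 hnodd
  refine ⟨σ, h1, fun z hz => h2 z ?_⟩
  rw [hz, hn]
  push_cast
  rfl

end Cfsg.Agent.Ree.GalEx
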