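import Cfsg.Agent.Ree.NumEight

/-!
# S0343, numerical part: the final theorem
-/

set_option autoImplicit false

namespace Cfsg.Agent.Ree.Numeric

open Finset Cfsg.Agent.Ree.Interface Cfsg.Agent.Ree.NumCore Cfsg.Agent.Ree.NumPattern Cfsg.Agent.Ree.NumEight

section Arith

theorem dvd_of_parts {m : ℕ} (hm : m ≠ 0) {z : ℤ}
    (h : ∀ ℓ : ℕ, ℓ.Prime → ℓ ∣ m → ((ℓ ^ m.factorization ℓ : ℕ) : ℤ) ∣ z) : (m : ℤ) ∣ z := by
  rw [Int.natCast_dvd]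
  rw [Nat.dvd_iff_prime_pow_dvd_dvd]
  intro p k hp hk
  rcases Nat.eq_zero_or_pos k with rfl | hk0
  · simp
  have hpm : p ∣ m := dvd_trans (dvd_pow_self p hk0.ne') hk
  have h1 := h p hp hpm
  rw [Int.natCast_dvd] at h1
  exact dvd_trans (pow_dvd_pow p ((Nat.Prime.pow_dvd_iff_le_factorization hp hm).mp hk)) h1

theorem order_eq {Q : ℤ} {g : ℕ} (hQ : 13 ≤ Q ∨ Q ≤ -11) (hg : 0 < g)
    (hk : kappa Q g * (Q ^ 2 + Q + 1) = (Q + 1) ^ 2) :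
    (g : ℤ) = |Q| ^ 3 * (Q - 1) * (Q + 1) * (Q ^ 2 + Q + 1) := by
  have hQ1 : (Q : ℚ) + 1 ≠ 0 := by
    intro h; have : Q + 1 = 0 := by exact_mod_cast h
    omega
  have hgq : (g : ℚ) ≠ 0 := by positivity
  have h1 : (g : ℚ) = |(Q : ℚ)| ^ 3 * (Q - 1) * (Q + 1) * (Q ^ 2 + Q + 1) := by
    have h2 : kappa Q g = |(Q : ℚ)| ^ 3 * (Q - 1) * (Q + 1) ^ 3 / g := rfl
    rw [h2] at hk
    have h3 : ((Q : ℚ) + 1) ^ 2 * (g : ℚ) = (Q + 1) ^ 2 * (|(Q : ℚ)| ^ 3 * (Q - 1) * (Q + 1) * (Q ^ 2 + Q + 1)) := by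
      field_simp at hk
      linear_combination (-1 : ℚ) * hk * (Q + 1 : ℚ) ^ 2
    exact mul_left_cancel₀ (pow_ne_zero _ hQ1) h3
  have h2 : ((g : ℤ) : ℚ) = ((|Q| ^ 3 * (Q - 1) * (Q + 1) * (Q ^ 2 + Q + 1) : ℤ) : ℚ) := by
    push_cast
    exact h1
  exact_mod_cast h2

/-- End of Case I. -/
theorem final_case {p n g : ℕ} {Q M X2 X3 : ℤ} (hp : p.Prime) (hQp : |Q| = (p : ℤ) ^ n) (hQ5 : 5 < |Q|)
    (hQ : 13 ≤ Q ∨ Q ≤ -11) (hg : 0 < g) (hs2 : X2 + X3 = M + 1)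
    (h : M = -(Q ^ 2 + Q + 1) ∧ 12 * (X2 * X3) = Q * (Q + 1) ^ 2 * (Q ^ 2 + Q + 1) ∧
      kappa Q g * (Q ^ 2 + Q + 1) = (Q + 1) ^ 2) :
    ∃ k : ℕ, 1 ≤ k ∧ |Q| = 3 ^ (2 * k + 1) ∧
      g = (3 ^ (2 * k + 1)) ^ 3 * ((3 ^ (2 * k + 1)) ^ 3 + 1) * (3 ^ (2 * k + 1) - 1) := by
  obtain ⟨h1, h2, h3⟩ := h
  have hx : Q = (p : ℤ) ^ n ∨ Q = -(p : ℤ) ^ n := by
    rcases abs_cases Q with h | h <;> omega
  obtain ⟨hx1, rfl, hodd⟩ := Cfsg.Agent.LieExceptional.ReeArith.final hp hx hQ5 (X3 := X2) (X3' := X3)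
    (by rw [hs2, h1]; ring) h2
  obtain ⟨k, rfl⟩ := hodd
  have hk : 1 ≤ k := by
    by_contra hk
    have : k = 0 := by omega
    subst this
    rw [hQp] at hQ5
    norm_num at hQ5
  refine ⟨k, hk, by rw [hQp]; norm_num, ?_⟩
  have hg' := order_eq hQ hg h3
  rw [hQp, hx1] at hg'
  have h4 : 1 ≤ 3 ^ (2 * k + 1) := Nat.one_le_pow _ _ (by norm_num)
  have h5 : ((g : ℕ) : ℤ) = (((3 ^ (2 * k + 1)) ^ 3 * ((3 ^ (2 * k + 1)) ^ 3 + 1) * (3 ^ (2 * k + 1) - 1) : ℕ) : ℤ) := by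
    rw [hg']
    push_cast [Nat.cast_sub h4]
    ring
  exact_mod_cast h5

end Arith

variable {ι : Type*} [Fintype ι] [DecidableEq ι] {Q : ℤ} {g : ℕ} {deg val : ι → ℤ} {r : Fin 3 → ι → ℤ}
  {one : ι} {σ : ι ≃ ι} {k : ℕ} {a b : ι → ℤ}

omit [DecidableEq ι] in
theorem seven_vals (hb : NumBase Q g deg val r one σ) {e : Fin 7 → ι} {δ : Fin 7 → ℤ}
    (h : Seven r one e δ) {c : ℤ} (hc : 2 * c = -(Q + 1)) :
    ∀ j, val (e j) = δ j * (![1, c, c, Q, -2 * c, c + 1, c + 1] : Fin 7 → ℤ) j := by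
  intro j
  have h1 := hb.val_eq (e j) ((h.mem _).mpr ⟨j, rfl⟩)
  rw [h.r0, h.r1, h.r2] at h1
  obtain rfl : Q = -2 * c - 1 := by linarith
  fin_cases j <;> simp only [Fin.zero_eta, Fin.mk_one, Fin.reduceFinMk, Matrix.cons_val_zero,
    Matrix.cons_val_one, Matrix.cons_val] at h1 ⊢ <;> linarith

omit [Fintype ι] [DecidableEq ι] in
theorem seven_w {e : Fin 7 → ι} {δ : Fin 7 → ℤ} (h : Seven r one e δ) :
    ∀ j, -r 0 (e j) - r 1 (e j) + r 2 (e j) = δ j * (![1, -1, -1, 1, 2, 0, 0] : Fin 7 → ℤ) j := by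
  intro j
  rw [h.r0, h.r1, h.r2]
  fin_cases j <;> simp only [Fin.zero_eta, Fin.mk_one, Fin.reduceFinMk, Matrix.cons_val_zero,
    Matrix.cons_val_one, Matrix.cons_val] <;> ring

omit [DecidableEq ι] in
theorem seven_gal (hb : NumBase Q g deg val r one σ) {e : Fin 7 → ι} {δ : Fin 7 → ℤ}
    (h : Seven r one e δ) :
    (σ (e 1) = e 2 ∧ δ 1 = δ 2) ∧ (σ (e 5) = e 6 ∧ δ 5 = δ 6) := by
  constructor
  · have e0 : r 0 (e 1) = δ 1 := by rw [h.r0]; simp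
    have e1 : r 1 (e 1) = 0 := by rw [h.r1]; simp
    have e2 : r 2 (e 1) = 0 := by rw [h.r2]; simp
    have s0 : r 0 (σ (e 1)) = 0 := by rw [hb.gal0, e1]
    have s1 : r 1 (σ (e 1)) = δ 1 := by rw [hb.gal1, e0]
    have s2 : r 2 (σ (e 1)) = 0 := by rw [hb.gal2, e2]
    have hδj : δ 1 ≠ 0 := by rcases h.δ_sq 1 with h | h <;> rw [h] <;> norm_num
    obtain ⟨i, hi⟩ := (h.mem (σ (e 1))).mp ⟨1, by rw [s1]; exact hδj⟩
    rw [← hi] at s0 s1 s2 ⊢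
    rw [h.r0] at s0
    rw [h.r1] at s1
    rw [h.r2] at s2
    have hδi := h.δ_sq i
    fin_cases i <;> simp only [Fin.zero_eta, Fin.mk_one, Fin.reduceFinMk, Matrix.cons_val_zero,
      Matrix.cons_val_one, Matrix.cons_val] at s0 s1 s2 hδi
    · omega
    · omega
    · exact ⟨rfl, by omega⟩
    · omega
    · omega
    · omega
    · omega
  · have e0 : r 0 (e 5) = -δ 5 := by rw [h.r0]; simp
    have e1 : r 1 (e 5) = 0 := by rw [h.r1]; simp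
    have e2 : r 2 (e 5) = -δ 5 := by rw [h.r2]; simp
    have s0 : r 0 (σ (e 5)) = 0 := by rw [hb.gal0, e1]
    have s1 : r 1 (σ (e 5)) = -δ 5 := by rw [hb.gal1, e0]
    have s2 : r 2 (σ (e 5)) = -δ 5 := by rw [hb.gal2, e2]
    have hδj : δ 5 ≠ 0 := by rcases h.δ_sq 5 with h | h <;> rw [h] <;> norm_num
    obtain ⟨i, hi⟩ := (h.mem (σ (e 5))).mp ⟨1, by rw [s1]; omega⟩
    rw [← hi] at s0 s1 s2 ⊢
    rw [h.r0] at s0
    rw [h.r1] at s1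
    rw [h.r2] at s2
    have hδi := h.δ_sq i
    fin_cases i <;> simp only [Fin.zero_eta, Fin.mk_one, Fin.reduceFinMk, Matrix.cons_val_zero,
      Matrix.cons_val_one, Matrix.cons_val] at s0 s1 s2 hδi
    · omega
    · omega
    · omega
    · omega
    · omega
    · omega
    · exact ⟨rfl, by omega⟩

/-- One prime, seven pattern. -/
theorem seven_step (hb : NumBase Q g deg val r one σ) (ht : NumTI Q g deg val r one σ k a b) (hQ8 : Q % 8 = 5)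
    {e : Fin 7 → ι} {δ : Fin 7 → ℤ} (h : Seven r one e δ) :
    kappa Q g * (2 * (δ 1 * deg (e 1) : ℤ)) = (Q + 1) ^ 3 ∧ (k : ℤ) ∣ δ 3 * deg (e 3) - 1 := by
  obtain ⟨c, hc⟩ : ∃ c, 2 * c = -(Q + 1) := ⟨-(Q + 1) / 2, by omega⟩
  obtain ⟨β, hβ, hcase, hsq, D, P, hD0, hD, hP, hcl, hk⟩ :=
    ti_eqs hb ht hQ8 h.inj h.δ_sq h.mem (seven_vals hb h hc) _ (seven_w h)
  have hβ0 : β 0 = 0 := by
    have h1 := hβ 0
    rw [h.zero, ht.b_one, h.δ_zero] at h1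
    omega
  have g1 := hcase 1
  have g2 := hcase 2
  have g3 := hcase 3
  have g4 := hcase 4
  have g5 := hcase 5
  have g6 := hcase 6
  simp only [Matrix.cons_val_one, Matrix.cons_val] at g1 g2 g3 g4 g5 g6
  obtain ⟨⟨s1, d1⟩, s5, d5⟩ := seven_gal hb h
  have q1 := hb.gal_deg (e 1)
  have b1 := ht.gal_b (e 1)
  rw [s1] at q1 b1
  have hβ2 : β 2 = β 1 := by
    rw [hβ, hβ, d1] at b1
    rcases h.δ_sq 2 with h | h <;> rw [h] at b1 <;> omega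
  have hβ5 : β 5 = 0 := by
    rcases g5 with h | h
    · exact h.1
    · rw [h]; norm_num
  have hβ6 : β 6 = 0 := by
    rcases g6 with h | h
    · exact h.1
    · rw [h]; norm_num
  rw [Fin.sum_univ_seven] at hsq hD hP
  simp only [Matrix.cons_val_zero, Matrix.cons_val_one, Matrix.cons_val] at hsq hD hP
  rw [hβ0, hβ2, hβ5, hβ6] at hsq hD hP
  have hβ4 : β 4 = 0 := by
    rcases g4 with h | h
    · exact h.1
    · exfalso
      rw [h] at hsq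
      nlinarith [sq_nonneg (β 1), sq_nonneg (β 3)]
  rw [hβ4] at hsq hD hP
  have hk3 : β 3 = 0 ∨ β 3 = -1 := by
    rcases g3 with h | h
    · exact Or.inl h.1
    · exact Or.inr h
  have hk1 : β 1 = 0 ∨ β 1 = 1 := by
    rcases g1 with h | h
    · exact Or.inl h.1
    · right; rw [h]; norm_num
  rcases hk1 with z1 | z1 <;> rcases hk3 with z3 | z3 <;> rw [z1, z3] at hsq hD hP
  · exfalso; norm_num at hsq
  · exfalso; norm_num at hsq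
  · have hcq : (c : ℚ) = -(Q + 1) / 2 := by
      have : (2 * c : ℤ) = -(Q + 1) := hc
      have h4 : ((2 * c : ℤ) : ℚ) = ((-(Q + 1) : ℤ) : ℚ) := by rw [this]
      push_cast at h4
      linarith
    constructor
    · have e1 : D = -(2 * (δ 1 * deg (e 1))) := by rw [hD, q1, ← d1]; ring
      have e2 : P = -2 * c := by rw [hP]; ring
      rw [e1, e2] at hk
      push_cast at hk ⊢
      rw [hcq] at hk
      linarith
    · rcases g3 with g3 | g3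
      · exact g3.2
      · rw [z3] at g3; norm_num at g3
  · exfalso; norm_num at hsq

theorem main {p n m : ℕ} (hp : p.Prime) (hQp : |Q| = (p : ℤ) ^ n) (hQ8 : Q % 8 = 5) (hQ5 : 5 < |Q|)
    (hm : 4 * (m : ℤ) = |Q - 1|) (hb : NumBase Q g deg val r one σ)
    (ht : ∀ ℓ : ℕ, ℓ.Prime → ℓ ∣ m → ∃ a b, NumTI Q g deg val r one σ (ℓ ^ m.factorization ℓ) a b) :
    ∃ k : ℕ, 1 ≤ k ∧ |Q| = 3 ^ (2 * k + 1) ∧
      g = (3 ^ (2 * k + 1)) ^ 3 * ((3 ^ (2 * k + 1)) ^ 3 + 1) * (3 ^ (2 * k + 1) - 1) := by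
  have hQ : 13 ≤ Q ∨ Q ≤ -11 := by
    rcases abs_cases Q with h | h <;> omega
  have hm3 : 1 < m ∧ m % 2 = 1 := by
    rcases abs_cases (Q - 1) with h | h <;> omega
  have hm0 : m ≠ 0 := by omega
  obtain ⟨ℓ₀, hℓ₀, hℓm⟩ := Nat.exists_prime_and_dvd (by omega : m ≠ 1)
  have hQ1 : (Q : ℚ) + 1 ≠ 0 := by
    intro h; have : Q + 1 = 0 := by exact_mod_cast h
    omega
  have hcg : |Q| * (Q ^ 2 - 1) ∣ (g : ℤ) := by
    have := hb.omega one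
    rwa [hb.deg_one, hb.val_one, one_mul, mul_one] at this
  obtain ⟨c, hc⟩ : ∃ c, 2 * c = -(Q + 1) := ⟨-(Q + 1) / 2, by omega⟩
  have hcq : (c : ℚ) = -(Q + 1) / 2 := by
    have h4 : ((2 * c : ℤ) : ℚ) = ((-(Q + 1) : ℤ) : ℚ) := by rw [hc]
    push_cast at h4
    linarith
  have hne : ∀ {x d : ℤ}, (x = 1 ∨ x = -1) → 0 < d → x * d ≠ 0 := by
    intro x d hx hd
    rcases hx with rfl | rfl <;> omega
  rcases pattern hb with ⟨e, δ, h⟩ | ⟨e, δ, h⟩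
  · -- eight rows
    obtain ⟨hd, cl0, cl1, cl2⟩ := base_eqs hb h.inj h.δ_sq h.mem (eight_vals hb h hc)
      ![![-1, -1, 1, 1, 0, 0, 0, 0], ![-1, -1, 0, 0, 1, 1, 0, 0], ![-1, -1, 0, 0, 0, 0, 1, 1]]
      (by intro i j; fin_cases i
          · exact h.r0 j
          · exact h.r1 j
          · exact h.r2 j)
    have hd0 := hd 0
    have hd2 := hd 2
    rw [Fin.sum_univ_eight] at hd0 hd2 cl0 cl2
    simp only [Matrix.cons_val_zero, Matrix.cons_val_one, Matrix.cons_val] at hd0 hd2 cl0 cl2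
    rw [h.zero, hb.deg_one, h.δ_zero] at hd0 hd2 cl0 cl2
    obtain ⟨M, hM⟩ : ∃ M, M = δ 1 * deg (e 1) := ⟨_, rfl⟩
    obtain ⟨X2, h2⟩ : ∃ M, M = δ 2 * deg (e 2) := ⟨_, rfl⟩
    obtain ⟨X3, h3⟩ : ∃ M, M = δ 3 * deg (e 3) := ⟨_, rfl⟩
    obtain ⟨X6, h6⟩ : ∃ M, M = δ 6 * deg (e 6) := ⟨_, rfl⟩
    obtain ⟨X7, h7⟩ : ∃ M, M = δ 7 * deg (e 7) := ⟨_, rfl⟩
    rw [← hM, ← h2, ← h3, ← h6, ← h7] at hd0 hd2 cl0 cl2
    have hM0 : M ≠ 0 := hM ▸ hne (h.δ_sq 1) (hb.deg_pos _)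
    have h20 : X2 ≠ 0 := h2 ▸ hne (h.δ_sq 2) (hb.deg_pos _)
    have h30 : X3 ≠ 0 := h3 ▸ hne (h.δ_sq 3) (hb.deg_pos _)
    have h60 : X6 ≠ 0 := h6 ▸ hne (h.δ_sq 6) (hb.deg_pos _)
    have h70 : X7 ≠ 0 := h7 ▸ hne (h.δ_sq 7) (hb.deg_pos _)
    have hs2 : X2 + X3 = M + 1 := by linarith
    have hs6 : X6 + X7 = M + 1 := by linarith
    have c0 : -1 - 1 / (M : ℚ) + ((Q + 1) / 2 : ℚ) ^ 2 / X2 + ((Q + 1) / 2 : ℚ) ^ 2 / X3
        = kappa Q g * (-2 / (Q + 1) - 1) := by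
      rw [← cl0]
      push_cast
      rw [hcq]
      ring
    have c2 : -1 - 1 / (M : ℚ) + (Q : ℚ) ^ 2 / X6 + (Q : ℚ) ^ 2 / X7 = kappa Q g * (1 / Q - 1) := by
      rw [← cl2]
      push_cast
      ring
    by_cases hI : M = -(Q ^ 2 + Q + 1) ∧ 12 * (X2 * X3) = Q * (Q + 1) ^ 2 * (Q ^ 2 + Q + 1) ∧
        kappa Q g * (Q ^ 2 + Q + 1) = (Q + 1) ^ 2
    · exact final_case hp hQp hQ5 hQ hb.g_pos hs2 hI
    · exfalso
      have hstep : ∀ ℓ : ℕ, ℓ.Prime → ℓ ∣ m → ∃ Xs Xo : ℤ, ((Xs = X2 ∧ Xo = X3) ∨ (Xs = X3 ∧ Xo = X2)) ∧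
          kappa Q g * (2 * Xs) = (Q + 1) ^ 3 ∧
          ((ℓ ^ m.factorization ℓ : ℕ) : ℤ) ∣ M - 1 ∧ ((ℓ ^ m.factorization ℓ : ℕ) : ℤ) ∣ Xs - 3 := by
        intro ℓ hℓ hd
        obtain ⟨a, b, hab⟩ := ht ℓ hℓ hd
        exact (eight_step hb hab hQ8 hQ h hM h2 h3 h6 h7 hM0 h20 h30 h60 h70 hs2 hs6 c0 c2).resolve_left hI
      obtain ⟨Xs, Xo, hX, hkX, -, -⟩ := hstep ℓ₀ hℓ₀ hℓm
      have hXs0 : Xs ≠ 0 := by rcases hX with ⟨h1, -⟩ | ⟨h1, -⟩ <;> rw [h1] <;> assumption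
      have hXo0 : Xo ≠ 0 := by rcases hX with ⟨-, h1⟩ | ⟨-, h1⟩ <;> rw [h1] <;> assumption
      have hsX : Xs + Xo = M + 1 := by rcases hX with ⟨h1, h2⟩ | ⟨h1, h2⟩ <;> rw [h1, h2] <;> linarith
      have hκ0 : kappa Q g ≠ 0 := by
        intro h0
        rw [h0, zero_mul] at hkX
        exact pow_ne_zero 3 hQ1 hkX.symm
      have hMm : (m : ℤ) ∣ M - 1 := dvd_of_parts hm0 fun ℓ hℓ hd => by
        obtain ⟨_, _, _, _, h5, _⟩ := hstep ℓ hℓ hd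
        exact h5
      have hXm : (m : ℤ) ∣ Xs - 3 := dvd_of_parts hm0 fun ℓ hℓ hd => by
        obtain ⟨Y, _, _, h4, _, h6⟩ := hstep ℓ hℓ hd
        have : (Y : ℚ) = Xs := by
          have h5 : kappa Q g * (2 * Y) = kappa Q g * (2 * Xs) := by rw [h4, hkX]
          have := mul_left_cancel₀ hκ0 h5
          linarith
        have h7 : Y = Xs := by exact_mod_cast this
        rw [← h7]; exact h6
      have hX8' : ∀ j : Fin 8, (8 : ℤ) ∣ δ j * deg (e j)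
          - (![1, 1, c, c, c, c, Q, Q] : Fin 8 → ℤ) j := by
        intro j
        have h1 := hb.mod8 (e j)
        rw [eight_vals hb h hc j] at h1
        have : δ j * deg (e j) - (![1, 1, c, c, c, c, Q, Q] : Fin 8 → ℤ) j
            = δ j * (deg (e j) - δ j * (![1, 1, c, c, c, c, Q, Q] : Fin 8 → ℤ) j) := by
          rcases h.δ_sq j with h | h <;> rw [h] <;> ring
        rw [this]
        exact h1.mul_left _
      have hM8 : (8 : ℤ) ∣ M - 1 := by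
        have := hX8' 1
        simp only [Matrix.cons_val_one, Matrix.cons_val] at this
        rwa [← hM] at this
      have hX8 : (8 : ℤ) ∣ 2 * Xs + (Q + 1) := by
        have h21 := hX8' 2
        have h31 := hX8' 3
        simp only [Matrix.cons_val] at h21 h31
        rw [← h2] at h21
        rw [← h3] at h31
        rcases hX with ⟨h1, -⟩ | ⟨h1, -⟩ <;> rw [h1] <;> omega
      refine EightArith.caseTwo_false hQ hQ8 hm hb.g_pos hcg hM0 hXs0 hXo0 hsX (kappa Q g) rfl ?_ hkX hM8 hX8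
        hMm hXm
      rcases hX with ⟨h1, h2⟩ | ⟨h1, h2⟩ <;> rw [h1, h2]
      · exact c0
      · rw [← c0]; ring
  · -- seven rows
    exfalso
    obtain ⟨hd, cl0, cl1, cl2⟩ := base_eqs hb h.inj h.δ_sq h.mem (seven_vals hb h hc)
      ![![-1, 1, 0, 0, -1, -1, 0], ![-1, 0, 1, 0, -1, 0, -1], ![-1, 0, 0, 1, 0, -1, -1]]
      (by intro i j; fin_cases i
          · exact h.r0 j
          · exact h.r1 j
          · exact h.r2 j)
    obtain ⟨⟨s1, d1⟩, s5, d5⟩ := seven_gal hb h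
    have q5 := hb.gal_deg (e 5)
    rw [s5] at q5
    have hd0 := hd 0
    have hd2 := hd 2
    rw [Fin.sum_univ_seven] at hd0 hd2 cl0 cl2
    simp only [Matrix.cons_val_zero, Matrix.cons_val_one, Matrix.cons_val] at hd0 hd2 cl0 cl2
    rw [q5, ← d5] at hd0 hd2 cl0 cl2
    rw [h.zero, hb.deg_one, h.δ_zero] at hd0 hd2 cl0 cl2
    obtain ⟨H, hH⟩ : ∃ M, M = δ 1 * deg (e 1) := ⟨_, rfl⟩
    obtain ⟨D, hD⟩ : ∃ M, M = δ 3 * deg (e 3) := ⟨_, rfl⟩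
    obtain ⟨Y, hY⟩ : ∃ M, M = δ 4 * deg (e 4) := ⟨_, rfl⟩
    obtain ⟨X, hX⟩ : ∃ M, M = δ 5 * deg (e 5) := ⟨_, rfl⟩
    have hstep : ∀ ℓ : ℕ, ℓ.Prime → ℓ ∣ m → kappa Q g * (2 * (H : ℚ)) = (Q + 1) ^ 3 ∧
        ((ℓ ^ m.factorization ℓ : ℕ) : ℤ) ∣ D - 1 := by
      intro ℓ hℓ hd
      obtain ⟨a, b, hab⟩ := ht ℓ hℓ hd
      have := seven_step hb hab hQ8 h
      rw [← hH, ← hD] at this
      exact this
    rw [← hH, ← hD, ← hY, ← hX] at hd0 hd2 cl0 cl2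
    have hH0 : H ≠ 0 := hH ▸ hne (h.δ_sq 1) (hb.deg_pos _)
    have hD0 : D ≠ 0 := hD ▸ hne (h.δ_sq 3) (hb.deg_pos _)
    have hY0 : Y ≠ 0 := hY ▸ hne (h.δ_sq 4) (hb.deg_pos _)
    have hX0 : X ≠ 0 := hX ▸ hne (h.δ_sq 5) (hb.deg_pos _)
    have hDX : D = 1 + 2 * X := by linarith
    have hDm : (m : ℤ) ∣ D - 1 := dvd_of_parts hm0 fun ℓ hℓ hd => (hstep ℓ hℓ hd).2
    -- X is even
    have hX2 : (2 : ℤ) ∣ X := by
      have h1 := hb.mod8 (e 5)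
      rw [seven_vals hb h hc 5] at h1
      simp only [Matrix.cons_val] at h1
      have h2 : X - (c + 1) = δ 5 * (deg (e 5) - δ 5 * (c + 1)) := by
        rw [hX]
        rcases h.δ_sq 5 with h | h <;> rw [h] <;> ring
      have h3 : (8 : ℤ) ∣ X - (c + 1) := by rw [h2]; exact h1.mul_left _
      omega
    obtain ⟨w, hw⟩ : ∃ w, 2 * X = (Q - 1) * w := by
      have hmX : (m : ℤ) * 4 ∣ 2 * X := by
        have h1 : (m : ℤ) ∣ 2 * X := by rw [hDX] at hDm; simpa using hDm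
        have hco : IsCoprime (m : ℤ) 4 := by
          rw [Int.isCoprime_iff_gcd_eq_one]
          have h5 : Nat.Coprime m 4 := by
            have : Nat.Coprime m (2 ^ 2) := Nat.Coprime.pow_right 2 (by
              rw [Nat.coprime_comm, Nat.coprime_two_left]
              exact Nat.odd_iff.mpr hm3.2)
            exact this
          exact_mod_cast h5
        exact hco.mul_dvd h1 (by omega)
      have h1 : |Q - 1| ∣ 2 * X := by rw [← hm, mul_comm]; exact hmX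
      exact (abs_dvd _ _).mp h1
    refine SevenArith.seven_false hQ hw hX0 hDX (by linarith) hH0 hY0 hD0 (kappa Q g) (hstep ℓ₀ hℓ₀ hℓm).1 ?_ ?_
    · rw [← cl0]
      push_cast
      rw [hcq]
      ring
    · rw [← cl2]
      push_cast
      rw [hcq]
      ring

end Cfsg.Agent.Ree.Numeric
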