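import Cfsg.Agent.Ree.LBlock
import Cfsg.Agent.Ree.Interface
import Cfsg.Agent.Ree.DegVal
import Cfsg.Agent.Ree.VecDef
import Cfsg.Agent.S0876

/-!
# S0343, the vectors `a` and `b` (scalar products with `1 ⊗ (1 - θ)` and `ψ ⊗ (1 - θ)` on the TI set `V Y ∖ V`)

* `vec V Y α θ χ` : the scalar product of the restriction of `χ` to `V × Y` with `α ⊗ (1 - θ)`, an integer;
* `vec_coe` : its definition as a complex number;
* `aa = 7`, `bb = 3`, `ab = 0`, `a_one = 1`, `b_one = 0`, `vec_deg = 0`, `vec_val = 0`.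
-/

set_option autoImplicit false

open Cfsg Cfsg.Agent.Ree.Interface Cfsg.Agent.Ree.DegVal
open scoped ComplexConjugate

namespace Cfsg.Agent.Ree.TIInd

section Orth

variable {Z : Type*} [Group Z]

theorem conj_mul_self [Finite Z] (α : Z →* ℂ) (z : Z) : conj (α z) * α z = 1 := by
  have h1 := Characters.Linear.norm_hom_apply α.toHomUnits z
  rw [MonoidHom.coe_toHomUnits] at h1
  rw [mul_comm, Complex.mul_conj, Complex.normSq_eq_norm_sq, h1]
  norm_num

open Classical in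
/-- Orthogonality of linear characters. -/
theorem orth [Fintype Z] (α β : Z →* ℂ) :
    ∑ z : Z, conj (α z) * β z = if β = α then (Nat.card Z : ℂ) else 0 := by
  have h1 : ∑ z : Z, conj (α z) * β z =
      ∑ z : Z, (((starRingEnd ℂ : ℂ →* ℂ).comp α) * β) z := rfl
  rw [h1, sum_hom_units]
  have h2 : ((starRingEnd ℂ : ℂ →* ℂ).comp α) * β = 1 ↔ β = α := by
    constructor
    · intro h
      ext z
      have h3 : conj (α z) * β z = 1 := DFunLike.congr_fun h z
      have h4 := conj_mul_self α z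
      have h5 : conj (α z) ≠ 0 := left_ne_zero_of_mul_eq_one h4
      exact mul_left_cancel₀ h5 (h3.trans h4.symm)
    · rintro rfl
      ext z
      exact conj_mul_self β z
  simp only [h2, Nat.card_eq_fintype_card]
  split_ifs <;> simp

theorem orth_one [Fintype Z] (α : Z →* ℂ) (hα : α ≠ 1) : ∑ z : Z, conj (α z) = 0 := by
  rw [← map_sum, sum_hom_units_eq_zero α hα, map_zero]

open Classical in
theorem orth_one_sub [Fintype Z] (α β : Z →* ℂ) (hα : α ≠ 1) (hβ : β ≠ 1) :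
    ∑ z : Z, (1 - conj (α z)) * (1 - β z) =
      (Nat.card Z : ℂ) * (1 + if β = α then 1 else 0) := by
  have h1 : ∀ z : Z, (1 - conj (α z)) * (1 - β z) = 1 - conj (α z) - β z + conj (α z) * β z :=
    fun z => by ring
  rw [Finset.sum_congr rfl fun z _ => h1 z, Finset.sum_add_distrib, Finset.sum_sub_distrib,
    Finset.sum_sub_distrib, orth, orth_one α hα, sum_hom_units_eq_zero β hβ, Finset.sum_const,
    Finset.card_univ, Nat.card_eq_fintype_card, nsmul_eq_mul]
  split_ifs <;> ring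

end Orth

section Vec

variable {G : Type*} [Group G] {V Y : Subgroup G}

/-- The scalar product of the restriction of `χ` to `V × Y` with `α ⊗ (1 - θ)`. -/
noncomputable def vec (V Y : Subgroup G) [Fintype V] [Fintype Y] (α : V →* ℂ) (θ : Y →* ℂ)
    (χ : IrrCharacter G) : ℤ :=
  ⌊((4 * (Nat.card Y : ℂ))⁻¹ * ∑ v : V, ∑ y : Y, (χ : G → ℂ) ((v : G) * (y : G)) *
    (conj (α v) * (1 - conj (θ y)))).re⌋

theorem isGen [Finite V] [Finite Y] (α : V →* ℂ) (θ : Y →* ℂ) :
    IsGeneralizedCharacter (V × Y) fun p => α p.1 * (1 - θ p.2) := by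
  refine ⟨fun p => α p.1, fun p => α p.1 * θ p.2, ?_, ?_, ?_⟩
  · exact Characters.Linear.isCharacter_hom ((α.comp (MonoidHom.fst V Y)).toHomUnits)
  · exact Characters.Linear.isCharacter_hom
      ((α.comp (MonoidHom.fst V Y) * θ.comp (MonoidHom.snd V Y)).toHomUnits)
  · funext p
    simp only [Pi.sub_apply]
    ring

theorem exists_vec [Finite G] [Fintype V] [Fintype Y] (hV : Nat.card V = 4)
    (hVY : ∀ v ∈ V, ∀ y ∈ Y, v * y = y * v) (α : V →* ℂ) (θ : Y →* ℂ) (χ : IrrCharacter G) :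
    ∃ n : ℤ, (4 * (Nat.card Y : ℂ))⁻¹ * ∑ v : V, ∑ y : Y, (χ : G → ℂ) ((v : G) * (y : G)) *
      (conj (α v) * (1 - conj (θ y))) = n := by
  let φ : V × Y →* G := MonoidHom.noncommCoprod V.subtype Y.subtype
    fun v y => hVY v v.2 y y.2
  obtain ⟨n, hn⟩ := VecDef.exists_int_hom φ (isGen α θ) χ
  refine ⟨n, ?_⟩
  have h1 := congrArg conj hn
  rw [map_mul, map_sum, map_inv₀, Complex.conj_natCast, map_intCast,
    Fintype.sum_prod_type, Nat.card_prod, hV] at h1
  rw [← h1]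
  push_cast
  congr 1
  refine Finset.sum_congr rfl fun v _ => Finset.sum_congr rfl fun y _ => ?_
  have h2 : φ (v, y) = (v : G) * (y : G) := rfl
  simp only [h2, map_mul, map_sub, map_one, Complex.conj_conj]
  ring

theorem vec_coe [Finite G] [Fintype V] [Fintype Y] (hV : Nat.card V = 4)
    (hVY : ∀ v ∈ V, ∀ y ∈ Y, v * y = y * v) (α : V →* ℂ) (θ : Y →* ℂ) (χ : IrrCharacter G) :
    (vec V Y α θ χ : ℂ) = (4 * (Nat.card Y : ℂ))⁻¹ *
      ∑ v : V, ∑ y : Y, (χ : G → ℂ) ((v : G) * (y : G)) * (conj (α v) * (1 - conj (θ y))) := by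
  obtain ⟨n, hn⟩ := exists_vec hV hVY α θ χ
  rw [vec, hn]
  simp

/-- Scalar product with the values at `x`, where no `v y`, `y ≠ 1`, is conjugate to `x`. -/
theorem vec_mul_apply [Finite G] [Fintype (IrrCharacter G)] [Fintype V] [Fintype Y]
    (hV : Nat.card V = 4) (hVY : ∀ v ∈ V, ∀ y ∈ Y, v * y = y * v) (α : V →* ℂ) (θ : Y →* ℂ)
    (x : G) (hx : ∀ v ∈ V, ∀ y ∈ Y, y ≠ 1 → ¬ IsConj (v * y) x) :
    ∑ χ : IrrCharacter G, (vec V Y α θ χ : ℂ) * conj ((χ : G → ℂ) x) = 0 := by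
  classical
  have := Fintype.ofFinite G
  have h1 : ∀ χ : IrrCharacter G, (vec V Y α θ χ : ℂ) * conj ((χ : G → ℂ) x) =
      (4 * (Nat.card Y : ℂ))⁻¹ * ∑ v : V, ∑ y : Y, (conj (α v) * (1 - conj (θ y))) *
        ((χ : G → ℂ) ((v : G) * (y : G)) * conj ((χ : G → ℂ) x)) := by
    intro χ
    rw [vec_coe hV hVY, mul_assoc, Finset.sum_mul]
    congr 1
    refine Finset.sum_congr rfl fun v _ => ?_
    rw [Finset.sum_mul]
    refine Finset.sum_congr rfl fun y _ => ?_
    ring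
  rw [Finset.sum_congr rfl fun χ _ => h1 χ, ← Finset.mul_sum, Finset.sum_comm]
  refine mul_eq_zero_of_right _ (Finset.sum_eq_zero fun v _ => ?_)
  rw [Finset.sum_comm]
  refine Finset.sum_eq_zero fun y _ => ?_
  rw [← Finset.mul_sum, S0876.sum_irr_mul_conj]
  by_cases hy : y = 1
  · rw [hy]
    simp
  · have h2 : IsEmpty {g : G // g * ((v : G) * (y : G)) * g⁻¹ = x} := by
      refine ⟨fun g => hx v v.2 y y.2 (fun h0 => hy (Subtype.ext h0)) ?_⟩
      exact isConj_iff.2 ⟨g.1, g.2⟩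
    rw [Nat.card_of_isEmpty, Nat.cast_zero, mul_zero]

/-- Conjugation by `x` on a subgroup. -/
def cj (H : Subgroup G) (x : G) (hx : ∀ h ∈ H, x * h * x⁻¹ ∈ H) : H →* H where
  toFun h := ⟨x * h * x⁻¹, hx h h.2⟩
  map_one' := by ext; simp
  map_mul' a b := by ext; simp

@[simp] theorem coe_cj (H : Subgroup G) (x : G) (hx : ∀ h ∈ H, x * h * x⁻¹ ∈ H) (h : H) :
    (cj H x hx h : G) = x * h * x⁻¹ := rfl

end Vec

section Local

variable {G : Type*} [Group G]

/-- The hypotheses on the TI set. -/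
structure Hyp (V Y : Subgroup G) (m : ℕ) : Prop where
  base : LBlock.Hyp V Y
  Y_cyclic : IsCyclic Y
  Y_card : Nat.card Y = m
  card_cent_V : Nat.card (Subgroup.centralizer (V : Set G)) = 8 * m
  card_norm_V : Nat.card (Subgroup.normalizer (V : Set G)) = 24 * m
  ti : ∀ v ∈ V, ∀ y ∈ Y, y ≠ 1 → ∀ g : G, g * (v * y) * g⁻¹ ∈ V ⊔ Y →
    g ∈ Subgroup.normalizer (V : Set G)

theorem hyp_of_good {F : Type*} [Field F] [Fintype F] {t : G} {L V Y : Subgroup G} {m : ℕ} {ε : ℤ}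
    (h : Good F t L V Y m ε) : Hyp V Y m where
  base :=
    { V_card := h.V_card
      V_exp := h.V_exp
      Y_odd := by rw [h.Y_card]; exact h.odd_m
      Y_comm := by
        have := h.Y_cyclic
        intro a ha b hb
        have h1 : (⟨a, ha⟩ : Y) * ⟨b, hb⟩ = ⟨b, hb⟩ * ⟨a, ha⟩ :=
          IsCyclic.commGroup.mul_comm _ _
        exact congrArg Subtype.val h1
      VY_comm := fun v hv y hy => (Subgroup.mem_centralizer_iff.1 (h.Y_cent hy) v hv)
      cent_y := h.cent_y }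
  Y_cyclic := h.Y_cyclic
  Y_card := h.Y_card
  card_cent_V := h.card_cent_V
  card_norm_V := h.card_norm_V
  ti := h.ti

namespace Hyp

variable {V Y : Subgroup G} {m : ℕ}

theorem m_pos [Finite G] (h : Hyp V Y m) : 0 < m := by
  rw [← h.Y_card]
  exact Nat.card_pos

theorem card_sup (h : Hyp V Y m) : Nat.card (V ⊔ Y : Subgroup G) = 4 * m := by
  let f : V × Y → (V ⊔ Y : Subgroup G) := fun p =>
    ⟨(p.1 : G) * (p.2 : G), Subgroup.mul_mem_sup p.1.2 p.2.2⟩
  have hf : Function.Bijective f := by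
    constructor
    · rintro ⟨v, y⟩ ⟨v', y'⟩ he
      obtain ⟨e1, e2⟩ := h.base.inj v.2 v'.2 y.2 y'.2 (congrArg Subtype.val he)
      exact Prod.ext (Subtype.ext e1) (Subtype.ext e2)
    · rintro ⟨x, hx⟩
      obtain ⟨v, hv, y, hy, rfl⟩ := h.base.mem_sup.1 hx
      exact ⟨(⟨v, hv⟩, ⟨y, hy⟩), rfl⟩
  rw [← Nat.card_congr (Equiv.ofBijective f hf), Nat.card_prod, h.base.V_card, h.Y_card]

theorem card_mul_relIndex {A B : Subgroup G} (h : A ≤ B) :
    Nat.card A * A.relIndex B = Nat.card B := by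
  have h1 := Subgroup.relIndex_mul_relIndex ⊥ A B bot_le h
  rwa [Subgroup.relIndex_bot_left, Subgroup.relIndex_bot_left] at h1

theorem sup_le_cent (h : Hyp V Y m) : V ⊔ Y ≤ Subgroup.centralizer (V : Set G) := by
  intro x hx
  rw [Subgroup.mem_centralizer_iff]
  intro v hv
  exact h.base.comm (Subgroup.mem_sup_left hv) hx

theorem cent_le_norm : Subgroup.centralizer (V : Set G) ≤ Subgroup.normalizer (V : Set G) :=
  Subgroup.centralizer_le_normalizer _

theorem sq_mem [Finite G] (h : Hyp V Y m) {c : G} (hc : c ∈ Subgroup.centralizer (V : Set G)) :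
    c * c ∈ V ⊔ Y := by
  have h1 := card_mul_relIndex h.sup_le_cent
  rw [h.card_sup, h.card_cent_V] at h1
  have h2 : (V ⊔ Y).relIndex (Subgroup.centralizer (V : Set G)) = 2 := by
    have := h.m_pos
    have h3 : 4 * m * (V ⊔ Y).relIndex (Subgroup.centralizer (V : Set G)) = 4 * m * 2 := by
      rw [h1]; ring
    exact Nat.eq_of_mul_eq_mul_left (by positivity) h3
  exact Subgroup.mem_subgroupOf.1
    (Subgroup.mul_self_mem_of_index_two (H := (V ⊔ Y).subgroupOf (Subgroup.centralizer (V : Set G)))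
      h2 ⟨c, hc⟩)

theorem norm_V {x : G} (hx : x ∈ Subgroup.normalizer (V : Set G)) :
    ∀ v ∈ V, x * v * x⁻¹ ∈ V := fun v hv => (Subgroup.mem_normalizer_iff.1 hx v).1 hv

theorem norm_cent {x c : G} (hx : x ∈ Subgroup.normalizer (V : Set G))
    (hc : c ∈ Subgroup.centralizer (V : Set G)) :
    x * c * x⁻¹ ∈ Subgroup.centralizer (V : Set G) := by
  rw [Subgroup.mem_centralizer_iff] at hc ⊢
  intro v hv
  have h1 : x⁻¹ * v * x ∈ V := by
    have := norm_V ((Subgroup.normalizer (V : Set G)).inv_mem hx) v hv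
    rwa [inv_inv] at this
  have h2 := hc _ h1
  calc v * (x * c * x⁻¹) = x * ((x⁻¹ * v * x) * c) * x⁻¹ := by group
    _ = x * c * x⁻¹ * v := by rw [h2]; group

theorem norm_Y [Finite G] (h : Hyp V Y m) {x : G} (hx : x ∈ Subgroup.normalizer (V : Set G)) :
    ∀ y ∈ Y, x * y * x⁻¹ ∈ Y := by
  intro y hy
  obtain ⟨k, hk⟩ := h.base.Y_odd
  have hcard : ∀ z ∈ Y, z ^ Nat.card Y = 1 := fun z hz => by
    have : (⟨z, hz⟩ : Y) ^ Nat.card Y = 1 := pow_card_eq_one'
    exact congrArg Subtype.val this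
  obtain ⟨z, hz, hzy⟩ : ∃ z ∈ Y, z * z = y := by
    refine ⟨y ^ (k + 1), Y.pow_mem hy _, ?_⟩
    rw [← pow_add, show k + 1 + (k + 1) = Nat.card Y + 1 by omega, pow_succ, hcard y hy, one_mul]
  have h1 : x * y * x⁻¹ ∈ V ⊔ Y := by
    have h2 : x * y * x⁻¹ = (x * z * x⁻¹) * (x * z * x⁻¹) := by rw [← hzy]; group
    rw [h2]
    exact h.sq_mem (norm_cent hx (h.sup_le_cent (Subgroup.mem_sup_right hz)))
  obtain ⟨v, hv, y', hy', he⟩ := h.base.mem_sup.1 h1
  have h3 : (x * y * x⁻¹) ^ Nat.card Y = 1 := by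
    rw [conj_pow, hcard y hy]; group
  have h4 : v = 1 := by
    rw [← he, (show Commute v y' from h.base.VY_comm v hv y' hy').mul_pow, hcard y' hy', mul_one,
      hk, pow_succ, pow_mul, pow_two, h.base.V_exp v hv, one_pow, one_mul] at h3
    exact h3
  rw [← he, h4, one_mul]
  exact hy'

theorem pow_three_mem [Finite G] (h : Hyp V Y m) {x : G}
    (hx : x ∈ Subgroup.normalizer (V : Set G)) : x ^ 3 ∈ Subgroup.centralizer (V : Set G) := by
  have h1 := card_mul_relIndex (cent_le_norm (V := V))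
  rw [h.card_norm_V, h.card_cent_V] at h1
  have h2 : (Subgroup.centralizer (V : Set G)).relIndex (Subgroup.normalizer (V : Set G)) = 3 := by
    have := h.m_pos
    have h3 : 8 * m * (Subgroup.centralizer (V : Set G)).relIndex
        (Subgroup.normalizer (V : Set G)) = 8 * m * 3 := by
      rw [h1]; ring
    exact Nat.eq_of_mul_eq_mul_left (by positivity) h3
  have hn : ((Subgroup.centralizer (V : Set G)).subgroupOf
      (Subgroup.normalizer (V : Set G))).Normal := by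
    rw [← Subgroup.normalizerMonoidHom_ker]
    infer_instance
  have h4 := Subgroup.pow_index_mem ((Subgroup.centralizer (V : Set G)).subgroupOf
      (Subgroup.normalizer (V : Set G))) (⟨x, hx⟩ : Subgroup.normalizer (V : Set G))
  have h5 : ((Subgroup.centralizer (V : Set G)).subgroupOf
      (Subgroup.normalizer (V : Set G))).index = 3 := h2
  rw [h5] at h4
  exact Subgroup.mem_subgroupOf.1 h4

/-- Stabilizer of a nontrivial linear character of `V`. -/
theorem stab_psi [Finite G] (h : Hyp V Y m) (ψ : V →* ℂ) (hψ : ψ ≠ 1) {x : G}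
    (hx : x ∈ Subgroup.normalizer (V : Set G)) :
    ψ.comp (cj V x (norm_V hx)) = ψ ↔ x ∈ Subgroup.centralizer (V : Set G) := by
  classical
  constructor
  · intro he
    have he' : ∀ v : V, ψ (cj V x (norm_V hx) v) = ψ v := fun v => DFunLike.congr_fun he v
    by_contra hxc
    rw [Subgroup.mem_centralizer_iff] at hxc
    push Not at hxc
    obtain ⟨v0, hv0, hv0x⟩ := hxc
    have inj : ∀ a b : V, cj V x (norm_V hx) a = cj V x (norm_V hx) b → a = b := by
      intro a b hab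
      have h1 : x * (a : G) * x⁻¹ = x * (b : G) * x⁻¹ := congrArg Subtype.val hab
      exact Subtype.ext (mul_left_cancel (mul_right_cancel h1))
    obtain ⟨v, hv⟩ : ∃ v : V, v = ⟨v0, hv0⟩ := ⟨_, rfl⟩
    obtain ⟨w, hw⟩ : ∃ w : V, w = cj V x (norm_V hx) v := ⟨_, rfl⟩
    obtain ⟨u, hu⟩ : ∃ u : V, u = cj V x (norm_V hx) w := ⟨_, rfl⟩
    have hwv : w ≠ v := by
      intro h0
      apply hv0x
      have h1 : x * v0 * x⁻¹ = v0 := by
        have h2 : ((w : V) : G) = (v : G) := congrArg Subtype.val h0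
        rw [hw, coe_cj, hv] at h2
        exact h2
      rw [mul_inv_eq_iff_eq_mul] at h1
      exact h1.symm
    have huw : u ≠ w := by
      intro h0
      apply hwv
      refine inj _ _ ?_
      rw [← hu, ← hw, h0]
    have huv : u ≠ v := by
      intro h0
      apply hwv
      have h1 := Subgroup.mem_centralizer_iff.1 (h.pow_three_mem hx) v v.2
      have h2 : cj V x (norm_V hx) u = v := by
        apply Subtype.ext
        rw [coe_cj, hu, coe_cj, hw, coe_cj]
        have h3 : x ^ 3 * (v : G) * (x ^ 3)⁻¹ = (v : G) := by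
          rw [← h1, mul_inv_cancel_right]
        calc x * (x * (x * (v : G) * x⁻¹) * x⁻¹) * x⁻¹ = x ^ 3 * (v : G) * (x ^ 3)⁻¹ := by
              rw [pow_succ, pow_two]; simp only [mul_inv_rev, mul_assoc]
          _ = (v : G) := h3
      rw [h0, ← hw] at h2
      exact h2
    have hv1 : v ≠ 1 := by
      intro h0
      apply hwv
      rw [hw, h0, map_one]
    have hw1 : w ≠ 1 := by
      intro h0
      apply hv1
      refine inj _ _ ?_
      rw [← hw, h0, map_one]
    have hu1 : u ≠ 1 := by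
      intro h0
      apply hw1
      refine inj _ _ ?_
      rw [← hu, h0, map_one]
    have hall : ∀ z : V, z = 1 ∨ z = v ∨ z = w ∨ z = u := by
      have := Fintype.ofFinite V
      have h1 : ({1, v, w, u} : Finset V) = Finset.univ := by
        apply Finset.eq_univ_of_card
        rw [← Nat.card_eq_fintype_card, h.base.V_card]
        rw [Finset.card_insert_of_notMem, Finset.card_insert_of_notMem,
          Finset.card_insert_of_notMem, Finset.card_singleton]
        · simpa using huw.symm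
        · simp only [Finset.mem_insert, Finset.mem_singleton, not_or]
          exact ⟨hwv.symm, huv.symm⟩
        · simp only [Finset.mem_insert, Finset.mem_singleton, not_or]
          exact ⟨hv1.symm, hw1.symm, hu1.symm⟩
      intro z
      have h2 : z ∈ ({1, v, w, u} : Finset V) := by rw [h1]; exact Finset.mem_univ z
      simpa using h2
    have hvw : v * w = u := by
      rcases hall (v * w) with h1 | h1 | h1 | h1
      · exfalso
        apply hwv
        have h2 : v * v = 1 := Subtype.ext (h.base.V_exp v v.2)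
        exact (mul_left_cancel (h2.trans h1.symm)).symm
      · exact absurd (mul_eq_left.1 h1) hw1
      · exact absurd (mul_eq_right.1 h1) hv1
      · exact h1
    have e1 : ψ w = ψ v := by rw [hw]; exact he' v
    have e2 : ψ u = ψ v := by rw [hu, he' w, e1]
    have e3 : ψ v * ψ v = ψ v := by
      have h1 : ψ (v * w) = ψ v := by rw [hvw, e2]
      rwa [map_mul, e1] at h1
    have e4 : ψ v ≠ 0 := by
      intro h0
      have h1 := conj_mul_self ψ v
      rw [h0, mul_zero] at h1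
      exact zero_ne_one h1
    have e5 : ψ v = 1 := mul_left_cancel₀ e4 (by rw [e3, mul_one])
    apply hψ
    ext z
    rw [MonoidHom.one_apply]
    rcases hall z with h1 | h1 | h1 | h1
    · rw [h1, map_one]
    · rw [h1, e5]
    · rw [h1, e1, e5]
    · rw [h1, e2, e5]
  · intro hxc
    ext v
    have h1 : cj V x (norm_V hx) v = v := by
      apply Subtype.ext
      rw [coe_cj, ← Subgroup.mem_centralizer_iff.1 hxc v v.2, mul_inv_cancel_right]
    rw [MonoidHom.comp_apply, h1]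

/-- Stabilizer of a linear character of `Y` of order `ℓ`. -/
theorem stab_theta [Finite G] (h : Hyp V Y m) {l : ℕ} (hl : l.Prime) (hlm : l ∣ m) (θ : Y →* ℂ)
    (hθl : ∀ y, θ y ^ l = 1) (hθ : θ ≠ 1) {x : G}
    (hx : x ∈ Subgroup.normalizer (V : Set G)) :
    θ.comp (cj Y x (h.norm_Y hx)) = θ ↔ x ∈ V ⊔ Y := by
  have := Fact.mk hl
  constructor
  · intro he
    have he' : ∀ v : Y, θ (cj Y x (h.norm_Y hx) v) = θ v := fun v => DFunLike.congr_fun he v
    obtain ⟨z, hz⟩ := h.Y_cyclic.exists_generator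
    have hzord : orderOf z = m := by
      rw [← h.Y_card]
      exact orderOf_eq_card_of_forall_mem_zpowers hz
    obtain ⟨k, hk⟩ := Subgroup.mem_zpowers_iff.1 (hz (cj Y x (h.norm_Y hx) z))
    have hθz : θ z ≠ 1 := by
      intro h0
      apply hθ
      ext y
      obtain ⟨j, rfl⟩ := Subgroup.mem_zpowers_iff.1 (hz y)
      rw [← MonoidHom.coe_toHomUnits θ, map_zpow]
      have h1 : θ.toHomUnits z = 1 := by
        ext
        rw [MonoidHom.coe_toHomUnits, h0, Units.val_one]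
      rw [h1, one_zpow, Units.val_one, MonoidHom.one_apply]
    have hord : orderOf (θ.toHomUnits z) = l := by
      refine orderOf_eq_prime ?_ ?_
      · ext
        rw [Units.val_pow_eq_pow_val, MonoidHom.coe_toHomUnits, hθl, Units.val_one]
      · intro h0
        apply hθz
        rw [← MonoidHom.coe_toHomUnits θ, h0, Units.val_one]
    have hkl : (l : ℤ) ∣ k - 1 := by
      rw [← hord, orderOf_dvd_sub_iff_zpow_eq_zpow, zpow_one, ← map_zpow, hk]
      ext
      rw [MonoidHom.coe_toHomUnits, MonoidHom.coe_toHomUnits, he']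
    obtain ⟨n, hn⟩ := hlm
    have hn0 : n ≠ 0 := by
      rintro rfl
      have := h.m_pos
      omega
    have hy0 : z ^ n ≠ 1 := by
      intro h0
      have h1 := orderOf_dvd_of_pow_eq_one h0
      rw [hzord, hn] at h1
      have h2 := Nat.le_of_dvd (Nat.pos_of_ne_zero hn0) h1
      have h3 := hl.two_le
      nlinarith [Nat.pos_of_ne_zero hn0]
    have hy1 : cj Y x (h.norm_Y hx) (z ^ n) = z ^ n := by
      rw [map_pow, ← hk, ← zpow_natCast, ← zpow_mul, ← zpow_natCast,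
        ← orderOf_dvd_sub_iff_zpow_eq_zpow, hzord, hn]
      obtain ⟨j, hj⟩ := hkl
      refine ⟨j, ?_⟩
      push_cast
      linear_combination (n : ℤ) * hj
    have h4 : x ∈ Subgroup.centralizer ({((z ^ n : Y) : G)} : Set G) := by
      rw [Subgroup.mem_centralizer_singleton_iff]
      have h5 : x * ((z ^ n : Y) : G) * x⁻¹ = ((z ^ n : Y) : G) := congrArg Subtype.val hy1
      exact mul_inv_eq_iff_eq_mul.1 h5
    rw [h.base.cent_y _ (z ^ n).2 (fun h0 => hy0 (Subtype.ext h0))] at h4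
    exact h4
  · intro hxs
    ext y
    have h1 : cj Y x (h.norm_Y hx) y = y := by
      apply Subtype.ext
      rw [coe_cj, h.base.comm hxs (Subgroup.mem_sup_right y.2), mul_inv_cancel_right]
    rw [MonoidHom.comp_apply, h1]

open Classical in
/-- The contribution of one element of `N(V)`. -/
theorem term_mem [Finite G] [Fintype V] [Fintype Y] (h : Hyp V Y m) {l : ℕ} (hl : l.Prime)
    (hlm : l ∣ m) (θ : Y →* ℂ) (hθl : ∀ y, θ y ^ l = 1) (hθ : θ ≠ 1) (α β : V →* ℂ) {x : G}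
    (hx : x ∈ Subgroup.normalizer (V : Set G)) :
    ∑ p : V × Y, ∑ p' : V × Y, (if x * ((p.1 : G) * (p.2 : G)) * x⁻¹ = (p'.1 : G) * (p'.2 : G) then
      (conj (α p.1) * (1 - conj (θ p.2))) * (β p'.1 * (1 - θ p'.2)) else 0) =
      (if β.comp (cj V x (norm_V hx)) = α then 4 else 0) *
        ((m : ℂ) * (1 + if x ∈ V ⊔ Y then 1 else 0)) := by
  have h1 : ∀ p p' : V × Y, x * ((p.1 : G) * (p.2 : G)) * x⁻¹ = (p'.1 : G) * (p'.2 : G) ↔
      ((cj V x (norm_V hx) p.1, cj Y x (h.norm_Y hx) p.2) : V × Y) = p' := by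
    intro p p'
    have e1 : x * ((p.1 : G) * (p.2 : G)) * x⁻¹ =
        (cj V x (norm_V hx) p.1 : G) * (cj Y x (h.norm_Y hx) p.2 : G) := by
      rw [coe_cj, coe_cj]
      group
    rw [e1]
    constructor
    · intro he
      obtain ⟨e2, e3⟩ := h.base.inj (cj V x (norm_V hx) p.1).2 p'.1.2
        (cj Y x (h.norm_Y hx) p.2).2 p'.2.2 he
      exact Prod.ext (Subtype.ext e2) (Subtype.ext e3)
    · rintro rfl
      rfl
  simp only [h1, Finset.sum_ite_eq, Finset.mem_univ, if_true]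
  rw [Fintype.sum_prod_type]
  have h2 : ∀ (v : V) (y : Y), (conj (α v) * (1 - conj (θ y))) *
      (β (cj V x (norm_V hx) v) * (1 - θ (cj Y x (h.norm_Y hx) y))) =
      (conj (α v) * (β.comp (cj V x (norm_V hx))) v) *
        ((1 - conj (θ y)) * (1 - (θ.comp (cj Y x (h.norm_Y hx))) y)) := by
    intro v y
    rw [MonoidHom.comp_apply, MonoidHom.comp_apply]
    ring
  rw [Finset.sum_congr rfl fun v _ => Finset.sum_congr rfl fun y _ => h2 v y, ← Finset.sum_mul_sum,
    orth, orth_one_sub θ _ hθ, h.base.V_card, h.Y_card]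
  · simp only [h.stab_theta hl hlm θ hθl hθ hx]
    push_cast
    rfl
  · intro h0
    apply hθ
    ext y
    have h3 := h.norm_Y ((Subgroup.normalizer (V : Set G)).inv_mem hx) y y.2
    rw [inv_inv] at h3
    have h4 := DFunLike.congr_fun h0 ⟨_, h3⟩
    rw [MonoidHom.comp_apply, MonoidHom.one_apply] at h4
    rw [MonoidHom.one_apply, ← h4]
    congr 1
    apply Subtype.ext
    rw [coe_cj]
    show (y : G) = x * (x⁻¹ * y * x) * x⁻¹
    group

open Classical in
/-- The contribution of one element outside `N(V)`. -/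
theorem term_notMem [Fintype V] [Fintype Y] (h : Hyp V Y m) (θ : Y →* ℂ) (α β : V →* ℂ) {x : G}
    (hx : x ∉ Subgroup.normalizer (V : Set G)) :
    ∑ p : V × Y, ∑ p' : V × Y, (if x * ((p.1 : G) * (p.2 : G)) * x⁻¹ = (p'.1 : G) * (p'.2 : G) then
      (conj (α p.1) * (1 - conj (θ p.2))) * (β p'.1 * (1 - θ p'.2)) else 0) = 0 := by
  refine Finset.sum_eq_zero fun p _ => Finset.sum_eq_zero fun p' _ => ?_
  split_ifs with he
  · have h1 : p.2 = 1 := by
      by_contra hp
      apply hx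
      refine h.ti p.1 p.1.2 p.2 p.2.2 (fun h0 => hp (Subtype.ext h0)) x ?_
      rw [he]
      exact Subgroup.mul_mem_sup p'.1.2 p'.2.2
    rw [h1, map_one, map_one, sub_self, mul_zero, zero_mul]
  · rfl

theorem sup_le_norm (h : Hyp V Y m) : V ⊔ Y ≤ Subgroup.normalizer (V : Set G) :=
  h.sup_le_cent.trans cent_le_norm

/-- **Scalar products of the vectors.** -/
theorem vec_mul_vec [Finite G] [Fintype (IrrCharacter G)] [Fintype V] [Fintype Y] (h : Hyp V Y m)
    {l : ℕ} (hl : l.Prime) (hlm : l ∣ m) (θ : Y →* ℂ) (hθl : ∀ y, θ y ^ l = 1) (hθ : θ ≠ 1)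
    (α β : V →* ℂ) (P : G → Prop)
    (hP : ∀ x (hx : x ∈ Subgroup.normalizer (V : Set G)),
      β.comp (cj V x (norm_V hx)) = α ↔ P x) :
    ∑ χ : IrrCharacter G, (vec V Y α θ χ : ℂ) * (vec V Y β θ χ : ℂ) =
      (4 * (m : ℂ))⁻¹ * ((Nat.card {x : G // x ∈ Subgroup.normalizer (V : Set G) ∧ P x} : ℂ) +
        (Nat.card {x : G // x ∈ V ⊔ Y ∧ P x} : ℂ)) := by
  classical
  have := Fintype.ofFinite G
  have hV := h.base.V_card
  have hm : (m : ℂ) ≠ 0 := Nat.cast_ne_zero.2 h.m_pos.ne'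
  have e1 : ∀ χ : IrrCharacter G, (vec V Y α θ χ : ℂ) = (4 * (m : ℂ))⁻¹ *
      ∑ p : V × Y, (conj (α p.1) * (1 - conj (θ p.2))) * (χ : G → ℂ) ((p.1 : G) * (p.2 : G)) := by
    intro χ
    rw [vec_coe hV h.base.VY_comm, Fintype.sum_prod_type, h.Y_card]
    congr 1
    refine Finset.sum_congr rfl fun v _ => Finset.sum_congr rfl fun y _ => ?_
    ring
  have e2 : ∀ χ : IrrCharacter G, (vec V Y β θ χ : ℂ) = (4 * (m : ℂ))⁻¹ *
      ∑ p : V × Y, (β p.1 * (1 - θ p.2)) * conj ((χ : G → ℂ) ((p.1 : G) * (p.2 : G))) := by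
    intro χ
    have h1 : (vec V Y β θ χ : ℂ) = conj (vec V Y β θ χ : ℂ) := (map_intCast _ _).symm
    rw [h1, vec_coe hV h.base.VY_comm, Fintype.sum_prod_type, h.Y_card, map_mul, map_inv₀, map_mul,
      Complex.conj_natCast, map_sum]
    have h4 : conj (4 : ℂ) = 4 := Complex.conj_ofNat 4
    rw [h4]
    congr 1
    refine Finset.sum_congr rfl fun v _ => ?_
    rw [map_sum]
    refine Finset.sum_congr rfl fun y _ => ?_
    simp only [map_mul, map_sub, map_one, Complex.conj_conj]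
    ring
  have e3 : ∀ χ : IrrCharacter G, (vec V Y α θ χ : ℂ) * (vec V Y β θ χ : ℂ) =
      ((4 * (m : ℂ))⁻¹ * (4 * (m : ℂ))⁻¹) * ∑ p : V × Y, ∑ p' : V × Y,
        ((conj (α p.1) * (1 - conj (θ p.2))) * (β p'.1 * (1 - θ p'.2))) *
        ((χ : G → ℂ) ((p.1 : G) * (p.2 : G)) * conj ((χ : G → ℂ) ((p'.1 : G) * (p'.2 : G)))) := by
    intro χ
    rw [e1, e2, mul_mul_mul_comm, Finset.sum_mul_sum]
    congr 1
    refine Finset.sum_congr rfl fun p _ => Finset.sum_congr rfl fun p' _ => ?_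
    ring
  have e4 : ∀ p p' : V × Y, ∑ χ : IrrCharacter G,
      ((conj (α p.1) * (1 - conj (θ p.2))) * (β p'.1 * (1 - θ p'.2))) *
        ((χ : G → ℂ) ((p.1 : G) * (p.2 : G)) * conj ((χ : G → ℂ) ((p'.1 : G) * (p'.2 : G)))) =
      ∑ x : G, (if x * ((p.1 : G) * (p.2 : G)) * x⁻¹ = (p'.1 : G) * (p'.2 : G) then
      (conj (α p.1) * (1 - conj (θ p.2))) * (β p'.1 * (1 - θ p'.2)) else 0) := by
    intro p p'
    rw [← Finset.mul_sum, S0876.sum_irr_mul_conj, Nat.card_eq_fintype_card, Fintype.card_subtype,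
      ← Finset.sum_filter, Finset.sum_const, nsmul_eq_mul, mul_comm]
  have e5 : ∀ x : G, ∑ p : V × Y, ∑ p' : V × Y,
      (if x * ((p.1 : G) * (p.2 : G)) * x⁻¹ = (p'.1 : G) * (p'.2 : G) then
      (conj (α p.1) * (1 - conj (θ p.2))) * (β p'.1 * (1 - θ p'.2)) else 0) =
      (4 * (m : ℂ)) * ((if x ∈ Subgroup.normalizer (V : Set G) ∧ P x then 1 else 0) +
        (if x ∈ V ⊔ Y ∧ P x then 1 else 0)) := by
    intro x
    by_cases hx : x ∈ Subgroup.normalizer (V : Set G)
    · rw [h.term_mem hl hlm θ hθl hθ α β hx]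
      simp only [hP x hx, hx, true_and]
      by_cases h1 : P x
      · by_cases h2 : x ∈ V ⊔ Y
        · simp [h1, h2]
          ring
        · simp [h1, h2]
      · simp [h1]
    · rw [h.term_notMem θ α β hx]
      have h1 : x ∉ V ⊔ Y := fun h0 => hx (h.sup_le_norm h0)
      simp [hx, h1]
  rw [Finset.sum_congr rfl fun χ _ => e3 χ, ← Finset.mul_sum, Finset.sum_comm,
    Finset.sum_congr rfl fun p _ => Finset.sum_comm,
    Finset.sum_congr rfl fun p _ => Finset.sum_congr rfl fun p' _ => e4 p p',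
    Finset.sum_congr rfl fun p _ => Finset.sum_comm, Finset.sum_comm,
    Finset.sum_congr rfl fun x _ => e5 x, ← Finset.mul_sum, Finset.sum_add_distrib,
    Finset.sum_boole, Finset.sum_boole, Nat.card_eq_fintype_card, Nat.card_eq_fintype_card,
    Fintype.card_subtype, Fintype.card_subtype]
  field_simp

theorem card_and {H K : Subgroup G} (hHK : H ≤ K) :
    Nat.card {x : G // x ∈ H ∧ x ∈ K} = Nat.card H :=
  Nat.card_congr (Equiv.subtypeEquivRight fun _ => ⟨fun hx => hx.1, fun hx => ⟨hx, hHK hx⟩⟩)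

/-- `aa`. -/
theorem aa [Finite G] [Fintype (IrrCharacter G)] [Fintype V] [Fintype Y] (h : Hyp V Y m)
    {l : ℕ} (hl : l.Prime) (hlm : l ∣ m) (θ : Y →* ℂ) (hθl : ∀ y, θ y ^ l = 1) (hθ : θ ≠ 1) :
    ∑ χ : IrrCharacter G, vec V Y 1 θ χ ^ 2 = 7 := by
  have hm : (m : ℂ) ≠ 0 := Nat.cast_ne_zero.2 h.m_pos.ne'
  have h1 := h.vec_mul_vec hl hlm θ hθl hθ 1 1 (fun x => x ∈ (⊤ : Subgroup G))
    (fun x hx => ⟨fun _ => Subgroup.mem_top x, fun _ => by ext; rfl⟩)
  rw [card_and le_top, card_and le_top, h.card_sup, h.card_norm_V] at h1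
  have h2 : ((∑ χ : IrrCharacter G, vec V Y 1 θ χ ^ 2 : ℤ) : ℂ) = ((7 : ℤ) : ℂ) := by
    push_cast
    simp only [pow_two]
    rw [h1]
    push_cast
    field_simp
    norm_num
  exact_mod_cast h2

/-- `bb`. -/
theorem bb [Finite G] [Fintype (IrrCharacter G)] [Fintype V] [Fintype Y] (h : Hyp V Y m)
    {l : ℕ} (hl : l.Prime) (hlm : l ∣ m) (θ : Y →* ℂ) (hθl : ∀ y, θ y ^ l = 1) (hθ : θ ≠ 1)
    (ψ : V →* ℂ) (hψ : ψ ≠ 1) :
    ∑ χ : IrrCharacter G, vec V Y ψ θ χ ^ 2 = 3 := by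
  have hm : (m : ℂ) ≠ 0 := Nat.cast_ne_zero.2 h.m_pos.ne'
  have h1 := h.vec_mul_vec hl hlm θ hθl hθ ψ ψ
    (fun x => x ∈ Subgroup.centralizer (V : Set G)) (fun x hx => h.stab_psi ψ hψ hx)
  have h3 : Nat.card {x : G // x ∈ Subgroup.normalizer (V : Set G) ∧
      x ∈ Subgroup.centralizer (V : Set G)} = 8 * m := by
    rw [← h.card_cent_V, ← card_and (cent_le_norm (V := V))]
    exact Nat.card_congr (Equiv.subtypeEquivRight fun _ => and_comm)
  rw [h3, card_and h.sup_le_cent, h.card_sup] at h1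
  have h2 : ((∑ χ : IrrCharacter G, vec V Y ψ θ χ ^ 2 : ℤ) : ℂ) = ((3 : ℤ) : ℂ) := by
    push_cast
    simp only [pow_two]
    rw [h1]
    push_cast
    field_simp
    norm_num
  exact_mod_cast h2

/-- `ab`. -/
theorem ab [Finite G] [Fintype (IrrCharacter G)] [Fintype V] [Fintype Y] (h : Hyp V Y m)
    {l : ℕ} (hl : l.Prime) (hlm : l ∣ m) (θ : Y →* ℂ) (hθl : ∀ y, θ y ^ l = 1) (hθ : θ ≠ 1)
    (ψ : V →* ℂ) (hψ : ψ ≠ 1) :
    ∑ χ : IrrCharacter G, vec V Y 1 θ χ * vec V Y ψ θ χ = 0 := by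
  have h1 := h.vec_mul_vec hl hlm θ hθl hθ ψ 1 (fun _ => False)
    (fun x hx => ⟨fun h0 => hψ (h0.symm.trans (by ext; rfl)), fun h0 => h0.elim⟩)
  have h3 : ∀ H : Subgroup G, Nat.card {x : G // x ∈ H ∧ False} = 0 := fun H => by
    have : IsEmpty {x : G // x ∈ H ∧ False} := ⟨fun x => x.2.2⟩
    exact Nat.card_of_isEmpty
  rw [h3, h3] at h1
  have h2 : ((∑ χ : IrrCharacter G, vec V Y 1 θ χ * vec V Y ψ θ χ : ℤ) : ℂ) = ((0 : ℤ) : ℂ) := by
    push_cast
    rw [Finset.sum_congr rfl fun χ _ => mul_comm (vec V Y 1 θ χ : ℂ) (vec V Y ψ θ χ : ℂ), h1]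
    simp
  exact_mod_cast h2

/-- The vector `a`. -/
theorem a_coe [Finite G] [Fintype V] [Fintype Y] (h : Hyp V Y m) (θ : Y →* ℂ)
    (χ : IrrCharacter G) : (vec V Y 1 θ χ : ℂ) = (4 * (m : ℂ))⁻¹ *
      ∑ v : V, ∑ y : Y, (χ : G → ℂ) ((v : G) * (y : G)) * (1 - conj (θ y)) := by
  rw [vec_coe h.base.V_card h.base.VY_comm, h.Y_card]
  simp

/-- The vector `b`. -/
theorem b_coe [Finite G] [Fintype V] [Fintype Y] (h : Hyp V Y m) (ψ : V →* ℂ) (θ : Y →* ℂ)
    (χ : IrrCharacter G) : (vec V Y ψ θ χ : ℂ) = (4 * (m : ℂ))⁻¹ *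
      ∑ v : V, ∑ y : Y, (χ : G → ℂ) ((v : G) * (y : G)) * (conj (ψ v) * (1 - conj (θ y))) := by
  rw [vec_coe h.base.V_card h.base.VY_comm, h.Y_card]

theorem sum_one_sub [Fintype Y] (h : Hyp V Y m) (θ : Y →* ℂ) (hθ : θ ≠ 1) :
    ∑ y : Y, (1 - conj (θ y)) = (m : ℂ) := by
  rw [Finset.sum_sub_distrib, orth_one θ hθ, sub_zero, Finset.sum_const, Finset.card_univ,
    ← Nat.card_eq_fintype_card, h.Y_card, nsmul_eq_mul, mul_one]

theorem a_one [Finite G] [Fintype V] [Fintype Y] (h : Hyp V Y m) (θ : Y →* ℂ) (hθ : θ ≠ 1)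
    {one : IrrCharacter G} (hone : (one : G → ℂ) = fun _ => 1) : vec V Y 1 θ one = 1 := by
  have hm : (m : ℂ) ≠ 0 := Nat.cast_ne_zero.2 h.m_pos.ne'
  have h1 := h.a_coe θ one
  simp only [hone, one_mul] at h1
  rw [h.sum_one_sub θ hθ, Finset.sum_const, Finset.card_univ, ← Nat.card_eq_fintype_card,
    h.base.V_card, nsmul_eq_mul] at h1
  have h2 : (vec V Y 1 θ one : ℂ) = ((1 : ℤ) : ℂ) := by
    rw [h1]
    push_cast
    field_simp
  exact_mod_cast h2

theorem b_one [Finite G] [Fintype V] [Fintype Y] (h : Hyp V Y m) (ψ : V →* ℂ) (hψ : ψ ≠ 1)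
    (θ : Y →* ℂ) {one : IrrCharacter G} (hone : (one : G → ℂ) = fun _ => 1) :
    vec V Y ψ θ one = 0 := by
  have h1 := h.b_coe ψ θ one
  simp only [hone, one_mul] at h1
  rw [← Finset.sum_mul_sum, orth_one ψ hψ, zero_mul, mul_zero] at h1
  exact_mod_cast h1

theorem vec_deg [Finite G] [Fintype (IrrCharacter G)] [Fintype V] [Fintype Y] (h : Hyp V Y m)
    (α : V →* ℂ) (θ : Y →* ℂ) : ∑ χ : IrrCharacter G, vec V Y α θ χ * deg χ = 0 := by
  have h1 := vec_mul_apply h.base.V_card h.base.VY_comm α θ 1 (by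
    intro v hv y hy hy1 hc
    rw [isConj_comm, isConj_one_right] at hc
    have h2 : v = y⁻¹ := eq_inv_of_mul_eq_one_left hc
    exact hy1 (h.base.eq_one (by rw [← inv_inv y, ← h2]; exact V.inv_mem hv) hy))
  have h2 : ((∑ χ : IrrCharacter G, vec V Y α θ χ * deg χ : ℤ) : ℂ) = ((0 : ℤ) : ℂ) := by
    push_cast
    rw [← h1]
    refine Finset.sum_congr rfl fun χ _ => ?_
    rw [← deg_coe, map_intCast]
  exact_mod_cast h2

theorem vec_val [Finite G] [Fintype (IrrCharacter G)] [Fintype V] [Fintype Y] (h : Hyp V Y m)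
    {t : G} (ht : orderOf t = 2) (α : V →* ℂ) (θ : Y →* ℂ) :
    ∑ χ : IrrCharacter G, vec V Y α θ χ * val t χ = 0 := by
  have h1 := vec_mul_apply h.base.V_card h.base.VY_comm α θ t (by
    intro v hv y hy hy1 hc
    obtain ⟨c, hc⟩ := isConj_iff.1 hc
    have h2 : (v * y) * (v * y) = 1 := by
      have h3 : t * t = 1 := by rw [← pow_two, ← ht, pow_orderOf_eq_one]
      have h4 : v * y = c⁻¹ * t * c := by rw [← hc]; group
      calc (v * y) * (v * y) = c⁻¹ * (t * t) * c := by rw [h4]; group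
        _ = 1 := by rw [h3]; group
    have h3 : y * y = 1 := by
      have h4 := h.base.VY_comm v hv y hy
      calc y * y = (v * v) * (y * y) := by rw [h.base.V_exp v hv, one_mul]
        _ = v * (v * y) * y := by group
        _ = v * (y * v) * y := by rw [h4]
        _ = v * y * (v * y) := by group
        _ = 1 := h2
    have h4 : orderOf y ∣ 2 := orderOf_dvd_of_pow_eq_one (by rw [pow_two]; exact h3)
    have h5 : orderOf y ∣ Nat.card Y := Subgroup.orderOf_dvd_natCard Y hy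
    have h6 := Nat.dvd_gcd h4 h5
    rw [Nat.coprime_two_left.2 h.base.Y_odd] at h6
    exact hy1 (orderOf_eq_one_iff.1 (Nat.dvd_one.1 h6)))
  have h2 : ((∑ χ : IrrCharacter G, vec V Y α θ χ * val t χ : ℤ) : ℂ) = ((0 : ℤ) : ℂ) := by
    push_cast
    rw [← h1]
    refine Finset.sum_congr rfl fun χ _ => ?_
    rw [← val_coe ht, map_intCast]
  exact_mod_cast h2

/-- **The two cases**, for the integers `a χ`, `b χ`. -/
theorem cases_vec [Finite G] [Fintype V] [Fintype Y] (h : Hyp V Y m)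
    {l : ℕ} (hl : l.Prime) (hlm : l ∣ m) {M : Ideal AlgInt} (hM : IsPModular l M)
    (θ : Y →* ℂ) (hθl : ∀ y, θ y ^ l = 1) (hθ : θ ≠ 1) (ψ : V →* ℂ) (hψ : ψ ≠ 1)
    (χ : IrrCharacter G) {s : ℤ}
    (hs : ∀ v ∈ V, v ≠ 1 → ∀ y ∈ Y, y ≠ 1 → (χ : G → ℂ) (v * y) = s) :
    (vec V Y 1 θ χ = s ∧ vec V Y ψ θ χ = 0 ∧
      ((l ^ m.factorization l : ℕ) : ℤ) ∣ deg χ - s) ∨
    (vec V Y 1 θ χ = 0 ∧ vec V Y ψ θ χ = -s) := by
  have := Fact.mk hl
  have hm : (m : ℂ) ≠ 0 := Nat.cast_ne_zero.2 h.m_pos.ne'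
  have ha := h.a_coe θ χ
  have hb := h.b_coe ψ θ χ
  rcases LBlock.cases hM h.base (by rw [h.Y_card]; exact hlm) θ hθl hθ ψ hψ χ hs with
    ⟨h1, h2, h3⟩ | ⟨h1, h2⟩
  · left
    rw [h1, h.Y_card] at ha
    rw [h2, mul_zero] at hb
    refine ⟨?_, by exact_mod_cast hb, ?_⟩
    · have h4 : (vec V Y 1 θ χ : ℂ) = (s : ℂ) := by
        rw [ha]
        field_simp
      exact_mod_cast h4
    · have h4 := LBlock.dvd_of_const (Y := Y) (p := l) (Characters.Core.isIrr_isCharacter χ.2)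
        (s := s) (d := deg χ) h3 (deg_coe χ).symm
      rw [h.Y_card] at h4
      exact h4
  · right
    rw [h1, mul_zero] at ha
    rw [h2, h.Y_card] at hb
    refine ⟨by exact_mod_cast ha, ?_⟩
    have h4 : (vec V Y ψ θ χ : ℂ) = ((-s : ℤ) : ℂ) := by
      rw [hb]
      push_cast
      field_simp
    exact_mod_cast h4

end Hyp

/-- A linear character of prime order `l`. -/
theorem exists_theta {Z : Type*} [Group Z] [Finite Z] (hZ : ∀ a b : Z, a * b = b * a) {l : ℕ}
    (hl : l.Prime) (hlZ : l ∣ Nat.card Z) : ∃ θ : Z →* ℂ, (∀ z, θ z ^ l = 1) ∧ θ ≠ 1 := by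
  have := Fact.mk hl
  have hfin : Finite (Z →* ℂˣ) := VecDef.instFiniteHom
  rw [← VecDef.card_hom hZ] at hlZ
  obtain ⟨f, hf⟩ := exists_prime_orderOf_dvd_card' l hlZ
  refine ⟨(Units.coeHom ℂ).comp f, fun z => ?_, fun h0 => ?_⟩
  · have h1 : f ^ l = 1 := by rw [← hf, pow_orderOf_eq_one]
    have h2 : f z ^ l = 1 := DFunLike.congr_fun h1 z
    rw [MonoidHom.comp_apply, Units.coeHom_apply, ← Units.val_pow_eq_pow_val, h2, Units.val_one]
  · have h1 : f = 1 := by
      ext z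
      exact DFunLike.congr_fun h0 z
    rw [h1, orderOf_one] at hf
    exact hl.one_lt.ne hf

/-- A nontrivial linear character. -/
theorem exists_psi {Z : Type*} [Group Z] [Finite Z] (hZ : ∀ a b : Z, a * b = b * a)
    (hZ1 : Nat.card Z ≠ 1) : ∃ ψ : Z →* ℂ, ψ ≠ 1 := by
  obtain ⟨l, hl, hlZ⟩ := Nat.exists_prime_and_dvd hZ1
  obtain ⟨θ, -, hθ⟩ := exists_theta hZ hl hlZ
  exact ⟨θ, hθ⟩

end Local

end Cfsg.Agent.Ree.TIInd
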