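import Cfsg.Agent.Ree.CharTI
import Cfsg.Agent.Ree.Numeric
import Cfsg.Agent.Ree.TIInd
import Cfsg.Agent.Ree.GalEx

/-!
# The character part of S0343: the order of the group from the local data
-/

set_option autoImplicit false

open Cfsg Cfsg.Agent.Characters.Core
open Cfsg.Agent.Ree.Interface Cfsg.Agent.Ree.Rows Cfsg.Agent.Ree.DegVal
open scoped ComplexConjugate

namespace Cfsg.Agent.Ree.CharMain

variable {G : Type*} [Group G] {F : Type*} [Field F] [Fintype F]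
  {t : G} {L V Y : Subgroup G} {m : ℕ} {ε : ℤ}

/-- Numerical facts on `Q = ε q`. -/
theorem Q_arith (h : Good F t L V Y m ε) :
    (ε * (Fintype.card F : ℤ)) % 8 = 5 ∧ 5 < |ε * (Fintype.card F : ℤ)| ∧
      4 * (m : ℤ) = |ε * (Fintype.card F : ℤ) - 1| := by
  obtain ⟨h1, h2⟩ := SectionVal.Q_facts h
  have h3 := h.card_F
  obtain ⟨k, hk⟩ := h.odd_m
  refine ⟨?_, ?_, ?_⟩
  · rcases h.eps with h5 | h5 <;> rw [h5] at h3 ⊢ <;> omega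
  · rw [CharFinal.abs_Q h]; omega
  · rcases h.eps with h5 | h5 <;> rw [h5] at h3 ⊢
    · rw [abs_of_nonneg (by omega)]; omega
    · rw [abs_of_nonpos (by omega)]; omega

theorem main_of [Finite G] (h : Good F t L V Y m ε)
    (hC3 : ∃ s : ℂ ≃+* ℂ, (∀ ζ : ℂ, ζ ^ m = 1 → s ζ = ζ) ∧
      ∀ z : ℂ, z ^ 2 = ε * Fintype.card F → s z = -z)
    (hC4 : ∀ [Fintype (IrrCharacter G)] [Fintype V] [Fintype Y] (θ : Y →* ℂ) (_ : θ ≠ 1)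
      (ψ : V →* ℂ) (_ : ψ ≠ 1) (ℓ : ℕ) (_ : ℓ.Prime) (_ : ℓ ∣ m) (_ : ∀ y, θ y ^ ℓ = 1)
      (one : IrrCharacter G) (_ : (one : G → ℂ) = fun _ => 1),
      ∃ a b : IrrCharacter G → ℤ,
        (∀ χ : IrrCharacter G, (a χ : ℂ) = (4 * (m : ℂ))⁻¹ *
          ∑ v : V, ∑ y : Y, (χ : G → ℂ) ((v : G) * (y : G)) * (1 - conj (θ y))) ∧
        (∀ χ : IrrCharacter G, (b χ : ℂ) = (4 * (m : ℂ))⁻¹ *
          ∑ v : V, ∑ y : Y, (χ : G → ℂ) ((v : G) * (y : G)) * (conj (ψ v) * (1 - conj (θ y)))) ∧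
        a one = 1 ∧ b one = 0 ∧ ∑ χ, a χ ^ 2 = 7 ∧ ∑ χ, b χ ^ 2 = 3 ∧ ∑ χ, a χ * b χ = 0 ∧
        ∑ χ, a χ * deg χ = 0 ∧ ∑ χ, b χ * deg χ = 0 ∧ ∑ χ, a χ * val t χ = 0 ∧
        ∑ χ, b χ * val t χ = 0) :
    ∃ k : ℕ, 1 ≤ k ∧ Fintype.card F = 3 ^ (2 * k + 1) ∧
      Nat.card G = (3 ^ (2 * k + 1)) ^ 3 * ((3 ^ (2 * k + 1)) ^ 3 + 1) * (3 ^ (2 * k + 1) - 1) := by
  classical
  have := Fintype.ofFinite V
  have := Fintype.ofFinite Y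
  have : Finite (IrrCharacter G) := finite_irr
  have := Fintype.ofFinite (IrrCharacter G)
  obtain ⟨M, hM⟩ := Blocks.ExistsModular.exists_isPModular Nat.prime_two
  obtain ⟨τ, hτ, h1, h2, h3, hy1, hgal⟩ :=
    PSLTauMain.exists_tau h.iso m ε h.eps h.odd_m h.one_lt_m h.card_F M hM
  obtain ⟨p, hpF⟩ := CharP.exists F
  obtain ⟨n, hp, hn⟩ := FiniteField.card F p
  obtain ⟨s, hs1, hs2⟩ := hC3
  let one : IrrCharacter G := ⟨fun _ => 1, Blocks.Basic.isIrrCharacter_one⟩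
  have hQp : |ε * (Fintype.card F : ℤ)| = (p : ℤ) ^ (n : ℕ) := by
    rw [CharFinal.abs_Q h, hn]
    push_cast
    rfl
  obtain ⟨hQ8, hQ5, hm⟩ := Q_arith h
  have hb := CharTI.numBase h hM hτ h1 h2 h3 hgal (one := one) rfl s hs2
  obtain ⟨k, hk1, hk2, hk3⟩ := Numeric.main hp hQp hQ8 hQ5 hm hb (fun ℓ hℓ hd => by
    obtain ⟨θ, hθ, hθ1⟩ := CharTI.exists_hom (A := Y)
      (fun a b => Subtype.ext ((SectionVal.hyp_LBlock h).Y_comm a a.2 b b.2)) hℓ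
      (by rw [h.Y_card]; exact hd)
    obtain ⟨ψ, -, hψ⟩ := CharTI.exists_hom (A := V)
      (fun a b => Subtype.ext (DelLoc.comm_of_exp h.V_exp a.2 b.2)) Nat.prime_two
      (by rw [h.V_card]; norm_num)
    obtain ⟨a, b, ha, hb', c1, c2, c3, c4, c5, c6, c7, c8, c9⟩ :=
      hC4 θ hθ1 ψ hψ ℓ hℓ hd hθ one rfl
    exact ⟨a, b, CharTI.numTI h hM hτ hy1 hℓ hd one s hs1 θ hθ hθ1 ψ hψ a b ha hb' c1 c2 c3 c4 c5 c6
      c7 c8 c9⟩)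
  refine ⟨k, hk1, ?_, hk3⟩
  rw [CharFinal.abs_Q h] at hk2
  exact_mod_cast hk2

/-- **The order of the group.** -/
theorem main [Finite G] (h : Good F t L V Y m ε) :
    ∃ k : ℕ, 1 ≤ k ∧ Fintype.card F = 3 ^ (2 * k + 1) ∧
      Nat.card G = (3 ^ (2 * k + 1)) ^ 3 * ((3 ^ (2 * k + 1)) ^ 3 + 1) * (3 ^ (2 * k + 1) - 1) := by
  refine main_of h ?_ ?_
  · obtain ⟨p, hpF⟩ := CharP.exists F
    obtain ⟨n, hp, hn⟩ := FiniteField.card F p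
    have : Fact p.Prime := ⟨hp⟩
    have hm0 : m ≠ 0 := by have := h.one_lt_m; omega
    obtain ⟨s, hs1, hs2⟩ := GalEx.exists_sigma_field (F := F) p h.eps h.odd_m h.card_F hm0
    refine ⟨s, fun ζ hζ => hs1 ζ m dvd_rfl ?_ hζ, hs2⟩
    intro hpm
    have h1 : (p : ℤ) ∣ (Fintype.card F : ℤ) := by
      rw [hn]
      exact_mod_cast dvd_pow_self p n.ne_zero
    have h2 : (p : ℤ) ∣ 4 * (m : ℤ) := Dvd.dvd.mul_left (by exact_mod_cast hpm) 4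
    have h3 : (p : ℤ) ∣ ε := by
      have := dvd_sub h1 h2
      rwa [h.card_F, add_sub_cancel_left] at this
    have h4 : (p : ℤ) ∣ 1 := by
      rcases h.eps with h5 | h5 <;> rw [h5] at h3
      · exact h3
      · exact (dvd_neg.1 h3)
    have h5 : p ∣ 1 := by exact_mod_cast h4
    exact hp.one_lt.ne' (Nat.dvd_one.1 h5)
  · intro _ _ _ θ hθ1 ψ hψ ℓ hℓ hd hθ one hone
    have hT := TIInd.hyp_of_good h
    exact ⟨TIInd.vec V Y 1 θ, TIInd.vec V Y ψ θ, hT.a_coe θ, hT.b_coe ψ θ, hT.a_one θ hθ1 hone,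
      hT.b_one ψ hψ θ hone, hT.aa hℓ hd θ hθ hθ1, hT.bb hℓ hd θ hθ hθ1 ψ hψ,
      hT.ab hℓ hd θ hθ hθ1 ψ hψ, hT.vec_deg 1 θ, hT.vec_deg ψ θ, hT.vec_val h.ord_t 1 θ,
      hT.vec_val h.ord_t ψ θ⟩

end Cfsg.Agent.Ree.CharMain
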