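import Cfsg.Agent.Ree.Rows
import Cfsg.Agent.Ree.DegVal
import Cfsg.Agent.Characters.GaloisIrr

/-!
# The action of a field automorphism on the irreducible characters and on the rows
-/

set_option autoImplicit false

open Cfsg Cfsg.Agent.Characters.Core
open Cfsg.Agent.Ree.Rows Cfsg.Agent.Ree.DegVal
open scoped ComplexConjugate

namespace Cfsg.Agent.Ree.GalPerm

variable {G : Type*} [Group G] [Finite G]

/-- The action of a field automorphism of `ℂ` on the irreducible characters. -/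
noncomputable def perm (s : ℂ ≃+* ℂ) : IrrCharacter G ≃ IrrCharacter G where
  toFun χ := ⟨fun g => s ((χ : G → ℂ) g), Characters.GaloisIrr.isIrr_map s χ.2⟩
  invFun χ := ⟨fun g => s.symm ((χ : G → ℂ) g), Characters.GaloisIrr.isIrr_map s.symm χ.2⟩
  left_inv _ := Subtype.ext (funext fun _ => s.symm_apply_apply _)
  right_inv _ := Subtype.ext (funext fun _ => s.apply_symm_apply _)

theorem perm_apply (s : ℂ ≃+* ℂ) (χ : IrrCharacter G) (g : G) :
    (perm s χ : G → ℂ) g = s ((χ : G → ℂ) g) := rfl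

theorem deg_perm (s : ℂ ≃+* ℂ) (χ : IrrCharacter G) : deg (perm s χ) = deg χ := by
  have h : (deg (perm s χ) : ℂ) = deg χ := by rw [deg_coe, perm_apply, ← deg_coe, map_intCast]
  exact_mod_cast h

theorem val_perm (s : ℂ ≃+* ℂ) {t : G} (ht : orderOf t = 2) (χ : IrrCharacter G) :
    val t (perm s χ) = val t χ := by
  have h : (val t (perm s χ) : ℂ) = val t χ := by
    rw [val_coe ht, perm_apply, ← val_coe ht, map_intCast]
  exact_mod_cast h

/-- An integer valued function defined by a sum with fixed coefficients is invariant. -/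
theorem int_perm (s : ℂ ≃+* ℂ) {ι : Type*} (S : Finset ι) (c : ι → ℂ) (x : ι → G)
    (hc : ∀ i, s (c i) = c i) (a : IrrCharacter G → ℤ)
    (ha : ∀ χ : IrrCharacter G, (a χ : ℂ) = ∑ i ∈ S, c i * (χ : G → ℂ) (x i))
    (χ : IrrCharacter G) : a (perm s χ) = a χ := by
  have h : (a (perm s χ) : ℂ) = s (a χ) := by
    rw [ha, ha, map_sum]
    refine Finset.sum_congr rfl fun i _ => ?_
    rw [map_mul, hc, perm_apply]
  rw [map_intCast] at h
  exact_mod_cast h

section Rows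

variable {t : G} {L : Subgroup G} {M : Ideal AlgInt} {τ : Fin 4 → L → ℂ}

omit [Finite G] in
theorem conj_tau {L : Type*} [Group L] [Finite L] {τ : Fin 4 → L → ℂ} (h : Tau M τ) (i : Fin 4)
    (l : L) : conj (τ i l) = τ i l⁻¹ := by
  rcases h.irr i with h1 | h1
  · exact (isCharacter_apply_inv (isIrr_isCharacter h1) l).symm
  · have h2 := isCharacter_apply_inv (isIrr_isCharacter h1) l
    simp only [Pi.neg_apply, map_neg] at h2
    exact (neg_injective h2).symm

theorem r_perm (S : Setup t L) (h : Tau M τ) (s : ℂ ≃+* ℂ) {i j : Fin 3}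
    (hij : ∀ l, s (τ i.succ l) = τ j.succ l) (χ : IrrCharacter G) :
    r t L τ j (perm s χ) = r t L τ i χ := by
  have := Fintype.ofFinite L
  have h1 : (r t L τ j (perm s χ) : ℂ) = s (r t L τ i χ) := by
    rw [r_def S h, r_def S h, map_mul, map_inv₀, map_natCast, map_sum]
    congr 1
    refine Finset.sum_congr rfl fun l _ => ?_
    rw [map_mul, perm_apply, map_sub, map_one, map_sub, map_one, map_sub, map_one, conj_tau h,
      conj_tau h, hij]
  rw [map_intCast] at h1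
  exact_mod_cast h1

omit [Finite G] in
/-- The automorphism changing the sign of `√Q` exchanges `τ 1` and `τ 2` and fixes `τ 3`. -/
theorem swap {L : Type*} [Group L] {τ : Fin 4 → L → ℂ} (h : Tau M τ) {Q : ℂ} (s : ℂ ≃+* ℂ)
    (hs : ∀ z : ℂ, z ^ 2 = Q → s z = -z)
    (hgal : ∀ σ : ℂ →+* ℂ, (∀ z : ℂ, z ^ 2 = Q → σ z = -z) → ∀ x, σ (τ 1 x) = τ 2 x) :
    (∀ x, s (τ 1 x) = τ 2 x) ∧ (∀ x, s (τ 2 x) = τ 1 x) ∧ (∀ x, s (τ 3 x) = τ 3 x) := by
  have h1 : ∀ x, s (τ 1 x) = τ 2 x := hgal (s : ℂ →+* ℂ) hs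
  have h2 : ∀ x, s.symm (τ 1 x) = τ 2 x := by
    refine hgal (s.symm : ℂ →+* ℂ) fun z hz => ?_
    change s.symm z = -z
    rw [RingEquiv.symm_apply_eq]
    have := hs (-z) (by rw [neg_sq, hz])
    rw [this, neg_neg]
  have h3 : ∀ x, s (τ 2 x) = τ 1 x := by
    intro x
    rw [← h2, RingEquiv.apply_symm_apply]
  refine ⟨h1, h3, fun x => ?_⟩
  by_cases hx : 2 ∣ orderOf x
  · rw [h.even 3 x hx, map_one]
  · have h4 := h.odd x hx
    rw [Fin.sum_univ_four, h.zero] at h4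
    have h5 : τ 3 x = -1 - τ 1 x - τ 2 x := by linear_combination h4
    rw [h5, map_sub, map_sub, map_neg, map_one, h1, h3]
    ring

theorem r_swap (S : Setup t L) (h : Tau M τ) {Q : ℂ} (s : ℂ ≃+* ℂ)
    (hs : ∀ z : ℂ, z ^ 2 = Q → s z = -z)
    (hgal : ∀ σ : ℂ →+* ℂ, (∀ z : ℂ, z ^ 2 = Q → σ z = -z) → ∀ x, σ (τ 1 x) = τ 2 x) :
    (∀ χ : IrrCharacter G, r t L τ 0 (perm s χ) = r t L τ 1 χ) ∧
      (∀ χ : IrrCharacter G, r t L τ 1 (perm s χ) = r t L τ 0 χ) ∧
      (∀ χ : IrrCharacter G, r t L τ 2 (perm s χ) = r t L τ 2 χ) := by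
  obtain ⟨h1, h2, h3⟩ := swap h s hs hgal
  exact ⟨r_perm S h s (i := 1) (j := 0) h2, r_perm S h s (i := 0) (j := 1) h1,
    r_perm S h s (i := 2) (j := 2) h3⟩

end Rows

end Cfsg.Agent.Ree.GalPerm
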