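import Cfsg.Agent.Ree.SectionVal
import Cfsg.Agent.Ree.GalPerm

/-!
# Assembly of `Interface.NumTI`
-/

set_option autoImplicit false

open Cfsg Cfsg.Agent.Characters.Core
open Cfsg.Agent.Ree.Interface Cfsg.Agent.Ree.Rows Cfsg.Agent.Ree.DegVal
open scoped ComplexConjugate

namespace Cfsg.Agent.Ree.CharTI

/-- Linear characters of prime order. -/
theorem exists_hom {A : Type*} [Group A] [Finite A] (hA : ∀ a b : A, a * b = b * a) {p : ℕ}
    (hp : p.Prime) (hpA : p ∣ Nat.card A) :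
    ∃ φ : A →* ℂ, (∀ a, φ a ^ p = 1) ∧ φ ≠ 1 := by
  let inst : CommGroup A := { (inferInstance : Group A) with mul_comm := hA }
  have : Fact p.Prime := ⟨hp⟩
  obtain ⟨a, ha⟩ := exists_prime_orderOf_dvd_card' p hpA
  obtain ⟨e⟩ := CommGroup.monoidHom_mulEquiv_of_hasEnoughRootsOfUnity A ℂ
  have h1 : orderOf (e.symm a) = p := by
    rw [← ha]
    exact orderOf_injective e.symm.toMonoidHom e.symm.injective a
  have h2 : (e.symm a) ^ p = 1 := by rw [← h1, pow_orderOf_eq_one]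
  refine ⟨(Units.coeHom ℂ).comp (e.symm a), ?_, ?_⟩
  · intro b
    have h3 : (e.symm a) b ^ p = 1 := by
      rw [← MonoidHom.pow_apply, h2, MonoidHom.one_apply]
    change (((e.symm a) b : ℂˣ) : ℂ) ^ p = 1
    rw [← Units.val_pow_eq_pow_val, h3, Units.val_one]
  · intro h3
    have h4 : e.symm a = 1 := by
      ext b
      have := DFunLike.congr_fun h3 b
      exact this
    rw [h4, orderOf_one] at h1
    exact hp.one_lt.ne h1

variable {G : Type*} [Group G] {F : Type*} [Field F] [Fintype F]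
  {t : G} {L V Y : Subgroup G} {m : ℕ} {ε : ℤ}

/-- The values of a linear character of `Y` are `m`-th roots of unity. -/
theorem hom_pow [Finite G] (h : Good F t L V Y m ε) (θ : Y →* ℂ) (y : Y) : θ y ^ m = 1 := by
  rw [← map_pow, ← h.Y_card, pow_card_eq_one', map_one]

theorem conj_hom [Finite G] (h : Good F t L V Y m ε) (θ : Y →* ℂ) (y : Y) :
    conj (θ y) ^ m = 1 := by
  rw [← map_pow, hom_pow h, map_one]

theorem hom_V [Finite G] (h : Good F t L V Y m ε) (ψ : V →* ℂ) (v : V) : ψ v = 1 ∨ ψ v = -1 := by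
  apply mul_self_eq_one_iff.1
  rw [← map_mul]
  have : v * v = 1 := Subtype.ext (h.V_exp v v.2)
  rw [this, map_one]

/-- Assembly of `NumTI`. -/
theorem numTI [Finite G] [Fintype (IrrCharacter G)] [Fintype V] [Fintype Y]
    (h : Good F t L V Y m ε)
    {M : Ideal AlgInt} (hM : IsPModular 2 M) {τ : Fin 4 → L → ℂ} (hτ : Tau M τ)
    (hy1 : ∀ y u : L, y ≠ 1 → Odd (orderOf y) → orderOf u = 2 → y * u = u * y →
      τ 1 y = -1 ∧ τ 2 y = -1 ∧ τ 3 y = 1)
    {ℓ : ℕ} (hℓ : ℓ.Prime) (hdvd : ℓ ∣ m) (one : IrrCharacter G)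
    (s : ℂ ≃+* ℂ) (hs : ∀ ζ : ℂ, ζ ^ m = 1 → s ζ = ζ)
    (θ : Y →* ℂ) (hθ : ∀ y, θ y ^ ℓ = 1) (hθ1 : θ ≠ 1) (ψ : V →* ℂ) (hψ : ψ ≠ 1)
    (a b : IrrCharacter G → ℤ)
    (ha : ∀ χ : IrrCharacter G, (a χ : ℂ) = (4 * (m : ℂ))⁻¹ *
      ∑ v : V, ∑ y : Y, (χ : G → ℂ) ((v : G) * (y : G)) * (1 - conj (θ y)))
    (hb : ∀ χ : IrrCharacter G, (b χ : ℂ) = (4 * (m : ℂ))⁻¹ *
      ∑ v : V, ∑ y : Y, (χ : G → ℂ) ((v : G) * (y : G)) * (conj (ψ v) * (1 - conj (θ y))))
    (a_one : a one = 1) (b_one : b one = 0)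
    (aa : ∑ χ, a χ ^ 2 = 7) (bb : ∑ χ, b χ ^ 2 = 3) (ab : ∑ χ, a χ * b χ = 0)
    (a_deg : ∑ χ, a χ * deg χ = 0) (b_deg : ∑ χ, b χ * deg χ = 0)
    (a_val : ∑ χ, a χ * val t χ = 0) (b_val : ∑ χ, b χ * val t χ = 0) :
    NumTI (ε * Fintype.card F) (Nat.card G) deg (val t) (r t L τ) one (GalPerm.perm s)
      (ℓ ^ m.factorization ℓ) a b where
  a_one := a_one
  b_one := b_one
  cases := by
    intro χ hχ
    have : Fact ℓ.Prime := ⟨hℓ⟩
    obtain ⟨M', hM'⟩ := Blocks.ExistsModular.exists_isPModular hℓ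
    have hm : (m : ℂ) ≠ 0 := by
      have := h.one_lt_m
      exact_mod_cast (by omega : m ≠ 0)
    have hv := SectionVal.value_V h hM hτ hy1 χ hχ
    rcases LBlock.cases hM' (SectionVal.hyp_LBlock h) (by rw [h.Y_card]; exact hdvd) θ hθ hθ1 ψ hψ
      χ hv with ⟨h1, h2, h3⟩ | ⟨h1, h2⟩
    · left
      refine ⟨?_, ?_, ?_⟩
      · have h4 : (a χ : ℂ) = ((-r t L τ 0 χ - r t L τ 1 χ + r t L τ 2 χ : ℤ) : ℂ) := by
          rw [ha, h1, h.Y_card]
          field_simp
        exact_mod_cast h4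
      · have h4 : (b χ : ℂ) = ((0 : ℤ) : ℂ) := by
          rw [hb, h2]
          simp
        exact_mod_cast h4
      · have h4 := LBlock.dvd_of_const (p := ℓ) (Y := Y) (isIrr_isCharacter χ.2)
          (s := -r t L τ 0 χ - r t L τ 1 χ + r t L τ 2 χ) h3 (deg_coe χ).symm
        rw [h.Y_card] at h4
        exact h4
    · right
      refine ⟨?_, ?_⟩
      · have h4 : (a χ : ℂ) = ((0 : ℤ) : ℂ) := by
          rw [ha, h1]
          simp
        exact_mod_cast h4
      · have h4 : (b χ : ℂ) = ((-(-r t L τ 0 χ - r t L τ 1 χ + r t L τ 2 χ) : ℤ) : ℂ) := by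
          rw [hb, h2, h.Y_card, Int.cast_neg]
          field_simp
        exact_mod_cast h4
  aa := aa
  bb := bb
  ab := ab
  a_deg := a_deg
  b_deg := b_deg
  a_val := a_val
  b_val := b_val
  a_class :=
    ClassSum.class_a h.conj h.ord_t h.L_le h.t_not_mem h.cover (by have := h.one_lt_m; omega)
      h.V_card h.Y_card h.inv_count θ hθ1 (fun χ => (val_coe h.ord_t χ).symm)
      (fun χ => (deg_coe χ).symm) ha (SectionVal.numHyp h)
  b_class :=
    ClassSum.class_b h.conj h.ord_t h.L_le h.t_not_mem h.cover h.inv_count θ ψ hψ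
      (fun χ => (val_coe h.ord_t χ).symm) (fun χ => (deg_coe χ).symm) hb
  gal_a := by
    refine GalPerm.int_perm s Finset.univ
      (fun x : V × Y => (4 * (m : ℂ))⁻¹ * (1 - conj (θ x.2))) (fun x => (x.1 : G) * (x.2 : G))
      ?_ a ?_
    · intro x
      rw [map_mul, map_inv₀, map_mul, map_natCast, map_ofNat, map_sub, map_one,
        hs _ (conj_hom h θ x.2)]
    · intro χ
      rw [ha, Fintype.sum_prod_type, Finset.mul_sum]
      refine Finset.sum_congr rfl fun v _ => ?_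
      rw [Finset.mul_sum]
      exact Finset.sum_congr rfl fun y _ => by ring
  gal_b := by
    refine GalPerm.int_perm s Finset.univ
      (fun x : V × Y => (4 * (m : ℂ))⁻¹ * (conj (ψ x.1) * (1 - conj (θ x.2))))
      (fun x => (x.1 : G) * (x.2 : G)) ?_ b ?_
    · intro x
      have h1 : s (conj (ψ x.1)) = conj (ψ x.1) := by
        rcases hom_V h ψ x.1 with h1 | h1 <;> rw [h1] <;> simp
      rw [map_mul, map_inv₀, map_mul, map_natCast, map_ofNat, map_mul, h1, map_sub, map_one,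
        hs _ (conj_hom h θ x.2)]
    · intro χ
      rw [hb, Fintype.sum_prod_type, Finset.mul_sum]
      refine Finset.sum_congr rfl fun v _ => ?_
      rw [Finset.mul_sum]
      exact Finset.sum_congr rfl fun y _ => by ring

/-- Assembly of `NumBase`. -/
theorem numBase [Finite G] [Fintype (IrrCharacter G)] (h : Good F t L V Y m ε)
    {M : Ideal AlgInt} (hM : IsPModular 2 M) {τ : Fin 4 → L → ℂ} (hτ : Tau M τ)
    (h1 : 2 * τ 1 1 = -((ε * Fintype.card F : ℂ) + 1))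
    (h2 : 2 * τ 2 1 = -((ε * Fintype.card F : ℂ) + 1)) (h3 : τ 3 1 = ε * Fintype.card F)
    (hgal : ∀ σ : ℂ →+* ℂ, (∀ z : ℂ, z ^ 2 = ε * Fintype.card F → σ z = -z) →
        ∀ x, σ (τ 1 x) = τ 2 x)
    {one : IrrCharacter G} (hone : (one : G → ℂ) = fun _ => 1)
    (s : ℂ ≃+* ℂ) (hs : ∀ z : ℂ, z ^ 2 = ε * Fintype.card F → s z = -z) :
    NumBase (ε * Fintype.card F) (Nat.card G) deg (val t) (r t L τ) one (GalPerm.perm s) := by
  have := Fintype.ofFinite L
  have hS := CharFinal.setup h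
  obtain ⟨g0, g1, g2⟩ := GalPerm.r_swap (G := G) hS hτ s hs hgal
  have hQ0 : (ε : ℚ) * (Fintype.card F : ℚ) ≠ 0 := by exact_mod_cast (SectionVal.numHyp h).Q_ne
  have hQ1 : (ε : ℚ) * (Fintype.card F : ℚ) + 1 ≠ 0 := by
    intro h4
    apply (SectionVal.numHyp h).Q_ne_neg
    have h5 : (ε : ℚ) * (Fintype.card F : ℚ) = -1 := by linear_combination h4
    exact_mod_cast h5
  have hcl : ∀ (i : Fin 3) (c : ℚ), τ i.succ 1 = (c : ℂ) →
      ∑ χ : IrrCharacter G, (r t L τ i χ : ℚ) * (val t χ : ℚ) ^ 2 / (deg χ : ℚ) =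
        kappa (ε * Fintype.card F) (Nat.card G) * (1 / c - 1) := by
    intro i c hc
    exact ClassSum.class_r h.conj h.ord_t h.L_le h.t_not_mem h.cover (hτ.irr i.succ)
      (fun l hl => hτ.even i.succ l hl) hc (fun χ => (val_coe h.ord_t χ).symm)
      (fun χ => (deg_coe χ).symm) (fun χ => r_def hS hτ i χ) (SectionVal.numHyp h)
  refine CharFinal.numBase h hM hτ rfl ?_ ?_ ?_ hone ?_ ?_ ?_ (GalPerm.deg_perm s)
    (GalPerm.val_perm s h.ord_t) g0 g1 g2
  · rw [h1]; push_cast; ring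
  · rw [h2]; push_cast; ring
  · rw [h3]; push_cast; ring
  · rw [hcl 0 (-((ε : ℚ) * (Fintype.card F : ℚ) + 1) / 2) ?_]
    · congr 1
      push_cast
      field_simp
    · change τ 1 1 = _
      push_cast
      linear_combination h1 / 2
  · rw [hcl 1 (-((ε : ℚ) * (Fintype.card F : ℚ) + 1) / 2) ?_]
    · congr 1
      push_cast
      field_simp
    · change τ 2 1 = _
      push_cast
      linear_combination h2 / 2
  · rw [hcl 2 ((ε : ℚ) * (Fintype.card F : ℚ)) ?_]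
    · push_cast
      rfl
    · change τ 3 1 = _
      push_cast
      exact h3

end Cfsg.Agent.Ree.CharTI
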