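import Cfsg.Agent.Ree.CoreArith

/-!
# The arithmetic in the numerical core of S0343: the 7-pattern
-/

set_option autoImplicit false

namespace Cfsg.Agent.Ree.CoreArith

/-- 7-pattern, first case. -/
theorem triA {p n : ℕ} (hp : p.Prime) {q ε m Z V Y1 Y2 W1 W2 W3 : ℤ} (hε : ε = 1 ∨ ε = -1)
    (hqm : q = 4 * m + ε) (hm : Odd m) (hq : 11 ≤ q) (hpn : q = (p : ℤ) ^ n) (hZ : 0 < Z)
    (hV : V ≠ 0) (hY1 : Y1 ≠ 0) (hY2 : Y2 ≠ 0) (hW1 : W1 ≠ 0) (hW2 : W2 ≠ 0) (hW3 : W3 ≠ 0)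
    (h0 : ε + V + Y1 + W1 = 0) (h1 : ε + V + Y2 + W2 = 0) (h2 : ε + Y1 + Y2 + W3 = 0)
    (hE : -ε * W1 + -ε * W2 = ε * ((q + ε) * Z))
    (hS : -(ε : ℚ) * ((q + ε : ℚ) ^ 2 / 4 / W1) + -(ε : ℚ) * ((q + ε : ℚ) ^ 2 / 4 / W2)
      = ε * (q + ε) / Z)
    (s0 : (ε : ℚ) + (q + ε : ℚ) ^ 2 / V + (q - ε : ℚ) ^ 2 / 4 / Y1 + (q + ε : ℚ) ^ 2 / 4 / W1
      = ((q + ε : ℚ) ^ 2 / Z) * (ε + 2 / (q + ε)))
    (s2 : (ε : ℚ) + (q - ε : ℚ) ^ 2 / 4 / Y1 + (q - ε : ℚ) ^ 2 / 4 / Y2 + (q : ℚ) ^ 2 / W3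
      = ((q + ε : ℚ) ^ 2 / Z) * (ε - 1 / q))
    (c1 : 4 * m ∣ Y1 + 2 * m) (c1' : 8 ∣ Y1 + 2 * m)
    (c2 : 4 * m ∣ W1 - (2 * m + ε) + 4 * ε) : False := by
  have hεε : ε * ε = 1 := by rcases hε with h | h <;> rw [h] <;> norm_num
  have hεεQ : (ε : ℚ) * ε = 1 := by exact_mod_cast hεε
  have hm3 : 3 ≤ m := by rcases hε with h | h <;> rw [h] at hqm <;> omega
  have hD : 0 < q + ε := by rcases hε with h | h <;> rw [h] <;> linarith
  have hVQ : (V : ℚ) ≠ 0 := by exact_mod_cast hV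
  have hY1Q : (Y1 : ℚ) ≠ 0 := by exact_mod_cast hY1
  have hY2Q : (Y2 : ℚ) ≠ 0 := by exact_mod_cast hY2
  have hW1Q : (W1 : ℚ) ≠ 0 := by exact_mod_cast hW1
  have hW2Q : (W2 : ℚ) ≠ 0 := by exact_mod_cast hW2
  have hW3Q : (W3 : ℚ) ≠ 0 := by exact_mod_cast hW3
  have hZQ : (Z : ℚ) ≠ 0 := by exact_mod_cast hZ.ne'
  have hq0 : q ≠ 0 := by linarith
  have hqQ : (q : ℚ) ≠ 0 := by exact_mod_cast hq0
  have hDQ : (q + ε : ℚ) ≠ 0 := by exact_mod_cast hD.ne'
  -- `W1 = W2`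
  have e1 : W1 + W2 = -((q + ε) * Z) := by
    linear_combination (-ε) * hE - (W1 + W2 + (q + ε) * Z) * hεε
  have e2 : -((q + ε) * (W1 + W2) * Z) = 4 * (W1 * W2) := by
    have h : -((q + ε : ℚ) * (W1 + W2) * Z) = 4 * (W1 * W2) := by
      field_simp at hS
      rcases hε with h | h
      · rw [h] at hS ⊢; push_cast at hS ⊢; linarith
      · rw [h] at hS ⊢; push_cast at hS ⊢; linarith
    exact_mod_cast h
  have e3 : (W1 - W2) ^ 2 = 0 := by
    linear_combination e2 + (W1 + W2) * e1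
  have e4 : W2 = W1 := by
    have := pow_eq_zero_iff (two_ne_zero) |>.mp e3
    linarith
  obtain ⟨d, hd⟩ : ∃ d : ℤ, d = 2 * m + ε := ⟨_, rfl⟩
  have hqd : q + ε = 2 * d := by rw [hqm, hd]; ring
  have hdpos : 0 < d := by linarith
  have e5 : W1 = -(d * Z) := by
    rw [e4, hqd] at e1
    linarith
  have e6 : Y2 = Y1 := by rw [e4] at h1; linarith
  -- `ζ`
  obtain ⟨h, hh, hY⟩ : ∃ h : ℤ, Odd h ∧ Y1 = 2 * m * (1 + 2 * h) := by
    obtain ⟨c, hc⟩ := c1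
    obtain ⟨l, hl⟩ := hm
    have hce : Even c := by
      rw [hc] at c1'
      obtain ⟨c', hc'⟩ := c1'
      have h3 : m * c = 2 * c' := by linarith
      have h4 : Even (m * c) := ⟨c', by linarith⟩
      rcases Int.even_mul.mp h4 with h5 | h5
      · exfalso
        rw [hl] at h5
        exact absurd h5 (by simp)
      · exact h5
    obtain ⟨c', hc'⟩ := hce
    refine ⟨2 * c' - 1, ⟨c' - 1, by ring⟩, ?_⟩
    rw [hc'] at hc
    linarith
  have e7 : W3 = -(ε + 4 * m * (1 + 2 * h)) := by rw [e6, hY] at h2; linarith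
  have hζ0 : (1 + 2 * h) ≠ 0 := by omega
  have hζQ : ((1 : ℚ) + 2 * h) ≠ 0 := by exact_mod_cast hζ0
  have hm0 : m ≠ 0 := by omega
  have hmQ : (m : ℚ) ≠ 0 := by exact_mod_cast hm0
  have hY1' : (Y1 : ℚ) = 2 * m * (1 + 2 * h) := by exact_mod_cast hY
  have hY2' : (Y2 : ℚ) = 2 * m * (1 + 2 * h) := by rw [e6]; exact hY1'
  have hqQm : (q : ℚ) = 4 * m + ε := by exact_mod_cast hqm
  have hdQ : (d : ℚ) = 2 * m + ε := by exact_mod_cast hd
  have hd0Q : (d : ℚ) ≠ 0 := by exact_mod_cast hdpos.ne'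
  have hqdQ : (q + ε : ℚ) = 2 * d := by exact_mod_cast hqd
  have hqe : (q - ε : ℚ) = 4 * m := by rw [hqQm]; ring
  have hW3' : (W3 : ℚ) = -(ε + 4 * m * (1 + 2 * h)) := by exact_mod_cast e7
  have hW30 : (ε + 4 * m * (1 + 2 * h) : ℚ) ≠ 0 := by
    intro h'; apply hW3Q; rw [hW3', h']; ring
  -- the key equation
  have K : h ^ 2 * (4 * m + ε) * Z = (2 * m + ε) ^ 2 * (1 + 2 * h) * (4 * m + ε + 8 * m * h) := by
    have h3 : (h : ℚ) ^ 2 * q * Z = d ^ 2 * (1 + 2 * h) * (4 * m + ε + 8 * m * h) := by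
      rw [hY1', hY2', hqe, hqdQ, hW3'] at s2
      have h4 : (ε : ℚ) - 1 / q = 4 * ε * m / q := by
        rw [eq_div_iff hqQ, sub_mul, one_div, inv_mul_cancel₀ hqQ, hqQm]
        linear_combination hεεQ
      rw [h4] at s2
      have h5 : (ε : ℚ) + (4 * m) ^ 2 / 4 / (2 * m * (1 + 2 * h))
          + (4 * m) ^ 2 / 4 / (2 * m * (1 + 2 * h)) + (q : ℚ) ^ 2 / -(ε + 4 * m * (1 + 2 * h))
          = 16 * ε * m * h ^ 2 / ((1 + 2 * h) * (ε + 4 * m * (1 + 2 * h))) := by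
        rw [hqQm]
        field_simp
        ring
      have hεQ : (ε : ℚ) ≠ 0 := by
        intro h'; rw [h'] at hεεQ; norm_num at hεεQ
      rw [h5, div_mul_div_comm, div_eq_div_iff (mul_ne_zero hζQ hW30) (mul_ne_zero hZQ hqQ)] at s2
      have h6 : (16 * ε * m : ℚ) ≠ 0 := mul_ne_zero (mul_ne_zero (by norm_num) hεQ) hmQ
      apply mul_left_cancel₀ h6
      linear_combination s2
    rw [hdQ, hqQm] at h3
    exact_mod_cast h3
  -- the congruence for `Z`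
  have hZ3 : 4 * m ∣ Z - 3 := by
    rw [e5, hd] at c2
    have hodd : Z % 2 = 1 := by
      obtain ⟨c, hc⟩ := c2
      have h5 : (2 * m + ε) * Z = -(4 * m * c) - (2 * m + ε) + 4 * ε := by linarith
      rcases Int.emod_two_eq_zero_or_one Z with h | h
      · exfalso
        obtain ⟨z, hz⟩ : ∃ z, Z = 2 * z := ⟨Z / 2, by omega⟩
        rw [hz] at h5
        have h6 : ε = 2 * (-(2 * m * c) - m + 2 * ε - (2 * m + ε) * z) := by linarith
        rcases hε with h' | h' <;> omega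
      · exact h
    obtain ⟨z, hz⟩ : ∃ z, Z = 2 * z + 1 := ⟨Z / 2, by omega⟩
    obtain ⟨c, hc⟩ := c2
    refine ⟨-ε * (c + z + 1), ?_⟩
    rw [hz] at hc ⊢
    linear_combination (-ε) * hc + (2 - 2 * z) * hεε
  rcases triA_core hp hε hm3 (by rw [← hqm, hpn]) hh K with hcase | hcase
  · -- `h = - ε d`
    have h3 : Z = -(ε * q) + 8 * m * d := by
      rw [← hd, ← hqm, hcase, ← hd] at K
      have h4 : (d ^ 2 * q) * Z = (d ^ 2 * q) * (-(ε * q) + 8 * m * d) := by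
        rcases hε with h' | h'
        · subst h'
          rw [hqm, hd] at K ⊢
          linear_combination K
        · subst h'
          rw [hqm, hd] at K ⊢
          linear_combination K
      have h5 : d ^ 2 * q ≠ 0 := mul_ne_zero (pow_ne_zero _ hdpos.ne') hq0
      exact mul_left_cancel₀ h5 h4
    have h4 : 2 * m ∣ 4 := by
      obtain ⟨c, hc⟩ := hZ3
      refine ⟨-2 * c + 4 * d - 2 * ε, ?_⟩
      rw [h3, hqm] at hc
      linear_combination (-1) * hc - hεε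
    have h5 := Int.le_of_dvd (by norm_num) h4
    omega
  · -- `h = q d`
    rw [← hqm, ← hd] at hcase
    have h3 : Z = 1 + 2 * h := by
      rw [← hd, ← hqm] at K
      have h4 : (d ^ 2 * q ^ 3) * Z = (d ^ 2 * q ^ 3) * (1 + 2 * h) := by
        have h5 : q + 8 * m * h = q ^ 3 := by
          rw [hcase, hqm, hd]; linear_combination (-(4 * m + ε)) * hεε
        rw [h5] at K
        rw [hcase] at K ⊢
        linear_combination K
      have h5 : d ^ 2 * q ^ 3 ≠ 0 := mul_ne_zero (pow_ne_zero _ hdpos.ne') (pow_ne_zero _ hq0)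
      exact mul_left_cancel₀ h5 h4
    have h4 : V = ε * (2 * (q * d)) := by
      rw [hY, e5, h3, hcase, hd, hqm] at h0
      rw [hd, hqm]
      linear_combination h0
    have hV' : (V : ℚ) = ε * (2 * (q * d)) := by exact_mod_cast h4
    have hW1' : (W1 : ℚ) = -(d * Z) := by exact_mod_cast e5
    have hZ' : (Z : ℚ) = 1 + 2 * h := by exact_mod_cast h3
    rw [hqdQ, hqe, hV', hY1', hW1', ← hZ'] at s0
    have h5 : 2 * ε * d * Z = q * (4 * ε * d ^ 2 + 5 * d - 2 * m - ε * Z) := by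
      have h6 : (2 * ε * d * Z : ℚ) = q * (4 * ε * d ^ 2 + 5 * d - 2 * m - ε * Z) := by
        rcases hε with h' | h'
        · rw [h'] at s0 ⊢
          push_cast at s0 ⊢
          field_simp at s0
          linarith
        · rw [h'] at s0 ⊢
          push_cast at s0 ⊢
          field_simp at s0
          linarith
      exact_mod_cast h6
    have h6 : q ∣ 1 := by
      refine ⟨4 * ε * d ^ 2 + 5 * d - 2 * m - ε * Z - ε * Z - 2 * d, ?_⟩
      linear_combination h5 + ε * Z * hqd - Z * hεε - h3 - 2 * hcase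
    have h7 := Int.le_of_dvd (by norm_num) h6
    linarith

end Cfsg.Agent.Ree.CoreArith
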