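import Cfsg.Agent.Ree.CorePattern
import Cfsg.Agent.Ree.CoreArith2

/-!
# The cases in the numerical core of S0343
-/

set_option autoImplicit false

open Matrix

namespace Cfsg.Agent.Ree.CoreCases

open Cfsg.Agent.Ree.Vec Cfsg.Agent.Ree.VecB Cfsg.Agent.Ree.CoreRed Cfsg.Agent.Ree.CoreRed2
  Cfsg.Agent.Ree.CorePattern

variable {ι C : Type*} [Fintype ι] [DecidableEq ι] [Fintype C] [DecidableEq C] {q ε m Z : ℤ}

theorem sgn_mul_ne {s d : ℤ} (hs : s = 1 ∨ s = -1) (hd : 0 < d) : s * d ≠ 0 := by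
  rcases hs with h | h <;> rw [h] <;> omega

theorem sgn_ne {s : ℤ} (hs : s = 1 ∨ s = -1) : s ≠ 0 := by
  rcases hs with h | h <;> rw [h] <;> norm_num

theorem sgn_sq {s : ℤ} (hs : s = 1 ∨ s = -1) : s * s = 1 := by
  rcases hs with h | h <;> rw [h] <;> norm_num

/-- `tau` at an uncontaminated place -/
theorem tau_of {R : Red ι C q ε m Z} {i : ι} (h : ∃ k, R.P k i ≠ 0) (hG : G R i = 0) :
    2 * R.tau i = (q + ε) * (R.P 0 i + R.P 1 i) - 2 * q * R.P 2 i := by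
  have h1 := R.tau_eq i (Or.inl h)
  have h2 : ∑ c, R.Gam c i = 0 := hG
  rw [h2] at h1
  linarith

/-- star pattern, `E x ≠ 0` -/
theorem star_I (hε : ε = 1 ∨ ε = -1) (hq : 11 ≤ q) (hZ : 0 < Z) (R : Red ι C q ε m Z)
    {x a0 b0 a2 b2 : ι} {s r0 t0 r2 t2 : ℤ} (h0 : Row R 0 x a0 b0 s r0 t0)
    (h2 : Row R 2 x a2 b2 s r2 t2) (hx1 : R.P 1 x = s)
    (ha0 : R.P 1 a0 = 0 ∧ R.P 2 a0 = 0) (hb0 : R.P 1 b0 = 0 ∧ R.P 2 b0 = 0)
    (ha2 : R.P 0 a2 = 0 ∧ R.P 1 a2 = 0) (hb2 : R.P 0 b2 = 0 ∧ R.P 1 b2 = 0)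
    (hEx : R.E x ≠ 0) (hEb : R.E b2 ≠ 0) :
    Z = q ^ 2 + ε * q + 1 ∧ ε = -1 ∧ ∃ D : ℤ, q * ((q + 1) * (q - 1)) ^ 2 = 3 * D ^ 2 := by
  have hεε := sgn_sq hε
  have hss := sgn_sq h0.hs
  have htt := sgn_sq h2.ht
  have hs0 := sgn_ne h0.hs
  have hr0 := sgn_ne h0.hr
  have ht0 := sgn_ne h0.ht
  have hr2 := sgn_ne h2.hr
  have ht2 := sgn_ne h2.ht
  have Pa0 := h0.Pa
  have Pb0 := h0.Pb
  have Pa2 := h2.Pa
  have Pb2 := h2.Pb
  have hxb : x ≠ b2 := h2.xb
  -- values of `E`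
  have Ea0 : R.E a0 = 0 := E_zero hxb hEx hEb h0.xa.symm (by rintro rfl; rw [hb2.1] at Pa0; exact hr0 Pa0.symm)
  have Eb0 : R.E b0 = 0 := E_zero hxb hEx hEb h0.xb.symm (by rintro rfl; rw [hb2.1] at Pb0; exact ht0 Pb0.symm)
  have Ea2 : R.E a2 = 0 := E_zero hxb hEx hEb h2.xa.symm h2.ab
  have e0 := h0.dotE
  have e2 := h2.dotE
  rw [Ea0, Eb0, if_neg (by decide)] at e0
  rw [Ea2, if_pos rfl] at e2
  have Ex : R.E x = -ε * s := by
    linear_combination s * e0 - R.E x * hss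
  have Eb : R.E b2 = ε * t2 := by
    rw [Ex] at e2
    linear_combination t2 * e2 - R.E b2 * htt + t2 * ε * hss
  -- contamination
  have Gx : G R x = 0 := by
    apply uncontam
    intro j hj hj1 hP _
    have hP0 := hP 0
    have hP2 := hP 2
    rw [h0.Px] at hP0
    rw [h2.Px] at hP2
    rcases h0.supp hj1 (by rw [hP0]; exact hs0) with h | h | h
    · exact hj h
    · rw [h, ha0.2] at hP2; exact hs0 hP2.symm
    · rw [h, hb0.2] at hP2; exact hs0 hP2.symm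
  have Ga2 : G R a2 = 0 := by
    apply uncontam
    intro j hj hj1 hP hE
    have hP0 := hP 0
    have hP2 := hP 2
    rw [ha2.1] at hP0
    rw [h2.Pa] at hP2
    rcases h2.supp hj1 (by rw [hP2]; exact hr2) with h | h | h
    · rw [h, h0.Px] at hP0; exact hs0 hP0
    · exact hj h
    · rw [h, Ea2] at hE; exact hEb hE
  have Gb2 : G R b2 = 0 := by
    apply uncontam
    intro j hj hj1 hP hE
    have hP0 := hP 0
    have hP2 := hP 2
    rw [hb2.1] at hP0
    rw [h2.Pb] at hP2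
    rcases h2.supp hj1 (by rw [hP2]; exact ht2) with h | h | h
    · rw [h, h0.Px] at hP0; exact hs0 hP0
    · rw [h, Ea2] at hE; exact hEb hE.symm
    · exact hj h
  have tx : R.tau x = ε * s := by
    have := tau_of (R := R) (i := x) ⟨0, by rw [h0.Px]; exact hs0⟩ Gx
    rw [h0.Px, h2.Px, hx1] at this
    linarith
  have ta2 : R.tau a2 = -(q * r2) := by
    have := tau_of (R := R) (i := a2) ⟨2, by rw [h2.Pa]; exact hr2⟩ Ga2
    rw [ha2.1, ha2.2, h2.Pa] at this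
    linarith
  have tb2 : R.tau b2 = -(q * t2) := by
    have := tau_of (R := R) (i := b2) ⟨2, by rw [h2.Pb]; exact ht2⟩ Gb2
    rw [hb2.1, hb2.2, h2.Pb] at this
    linarith
  have tx2 : (R.tau x : ℚ) ^ 2 = 1 := by
    have : R.tau x ^ 2 = 1 := by rw [tx]; linear_combination ε * ε * hss + hεε
    exact_mod_cast this
  have ta22 : (R.tau a2 : ℚ) ^ 2 = (q : ℚ) ^ 2 := by
    have : R.tau a2 ^ 2 = q ^ 2 := by rw [ta2]; linear_combination q ^ 2 * sgn_sq h2.hr
    exact_mod_cast this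
  have tb22 : (R.tau b2 : ℚ) ^ 2 = (q : ℚ) ^ 2 := by
    have : R.tau b2 ^ 2 = q ^ 2 := by rw [tb2]; linear_combination q ^ 2 * htt
    exact_mod_cast this
  have hA := CoreArith.caseI (q := q) (ε := ε) (Z := Z) (x0 := s * R.d x) (A := r2 * R.d a2)
    (B := t2 * R.d b2) hε hq hZ (sgn_mul_ne h0.hs (R.d_pos x)) (sgn_mul_ne h2.hr (R.d_pos a2))
    (sgn_mul_ne h2.ht (R.d_pos b2)) ?_ ?_ ?_ ?_
  · obtain ⟨hZe, hx0e⟩ := hA
    refine ⟨hZe, ?_⟩
    have hfin := CoreArith.caseI_end (q := q) (ε := ε) (Z := Z) (x0 := s * R.d x)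
      (A := r0 * R.d a0) (B := t0 * R.d b0) (T1 := (R.tau a0 : ℚ) ^ 2) (T2 := (R.tau b0 : ℚ) ^ 2)
      hε hq hZe hx0e (sgn_mul_ne h0.hr (R.d_pos a0)) (sgn_mul_ne h0.ht (R.d_pos b0)) ?_ ?_ ?_
    · exact ⟨hfin.1, _, hfin.2⟩
    · have := h0.deg; linarith
    · -- contamination of `a0`, `b0`
      have hrr := sgn_sq h0.hr
      have htt0 := sgn_sq h0.ht
      have tA : ∀ g : ℤ, G R a0 = g → 2 * R.tau a0 = (q + ε) * r0 + 2 * (q - ε) * g := by
        intro g hg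
        have h1 := R.tau_eq a0 (Or.inl ⟨0, by rw [h0.Pa]; exact hr0⟩)
        have h3 : ∑ c, R.Gam c a0 = g := hg
        rw [h3, h0.Pa, ha0.1, ha0.2] at h1
        linarith
      have tB : ∀ g : ℤ, G R b0 = g → 2 * R.tau b0 = (q + ε) * t0 + 2 * (q - ε) * g := by
        intro g hg
        have h1 := R.tau_eq b0 (Or.inl ⟨0, by rw [h0.Pb]; exact ht0⟩)
        have h3 : ∑ c, R.Gam c b0 = g := hg
        rw [h3, h0.Pb, hb0.1, hb0.2] at h1
        linarith
      have hpart : ∀ j, j ≠ a0 → j ≠ R.one → (∀ k, R.P k j = R.P k a0) → j = b0 := by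
        intro j hj hj1 hP
        have hP0 := hP 0
        have hP2 := hP 2
        rw [h0.Pa] at hP0
        rw [ha0.2] at hP2
        rcases h0.supp hj1 (by rw [hP0]; exact hr0) with h | h | h
        · rw [h, h2.Px] at hP2; exact absurd hP2 hs0
        · exact absurd h hj
        · exact h
      have hpart' : ∀ j, j ≠ b0 → j ≠ R.one → (∀ k, R.P k j = R.P k b0) → j = a0 := by
        intro j hj hj1 hP
        have hP0 := hP 0
        have hP2 := hP 2
        rw [h0.Pb] at hP0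
        rw [hb0.2] at hP2
        rcases h0.supp hj1 (by rw [hP0]; exact ht0) with h | h | h
        · rw [h, h2.Px] at hP2; exact absurd hP2 hs0
        · exact h
        · exact absurd h hj
      rcases contam R a0 with hg | ⟨j, hj, hj1, hjd, hjP, _, hjG, hg⟩
      · left
        have hgb : G R b0 = 0 := by
          rcases contam R b0 with hg' | ⟨j, hj, hj1, _, hjP, _, hjG, hg'⟩
          · exact hg'
          · have := hpart' j hj hj1 hjP
            rw [this, hg] at hjG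
            omega
        have e1 := tA 0 hg
        have e2 := tB 0 hgb
        have e1Q : (2 : ℚ) * R.tau a0 = (q + ε) * r0 := by
          have : 2 * R.tau a0 = (q + ε) * r0 := by linarith
          exact_mod_cast this
        have e2Q : (2 : ℚ) * R.tau b0 = (q + ε) * t0 := by
          have : 2 * R.tau b0 = (q + ε) * t0 := by linarith
          exact_mod_cast this
        have hrrQ : (r0 : ℚ) * r0 = 1 := by exact_mod_cast hrr
        have httQ : (t0 : ℚ) * t0 = 1 := by exact_mod_cast htt0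
        constructor
        · linear_combination ((R.tau a0 : ℚ) / 2 + (q + ε) * r0 / 4) * e1Q +
            ((q + ε : ℚ) ^ 2 / 4) * hrrQ
        · linear_combination ((R.tau b0 : ℚ) / 2 + (q + ε) * t0 / 4) * e2Q +
            ((q + ε : ℚ) ^ 2 / 4) * httQ
      · right
        have hjb := hpart j hj hj1 hjP
        rw [hjb] at hjd hjP hjG
        have hrt : t0 = r0 := by
          have := hjP 0
          rw [h0.Pa, h0.Pb] at this
          exact this
        refine ⟨by rw [hrt, hjd], ?_⟩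
        have e1 := tA _ rfl
        have e2 := tB _ rfl
        rw [hjG, hrt] at e2
        have hgg : G R a0 * G R a0 = 1 := sgn_sq hg
        have e1Q : (2 : ℚ) * R.tau a0 = (q + ε) * r0 + 2 * (q - ε) * (G R a0 : ℤ) := by
          exact_mod_cast e1
        have e2Q : (2 : ℚ) * R.tau b0 = (q + ε) * r0 - 2 * (q - ε) * (G R a0 : ℤ) := by
          have : 2 * R.tau b0 = (q + ε) * r0 - 2 * (q - ε) * G R a0 := by linarith
          exact_mod_cast this
        have hrrQ : (r0 : ℚ) * r0 = 1 := by exact_mod_cast hrr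
        have hggQ : ((G R a0 : ℤ) : ℚ) * (G R a0 : ℤ) = 1 := by exact_mod_cast hgg
        linear_combination ((R.tau a0 : ℚ) / 2 + ((q + ε) * r0 + 2 * (q - ε) * (G R a0 : ℤ)) / 4) * e1Q
          + ((R.tau b0 : ℚ) / 2 + ((q + ε) * r0 - 2 * (q - ε) * (G R a0 : ℤ)) / 4) * e2Q
          + ((q + ε : ℚ) ^ 2 / 2) * hrrQ + (2 * (q - ε : ℚ) ^ 2) * hggQ
    · have := h0.sum
      rw [tx2, if_neg (by decide)] at this
      exact this
  · have := E_deg hxb hEx hEb
    rw [Ex, Eb] at this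
    linarith
  · have := E_sum hxb hEx hEb
    rw [Ex, Eb, tx2, tb22] at this
    rw [← conv h0.hs, ← conv h2.ht]
    push_cast at this ⊢
    linarith
  · have := h2.deg; linarith
  · have := h2.sum
    rw [tx2, ta22, tb22, if_pos rfl] at this
    exact this

/-- star pattern, `E x = 0` -/
theorem star_II (hε : ε = 1 ∨ ε = -1) (hqm : q = 4 * m + ε) (hm : Odd m) (hq : 11 ≤ q)
    (hZ : 0 < Z) (R : Red ι C q ε m Z)
    {x a0 b0 a1 b1 : ι} {s r0 t0 r1 t1 : ℤ} (h0 : Row R 0 x a0 b0 s r0 t0)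
    (h1 : Row R 1 x a1 b1 s r1 t1) (hx2 : R.P 2 x = s)
    (ha0 : R.P 1 a0 = 0 ∧ R.P 2 a0 = 0) (hb0 : R.P 1 b0 = 0 ∧ R.P 2 b0 = 0)
    (hb1 : R.P 0 b1 = 0 ∧ R.P 2 b1 = 0)
    (hEb0 : R.E b0 ≠ 0) (hEb1 : R.E b1 ≠ 0) : False := by
  have hεε := sgn_sq hε
  have hss := sgn_sq h0.hs
  have htt0 := sgn_sq h0.ht
  have htt1 := sgn_sq h1.ht
  have hrr0 := sgn_sq h0.hr
  have hs0 := sgn_ne h0.hs
  have hr0 := sgn_ne h0.hr
  have ht0 := sgn_ne h0.ht
  have hr1 := sgn_ne h1.hr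
  have ht1 := sgn_ne h1.ht
  have Pa0 := h0.Pa
  have Pb0 := h0.Pb
  have Pa1 := h1.Pa
  have Pb1 := h1.Pb
  have hbb : b0 ≠ b1 := by
    rintro rfl
    rw [hb1.1] at Pb0; exact ht0 Pb0.symm
  have hxb0 := h0.xb
  have hxb1 := h1.xb
  have Ex : R.E x = 0 := E_zero hbb hEb0 hEb1 hxb0 hxb1
  have Ea0 : R.E a0 = 0 := E_zero hbb hEb0 hEb1 h0.ab (by
    rintro rfl; rw [hb1.1] at Pa0; exact hr0 Pa0.symm)
  have Ea1 : R.E a1 = 0 := E_zero hbb hEb0 hEb1 (by
    rintro rfl; rw [hb0.1] at Pa1; exact hr1 Pa1.symm) h1.ab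
  have e0 := h0.dotE
  have e1 := h1.dotE
  rw [Ex, Ea0, if_neg (by decide)] at e0
  rw [Ex, Ea1, if_neg (by decide)] at e1
  have Eb0 : R.E b0 = -ε * t0 := by linear_combination t0 * e0 - R.E b0 * htt0
  have Eb1 : R.E b1 = -ε * t1 := by linear_combination t1 * e1 - R.E b1 * htt1
  have Gx : G R x = 0 := by
    apply uncontam
    intro j hj hj1 hP _
    have hP0 := hP 0
    have hP2 := hP 2
    rw [h0.Px] at hP0
    rw [hx2] at hP2
    rcases h0.supp hj1 (by rw [hP0]; exact hs0) with h | h | h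
    · exact hj h
    · rw [h, ha0.2] at hP2; exact hs0 hP2.symm
    · rw [h, hb0.2] at hP2; exact hs0 hP2.symm
  have Ga0 : G R a0 = 0 := by
    apply uncontam
    intro j hj hj1 hP hE
    have hP0 := hP 0
    have hP2 := hP 2
    rw [h0.Pa] at hP0
    rw [ha0.2] at hP2
    rcases h0.supp hj1 (by rw [hP0]; exact hr0) with h | h | h
    · rw [h, hx2] at hP2; exact hs0 hP2
    · exact hj h
    · rw [h, Ea0] at hE; exact hEb0 hE
  have Gb0 : G R b0 = 0 := by
    apply uncontam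
    intro j hj hj1 hP hE
    have hP0 := hP 0
    have hP2 := hP 2
    rw [h0.Pb] at hP0
    rw [hb0.2] at hP2
    rcases h0.supp hj1 (by rw [hP0]; exact ht0) with h | h | h
    · rw [h, hx2] at hP2; exact hs0 hP2
    · rw [h, Ea0] at hE; exact hEb0 hE.symm
    · exact hj h
  have Gb1 : G R b1 = 0 := by
    apply uncontam
    intro j hj hj1 hP hE
    have hP1 := hP 1
    have hP2 := hP 2
    rw [h1.Pb] at hP1
    rw [hb1.2] at hP2
    rcases h1.supp hj1 (by rw [hP1]; exact ht1) with h | h | h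
    · rw [h, hx2] at hP2; exact hs0 hP2
    · rw [h, Ea1] at hE; exact hEb1 hE.symm
    · exact hj h
  have tx : R.tau x = ε * s := by
    have := tau_of (R := R) (i := x) ⟨0, by rw [h0.Px]; exact hs0⟩ Gx
    rw [h0.Px, hx2, h1.Px] at this
    linarith
  have hd : (q + ε) = 2 * (2 * m + ε) := by rw [hqm]; ring
  have ta0 : R.tau a0 = (2 * m + ε) * r0 := by
    have := tau_of (R := R) (i := a0) ⟨0, by rw [h0.Pa]; exact hr0⟩ Ga0
    rw [ha0.1, ha0.2, h0.Pa, hd] at this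
    linarith
  have tb0 : R.tau b0 = (2 * m + ε) * t0 := by
    have := tau_of (R := R) (i := b0) ⟨0, by rw [h0.Pb]; exact ht0⟩ Gb0
    rw [hb0.1, hb0.2, h0.Pb, hd] at this
    linarith
  have tb1 : R.tau b1 = (2 * m + ε) * t1 := by
    have := tau_of (R := R) (i := b1) ⟨1, by rw [h1.Pb]; exact ht1⟩ Gb1
    rw [hb1.1, hb1.2, h1.Pb, hd] at this
    linarith
  have hdQ : (q + ε : ℚ) = 2 * (2 * m + ε) := by exact_mod_cast hd
  have tx2 : (R.tau x : ℚ) ^ 2 = 1 := by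
    have : R.tau x ^ 2 = 1 := by rw [tx]; linear_combination ε * ε * hss + hεε
    exact_mod_cast this
  have ta02 : (R.tau a0 : ℚ) ^ 2 = (q + ε : ℚ) ^ 2 / 4 := by
    have : R.tau a0 ^ 2 = (2 * m + ε) ^ 2 := by
      rw [ta0]; linear_combination (2 * m + ε) ^ 2 * hrr0
    rw [hdQ]
    have h' : (R.tau a0 : ℚ) ^ 2 = (2 * m + ε) ^ 2 := by exact_mod_cast this
    rw [h']; ring
  have tb02 : (R.tau b0 : ℚ) ^ 2 = (q + ε : ℚ) ^ 2 / 4 := by
    have : R.tau b0 ^ 2 = (2 * m + ε) ^ 2 := by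
      rw [tb0]; linear_combination (2 * m + ε) ^ 2 * htt0
    rw [hdQ]
    have h' : (R.tau b0 : ℚ) ^ 2 = (2 * m + ε) ^ 2 := by exact_mod_cast this
    rw [h']; ring
  have tb12 : (R.tau b1 : ℚ) ^ 2 = (q + ε : ℚ) ^ 2 / 4 := by
    have : R.tau b1 ^ 2 = (2 * m + ε) ^ 2 := by
      rw [tb1]; linear_combination (2 * m + ε) ^ 2 * htt1
    rw [hdQ]
    have h' : (R.tau b1 : ℚ) ^ 2 = (2 * m + ε) ^ 2 := by exact_mod_cast this
    rw [h']; ring
  refine CoreArith.caseII (q := q) (ε := ε) (m := m) (Z := Z) (x0 := s * R.d x)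
    (A := r0 * R.d a0) (B := t0 * R.d b0) (B1 := t1 * R.d b1) hε hqm hm hq hZ
    (sgn_mul_ne h0.hs (R.d_pos x)) (sgn_mul_ne h0.hr (R.d_pos a0))
    (sgn_mul_ne h0.ht (R.d_pos b0)) (sgn_mul_ne h1.ht (R.d_pos b1)) ?_ ?_ ?_ ?_ ?_ ?_
  · have := E_deg hbb hEb0 hEb1
    rw [Eb0, Eb1] at this
    linarith
  · have := E_sum hbb hEb0 hEb1
    rw [Eb0, Eb1, tb02, tb12] at this
    rw [← conv h0.ht, ← conv h1.ht]
    push_cast at this ⊢
    linarith
  · have := h0.deg; linarith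
  · have := h0.sum
    rw [tx2, ta02, tb02, if_neg (by decide)] at this
    exact this
  · obtain ⟨c, hc⟩ := R.cong x (Or.inl ⟨0, by rw [h0.Px]; exact hs0⟩)
    rw [tx, Ex] at hc
    exact ⟨s * c, by linear_combination s * hc + ε * hss⟩
  · obtain ⟨c, hc⟩ := R.cong b0 (Or.inl ⟨0, by rw [h0.Pb]; exact ht0⟩)
    rw [tb0, Eb0] at hc
    exact ⟨t0 * c, by linear_combination t0 * hc + ((2 * m + ε) - 4 * ε) * htt0⟩

end Cfsg.Agent.Ree.CoreCases
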