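import Mathlib

/-!
# The combinatorial data behind S0343

`ι` = irreducible characters of `G`, `d` = degree, `tau` = value at the involution `t`.
`q = 4 m + ε`, `N` = number of involutions (`|G| = N q (q² - 1)`).
With `C(t) = ⟨t⟩ × L`, `L = PSL₂(q)`, `A = E × Q` (`E = ⟨t, v⟩`, `Q` cyclic of order `m`):

* `P k χ = (1/|L|) ∑_{l ∈ L} ψ_k(l) conj χ(t l)`, with `ψ₀ = η₁ + ε`, `ψ₁ = η₂ + ε`, `ψ₂ = ε - St`;
* `X b χ` the same for `θ_b⁺ + θ_b⁻`, `b` a nontrivial character of `Q` up to inversion;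
* `Gam c χ` the same for the characters `θ_c` of degree `q - ε` of `L`;
* `Del b χ = (1/|A|) ∑_{x ∈ E, y ∈ Q} α₀(x) (1 - b(y)) conj χ(x y)`, `α₀(t) = 1`, `α₀(v) = -1`.
-/

set_option autoImplicit false

open Matrix

namespace Cfsg.Agent.Ree.CoreDef

/-- Integer data on `ι = Irr G` extracted from a group satisfying the hypotheses of S0343
(`q = 4 m + ε ≥ 11`). All dot products are sums over `ι`. -/
structure CoreData (ι B C : Type*) [Fintype ι] [DecidableEq ι] [Fintype B] [DecidableEq B]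
    [Fintype C] [DecidableEq C] (q ε m N : ℤ) where
  /-- the trivial character -/
  one : ι
  /-- degrees -/
  d : ι → ℤ
  /-- values at `t` -/
  tau : ι → ℤ
  P : Fin 3 → ι → ℤ
  X : B → ι → ℤ
  Gam : C → ι → ℤ
  Del : B → ι → ℤ
  /-- action of the element of order three on the characters of `Q` -/
  rho : B → B
  d_pos : ∀ i, 0 < d i
  d_one : d one = 1
  tau_one : tau one = 1
  card_B : 2 * (Fintype.card B : ℤ) = m - 1
  rho_ne : ∀ b, rho b ≠ b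
  rho_three : ∀ b, rho (rho (rho b)) = b
  P_one : ∀ k, P k one = ε
  X_one : ∀ b, X b one = 0
  Gam_one : ∀ c, Gam c one = 0
  Del_one : ∀ b, Del b one = 0
  P_deg : ∀ k, P k ⬝ᵥ d = 0
  X_deg : ∀ b, X b ⬝ᵥ d = 0
  Gam_deg : ∀ c, Gam c ⬝ᵥ d = 0
  Del_deg : ∀ b, Del b ⬝ᵥ d = 0
  PP : ∀ k l, P k ⬝ᵥ P l = if k = l then 4 else 2
  XX : ∀ b b', X b ⬝ᵥ X b' = if b = b' then 4 else 0
  GG : ∀ c c', Gam c ⬝ᵥ Gam c' = if c = c' then 2 else 0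
  DD : ∀ b b', Del b ⬝ᵥ Del b' = if b = b' then 3 else 2
  PX : ∀ k b, P k ⬝ᵥ X b = 0
  PG : ∀ k c, P k ⬝ᵥ Gam c = 0
  XG : ∀ b c, X b ⬝ᵥ Gam c = 0
  GD : ∀ c b, Gam c ⬝ᵥ Del b = 0
  PD : ∀ k b, P k ⬝ᵥ Del b = if k = 2 then 0 else -ε
  XD : ∀ b b', X b ⬝ᵥ Del b' = if b' = b then -ε else if b' = rho b ∨ b' = rho (rho b) then ε else 0
  /-- value at `t` of every irreducible character (decomposition of the regular character of `L`) -/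
  tau_eq : ∀ i, 2 * tau i = (q + ε) * (P 0 i + P 1 i) - 2 * q * P 2 i
    + 2 * (q + ε) * ∑ b, X b i + 2 * (q - ε) * ∑ c, Gam c i
  mod8 : ∀ i, (8 : ℤ) ∣ d i - tau i
  modm : ∀ i, ∃ a : ℤ, d i - tau i = 4 * (m * a - 2 * ∑ b, Del b i)
  /-- class equations -/
  SP : ∀ k, ∑ i, (P k i : ℚ) * ((tau i : ℚ) ^ 2 / d i)
    = ((q : ℚ) ^ 2 * (q + ε) ^ 2 / N) * (if k = 2 then (ε : ℚ) - 1 / q else ε + 2 / (q + ε))
  SX : ∀ b, ∑ i, (X b i : ℚ) * ((tau i : ℚ) ^ 2 / d i) = 8 * (q : ℚ) ^ 2 * (q + ε) / N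
  SD : ∀ b, ∑ i, (Del b i : ℚ) * ((tau i : ℚ) ^ 2 / d i) = 0

end Cfsg.Agent.Ree.CoreDef
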