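import Cfsg.Agent.Ree.CoreCases
import Cfsg.Agent.Ree.CoreDef

/-!
# The numerical core of S0343

`main`: integer data as in `CoreData` (`q = 4 m + ε ≥ 11` a power of the prime `p`) force `ε = -1`,
`N = q² (q² - q + 1)`, `p = 3` and an odd exponent.
-/

set_option autoImplicit false

open Matrix

namespace Cfsg.Agent.Ree.CoreMain

open Cfsg.Agent.Ree.Vec Cfsg.Agent.Ree.VecB Cfsg.Agent.Ree.CoreRed Cfsg.Agent.Ree.CoreRed2
  Cfsg.Agent.Ree.CorePattern Cfsg.Agent.Ree.CoreCases Cfsg.Agent.Ree.CoreDef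

section cases

variable {ι C : Type*} [Fintype ι] [DecidableEq ι] [Fintype C] [DecidableEq C] {q ε m Z : ℤ}

/-- the triangle pattern -/
structure Tri (R : Red ι C q ε m Z) (v y1 y2 w1 w2 w3 : ι) (s r1 r2 u1 u2 u3 : ℤ) : Prop where
  h0 : Row R 0 v y1 w1 s r1 u1
  h1 : Row R 1 v y2 w2 s r2 u2
  h2 : Row R 2 y1 y2 w3 r1 r2 u3
  v2 : R.P 2 v = 0
  y1' : R.P 1 y1 = 0
  y2' : R.P 0 y2 = 0
  w1' : R.P 1 w1 = 0
  w1'' : R.P 2 w1 = 0
  w2' : R.P 0 w2 = 0
  w2'' : R.P 2 w2 = 0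
  w3' : R.P 0 w3 = 0
  w3'' : R.P 1 w3 = 0

variable {R : Red ι C q ε m Z} {v y1 y2 w1 w2 w3 : ι} {s r1 r2 u1 u2 u3 : ℤ}

theorem Tri.Gv (T : Tri R v y1 y2 w1 w2 w3 s r1 r2 u1 u2 u3) : G R v = 0 := by
  apply uncontam
  intro j hj hj1 hP _
  have hP0 := hP 0
  have hP1 := hP 1
  rw [T.h0.Px] at hP0
  rw [T.h1.Px] at hP1
  have hs := sgn_ne T.h0.hs
  rcases T.h0.supp hj1 (by rw [hP0]; exact hs) with h | h | h
  · exact hj h
  · rw [h, T.y1'] at hP1; exact hs hP1.symm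
  · rw [h, T.w1'] at hP1; exact hs hP1.symm

theorem Tri.Gy1 (T : Tri R v y1 y2 w1 w2 w3 s r1 r2 u1 u2 u3) : G R y1 = 0 := by
  apply uncontam
  intro j hj hj1 hP _
  have hP0 := hP 0
  have hP2 := hP 2
  rw [T.h0.Pa] at hP0
  rw [T.h2.Px] at hP2
  have hs := sgn_ne T.h0.hr
  rcases T.h0.supp hj1 (by rw [hP0]; exact hs) with h | h | h
  · rw [h, T.v2] at hP2; exact hs hP2.symm
  · exact hj h
  · rw [h, T.w1''] at hP2; exact hs hP2.symm

theorem Tri.Gy2 (T : Tri R v y1 y2 w1 w2 w3 s r1 r2 u1 u2 u3) : G R y2 = 0 := by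
  apply uncontam
  intro j hj hj1 hP _
  have hP1 := hP 1
  have hP2 := hP 2
  rw [T.h1.Pa] at hP1
  rw [T.h2.Pa] at hP2
  have hs := sgn_ne T.h1.hr
  rcases T.h1.supp hj1 (by rw [hP1]; exact hs) with h | h | h
  · rw [h, T.v2] at hP2; exact hs hP2.symm
  · exact hj h
  · rw [h, T.w2''] at hP2; exact hs hP2.symm

theorem Tri.Gw1 (T : Tri R v y1 y2 w1 w2 w3 s r1 r2 u1 u2 u3) : G R w1 = 0 := by
  apply uncontam
  intro j hj hj1 hP _
  have hP0 := hP 0
  have hP1 := hP 1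
  have hP2 := hP 2
  rw [T.h0.Pb] at hP0
  rw [T.w1'] at hP1
  rw [T.w1''] at hP2
  rcases T.h0.supp hj1 (by rw [hP0]; exact sgn_ne T.h0.ht) with h | h | h
  · rw [h, T.h1.Px] at hP1; exact sgn_ne T.h0.hs hP1
  · rw [h, T.h2.Px] at hP2; exact sgn_ne T.h0.hr hP2
  · exact hj h

theorem Tri.Gw2 (T : Tri R v y1 y2 w1 w2 w3 s r1 r2 u1 u2 u3) : G R w2 = 0 := by
  apply uncontam
  intro j hj hj1 hP _
  have hP0 := hP 0
  have hP1 := hP 1
  have hP2 := hP 2
  rw [T.h1.Pb] at hP1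
  rw [T.w2'] at hP0
  rw [T.w2''] at hP2
  rcases T.h1.supp hj1 (by rw [hP1]; exact sgn_ne T.h1.ht) with h | h | h
  · rw [h, T.h0.Px] at hP0; exact sgn_ne T.h0.hs hP0
  · rw [h, T.h2.Pa] at hP2; exact sgn_ne T.h2.hr hP2
  · exact hj h

theorem Tri.Gw3 (T : Tri R v y1 y2 w1 w2 w3 s r1 r2 u1 u2 u3) : G R w3 = 0 := by
  apply uncontam
  intro j hj hj1 hP _
  have hP0 := hP 0
  have hP1 := hP 1
  have hP2 := hP 2
  rw [T.h2.Pb] at hP2
  rw [T.w3'] at hP0
  rw [T.w3''] at hP1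
  rcases T.h2.supp hj1 (by rw [hP2]; exact sgn_ne T.h2.ht) with h | h | h
  · rw [h, T.h0.Pa] at hP0; exact sgn_ne T.h0.hr hP0
  · rw [h, T.h1.Pa] at hP1; exact sgn_ne T.h1.hr hP1
  · exact hj h

/-- triangle, `E` lives on `w1`, `w2` -/
theorem tri_A {p n : ℕ} (hp : p.Prime) (hpn : q = (p : ℤ) ^ n) (hε : ε = 1 ∨ ε = -1)
    (hqm : q = 4 * m + ε) (hm : Odd m) (hq : 11 ≤ q) (hZ : 0 < Z)
    (T : Tri R v y1 y2 w1 w2 w3 s r1 r2 u1 u2 u3)
    (hE1 : R.E w1 ≠ 0) (hE2 : R.E w2 ≠ 0) : False := by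
  have hss := sgn_sq T.h0.hs
  have hrr1 := sgn_sq T.h0.hr
  have hrr2 := sgn_sq T.h1.hr
  have huu1 := sgn_sq T.h0.ht
  have huu2 := sgn_sq T.h1.ht
  have huu3 := sgn_sq T.h2.ht
  have hs0 := sgn_ne T.h0.hs
  have hr1 := sgn_ne T.h0.hr
  have hr2 := sgn_ne T.h1.hr
  have hu1 := sgn_ne T.h0.ht
  have hu2 := sgn_ne T.h1.ht
  have hu3 := sgn_ne T.h2.ht
  have hww : w1 ≠ w2 := by
    intro h
    have h1 := T.h0.Pb
    rw [h, T.w2'] at h1
    exact hu1 h1.symm
  have hy1w2 : y1 ≠ w2 := by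
    intro h
    have h1 := T.h0.Pa
    rw [h, T.w2'] at h1
    exact hr1 h1.symm
  have hy2w1 : y2 ≠ w1 := by
    intro h
    have h1 := T.h1.Pa
    rw [h, T.w1'] at h1
    exact hr2 h1.symm
  have hw3w1 : w3 ≠ w1 := by
    intro h
    have h1 := T.h2.Pb
    rw [h, T.w1''] at h1
    exact hu3 h1.symm
  have hw3w2 : w3 ≠ w2 := by
    intro h
    have h1 := T.h2.Pb
    rw [h, T.w2''] at h1
    exact hu3 h1.symm
  have Ev : R.E v = 0 := E_zero hww hE1 hE2 T.h0.xb T.h1.xb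
  have Ey1 : R.E y1 = 0 := E_zero hww hE1 hE2 T.h0.ab hy1w2
  have Ey2 : R.E y2 = 0 := E_zero hww hE1 hE2 hy2w1 T.h1.ab
  have e0 := T.h0.dotE
  have e1 := T.h1.dotE
  rw [Ev, Ey1, if_neg (by decide)] at e0
  rw [Ev, Ey2, if_neg (by decide)] at e1
  have Ew1 : R.E w1 = -ε * u1 := by linear_combination u1 * e0 - R.E w1 * huu1
  have Ew2 : R.E w2 = -ε * u2 := by linear_combination u2 * e1 - R.E w2 * huu2
  have hd : (q + ε) = 2 * (2 * m + ε) := by rw [hqm]; ring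
  have hdQ : (q + ε : ℚ) = 2 * (2 * m + ε) := by exact_mod_cast hd
  have hqε : (q - ε : ℚ) = 4 * m := by
    have : q - ε = 4 * m := by rw [hqm]; ring
    exact_mod_cast this
  have tv : R.tau v = (q + ε) * s := by
    have := tau_of (R := R) (i := v) ⟨0, by rw [T.h0.Px]; exact hs0⟩ T.Gv
    rw [T.h0.Px, T.h1.Px, T.v2] at this
    linarith
  have ty1 : R.tau y1 = -(2 * m * r1) := by
    have := tau_of (R := R) (i := y1) ⟨0, by rw [T.h0.Pa]; exact hr1⟩ T.Gy1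
    rw [T.h0.Pa, T.h2.Px, T.y1'] at this
    have h3 : 2 * R.tau y1 = 2 * (-(2 * m * r1)) := by linear_combination this - r1 * hqm
    linarith
  have ty2 : R.tau y2 = -(2 * m * r2) := by
    have := tau_of (R := R) (i := y2) ⟨1, by rw [T.h1.Pa]; exact hr2⟩ T.Gy2
    rw [T.h1.Pa, T.h2.Pa, T.y2'] at this
    have h3 : 2 * R.tau y2 = 2 * (-(2 * m * r2)) := by linear_combination this - r2 * hqm
    linarith
  have tw1 : R.tau w1 = (2 * m + ε) * u1 := by
    have := tau_of (R := R) (i := w1) ⟨0, by rw [T.h0.Pb]; exact hu1⟩ T.Gw1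
    rw [T.h0.Pb, T.w1', T.w1'', hd] at this
    linarith
  have tw2 : R.tau w2 = (2 * m + ε) * u2 := by
    have := tau_of (R := R) (i := w2) ⟨1, by rw [T.h1.Pb]; exact hu2⟩ T.Gw2
    rw [T.h1.Pb, T.w2', T.w2'', hd] at this
    linarith
  have tw3 : R.tau w3 = -(q * u3) := by
    have := tau_of (R := R) (i := w3) ⟨2, by rw [T.h2.Pb]; exact hu3⟩ T.Gw3
    rw [T.h2.Pb, T.w3', T.w3''] at this
    linarith
  have tv2 : (R.tau v : ℚ) ^ 2 = (q + ε : ℚ) ^ 2 := by
    have : R.tau v ^ 2 = (q + ε) ^ 2 := by rw [tv]; linear_combination (q + ε) ^ 2 * hss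
    exact_mod_cast this
  have ty12 : (R.tau y1 : ℚ) ^ 2 = (q - ε : ℚ) ^ 2 / 4 := by
    have : R.tau y1 ^ 2 = (2 * m) ^ 2 := by rw [ty1]; linear_combination (2 * m) ^ 2 * hrr1
    rw [hqε]
    have h' : (R.tau y1 : ℚ) ^ 2 = (2 * m) ^ 2 := by exact_mod_cast this
    rw [h']; ring
  have ty22 : (R.tau y2 : ℚ) ^ 2 = (q - ε : ℚ) ^ 2 / 4 := by
    have : R.tau y2 ^ 2 = (2 * m) ^ 2 := by rw [ty2]; linear_combination (2 * m) ^ 2 * hrr2
    rw [hqε]
    have h' : (R.tau y2 : ℚ) ^ 2 = (2 * m) ^ 2 := by exact_mod_cast this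
    rw [h']; ring
  have tw12 : (R.tau w1 : ℚ) ^ 2 = (q + ε : ℚ) ^ 2 / 4 := by
    have : R.tau w1 ^ 2 = (2 * m + ε) ^ 2 := by
      rw [tw1]; linear_combination (2 * m + ε) ^ 2 * huu1
    rw [hdQ]
    have h' : (R.tau w1 : ℚ) ^ 2 = (2 * m + ε) ^ 2 := by exact_mod_cast this
    rw [h']; ring
  have tw22 : (R.tau w2 : ℚ) ^ 2 = (q + ε : ℚ) ^ 2 / 4 := by
    have : R.tau w2 ^ 2 = (2 * m + ε) ^ 2 := by
      rw [tw2]; linear_combination (2 * m + ε) ^ 2 * huu2
    rw [hdQ]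
    have h' : (R.tau w2 : ℚ) ^ 2 = (2 * m + ε) ^ 2 := by exact_mod_cast this
    rw [h']; ring
  have tw32 : (R.tau w3 : ℚ) ^ 2 = (q : ℚ) ^ 2 := by
    have : R.tau w3 ^ 2 = q ^ 2 := by rw [tw3]; linear_combination q ^ 2 * huu3
    exact_mod_cast this
  refine CoreArith.triA hp (q := q) (ε := ε) (m := m) (Z := Z) (V := s * R.d v)
    (Y1 := r1 * R.d y1) (Y2 := r2 * R.d y2) (W1 := u1 * R.d w1) (W2 := u2 * R.d w2)
    (W3 := u3 * R.d w3) hε hqm hm hq hpn hZ
    (sgn_mul_ne T.h0.hs (R.d_pos _)) (sgn_mul_ne T.h0.hr (R.d_pos _))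
    (sgn_mul_ne T.h1.hr (R.d_pos _)) (sgn_mul_ne T.h0.ht (R.d_pos _))
    (sgn_mul_ne T.h1.ht (R.d_pos _)) (sgn_mul_ne T.h2.ht (R.d_pos _))
    ?_ ?_ ?_ ?_ ?_ ?_ ?_ ?_ ?_ ?_
  · have := T.h0.deg; linarith
  · have := T.h1.deg; linarith
  · have := T.h2.deg; linarith
  · have := E_deg hww hE1 hE2
    rw [Ew1, Ew2] at this
    linarith
  · have := E_sum hww hE1 hE2
    rw [Ew1, Ew2, tw12, tw22] at this
    rw [← conv T.h0.ht, ← conv T.h1.ht]
    push_cast at this ⊢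
    linarith
  · have := T.h0.sum
    rw [tv2, ty12, tw12, if_neg (by decide)] at this
    exact this
  · have := T.h2.sum
    rw [ty12, ty22, tw32, if_pos rfl] at this
    exact this
  · obtain ⟨c, hc⟩ := R.cong y1 (Or.inl ⟨0, by rw [T.h0.Pa]; exact hr1⟩)
    rw [ty1, Ey1] at hc
    exact ⟨r1 * c, by linear_combination r1 * hc - 2 * m * hrr1⟩
  · obtain ⟨c, hc⟩ := R.mod8 y1
    rw [ty1] at hc
    exact ⟨r1 * c, by linear_combination r1 * hc - 2 * m * hrr1⟩
  · obtain ⟨c, hc⟩ := R.cong w1 (Or.inl ⟨0, by rw [T.h0.Pb]; exact hu1⟩)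
    rw [tw1, Ew1] at hc
    exact ⟨u1 * c, by linear_combination u1 * hc + ((2 * m + ε) - 4 * ε) * huu1⟩

/-- triangle, `E` lives on `v` and a place outside -/
theorem tri_B (hε : ε = 1 ∨ ε = -1) (hq : 11 ≤ q) (hZ : 0 < Z)
    (T : Tri R v y1 y2 w1 w2 w3 s r1 r2 u1 u2 u3)
    (hEv : R.E v ≠ 0) (E1 : R.E y1 = 0) (E2 : R.E y2 = 0) (E3 : R.E w1 = 0)
    (E4 : R.E w2 = 0) (E5 : R.E w3 = 0) : False := by
  have hss := sgn_sq T.h0.hs
  have hs0 := sgn_ne T.h0.hs
  -- the other place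
  obtain ⟨a, b, hab, x, y, hx, hy, hE⟩ := norm_two R.EE
  obtain ⟨c, hcv, hEc⟩ : ∃ c, v ≠ c ∧ R.E c ≠ 0 := by
    have ha : R.E a = x := by
      rw [hE, Pi.add_apply, Pi.single_eq_same, Pi.single_eq_of_ne hab, add_zero]
    have hb : R.E b = y := by
      rw [hE, Pi.add_apply, Pi.single_eq_same, Pi.single_eq_of_ne hab.symm, zero_add]
    by_cases hva : v = a
    · exact ⟨b, by rw [hva]; exact hab, by rw [hb]; exact sgn_ne hy⟩
    · exact ⟨a, hva, by rw [ha]; exact sgn_ne hx⟩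
  have hc1 : c ≠ R.one := by
    rintro rfl
    exact hEc R.E_one
  have hP : ∀ k, R.P k c = 0 := by
    intro k
    by_contra hne
    have h0 := T.h0
    have h1 := T.h1
    have h2 := T.h2
    have : c = v ∨ R.E c = 0 := by
      fin_cases k
      · rcases h0.supp hc1 hne with h | h | h
        · exact Or.inl h
        · right; rw [h]; exact E1
        · right; rw [h]; exact E3
      · rcases h1.supp hc1 hne with h | h | h
        · exact Or.inl h
        · right; rw [h]; exact E2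
        · right; rw [h]; exact E4
      · rcases h2.supp hc1 hne with h | h | h
        · right; rw [h]; exact E1
        · right; rw [h]; exact E2
        · right; rw [h]; exact E5
    rcases this with h | h
    · exact hcv h.symm
    · exact hEc h
  have e0 := T.h0.dotE
  rw [E1, E3, if_neg (by decide)] at e0
  have Ev : R.E v = -ε * s := by linear_combination s * e0 - R.E v * hss
  have Ec : R.E c = 1 ∨ R.E c = -1 := by
    rcases entry_of_norm_lt_four (v := R.E) (by rw [R.EE]; norm_num) c with h | h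
    · exact absurd h hEc
    · exact h
  have tv : R.tau v = (q + ε) * s := by
    have := tau_of (R := R) (i := v) ⟨0, by rw [T.h0.Px]; exact hs0⟩ T.Gv
    rw [T.h0.Px, T.h1.Px, T.v2] at this
    linarith
  have tv2 : (R.tau v : ℚ) ^ 2 = (q + ε : ℚ) ^ 2 := by
    have : R.tau v ^ 2 = (q + ε) ^ 2 := by rw [tv]; linear_combination (q + ε) ^ 2 * hss
    exact_mod_cast this
  have tc : R.tau c = (q - ε) * G R c := by
    have h1 := R.tau_eq c (Or.inr hEc)
    rw [hP 0, hP 1, hP 2] at h1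
    have h2 : ∑ c', R.Gam c' c = G R c := rfl
    rw [h2] at h1
    linarith
  have hg : G R c = 0 ∨ G R c = 1 ∨ G R c = -1 := by
    rcases contam R c with h | ⟨_, _, _, _, _, _, _, h⟩
    · exact Or.inl h
    · exact Or.inr h
  refine CoreArith.triB (q := q) (ε := ε) (Z := Z) (V := s * R.d v) (u := R.E c) (d' := R.d c)
    (g := G R c) (T := (R.tau c : ℚ) ^ 2) hε hq hZ (sgn_mul_ne T.h0.hs (R.d_pos v)) Ec
    (R.d_pos c) hg ?_ ?_ ?_
  · have : R.tau c ^ 2 = ((q - ε) * G R c) ^ 2 := by rw [tc]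
    exact_mod_cast this
  · have := E_deg hcv hEv hEc
    rw [Ev] at this
    linarith
  · have := E_sum hcv hEv hEc
    rw [Ev, tv2] at this
    rw [← conv T.h0.hs]
    push_cast at this ⊢
    linarith

/-- the triangle pattern is impossible -/
theorem tri_false {p n : ℕ} (hp : p.Prime) (hpn : q = (p : ℤ) ^ n) (hε : ε = 1 ∨ ε = -1)
    (hqm : q = 4 * m + ε) (hm : Odd m) (hq : 11 ≤ q) (hZ : 0 < Z)
    (T : Tri R v y1 y2 w1 w2 w3 s r1 r2 u1 u2 u3) : False := by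
  have hε0 := sgn_ne hε
  have e0 := T.h0.dotE
  have e1 := T.h1.dotE
  have e2 := T.h2.dotE
  rw [if_neg (by decide)] at e0 e1
  rw [if_pos rfl] at e2
  have hs0 := sgn_ne T.h0.hs
  have hr1 := sgn_ne T.h0.hr
  have hr2 := sgn_ne T.h1.hr
  have hu1 := sgn_ne T.h0.ht
  have hu2 := sgn_ne T.h1.ht
  have hu3 := sgn_ne T.h2.ht
  -- distinctness
  have d1 : v ≠ y1 := T.h0.xa
  have d2 : v ≠ w1 := T.h0.xb
  have d3 : y1 ≠ w1 := T.h0.ab
  have d4 : v ≠ y2 := T.h1.xa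
  have d5 : v ≠ w2 := T.h1.xb
  have d6 : y2 ≠ w2 := T.h1.ab
  have d7 : y1 ≠ y2 := T.h2.xa
  have d8 : y1 ≠ w3 := T.h2.xb
  have d9 : y2 ≠ w3 := T.h2.ab
  have d10 : v ≠ w3 := by
    intro h; have h1 := T.h0.Px; rw [h, T.w3'] at h1; exact hs0 h1.symm
  have d11 : w1 ≠ y2 := by
    intro h; have h1 := T.h0.Pb; rw [h, T.y2'] at h1; exact hu1 h1.symm
  have d12 : w1 ≠ w2 := by
    intro h; have h1 := T.h0.Pb; rw [h, T.w2'] at h1; exact hu1 h1.symm
  have d13 : w1 ≠ w3 := by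
    intro h; have h1 := T.h0.Pb; rw [h, T.w3'] at h1; exact hu1 h1.symm
  have d14 : y1 ≠ w2 := by
    intro h; have h1 := T.h0.Pa; rw [h, T.w2'] at h1; exact hr1 h1.symm
  have d15 : w2 ≠ w3 := by
    intro h; have h1 := T.h1.Pb; rw [h, T.w3''] at h1; exact hu2 h1.symm
  by_cases hv : R.E v = 0
  · rw [hv] at e0 e1
    have h0 : R.E y1 ≠ 0 ∨ R.E w1 ≠ 0 := by
      by_contra hcon
      simp only [not_or, not_not] at hcon
      rw [hcon.1, hcon.2] at e0
      apply hε0; linarith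
    have h1 : R.E y2 ≠ 0 ∨ R.E w2 ≠ 0 := by
      by_contra hcon
      simp only [not_or, not_not] at hcon
      rw [hcon.1, hcon.2] at e1
      apply hε0; linarith
    rcases h0 with h0 | h0 <;> rcases h1 with h1 | h1
    · have z1 : R.E w1 = 0 := E_zero d7 h0 h1 d3.symm d11
      have z2 : R.E w2 = 0 := E_zero d7 h0 h1 d14.symm d6.symm
      have z3 : R.E w3 = 0 := E_zero d7 h0 h1 d8.symm d9.symm
      rw [z1] at e0
      rw [z2] at e1
      rw [z3] at e2
      apply hε0; linarith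
    · have z2 : R.E y2 = 0 := E_zero d14 h0 h1 d7.symm d6
      have z3 : R.E w3 = 0 := E_zero d14 h0 h1 d8.symm d15.symm
      rw [z2, z3] at e2
      have : r1 * R.E y1 = 0 := by linarith
      rcases mul_eq_zero.mp this with h | h
      · exact hr1 h
      · exact h0 h
    · have z2 : R.E y1 = 0 := E_zero d11 h0 h1 d3 d7
      have z3 : R.E w3 = 0 := E_zero d11 h0 h1 d13.symm d9.symm
      rw [z2, z3] at e2
      have : r2 * R.E y2 = 0 := by linarith
      rcases mul_eq_zero.mp this with h | h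
      · exact hr2 h
      · exact h1 h
    · exact tri_A hp hpn hε hqm hm hq hZ T h0 h1
  · have E1 : R.E y1 = 0 := by
      by_contra hne
      have z2 : R.E y2 = 0 := E_zero d1 hv hne d4.symm d7.symm
      have z3 : R.E w3 = 0 := E_zero d1 hv hne d10.symm d8.symm
      rw [z2, z3] at e2
      have : r1 * R.E y1 = 0 := by linarith
      rcases mul_eq_zero.mp this with h | h
      · exact hr1 h
      · exact hne h
    have E2 : R.E y2 = 0 := by
      by_contra hne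
      have z3 : R.E w3 = 0 := E_zero d4 hv hne d10.symm d9.symm
      rw [E1, z3] at e2
      have : r2 * R.E y2 = 0 := by linarith
      rcases mul_eq_zero.mp this with h | h
      · exact hr2 h
      · exact hne h
    have E5 : R.E w3 = 0 := by
      by_contra hne
      rw [E1, E2] at e2
      have : u3 * R.E w3 = 0 := by linarith
      rcases mul_eq_zero.mp this with h | h
      · exact hu3 h
      · exact hne h
    have E3 : R.E w1 = 0 := by
      by_contra hne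
      have z2 : R.E w2 = 0 := E_zero d2 hv hne d5.symm d12.symm
      rw [E1] at e0
      rw [E2, z2] at e1
      have : u1 * R.E w1 = 0 := by linarith
      rcases mul_eq_zero.mp this with h | h
      · exact hu1 h
      · exact hne h
    have E4 : R.E w2 = 0 := by
      by_contra hne
      rw [E1, E3] at e0
      rw [E2] at e1
      have : u2 * R.E w2 = 0 := by linarith
      rcases mul_eq_zero.mp this with h | h
      · exact hu2 h
      · exact hne h
    exact tri_B hε hq hZ T hv E1 E2 E3 E4 E5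

/-- a row through a given place -/
theorem exists_row (hε : ε = 1 ∨ ε = -1) (R : Red ι C q ε m Z) (k : Fin 3) {x : ι} {s : ℤ}
    (hs : s = 1 ∨ s = -1) (hx : V R k x = s) :
    ∃ a b r t, Row R k x a b s r t := by
  have hss := sgn_sq hs
  have hx1 : x ≠ R.one := ne_one_of R k (by rw [hx]; exact sgn_ne hs)
  have hn : V R k ⬝ᵥ V R k = 3 := by rw [V_dot hε, if_pos rfl]
  have hn2 : (V R k - Pi.single x s) ⬝ᵥ (V R k - Pi.single x s) = 2 := by
    simp only [sub_dotProduct, dotProduct_sub, dotProduct_single, single_dotProduct,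
      Pi.sub_apply, Pi.single_eq_same, hn, hx]
    linarith
  obtain ⟨a, b, hab, r, t, hr, ht, hv⟩ := norm_two hn2
  have hzero : (V R k - Pi.single x s : ι → ℤ) x = 0 := by
    rw [Pi.sub_apply, hx, Pi.single_eq_same, sub_self]
  have hxa : x ≠ a := by
    rintro rfl
    rw [hv, Pi.add_apply, Pi.single_eq_same, Pi.single_eq_of_ne hab, add_zero] at hzero
    exact sgn_ne hr hzero
  have hxb : x ≠ b := by
    rintro rfl
    rw [hv, Pi.add_apply, Pi.single_eq_same, Pi.single_eq_of_ne hab.symm, zero_add] at hzero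
    exact sgn_ne ht hzero
  have hVa : V R k a = r := by
    have := congrFun hv a
    rw [Pi.sub_apply, Pi.add_apply, Pi.single_eq_same, Pi.single_eq_of_ne hab,
      Pi.single_eq_of_ne hxa.symm] at this
    linarith
  have hVb : V R k b = t := by
    have := congrFun hv b
    rw [Pi.sub_apply, Pi.add_apply, Pi.single_eq_same, Pi.single_eq_of_ne hab.symm,
      Pi.single_eq_of_ne hxb.symm] at this
    linarith
  refine ⟨a, b, r, t, hs, hr, ht, hx1, ne_one_of R k (by rw [hVa]; exact sgn_ne hr),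
    ne_one_of R k (by rw [hVb]; exact sgn_ne ht), hxa, hxb, hab, ?_⟩
  have h1 : R.P k = Pi.single R.one ε + (Pi.single x s + (V R k - Pi.single x s)) := by
    unfold V; abel
  rw [h1, hv]; abel

theorem exists_row2 (hε : ε = 1 ∨ ε = -1) (R : Red ι C q ε m Z) (k : Fin 3) {x y : ι} {s r : ℤ}
    (hs : s = 1 ∨ s = -1) (hr : r = 1 ∨ r = -1) (hx : V R k x = s) (hy : V R k y = r)
    (hxy : x ≠ y) :
    ∃ b t, Row R k x y b s r t := by
  obtain ⟨a, b, r', t, h⟩ := exists_row hε R k hs hx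
  have hy1 : y ≠ R.one := ne_one_of R k (by rw [hy]; exact sgn_ne hr)
  have hPy : R.P k y = r := by rw [← V_ne_one R k hy1]; exact hy
  rcases h.supp hy1 (by rw [hPy]; exact sgn_ne hr) with h1 | h1 | h1
  · exact absurd h1.symm hxy
  · subst h1
    have : r' = r := by rw [← hPy]; exact h.Pa.symm
    subst this
    exact ⟨b, t, h⟩
  · subst h1
    have : t = r := by rw [← hPy]; exact h.Pb.symm
    subst this
    exact ⟨a, r', h.swap⟩

theorem zero_of (R : Red ι C q ε m Z) {k l : Fin 3} {x i : ι}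
    (h : ∀ i, i ≠ x → V R k i * V R l i = 0) (hi : i ≠ x) (hne : R.P k i ≠ 0)
    (hi1 : i ≠ R.one) : R.P l i = 0 := by
  have h1 := h i hi
  rw [V_ne_one R k hi1, V_ne_one R l hi1] at h1
  exact (mul_eq_zero.mp h1).resolve_left hne

/-- **The reduced data.** -/
theorem red_main {p n : ℕ} (hp : p.Prime) (hpn : q = (p : ℤ) ^ n) (hε : ε = 1 ∨ ε = -1)
    (hqm : q = 4 * m + ε) (hm : Odd m) (hq : 11 ≤ q) (hZ : 0 < Z) (R : Red ι C q ε m Z) :
    Z = q ^ 2 + ε * q + 1 ∧ ε = -1 ∧ ∃ D : ℤ, q * ((q + 1) * (q - 1)) ^ 2 = 3 * D ^ 2 := by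
  have hV := V_dot hε R
  have hd := V_deg R
  obtain ⟨x01, s01, hs01, a0, a1, ha⟩ := inter R.d_pos (v := V R 0) (w := V R 1)
    (by rw [hV, if_pos rfl]) (by rw [hV, if_pos rfl]) (by rw [hV, if_neg (by decide)])
    (by rw [hd, hd])
  obtain ⟨x02, s02, hs02, b0, b2, hb⟩ := inter R.d_pos (v := V R 0) (w := V R 2)
    (by rw [hV, if_pos rfl]) (by rw [hV, if_pos rfl]) (by rw [hV, if_neg (by decide)])
    (by rw [hd, hd])
  obtain ⟨x12, s12, hs12, c1, c2, hc⟩ := inter R.d_pos (v := V R 1) (w := V R 2)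
    (by rw [hV, if_pos rfl]) (by rw [hV, if_pos rfl]) (by rw [hV, if_neg (by decide)])
    (by rw [hd, hd])
  have ha' : ∀ i, i ≠ x01 → V R 1 i * V R 0 i = 0 := fun i hi => by rw [mul_comm]; exact ha i hi
  have hb' : ∀ i, i ≠ x02 → V R 2 i * V R 0 i = 0 := fun i hi => by rw [mul_comm]; exact hb i hi
  have hc' : ∀ i, i ≠ x12 → V R 2 i * V R 1 i = 0 := fun i hi => by rw [mul_comm]; exact hc i hi
  by_cases hxx : x01 = x02
  · -- star
    subst hxx
    have hs : s02 = s01 := by rw [← a0, ← b0]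
    subst hs
    have hx12 : x01 = x12 := by
      by_contra hne
      have := hc x01 hne
      rw [a1, b2] at this
      rcases mul_eq_zero.mp this with h | h <;> exact sgn_ne hs01 h
    subst hx12
    obtain ⟨p0, q0, r0, t0, h0⟩ := exists_row hε R 0 hs01 a0
    obtain ⟨p1, q1, r1, t1, h1⟩ := exists_row hε R 1 hs01 a1
    obtain ⟨p2, q2, r2, t2, h2⟩ := exists_row hε R 2 hs01 b2
    have P0a : R.P 1 p0 = 0 ∧ R.P 2 p0 = 0 :=
      ⟨zero_of R ha h0.xa.symm (by rw [h0.Pa]; exact sgn_ne h0.hr) h0.a1,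
        zero_of R hb h0.xa.symm (by rw [h0.Pa]; exact sgn_ne h0.hr) h0.a1⟩
    have P0b : R.P 1 q0 = 0 ∧ R.P 2 q0 = 0 :=
      ⟨zero_of R ha h0.xb.symm (by rw [h0.Pb]; exact sgn_ne h0.ht) h0.b1,
        zero_of R hb h0.xb.symm (by rw [h0.Pb]; exact sgn_ne h0.ht) h0.b1⟩
    have P1a : R.P 0 p1 = 0 ∧ R.P 2 p1 = 0 :=
      ⟨zero_of R ha' h1.xa.symm (by rw [h1.Pa]; exact sgn_ne h1.hr) h1.a1,
        zero_of R hc h1.xa.symm (by rw [h1.Pa]; exact sgn_ne h1.hr) h1.a1⟩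
    have P1b : R.P 0 q1 = 0 ∧ R.P 2 q1 = 0 :=
      ⟨zero_of R ha' h1.xb.symm (by rw [h1.Pb]; exact sgn_ne h1.ht) h1.b1,
        zero_of R hc h1.xb.symm (by rw [h1.Pb]; exact sgn_ne h1.ht) h1.b1⟩
    have P2a : R.P 0 p2 = 0 ∧ R.P 1 p2 = 0 :=
      ⟨zero_of R hb' h2.xa.symm (by rw [h2.Pa]; exact sgn_ne h2.hr) h2.a1,
        zero_of R hc' h2.xa.symm (by rw [h2.Pa]; exact sgn_ne h2.hr) h2.a1⟩
    have P2b : R.P 0 q2 = 0 ∧ R.P 1 q2 = 0 :=
      ⟨zero_of R hb' h2.xb.symm (by rw [h2.Pb]; exact sgn_ne h2.ht) h2.b1,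
        zero_of R hc' h2.xb.symm (by rw [h2.Pb]; exact sgn_ne h2.ht) h2.b1⟩
    by_cases hEx : R.E x01 = 0
    · exfalso
      have e0 := h0.dotE
      have e1 := h1.dotE
      rw [hEx, if_neg (by decide)] at e0 e1
      have hε0 := sgn_ne hε
      have h0' : R.E p0 ≠ 0 ∨ R.E q0 ≠ 0 := by
        by_contra hcon
        simp only [not_or, not_not] at hcon
        rw [hcon.1, hcon.2] at e0
        apply hε0; linarith
      have h1' : R.E p1 ≠ 0 ∨ R.E q1 ≠ 0 := by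
        by_contra hcon
        simp only [not_or, not_not] at hcon
        rw [hcon.1, hcon.2] at e1
        apply hε0; linarith
      rcases h0' with h0' | h0' <;> rcases h1' with h1' | h1'
      · exact star_II hε hqm hm hq hZ R h0.swap h1.swap h2.Px P0b P0a P1a h0' h1'
      · exact star_II hε hqm hm hq hZ R h0.swap h1 h2.Px P0b P0a P1b h0' h1'
      · exact star_II hε hqm hm hq hZ R h0 h1.swap h2.Px P0a P0b P1a h0' h1'
      · exact star_II hε hqm hm hq hZ R h0 h1 h2.Px P0a P0b P1b h0' h1'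
    · have e2 := h2.dotE
      rw [if_pos rfl] at e2
      have h2' : R.E p2 ≠ 0 ∨ R.E q2 ≠ 0 := by
        by_contra hcon
        simp only [not_or, not_not] at hcon
        rw [hcon.1, hcon.2] at e2
        have : s02 * R.E x01 = 0 := by linarith
        rcases mul_eq_zero.mp this with h | h
        · exact sgn_ne hs01 h
        · exact hEx h
      rcases h2' with h2' | h2'
      · exact star_I hε hq hZ R h0 h2.swap h1.Px P0a P0b P2b P2a hEx h2'
      · exact star_I hε hq hZ R h0 h2 h1.Px P0a P0b P2a P2b hEx h2'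
  · -- triangle
    exfalso
    have h0112 : x01 ≠ x12 := by
      rintro rfl
      have := hb x01 hxx
      rw [a0, c2] at this
      rcases mul_eq_zero.mp this with h | h
      · exact sgn_ne hs01 h
      · exact sgn_ne hs12 h
    have h0212 : x02 ≠ x12 := by
      rintro rfl
      have := ha x02 (Ne.symm hxx)
      rw [b0, c1] at this
      rcases mul_eq_zero.mp this with h | h
      · exact sgn_ne hs02 h
      · exact sgn_ne hs12 h
    obtain ⟨w1, u1, h0⟩ := exists_row2 hε R 0 hs01 hs02 a0 b0 hxx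
    obtain ⟨w2, u2, h1⟩ := exists_row2 hε R 1 hs01 hs12 a1 c1 h0112
    obtain ⟨w3, u3, h2⟩ := exists_row2 hε R 2 hs02 hs12 b2 c2 h0212
    refine tri_false hp hpn hε hqm hm hq hZ (T := (?_ : Tri R x01 x02 x12 w1 w2 w3 s01 s02 s12 u1 u2 u3))
    refine ⟨h0, h1, h2, ?_, ?_, ?_, ?_, ?_, ?_, ?_, ?_, ?_⟩
    · exact zero_of R hb hxx (by rw [h0.Px]; exact sgn_ne hs01) h0.x1
    · exact zero_of R ha (Ne.symm hxx) (by rw [h0.Pa]; exact sgn_ne hs02) h0.a1
    · exact zero_of R ha' h0112.symm (by rw [h1.Pa]; exact sgn_ne hs12) h1.a1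
    · exact zero_of R ha h0.xb.symm (by rw [h0.Pb]; exact sgn_ne h0.ht) h0.b1
    · exact zero_of R hb h0.ab.symm (by rw [h0.Pb]; exact sgn_ne h0.ht) h0.b1
    · exact zero_of R ha' h1.xb.symm (by rw [h1.Pb]; exact sgn_ne h1.ht) h1.b1
    · exact zero_of R hc h1.ab.symm (by rw [h1.Pb]; exact sgn_ne h1.ht) h1.b1
    · exact zero_of R hb' h2.xb.symm (by rw [h2.Pb]; exact sgn_ne h2.ht) h2.b1
    · exact zero_of R hc' h2.ab.symm (by rw [h2.Pb]; exact sgn_ne h2.ht) h2.b1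

end cases

/-- **Numerical core of S0343**, full form. -/
theorem main' {ι B C : Type*} [Fintype ι] [DecidableEq ι] [Fintype B] [DecidableEq B] [Fintype C]
    [DecidableEq C] {q ε m N : ℤ} {p n : ℕ} (hp : p.Prime) (hpn : q = (p : ℤ) ^ n)
    (hε : ε = 1 ∨ ε = -1) (hqm : q = 4 * m + ε) (hm : Odd m) (hq : 11 ≤ q) (hN : 0 < N)
    (D : CoreData ι B C q ε m N) :
    ε = -1 ∧ N = q ^ 2 * (q ^ 2 - q + 1) ∧ p = 3 ∧ Odd n := by
  have hm1 : 1 < m := by rcases hε with h | h <;> rw [h] at hqm <;> omega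
  obtain ⟨Z, hZ, hNZ, ⟨R⟩⟩ := exists_red hε (by rcases hε with h | h <;> rw [h] <;> linarith)
    (by linarith) hm1 hN D
  obtain ⟨h1, h2, D', h3⟩ := red_main hp hpn hε hqm hm hq hZ R
  subst h2
  refine ⟨rfl, ?_, ?_⟩
  · rw [hNZ, h1]; ring
  · have hne : (q + 1) * (q - 1) ≠ 0 := by
      apply mul_ne_zero <;> linarith
    refine LieExceptional.ReeArith.three_of_sq hp (s := ((q + 1) * (q - 1)).natAbs)
      (D := D'.natAbs) (Int.natAbs_ne_zero.mpr hne) ?_
    zify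
    rw [sq_abs, sq_abs, ← h3, hpn]

/-- **Numerical core of S0343.** -/
theorem main {ι B C : Type*} [Fintype ι] [DecidableEq ι] [Fintype B] [DecidableEq B] [Fintype C]
    [DecidableEq C] {q ε m N : ℤ} (hqm : q = 4 * m + ε) (hε : ε = 1 ∨ ε = -1) (hm : Odd m)
    (hm7 : 3 ≤ m) (hN : 0 < N) {p n : ℕ} (hp : p.Prime) (hpn : q = (p : ℤ) ^ n)
    (D : CoreData ι B C q ε m N) : ε = -1 ∧ N = q ^ 2 * (q ^ 2 - q + 1) :=
  have h := main' hp hpn hε hqm hm
    (by rcases hε with h | h <;> rw [h] at hqm <;> omega) hN D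
  ⟨h.1, h.2.1⟩

end Cfsg.Agent.Ree.CoreMain
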