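import Mathlib
import Cfsg.Agent.Ree.Interface
import Cfsg.Agent.Ree.LocalFinal

/-!
# S0343: local facts derived from `Interface.Good`, needed for the vectors `Del`

`V = {1, t, z, t z}`, an element `ρ` of `N(V)` acting as `t → z → t z → t`, an element `s` of `C(V)` inverting `Y`,
`N(V)` normalises `Y`, no nontrivial element of `Y` is centralised or inverted by `ρ`.
-/

set_option autoImplicit false

open Subgroup

namespace Cfsg.Agent.Ree.DelLoc

open Cfsg.Agent.Ree.Interface Cfsg.Agent.Ree.LocalFinal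

variable {G : Type*} [Group G]

/-- local data for the vectors `Del` -/
structure Loc (t z ρ s : G) (V Y : Subgroup G) : Prop where
  z_mem : z ∈ V
  z_ne_one : z ≠ 1
  z_ne_t : z ≠ t
  V_cases : ∀ v ∈ V, v = 1 ∨ v = t ∨ v = z ∨ v = t * z
  ρ_t : ρ * t * ρ⁻¹ = z
  ρ_z : ρ * z * ρ⁻¹ = t * z
  ρ_norm : ρ ∈ normalizer (V : Set G)
  fix_t : ∀ g ∈ normalizer (V : Set G), g * t * g⁻¹ = t → g ∈ centralizer (V : Set G)
  norm_Y : ∀ g ∈ normalizer (V : Set G), ∀ y ∈ Y, g * y * g⁻¹ ∈ Y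
  s_cent : s ∈ centralizer (V : Set G)
  s_Y : ∀ y ∈ Y, s * y * s⁻¹ = y⁻¹
  ρ_cube : ρ ^ 3 ∈ centralizer (V : Set G)
  cent_cases : ∀ g ∈ centralizer (V : Set G), g ∈ V ⊔ Y ∨ s * g ∈ V ⊔ Y
  s_not_mem : s ∉ V ⊔ Y
  ρ_ne : ∀ y ∈ Y, y ≠ 1 → ρ * y * ρ⁻¹ ≠ y
  ρ_ne_inv : ∀ y ∈ Y, y ≠ 1 → ρ * y * ρ⁻¹ ≠ y⁻¹
  t_mem : t ∈ V
  tt : t * t = 1
  t_ne : t ≠ 1
  card_V : Nat.card V = 4
  V_exp : ∀ v ∈ V, v * v = 1
  Y_cent : Y ≤ centralizer (V : Set G)
  Y_comm : ∀ a ∈ Y, ∀ b ∈ Y, a * b = b * a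
  odd_Y : Odd (Nat.card Y)
  cent_y : ∀ y ∈ Y, y ≠ 1 → centralizer ({y} : Set G) = V ⊔ Y
  ti : ∀ v ∈ V, ∀ y ∈ Y, y ≠ 1 → ∀ g : G, g * (v * y) * g⁻¹ ∈ V ⊔ Y → g ∈ normalizer (V : Set G)

section basic

variable {F : Type*} [Field F] [Fintype F] {t : G} {L V Y : Subgroup G} {m : ℕ} {ε : ℤ}

theorem comm_of_exp {V : Subgroup G} (hV : ∀ v ∈ V, v * v = 1) {a b : G} (ha : a ∈ V) (hb : b ∈ V) :
    a * b = b * a := by
  have h1 := hV _ (V.mul_mem ha hb)
  have ha' := hV a ha
  have hb' := hV b hb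
  have e1 : a⁻¹ = a := inv_eq_of_mul_eq_one_left ha'
  have e2 : b⁻¹ = b := inv_eq_of_mul_eq_one_left hb'
  calc a * b = (a * b)⁻¹ := (inv_eq_of_mul_eq_one_left h1).symm
    _ = b⁻¹ * a⁻¹ := mul_inv_rev a b
    _ = b * a := by rw [e1, e2]

set_option linter.unusedVariables false in
theorem V_structure {V : Subgroup G} (hV : ∀ v ∈ V, v * v = 1) (hc : Nat.card V = 4) {t : G}
    (ht : t ∈ V) (ht1 : t ≠ 1) :
    ∃ z ∈ V, z ≠ 1 ∧ z ≠ t := by
  by_contra hcon
  push Not at hcon
  have : Nat.card V ≤ 2 := by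
    have hfin : Finite V := Nat.finite_of_card_ne_zero (by omega)
    have hs : Function.Surjective (fun b : Bool => (if b then (1 : V) else ⟨t, ht⟩)) := by
      rintro ⟨x, hx⟩
      by_cases h1 : x = 1
      · exact ⟨true, Subtype.ext (by simp [h1])⟩
      · exact ⟨false, Subtype.ext (by simpa using (hcon x hx h1).symm)⟩
    have := Nat.card_le_card_of_surjective _ hs
    simpa using this
  omega

set_option linter.unusedVariables false in
theorem V_four {V : Subgroup G} (hV : ∀ v ∈ V, v * v = 1) (hc : Nat.card V = 4) {t z : G}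
    (ht : t ∈ V) (ht1 : t ≠ 1) (hz : z ∈ V) (hz1 : z ≠ 1) (hzt : z ≠ t) :
    ∀ v ∈ V, v = 1 ∨ v = t ∨ v = z ∨ v = t * z := by
  classical
  have hfin : Finite V := Nat.finite_of_card_ne_zero (by omega)
  have : Fintype V := Fintype.ofFinite V
  have htz1 : t * z ≠ 1 := by
    intro h
    apply hzt
    have h2 := hV t ht
    exact mul_left_cancel (h.trans h2.symm)
  have htz2 : t * z ≠ t := fun h => hz1 (mul_left_cancel (h.trans (mul_one t).symm))
  have htz3 : t * z ≠ z := fun h => ht1 (mul_right_cancel (h.trans (one_mul z).symm))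
  let S : Finset V := {1, ⟨t, ht⟩, ⟨z, hz⟩, ⟨t * z, V.mul_mem ht hz⟩}
  have hS : S.card = 4 := by
    have e1 : (1 : V) ∉ ({⟨t, ht⟩, ⟨z, hz⟩, ⟨t * z, V.mul_mem ht hz⟩} : Finset V) := by
      simp only [Finset.mem_insert, Finset.mem_singleton, Subtype.ext_iff, OneMemClass.coe_one]
      rintro (h | h | h)
      · exact ht1 h.symm
      · exact hz1 h.symm
      · exact htz1 h.symm
    have e2 : (⟨t, ht⟩ : V) ∉ ({⟨z, hz⟩, ⟨t * z, V.mul_mem ht hz⟩} : Finset V) := by
      simp only [Finset.mem_insert, Finset.mem_singleton, Subtype.ext_iff]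
      rintro (h | h)
      · exact hzt h.symm
      · exact htz2 h.symm
    have e3 : (⟨z, hz⟩ : V) ∉ ({⟨t * z, V.mul_mem ht hz⟩} : Finset V) := by
      simp only [Finset.mem_singleton, Subtype.ext_iff]
      exact fun h => htz3 h.symm
    simp only [S]
    rw [Finset.card_insert_of_notMem e1, Finset.card_insert_of_notMem e2,
      Finset.card_insert_of_notMem e3, Finset.card_singleton]
  have hS' : S = Finset.univ := by
    apply Finset.eq_univ_of_card
    rw [hS, ← Nat.card_eq_fintype_card, hc]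
  intro v hv
  have : (⟨v, hv⟩ : V) ∈ S := by rw [hS']; exact Finset.mem_univ _
  simpa [S, Subtype.ext_iff] using this

theorem conj_mem_centralizer {V : Subgroup G} {g x : G} (hg : g ∈ normalizer (V : Set G))
    (hx : x ∈ centralizer (V : Set G)) : g * x * g⁻¹ ∈ centralizer (V : Set G) := by
  rw [mem_centralizer_iff]
  intro v hv
  have h1 : g⁻¹ * v * g ∈ V := by
    have := (mem_normalizer_iff'.1 hg (g⁻¹ * v)).1
    have h2 : g * (g⁻¹ * v * g) * g⁻¹ ∈ V := by
      have : g * (g⁻¹ * v * g) * g⁻¹ = v := by group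
      rw [this]; exact hv
    exact (mem_normalizer_iff.1 hg _).2 h2
  have h2 := mem_centralizer_iff.1 hx _ h1
  calc v * (g * x * g⁻¹) = g * ((g⁻¹ * v * g) * x) * g⁻¹ := by group
    _ = g * (x * (g⁻¹ * v * g)) * g⁻¹ := by rw [h2]
    _ = g * x * g⁻¹ * v := by group

theorem relIndex_mul_card' {A C : Subgroup G} (h : A ≤ C) :
    A.relIndex C * Nat.card A = Nat.card C := by
  have h1 := (A.subgroupOf C).card_mul_index
  have h2 : Nat.card (A.subgroupOf C) = Nat.card A :=
    Nat.card_congr (Subgroup.subgroupOfEquivOfLe h).toEquiv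
  rw [h2, mul_comm] at h1
  exact h1

theorem exists_loc [Finite G] (hG : Good F t L V Y m ε) :
    ∃ z ρ s : G, Loc t z ρ s V Y := by
  have hV := hG.V_exp
  have hYV := hG.Y_cent
  have hodd : Odd (Nat.card Y) := by rw [hG.Y_card]; exact hG.odd_m
  have htt : t * t = 1 := hV t hG.t_mem_V
  have ht1 : t ≠ 1 := by
    intro h
    have := hG.ord_t
    rw [h, orderOf_one] at this
    omega
  have hYc : ∀ a ∈ Y, ∀ b ∈ Y, a * b = b * a := by
    intro a ha b hb
    have := hG.Y_cyclic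
    have h := (IsCyclic.commGroup (α := Y)).mul_comm ⟨a, ha⟩ ⟨b, hb⟩
    exact congrArg Subtype.val h
  have hVc : ∀ a ∈ V, ∀ b ∈ V, a * b = b * a := fun a ha b hb => comm_of_exp hV ha hb
  set A := V ⊔ Y with hA
  set C := centralizer (V : Set G) with hC
  set N := normalizer (V : Set G) with hN
  have hAcard : Nat.card A = 4 * m := by
    rw [hA, card_sup hYV hV hodd, hG.V_card, hG.Y_card]
  have hm : 0 < m := by have := hG.one_lt_m; omega
  have hVC : V ≤ C := by
    intro v hv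
    rw [hC, mem_centralizer_iff]
    intro w hw
    exact hVc w hw v hv
  have hAC : A ≤ C := sup_le hVC hYV
  have hrel : A.relIndex C = 2 := by
    have h1 := relIndex_mul_card' hAC
    rw [hAcard, hG.card_cent_V] at h1
    have : A.relIndex C * (4 * m) = 2 * (4 * m) := by rw [h1]; ring
    exact Nat.eq_of_mul_eq_mul_right (by omega) this
  have hidx : (A.subgroupOf C).index = 2 := hrel
  have htwo : ∀ a ∈ C, ∀ b ∈ C, (a * b ∈ A ↔ (a ∈ A ↔ b ∈ A)) := by
    intro a ha b hb
    have := Subgroup.mul_mem_iff_of_index_two hidx (a := ⟨a, ha⟩) (b := ⟨b, hb⟩)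
    simpa [Subgroup.mem_subgroupOf] using this
  -- odd order elements of `C` lie in `Y`
  have hoddY : ∀ x ∈ C, x ^ m = 1 → x ∈ Y := by
    intro x hx hxm
    have hxA : x ∈ A := by
      obtain ⟨k, hk⟩ := hG.odd_m
      have h2 : x * x ∈ A := (htwo x hx x hx).2 Iff.rfl
      have h3 : x = (x * x) ^ (k + 1) := by
        have h4 : x ^ (m + 1) = x := by rw [pow_succ, hxm, one_mul]
        rw [← pow_two, ← pow_mul]
        have h5 : 2 * (k + 1) = m + 1 := by omega
        rw [h5, h4]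
      rw [h3]
      exact A.pow_mem h2 _
    obtain ⟨v, hv, y, hy, rfl⟩ := (mem_sup_iff hYV).1 hxA
    have hc : Commute v y := mem_centralizer_iff.1 (hYV hy) v hv
    have hym : y ^ m = 1 := by
      have h1 : (⟨y, hy⟩ : Y) ^ Nat.card Y = 1 := pow_card_eq_one'
      rw [hG.Y_card] at h1
      exact congrArg Subtype.val h1
    have hvm : v ^ m = v := by
      obtain ⟨k, hk⟩ := hG.odd_m
      rw [hk, pow_succ, pow_mul, pow_two, hV v hv, one_pow, one_mul]
    rw [hc.mul_pow, hym, hvm, mul_one] at hxm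
    rw [hxm, one_mul]
    exact hy
  have hnormY : ∀ g ∈ N, ∀ y ∈ Y, g * y * g⁻¹ ∈ Y := by
    intro g hg y hy
    apply hoddY
    · exact conj_mem_centralizer hg (hYV hy)
    · have h1 : (⟨y, hy⟩ : Y) ^ Nat.card Y = 1 := pow_card_eq_one'
      rw [hG.Y_card] at h1
      have h2 : y ^ m = 1 := congrArg Subtype.val h1
      rw [conj_pow, h2]
      group
  -- `s`
  obtain ⟨s, hsC, hsA⟩ : ∃ s ∈ C, s ∉ A := by
    by_contra hcon
    push Not at hcon
    have : C ≤ A := hcon
    have h1 := Nat.card_mono (Set.toFinite (A : Set G)) (show (C : Set G) ⊆ A from this)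
    have h2 : Nat.card C ≤ Nat.card A := h1
    rw [hAcard, hG.card_cent_V] at h2
    omega
  have hCN : C ≤ N := by
    intro g hg
    rw [hN, mem_normalizer_iff]
    intro v
    constructor
    · intro hv
      have := mem_centralizer_iff.1 hg v hv
      rw [← this, mul_inv_cancel_right]
      exact hv
    · intro hv
      have := mem_centralizer_iff.1 hg _ hv
      have h2 : v = g * v * g⁻¹ := by
        have h3 : g * v * g⁻¹ * g = g * (g * v * g⁻¹) := this
        have h4 : g * v = g * (g * v * g⁻¹) := by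
          rw [← h3]; group
        exact mul_left_cancel h4
      rw [h2]; exact hv
  have hAcomm : ∀ a ∈ A, ∀ y ∈ Y, a * y = y * a := by
    intro a ha y hy
    obtain ⟨v, hv, y', hy', rfl⟩ := (mem_sup_iff hYV).1 ha
    have h1 := mem_centralizer_iff.1 (hYV hy) v hv
    have h2 := hYc y' hy' y hy
    calc v * y' * y = v * (y' * y) := mul_assoc _ _ _
      _ = v * (y * y') := by rw [h2]
      _ = (v * y) * y' := (mul_assoc _ _ _).symm
      _ = (y * v) * y' := by rw [h1]
      _ = y * (v * y') := mul_assoc _ _ _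
  have hsY : ∀ y ∈ Y, s * y * s⁻¹ = y⁻¹ := by
    intro y hy
    have hs1 : s * y * s⁻¹ ∈ Y := hnormY s (hCN hsC) y hy
    have hw : y * (s * y * s⁻¹) ∈ Y := Y.mul_mem hy hs1
    have hs2 : s * s ∈ A := (htwo s hsC s hsC).2 Iff.rfl
    have hs2y := hAcomm _ hs2 y hy
    have hfix : s * (y * (s * y * s⁻¹)) * s⁻¹ = y * (s * y * s⁻¹) := by
      calc s * (y * (s * y * s⁻¹)) * s⁻¹ = (s * y * s⁻¹) * ((s * s) * y * (s * s)⁻¹) := by group
        _ = (s * y * s⁻¹) * y := by rw [hs2y, mul_inv_cancel_right]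
        _ = y * (s * y * s⁻¹) := hYc _ hs1 _ hy
    by_contra hne
    have hw1 : y * (s * y * s⁻¹) ≠ 1 := by
      intro h
      exact hne (eq_inv_of_mul_eq_one_right h)
    have := hG.cent_y _ hw hw1
    apply hsA
    rw [hA, ← this, mem_centralizer_iff]
    intro x hx
    rw [Set.mem_singleton_iff.1 hx]
    calc y * (s * y * s⁻¹) * s = (s * (y * (s * y * s⁻¹)) * s⁻¹) * s := by rw [hfix]
      _ = s * (y * (s * y * s⁻¹)) := by group
  -- `ρ`
  obtain ⟨ρ, hρN, hρC⟩ : ∃ ρ ∈ N, ρ ∉ C := by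
    by_contra hcon
    push Not at hcon
    have : N ≤ C := hcon
    have h1 := Nat.card_mono (Set.toFinite (C : Set G)) (show (N : Set G) ⊆ C from this)
    have h2 : Nat.card N ≤ Nat.card C := h1
    rw [hG.card_norm_V, hG.card_cent_V] at h2
    omega
  have hcub : ∀ g ∈ N, g ^ 3 ∈ C := by
    intro g hg
    have hnorm : (C.subgroupOf N).Normal := by
      refine ⟨fun n hn g => ?_⟩
      rw [mem_subgroupOf] at hn ⊢
      exact conj_mem_centralizer g.2 hn
    have h3 : (C.subgroupOf N).index = 3 := by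
      have h1 := relIndex_mul_card' hCN
      rw [hG.card_cent_V, hG.card_norm_V] at h1
      have : C.relIndex N * (8 * m) = 3 * (8 * m) := by rw [h1]; ring
      exact Nat.eq_of_mul_eq_mul_right (by omega) this
    have := Subgroup.pow_index_mem (C.subgroupOf N) ⟨g, hg⟩
    rw [h3] at this
    exact this
  have hconj' : ∀ g ∈ N, ∀ v ∈ V, g * v * g⁻¹ ∈ V :=
    fun g hg v hv => (mem_normalizer_iff.1 hg v).1 hv
  have hcube' : ∀ g ∈ N, ∀ v ∈ V, g * (g * (g * v * g⁻¹) * g⁻¹) * g⁻¹ = v := by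
    intro g hg v hv
    have := mem_centralizer_iff.1 (hcub g hg) v hv
    calc g * (g * (g * v * g⁻¹) * g⁻¹) * g⁻¹ = (g ^ 3 * v) * (g ^ 3)⁻¹ := by
          simp only [pow_succ, pow_zero, one_mul]; group
      _ = v := by rw [← this, mul_inv_cancel_right]
  have hcancel' : ∀ g v w : G, g * v * g⁻¹ = g * w * g⁻¹ → v = w := by
    intro g v w h
    exact mul_left_cancel (mul_right_cancel h)
  have hone' : ∀ g v : G, g * v * g⁻¹ = 1 → v = 1 := by
    intro g v h
    apply hcancel' g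
    rw [h]; group
  have hmulc' : ∀ g v w : G, g * (v * w) * g⁻¹ = (g * v * g⁻¹) * (g * w * g⁻¹) := by
    intro g v w; group
  have hfix : ∀ g ∈ N, g * t * g⁻¹ = t → g ∈ C := by
    intro g hg h
    obtain ⟨z, hz, hz1, hzt⟩ := V_structure hV hG.V_card hG.t_mem_V ht1
    have h4 := V_four hV hG.V_card hG.t_mem_V ht1 hz hz1 hzt
    rcases h4 _ (hconj' g hg z hz) with h5 | h5 | h5 | h5
    · exact absurd (hone' g z h5) hz1
    · exact absurd (hcancel' g z t (h5.trans h.symm)) hzt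
    · rw [hC, mem_centralizer_iff]
      intro v hv
      have h6 : g * v * g⁻¹ = v := by
        rcases h4 v hv with rfl | rfl | rfl | rfl
        · group
        · exact h
        · exact h5
        · rw [hmulc', h, h5]
      calc v * g = (g * v * g⁻¹) * g := by rw [h6]
        _ = g * v := by group
    · exfalso
      have h6 := hcube' g hg z hz
      have h7 : g * (t * z) * g⁻¹ = z := by
        rw [hmulc', h, h5, ← mul_assoc, htt, one_mul]
      rw [h5, h7, h5] at h6
      exact ht1 (mul_right_cancel (h6.trans (one_mul z).symm))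
  have hρ3 : ρ ^ 3 ∈ C := hcub ρ hρN
  have hconjV := hconj' ρ hρN
  have hcube := hcube' ρ hρN
  have hcancel := hcancel' ρ
  have hone := hone' ρ
  have hρt : ρ * t * ρ⁻¹ ≠ t := fun h => hρC (hfix ρ hρN h)
  set z := ρ * t * ρ⁻¹ with hz
  have hzV : z ∈ V := hconjV t hG.t_mem_V
  have hz1 : z ≠ 1 := fun h => ht1 (hone t h)
  have h4 := V_four hV hG.V_card hG.t_mem_V ht1 hzV hz1 hρt
  have hρz : ρ * z * ρ⁻¹ = t * z := by
    rcases h4 _ (hconjV z hzV) with h5 | h5 | h5 | h5
    · exact absurd (hone z h5) hz1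
    · exfalso
      have h6 := hcube t hG.t_mem_V
      rw [← hz, h5, ← hz] at h6
      exact hρt h6
    · exfalso
      apply hρt
      exact hcancel z t (h5.trans hz)
    · exact h5
  refine ⟨z, ρ, s, ?_⟩
  refine
    { z_mem := hzV, z_ne_one := hz1, z_ne_t := hρt, V_cases := h4, ρ_t := hz.symm, ρ_z := hρz,
      ρ_norm := hρN, fix_t := hfix, norm_Y := hnormY, s_cent := hsC, s_Y := hsY, ρ_cube := hρ3,
      cent_cases := ?_, s_not_mem := hsA, ρ_ne := ?_, ρ_ne_inv := ?_, t_mem := hG.t_mem_V,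
      tt := htt, t_ne := ht1, card_V := hG.V_card, V_exp := hV, Y_cent := hYV, Y_comm := hYc,
      odd_Y := hodd, cent_y := hG.cent_y, ti := hG.ti }
  · intro g hg
    by_cases hgA : g ∈ A
    · exact Or.inl hgA
    · right
      rw [htwo s hsC g hg]
      exact ⟨fun h => absurd h hsA, fun h => absurd h hgA⟩
  · intro y hy hy1 h
    apply hρC
    apply hAC
    rw [hA, ← hG.cent_y y hy hy1, mem_centralizer_iff]
    intro x hx
    rw [Set.mem_singleton_iff.1 hx]
    calc y * ρ = (ρ * y * ρ⁻¹) * ρ := by rw [h]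
      _ = ρ * y := by group
  · intro y hy hy1 h
    have h1 : s * ρ ∈ A := by
      rw [hA, ← hG.cent_y y hy hy1, mem_centralizer_iff]
      intro x hx
      rw [Set.mem_singleton_iff.1 hx]
      have h2 : s * (ρ * y * ρ⁻¹) * s⁻¹ = y := by
        rw [h]
        have := hsY y⁻¹ (Y.inv_mem hy)
        rw [this, inv_inv]
      calc y * (s * ρ) = (s * (ρ * y * ρ⁻¹) * s⁻¹) * (s * ρ) := by rw [h2]
        _ = s * ρ * y := by group
    apply hρC
    have h2 : ρ = s⁻¹ * (s * ρ) := by group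
    rw [h2]
    exact C.mul_mem (C.inv_mem hsC) (hAC h1)

end basic

end Cfsg.Agent.Ree.DelLoc
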