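import Mathlib
import Cfsg.Agent.Ree.VecDef

/-!
# S0343: vectors with support `t L`

`L ≤ C(t)`, `t ∉ L`, `C(t) = L ∪ t L`, `t` an involution.

* `sum_vecP_mul` : `∑ χ, vecP a χ * conj (vecP b χ) = 2 (a, b)_L` for class functions vanishing on elements of even
  order.
* `sum_vecP_deg` : `∑ χ, vecP a χ * χ 1 = 0`.
* `vecP_one` : value at the trivial character.
-/

set_option autoImplicit false

open scoped ComplexConjugate
open Cfsg Cfsg.Agent.Ree.VecDef

namespace Cfsg.Agent.Ree.VecP

universe u
variable {G : Type u} [Group G]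

/-- The situation `C(t) = ⟨t⟩ × L`. -/
structure Cent (t : G) (L : Subgroup G) : Prop where
  ord_t : orderOf t = 2
  L_le : L ≤ Subgroup.centralizer ({t} : Set G)
  t_not_mem : t ∉ L
  cover : ∀ g ∈ Subgroup.centralizer ({t} : Set G), g ∈ L ∨ t * g ∈ L

variable {t : G} {L : Subgroup G}

namespace Cent

theorem tt (h : Cent t L) : t * t = 1 := by
  rw [← pow_two, ← h.ord_t, pow_orderOf_eq_one]

theorem t_ne (h : Cent t L) : t ≠ 1 := by
  intro h0
  have := h.ord_t
  rw [h0, orderOf_one] at this
  omega

theorem comm (h : Cent t L) {l : G} (hl : l ∈ L) : t * l = l * t := by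
  have := Subgroup.mem_centralizer_iff.1 (h.L_le hl) t rfl
  exact this

theorem t_pow_odd (h : Cent t L) {n : ℕ} (hn : Odd n) : t ^ n = t := by
  obtain ⟨k, rfl⟩ := hn
  rw [pow_add, pow_mul, pow_two, h.tt, one_pow, one_mul, pow_one]

/-- the `2`-part and the `2'`-part are determined -/
theorem split (h : Cent t L) {l l' : G} (hl : l ∈ L) (hl' : l' ∈ L) {n : ℕ} (hn : Odd n)
    (h1 : l ^ n = 1) (h2 : l' ^ n = 1) {g : G} (hg : g * (t * l') * g⁻¹ = t * l) :
    g * t = t * g ∧ g * l' * g⁻¹ = l := by
  have e1 : (t * l) ^ n = t := by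
    rw [(show Commute t l from h.comm hl).mul_pow, h1, mul_one, h.t_pow_odd hn]
  have e2 : (t * l') ^ n = t := by
    rw [(show Commute t l' from h.comm hl').mul_pow, h2, mul_one, h.t_pow_odd hn]
  have e3 : g * t * g⁻¹ = t := by
    rw [← e2, ← conj_pow, hg, e1, e2]
  refine ⟨by
    have := congrArg (fun x => x * g) e3
    simpa using this, ?_⟩
  have e5 : g * (t * l') * g⁻¹ = (g * t * g⁻¹) * (g * l' * g⁻¹) := by group
  rw [e5, e3] at hg
  exact mul_left_cancel hg

/-- members of the centralizer of `t` -/
theorem mem_iff (h : Cent t L) (g : G) : g * t = t * g ↔ g ∈ L ∨ t * g ∈ L := by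
  constructor
  · intro hg
    apply h.cover
    rw [Subgroup.mem_centralizer_iff]
    intro x hx
    rw [Set.mem_singleton_iff.1 hx, hg]
  · rintro (hg | hg)
    · exact (h.comm hg).symm
    · have h1 := h.comm hg
      have h2 : t * (t * g) = g := by rw [← mul_assoc, h.tt, one_mul]
      rw [h2] at h1
      have h3 : t * g * t = g := h1.symm
      calc g * t = t * (t * g * t) := by rw [← mul_assoc, ← mul_assoc, h.tt, one_mul]
        _ = t * g := by rw [h3]

/-- the centralizer of `t` as `L ∪ t L` : sums -/
theorem sum_cent [Fintype G] [DecidableEq G] [Fintype L] (h : Cent t L) {R : Type*} [AddCommMonoid R]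
    (f : G → R) :
    ∑ g ∈ Finset.univ.filter (fun g : G => g * t = t * g), f g = ∑ l : L, (f l + f (t * l)) := by
  classical
  have h1 : (Finset.univ.filter (fun g : G => g * t = t * g)) =
      (Finset.univ.filter (fun g : G => g ∈ L)) ∪ (Finset.univ.filter (fun g : G => t * g ∈ L)) := by
    ext g
    simp only [Finset.mem_filter, Finset.mem_univ, true_and, Finset.mem_union, h.mem_iff]
  have hdisj : Disjoint (Finset.univ.filter (fun g : G => g ∈ L))
      (Finset.univ.filter (fun g : G => t * g ∈ L)) := by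
    rw [Finset.disjoint_filter]
    intro g _ hg hg'
    exact h.t_not_mem (by simpa using L.mul_mem hg' (L.inv_mem hg))
  rw [h1, Finset.sum_union hdisj, Finset.sum_add_distrib]
  congr 1
  · rw [← Finset.sum_subtype (Finset.univ.filter (fun g : G => g ∈ L)) (by simp) f]
  · symm
    rw [← Finset.sum_subtype (Finset.univ.filter (fun g : G => g ∈ L)) (by simp)
      (fun g => f (t * g))]
    apply Finset.sum_nbij' (fun g => t * g) (fun g => t * g)
    · intro g hg
      simp only [Finset.mem_filter, Finset.mem_univ, true_and] at hg ⊢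
      rwa [← mul_assoc, h.tt, one_mul]
    · intro g hg
      simpa using hg
    · intro g _
      rw [← mul_assoc, h.tt, one_mul]
    · intro g _
      rw [← mul_assoc, h.tt, one_mul]
    · intro g _
      rfl

/-- elements of odd order of the centralizer of `t` lie in `L` -/
theorem mem_of_odd (h : Cent t L) {g : G} (hg : g * t = t * g) {n : ℕ} (hn : Odd n)
    (h1 : g ^ n = 1) : g ∈ L := by
  rcases (h.mem_iff g).1 hg with h2 | h2
  · exact h2
  · exfalso
    apply h.t_not_mem
    have h3 : (t * g) ^ n = t := by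
      rw [(show Commute t g from hg.symm).mul_pow, h1, mul_one, h.t_pow_odd hn]
    rw [← h3]
    exact L.pow_mem h2 n

end Cent

/-- scalar products of the vectors attached to class functions vanishing on elements of even order -/
theorem sum_vecP_mul [Fintype G] [Fintype (IrrCharacter G)] [Fintype L] (h : Cent t L)
    {a b : L → ℂ} (ha : IsClassFunction L a) (ha0 : ∀ l : L, Even (orderOf l) → a l = 0)
    (hb0 : ∀ l : L, Even (orderOf l) → b l = 0) :
    ∑ χ : IrrCharacter G, vecP t L a (χ : G → ℂ) * conj (vecP t L b (χ : G → ℂ)) =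
      2 * classInner a b := by
  classical
  have hL : (Nat.card L : ℂ) ≠ 0 := by exact_mod_cast Nat.card_pos.ne'
  have h1 := sum_vec_mul (G := G) (c := fun l : L => a l) (x := fun l : L => t * l)
    (d := fun l : L => b l) (y := fun l : L => t * l)
  have h2 : ∀ l l' : L, a l * conj (b l') *
      (Nat.card {g : G // g * (t * l') * g⁻¹ = t * l} : ℂ) =
      a l * conj (b l') * (2 * ∑ k : L, if k * l' * k⁻¹ = l then (1 : ℂ) else 0) := by
    intro l l'
    by_cases hl : Even (orderOf l)
    · rw [ha0 l hl]; ring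
    by_cases hl' : Even (orderOf l')
    · rw [hb0 l' hl']; simp
    congr 1
    have hodd : Odd (orderOf l * orderOf l') :=
      (Nat.not_even_iff_odd.1 hl).mul (Nat.not_even_iff_odd.1 hl')
    have hp : (l : G) ^ (orderOf l * orderOf l') = 1 := by
      rw [pow_mul]
      have : (l : G) ^ orderOf l = 1 := by exact_mod_cast congrArg Subtype.val (pow_orderOf_eq_one l)
      rw [this, one_pow]
    have hp' : (l' : G) ^ (orderOf l * orderOf l') = 1 := by
      rw [mul_comm, pow_mul]
      have : (l' : G) ^ orderOf l' = 1 := by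
        exact_mod_cast congrArg Subtype.val (pow_orderOf_eq_one l')
      rw [this, one_pow]
    have e1 : (Nat.card {g : G // g * (t * l') * g⁻¹ = t * l} : ℂ) =
        ∑ g ∈ Finset.univ.filter (fun g : G => g * t = t * g),
          if g * l' * g⁻¹ = l then (1 : ℂ) else 0 := by
      rw [Nat.card_eq_fintype_card, Fintype.card_subtype, Finset.sum_ite, Finset.sum_const_zero,
        add_zero, Finset.sum_const, nsmul_eq_mul, mul_one, Finset.filter_filter]
      congr 2
      ext g
      simp only [Finset.mem_filter, Finset.mem_univ, true_and]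
      constructor
      · intro hg
        exact h.split l.2 l'.2 hodd hp hp' hg
      · rintro ⟨hg1, hg2⟩
        calc g * (t * l') * g⁻¹ = (g * t) * g⁻¹ * (g * l' * g⁻¹) := by group
          _ = t * l := by rw [hg1, hg2]; group
    rw [e1, h.sum_cent, Finset.mul_sum]
    refine Finset.sum_congr rfl fun k _ => ?_
    have e2 : (t * (k : G)) * l' * (t * (k : G))⁻¹ = k * l' * (k : G)⁻¹ := by
      have hk := h.comm k.2
      have hk' : t * ((k : G) * l' * (k : G)⁻¹) = ((k : G) * l' * (k : G)⁻¹) * t :=
        h.comm (L.mul_mem (L.mul_mem k.2 l'.2) (L.inv_mem k.2))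
      calc (t * (k : G)) * l' * (t * (k : G))⁻¹ = t * ((k : G) * l' * (k : G)⁻¹) * t⁻¹ := by group
        _ = _ := by rw [hk']; group
    have e3 : ((k : G) * l' * (k : G)⁻¹ = l) ↔ k * l' * k⁻¹ = l := by
      rw [Subtype.ext_iff]
      simp
    rw [e2]
    simp only [e3]
    split_ifs <;> norm_num
  have h3 : ∑ l : L, ∑ l' : L, a l * conj (b l') *
      (Nat.card {g : G // g * (t * l') * g⁻¹ = t * l} : ℂ) =
      2 * (Nat.card L : ℂ) * ∑ l' : L, a l' * conj (b l') := by
    simp only [h2]
    have e1 : ∀ l' : L, ∑ l : L, a l * conj (b l') *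
        (2 * ∑ k : L, if k * l' * k⁻¹ = l then (1 : ℂ) else 0) =
        2 * (Nat.card L : ℂ) * (a l' * conj (b l')) := by
      intro l'
      simp only [Finset.mul_sum, mul_ite, mul_one, mul_zero]
      rw [Finset.sum_comm]
      simp only [Finset.sum_ite_eq, Finset.mem_univ, if_true]
      have : ∀ k : L, a (k * l' * k⁻¹) = a l' := fun k => ha l' k
      simp only [this, Finset.sum_const, Finset.card_univ, nsmul_eq_mul, Nat.card_eq_fintype_card]
      ring
    rw [Finset.sum_comm]
    simp only [e1]
    rw [← Finset.mul_sum]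
  rw [h3] at h1
  have h4 : ∀ χ : IrrCharacter G, vecP t L a (χ : G → ℂ) * conj (vecP t L b (χ : G → ℂ)) =
      ((Nat.card L : ℂ)⁻¹) ^ 2 * ((∑ l : L, a l * conj ((χ : G → ℂ) (t * l))) *
        conj (∑ l : L, b l * conj ((χ : G → ℂ) (t * l)))) := by
    intro χ
    unfold vecP
    rw [map_mul, map_inv₀, Complex.conj_natCast]
    ring
  simp only [h4]
  rw [← Finset.mul_sum, h1]
  unfold classInner
  field_simp

/-- the vectors are orthogonal to the degrees -/
theorem sum_vecP_deg [Fintype G] [Fintype (IrrCharacter G)] [Fintype L] (h : Cent t L)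
    (a : L → ℂ) :
    ∑ χ : IrrCharacter G, vecP t L a (χ : G → ℂ) * (χ : G → ℂ) 1 = 0 := by
  classical
  have h1 := sum_vec_mul (G := G) (c := fun l : L => a l) (x := fun l : L => t * l)
    (d := fun _ : Unit => (1 : ℂ)) (y := fun _ : Unit => (1 : G))
  simp only [Finset.univ_unique, Finset.sum_singleton, one_mul, Complex.conj_conj, map_one,
    mul_one, mul_inv_cancel] at h1
  have h2 : ∀ l : L, (Nat.card {g : G // (1 : G) = t * l} : ℂ) = 0 := by
    intro l
    have : IsEmpty {g : G // (1 : G) = t * l} := by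
      refine ⟨fun g => ?_⟩
      apply h.t_not_mem
      have : t = (l : G)⁻¹ := eq_inv_of_mul_eq_one_left g.2.symm
      rw [this]
      exact L.inv_mem l.2
    simp
  simp only [h2, mul_zero, Finset.sum_const_zero] at h1
  unfold vecP
  simp only [mul_assoc]
  rw [← Finset.mul_sum, h1, mul_zero]

theorem vecP_one [Fintype L] (a : L → ℂ) :
    vecP t L a (fun _ => 1) = (Nat.card L : ℂ)⁻¹ * ∑ l : L, a l := by
  simp [vecP]

end Cfsg.Agent.Ree.VecP
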