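import Mathlib
import Cfsg.Agent.Ree.VecP
import Cfsg.Agent.Ree.Split
import Cfsg.Agent.Ree.DegVal
import Cfsg.Agent.Ree.ClassSum

/-!
# S0343: integrality and casting layer for the vectors `vecP t L a`

`ip t L a χ : ℤ` is the integer `vecP t L a χ` for a generalized character `a` of `L`.
-/

set_option autoImplicit false

open scoped ComplexConjugate
open Matrix
open Cfsg Cfsg.Agent.Ree.VecDef Cfsg.Agent.Ree.VecP

namespace Cfsg.Agent.Ree.VecInt

universe u
variable {G : Type u} [Group G] {t : G} {L : Subgroup G}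

section Linear

variable [Fintype L]

theorem vecP_add (a b : L → ℂ) (χ : G → ℂ) :
    vecP t L (a + b) χ = vecP t L a χ + vecP t L b χ := by
  simp only [vecP, Pi.add_apply, add_mul, Finset.sum_add_distrib, mul_add]

theorem vecP_neg (a : L → ℂ) (χ : G → ℂ) : vecP t L (-a) χ = -vecP t L a χ := by
  simp only [vecP, Pi.neg_apply, neg_mul, Finset.sum_neg_distrib, mul_neg]

theorem vecP_sub (a b : L → ℂ) (χ : G → ℂ) :
    vecP t L (a - b) χ = vecP t L a χ - vecP t L b χ := by
  rw [sub_eq_add_neg, vecP_add, vecP_neg, sub_eq_add_neg]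

theorem vecP_smul (c : ℂ) (a : L → ℂ) (χ : G → ℂ) :
    vecP t L (c • a) χ = c * vecP t L a χ := by
  simp only [vecP, Pi.smul_apply, smul_eq_mul, mul_assoc]
  rw [← Finset.mul_sum]
  ring

theorem vecP_mul_left (c : ℂ) (a : L → ℂ) (χ : G → ℂ) :
    vecP t L (fun l => c * a l) χ = c * vecP t L a χ := vecP_smul c a χ

theorem vecP_zero (χ : G → ℂ) : vecP t L 0 χ = 0 := by
  simp [vecP]

theorem vecP_sum {I : Type*} (s : Finset I) (a : I → L → ℂ) (χ : G → ℂ) :
    vecP t L (∑ i ∈ s, a i) χ = ∑ i ∈ s, vecP t L (a i) χ := by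
  classical
  induction s using Finset.induction_on with
  | empty => simp [vecP_zero]
  | insert i s hi ih => rw [Finset.sum_insert hi, Finset.sum_insert hi, vecP_add, ih]

theorem vecP_congr {a b : L → ℂ} (h : ∀ l, a l = b l) (χ : G → ℂ) :
    vecP t L a χ = vecP t L b χ := by
  rw [funext h]

/-- the vector of the regular character -/
theorem vecP_reg [DecidableEq L] (χ : G → ℂ) :
    vecP t L (fun l => if l = 1 then (Nat.card L : ℂ) else 0) χ = conj (χ t) := by
  have hL : (Nat.card L : ℂ) ≠ 0 := Characters.Core.card_ne_zero_complex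
  unfold vecP
  have h1 : ∀ l : L, (if l = 1 then (Nat.card L : ℂ) else 0) * conj (χ (t * l)) =
      if l = 1 then (Nat.card L : ℂ) * conj (χ t) else 0 := by
    intro l
    by_cases hl : l = 1
    · rw [if_pos hl, if_pos hl, hl, Subgroup.coe_one, mul_one]
    · rw [if_neg hl, if_neg hl, zero_mul]
  rw [Finset.sum_congr rfl fun l _ => h1 l, Finset.sum_ite_eq', if_pos (Finset.mem_univ _)]
  field_simp

/-- value at the trivial character -/
theorem vecP_one_eq (a : L → ℂ) (χ : G → ℂ) (hχ : χ = fun _ => 1) :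
    vecP t L a χ = classInner a (fun _ => 1) := by
  rw [hχ, vecP_one, Characters.Core.classInner_def]
  simp

end Linear

section Int

theorem conj_int (n : ℤ) : conj (n : ℂ) = (n : ℂ) := map_intCast _ n

/-- integrality -/
theorem exists_int [Finite G] [Fintype L] (h : Cent t L) {a : L → ℂ}
    (ha : IsGeneralizedCharacter L a) (χ : IrrCharacter G) :
    ∃ n : ℤ, vecP t L a (χ : G → ℂ) = n := by
  obtain ⟨α, β, hα, hβ, rfl⟩ := ha
  obtain ⟨π, ι, z, hs, hz, hι⟩ := Split.exists_split (H := Subgroup.centralizer ({t} : Set G))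
    h.ord_t rfl h.L_le h.t_not_mem h.cover
  have := Fintype.ofFinite (Subgroup.centralizer ({t} : Set G))
  have hχ : IsCharacter (Subgroup.centralizer ({t} : Set G)) (fun h => (χ : G → ℂ) (h : G)) :=
    Characters.Core.isCharacter_comp (Subgroup.centralizer ({t} : Set G)).subtype
      (Characters.Core.isIrr_isCharacter χ.2)
  have hιχ : IsCharacter L (fun l : L => (χ : G → ℂ) (l : G)) :=
    Characters.Core.isCharacter_comp L.subtype (Characters.Core.isIrr_isCharacter χ.2)
  have key : ∀ ρ : L → ℂ, IsCharacter L ρ → ∃ n : ℤ, vecP t L ρ (χ : G → ℂ) = n := by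
    intro ρ hρ
    have hρ' : IsCharacter (Subgroup.centralizer ({t} : Set G)) (fun k => ρ (π k)) :=
      Characters.Core.isCharacter_comp π hρ
    obtain ⟨n, hn⟩ := Characters.Core.classInner_isNat hρ' hχ
    obtain ⟨m, hm⟩ := Characters.Core.classInner_isNat hρ hιχ
    refine ⟨2 * (n : ℤ) - m, ?_⟩
    have hL : (Nat.card L : ℂ) ≠ 0 := Characters.Core.card_ne_zero_complex
    rw [Characters.Core.classInner_def, hs.sum_eq, hs.card_eq] at hn
    rw [Characters.Core.classInner_def] at hm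
    have e1 : ∑ l : L, (fun k => ρ (π k)) (ι l) * conj ((fun h : Subgroup.centralizer ({t} : Set G) =>
        (χ : G → ℂ) (h : G)) (ι l)) = ∑ l : L, ρ l * conj ((χ : G → ℂ) (l : G)) := by
      refine Finset.sum_congr rfl fun l _ => ?_
      simp only [hs.pi_iota, hι]
    have e2 : ∑ l : L, (fun k => ρ (π k)) (z * ι l) *
        conj ((fun h : Subgroup.centralizer ({t} : Set G) => (χ : G → ℂ) (h : G)) (z * ι l)) =
        ∑ l : L, ρ l * conj ((χ : G → ℂ) (t * (l : G))) := by
      refine Finset.sum_congr rfl fun l _ => ?_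
      simp only [hs.pi_z_mul, hs.pi_iota, Subgroup.coe_mul, hz, hι]
    rw [e1, e2] at hn
    unfold vecP
    push_cast at hn ⊢
    rw [← hn, ← hm]
    field_simp
    ring
  obtain ⟨n, hn⟩ := key α hα
  obtain ⟨m, hm⟩ := key β hβ
  exact ⟨n - m, by rw [vecP_sub, hn, hm]; push_cast; ring⟩

/-- the integral vector attached to a generalized character of `L` -/
noncomputable def ip (t : G) (L : Subgroup G) (a : L → ℂ) (χ : IrrCharacter G) : ℤ :=
  ⌊((Nat.card L : ℂ)⁻¹ * ∑ᶠ l : L, a l * conj ((χ : G → ℂ) (t * l))).re⌋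

theorem ip_coe [Finite G] [Fintype L] (h : Cent t L) {a : L → ℂ}
    (ha : IsGeneralizedCharacter L a) (χ : IrrCharacter G) :
    (ip t L a χ : ℂ) = vecP t L a (χ : G → ℂ) := by
  obtain ⟨n, hn⟩ := exists_int h ha χ
  have h1 : (Nat.card L : ℂ)⁻¹ * ∑ᶠ l : L, a l * conj ((χ : G → ℂ) (t * l)) = (n : ℂ) := by
    rw [finsum_eq_sum_of_fintype, ← hn, vecP]
  rw [ip, h1, hn]
  simp

theorem ip_coe_conj [Finite G] [Fintype L] (h : Cent t L) {a : L → ℂ}
    (ha : IsGeneralizedCharacter L a) (χ : IrrCharacter G) :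
    conj (vecP t L a (χ : G → ℂ)) = (ip t L a χ : ℂ) := by
  rw [← ip_coe h ha χ, conj_int]

/-- general casting lemma for dot products -/
theorem dot_of_complex {ι : Type*} [Fintype ι] {a b : ι → ℤ} {A B : ι → ℂ} {c : ℤ}
    (hA : ∀ i, (a i : ℂ) = A i) (hB : ∀ i, (b i : ℂ) = B i)
    (h : ∑ i, A i * conj (B i) = c) : a ⬝ᵥ b = c := by
  have h1 : ((a ⬝ᵥ b : ℤ) : ℂ) = c := by
    rw [← h, dotProduct]
    push_cast
    refine Finset.sum_congr rfl fun i _ => ?_
    rw [← hA, ← hB, conj_int]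
  exact_mod_cast h1

/-- general casting lemma for dot products, without conjugation -/
theorem dot_of_complex' {ι : Type*} [Fintype ι] {a b : ι → ℤ} {A B : ι → ℂ} {c : ℤ}
    (hA : ∀ i, (a i : ℂ) = A i) (hB : ∀ i, (b i : ℂ) = B i)
    (h : ∑ i, A i * B i = c) : a ⬝ᵥ b = c := by
  refine dot_of_complex hA hB ?_
  rw [← h]
  refine Finset.sum_congr rfl fun i _ => ?_
  rw [← hB, conj_int]

/-- general casting lemma for class sums -/
theorem rat_of_complex {ι : Type*} [Fintype ι] {a v d : ι → ℤ} {A V D : ι → ℂ} {c : ℚ}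
    (hA : ∀ i, (a i : ℂ) = A i) (hV : ∀ i, (v i : ℂ) = V i) (hD : ∀ i, (d i : ℂ) = D i)
    (h : ∑ i, A i * (V i ^ 2 / D i) = (c : ℂ)) :
    ∑ i, (a i : ℚ) * ((v i : ℚ) ^ 2 / d i) = c := by
  have h1 : ((∑ i, (a i : ℚ) * ((v i : ℚ) ^ 2 / d i) : ℚ) : ℂ) = (c : ℂ) := by
    rw [← h]
    push_cast
    refine Finset.sum_congr rfl fun i _ => ?_
    rw [← hA, ← hV, ← hD]
  exact_mod_cast h1

/-- scalar products of the integral vectors -/
theorem ip_dot [Finite G] [Fintype (IrrCharacter G)] [Fintype L] (h : Cent t L) {a b : L → ℂ}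
    (ha : IsGeneralizedCharacter L a) (hb : IsGeneralizedCharacter L b)
    (ha0 : ∀ l : L, Even (orderOf l) → a l = 0) (hb0 : ∀ l : L, Even (orderOf l) → b l = 0)
    {c : ℤ} (hc : 2 * classInner a b = c) : ip t L a ⬝ᵥ ip t L b = c := by
  have := Fintype.ofFinite G
  have hac : IsClassFunction L a := by
    obtain ⟨α, β, hα, hβ, rfl⟩ := ha
    intro g k
    rw [Pi.sub_apply, Pi.sub_apply, Characters.Core.isCharacter_isClassFunction hα g k,
      Characters.Core.isCharacter_isClassFunction hβ g k]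
  exact dot_of_complex (ip_coe h ha) (ip_coe h hb) ((sum_vecP_mul h hac ha0 hb0).trans hc)

/-- orthogonality to the degrees -/
theorem ip_deg [Finite G] [Fintype (IrrCharacter G)] [Fintype L] (h : Cent t L) {a : L → ℂ}
    (ha : IsGeneralizedCharacter L a) : ip t L a ⬝ᵥ (DegVal.deg : IrrCharacter G → ℤ) = 0 := by
  have := Fintype.ofFinite G
  refine dot_of_complex' (ip_coe h ha) DegVal.deg_coe ?_
  rw [sum_vecP_deg h, Int.cast_zero]

/-- value at the trivial character -/
theorem ip_one [Finite G] [Fintype L] (h : Cent t L) {a : L → ℂ}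
    (ha : IsGeneralizedCharacter L a) {χ : IrrCharacter G} (hχ : (χ : G → ℂ) = fun _ => 1)
    {c : ℤ} (hc : classInner a (fun _ => 1) = c) : ip t L a χ = c := by
  have h1 : (ip t L a χ : ℂ) = c := by
    rw [ip_coe h ha, vecP_one_eq a _ hχ, hc]
  exact_mod_cast h1

/-- decomposition of `val` from a decomposition of a multiple of the regular character -/
theorem mul_val_eq [Finite G] [Fintype L] (h : Cent t L) {I : Type*} (s : Finset I) (n : ℤ)
    (c : I → ℤ) (a : I → L → ℂ) (ha : ∀ i ∈ s, IsGeneralizedCharacter L (a i))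
    (h1 : ∑ i ∈ s, (c i : ℂ) * a i 1 = n * (Nat.card L : ℂ))
    (h2 : ∀ l : L, l ≠ 1 → ∑ i ∈ s, (c i : ℂ) * a i l = 0) (χ : IrrCharacter G) :
    n * DegVal.val t χ = ∑ i ∈ s, c i * ip t L (a i) χ := by
  classical
  have e1 : vecP t L (∑ i ∈ s, (c i : ℂ) • a i) (χ : G → ℂ) =
      ∑ i ∈ s, (c i : ℂ) * vecP t L (a i) (χ : G → ℂ) := by
    rw [vecP_sum]
    exact Finset.sum_congr rfl fun i _ => vecP_smul _ _ _
  have e2 : vecP t L (∑ i ∈ s, (c i : ℂ) • a i) (χ : G → ℂ) = n * conj ((χ : G → ℂ) t) := by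
    rw [← vecP_reg (L := L), ← vecP_mul_left]
    refine vecP_congr (fun l => ?_) _
    rw [Finset.sum_apply]
    simp only [Pi.smul_apply, smul_eq_mul]
    by_cases hl : l = 1
    · rw [hl, h1, if_pos rfl]
    · rw [h2 l hl, if_neg hl, mul_zero]
  have e3 : ((n * DegVal.val t χ : ℤ) : ℂ) = ((∑ i ∈ s, c i * ip t L (a i) χ : ℤ) : ℂ) := by
    push_cast
    rw [← conj_int (DegVal.val t χ), DegVal.val_coe h.ord_t, ← e2, e1]
    exact Finset.sum_congr rfl fun i hi => by rw [ip_coe h (ha i hi)]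
  exact_mod_cast e3

/-- class equation: `∑ ip(a) val² / deg = 8 |L| / |G| * ∑ a φ`, where `φ(l)` is the number of pairs of involutions of
`G` with product `l` -/
theorem ip_class [Finite G] [Fintype (IrrCharacter G)] [Fintype L] (h : Cent t L)
    (hconj : ∀ u v : G, orderOf u = 2 → orderOf v = 2 → IsConj u v) {a : L → ℂ}
    (ha : IsGeneralizedCharacter L a) (ha0 : ∀ l : L, Even (orderOf l) → a l = 0) {c : ℚ}
    (hc : 8 * (Nat.card L : ℂ) / (Nat.card G : ℂ) * ∑ l : L, a l * (ClassSum.phi l : ℂ) = c) :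
    ∑ χ : IrrCharacter G, (ip t L a χ : ℚ) * ((DegVal.val t χ : ℚ) ^ 2 / DegVal.deg χ) = c := by
  have := Fintype.ofFinite G
  refine rat_of_complex (ip_coe h ha) (DegVal.val_coe h.ord_t) DegVal.deg_coe ?_
  rw [← hc]
  refine ClassSum.class_vec hconj h.ord_t h.L_le h.t_not_mem h.cover a ?_ _ fun χ => rfl
  intro l hl
  exact ha0 l (even_iff_two_dvd.2 hl)

end Int

end Cfsg.Agent.Ree.VecInt
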