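import Mathlib
import Cfsg.Agent.Ree.Del
import Cfsg.Agent.Ree.VecInt

/-!
# S0343: the vectors `Del`, scalar products with the vectors `vecP`, action of `ρ`, congruence modulo `m`
-/

set_option autoImplicit false

open scoped ComplexConjugate
open Cfsg Cfsg.Agent.Ree.VecDef Cfsg.Agent.Ree.VecP Cfsg.Agent.Ree.DelLoc Cfsg.Agent.Ree.Del Subgroup

namespace Cfsg.Agent.Ree.Del2

universe u
variable {G : Type u} [Group G] {t z ρ s : G} {L V Y : Subgroup G}

section count

/-- weighted number of conjugates of `t y` in `t L` -/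
theorem sum_count [Fintype G] [Fintype L] (h : Cent t L) {a : L → ℂ} (ha : IsClassFunction L a)
    (ha0 : ∀ l : L, Even (orderOf l) → a l = 0) (y : L) {N : ℕ} (hN : Odd N) (hy : y ^ N = 1) :
    ∑ l : L, a l * (Nat.card {g : G // g * (t * y) * g⁻¹ = t * l} : ℂ) =
      2 * (Nat.card L : ℂ) * a y := by
  classical
  have hp' : (y : G) ^ N = 1 := by exact_mod_cast congrArg Subtype.val hy
  have h2 : ∀ l : L, a l * (Nat.card {g : G // g * (t * y) * g⁻¹ = t * l} : ℂ) =
      a l * (2 * ∑ k : L, if k * y * k⁻¹ = l then (1 : ℂ) else 0) := by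
    intro l
    by_cases hl : Even (orderOf l)
    · rw [ha0 l hl]; ring
    congr 1
    have hodd : Odd (orderOf l * N) := (Nat.not_even_iff_odd.1 hl).mul hN
    have hp : (l : G) ^ (orderOf l * N) = 1 := by
      rw [pow_mul]
      have : (l : G) ^ orderOf l = 1 := by exact_mod_cast congrArg Subtype.val (pow_orderOf_eq_one l)
      rw [this, one_pow]
    have hq : (y : G) ^ (orderOf l * N) = 1 := by
      rw [mul_comm, pow_mul, hp', one_pow]
    have e1 : (Nat.card {g : G // g * (t * y) * g⁻¹ = t * l} : ℂ) =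
        ∑ g ∈ Finset.univ.filter (fun g : G => g * t = t * g),
          if g * y * g⁻¹ = l then (1 : ℂ) else 0 := by
      rw [Nat.card_eq_fintype_card, Fintype.card_subtype, Finset.sum_ite, Finset.sum_const_zero,
        add_zero, Finset.sum_const, nsmul_eq_mul, mul_one, Finset.filter_filter]
      congr 2
      ext g
      simp only [Finset.mem_filter, Finset.mem_univ, true_and]
      constructor
      · intro hg
        exact h.split l.2 y.2 hodd hp hq hg
      · rintro ⟨hg1, hg2⟩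
        calc g * (t * y) * g⁻¹ = (g * t) * g⁻¹ * (g * y * g⁻¹) := by group
          _ = t * l := by rw [hg1, hg2]; group
    rw [e1, h.sum_cent, Finset.mul_sum]
    refine Finset.sum_congr rfl fun k _ => ?_
    have e2 : (t * (k : G)) * y * (t * (k : G))⁻¹ = k * y * (k : G)⁻¹ := by
      have hk' : t * ((k : G) * y * (k : G)⁻¹) = ((k : G) * y * (k : G)⁻¹) * t :=
        h.comm (L.mul_mem (L.mul_mem k.2 y.2) (L.inv_mem k.2))
      calc (t * (k : G)) * y * (t * (k : G))⁻¹ = t * ((k : G) * y * (k : G)⁻¹) * t⁻¹ := by group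
        _ = _ := by rw [hk']; group
    have e3 : ((k : G) * y * (k : G)⁻¹ = l) ↔ k * y * k⁻¹ = l := by
      rw [Subtype.ext_iff]
      simp
    rw [e2]
    simp only [e3]
    split_ifs <;> norm_num
  simp only [h2, Finset.mul_sum, mul_ite, mul_one, mul_zero]
  rw [Finset.sum_comm]
  simp only [Finset.sum_ite_eq, Finset.mem_univ, if_true]
  have : ∀ k : L, a (k * y * k⁻¹) = a y := fun k => ha y k
  simp only [this, Finset.sum_const, Finset.card_univ, nsmul_eq_mul, Nat.card_eq_fintype_card]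
  ring

/-- the same for `1 * y` -/
theorem sum_count_one [Fintype G] [Fintype L] (h : Cent t L) {a : L → ℂ}
    (ha0 : ∀ l : L, Even (orderOf l) → a l = 0) {y : G} {N : ℕ} (hN : Odd N) (hy : y ^ N = 1) :
    ∑ l : L, a l * (Nat.card {g : G // g * (1 * y) * g⁻¹ = t * l} : ℂ) = 0 := by
  apply Finset.sum_eq_zero
  intro l _
  by_cases hl : Even (orderOf l)
  · rw [ha0 l hl, zero_mul]
  have : IsEmpty {g : G // g * (1 * y) * g⁻¹ = t * l} := by
    refine ⟨fun g => h.t_ne ?_⟩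
    have hodd : Odd (orderOf l * N) := (Nat.not_even_iff_odd.1 hl).mul hN
    have hp : (l : G) ^ (orderOf l * N) = 1 := by
      rw [pow_mul]
      have : (l : G) ^ orderOf l = 1 := by exact_mod_cast congrArg Subtype.val (pow_orderOf_eq_one l)
      rw [this, one_pow]
    have e1 : (t * (l : G)) ^ (orderOf l * N) = t := by
      rw [(show Commute t (l : G) from h.comm l.2).mul_pow, hp, mul_one, h.t_pow_odd hodd]
    obtain ⟨g, e2⟩ := g
    have e3 : g * y * g⁻¹ = t * l := by rw [← e2, one_mul]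
    rw [← e1, ← e3, conj_pow, mul_comm (orderOf l) N, pow_mul, hy, one_pow, mul_one, mul_inv_cancel]
  rw [Nat.card_eq_zero.2 (Or.inl this), Nat.cast_zero, mul_zero]

/-- the same for an involution `v = r t r⁻¹` of `V` -/
theorem sum_count_conj [Fintype G] [Fintype L] (h : Cent t L) {a : L → ℂ} (ha : IsClassFunction L a)
    (ha0 : ∀ l : L, Even (orderOf l) → a l = 0) {r v y : G} (hr : r * t * r⁻¹ = v)
    (hy' : r⁻¹ * y * r ∈ L) {N : ℕ} (hN : Odd N) (hy : y ^ N = 1) :
    ∑ l : L, a l * (Nat.card {g : G // g * (v * y) * g⁻¹ = t * l} : ℂ) =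
      2 * (Nat.card L : ℂ) * a ⟨r⁻¹ * y * r, hy'⟩ := by
  have hy2 : (⟨r⁻¹ * y * r, hy'⟩ : L) ^ N = 1 := by
    apply Subtype.ext
    simp only [SubmonoidClass.coe_pow, OneMemClass.coe_one]
    have : r⁻¹ * y * r = r⁻¹ * y * (r⁻¹)⁻¹ := by rw [inv_inv]
    rw [this, conj_pow, hy, mul_one, mul_inv_cancel]
  rw [← sum_count h ha ha0 _ hN hy2]
  refine Finset.sum_congr rfl fun l _ => ?_
  congr 2
  apply Nat.card_congr
  refine ⟨fun g => ⟨g.1 * r, ?_⟩, fun g => ⟨g.1 * r⁻¹, ?_⟩, ?_, ?_⟩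
  · obtain ⟨g, hg⟩ := g
    show g * r * (t * (r⁻¹ * y * r)) * (g * r)⁻¹ = t * l
    rw [← hg, ← hr]; group
  · obtain ⟨g, hg⟩ := g
    show g * r⁻¹ * (v * y) * (g * r⁻¹)⁻¹ = t * l
    rw [← hg, ← hr]
    show g * r⁻¹ * (r * t * r⁻¹ * y) * (g * r⁻¹)⁻¹ = g * (t * (r⁻¹ * y * r)) * g⁻¹
    group
  · intro g; apply Subtype.ext; simp
  · intro g; apply Subtype.ext; simp

end count

/-- sums over `V` -/
theorem sum_V [Fintype V] (h : Loc t z ρ s V Y) (f : V → ℂ) :
    ∑ v : V, f v = f 1 + f ⟨t, h.t_mem⟩ + f ⟨z, h.z_mem⟩ + f ⟨t * z, V.mul_mem h.t_mem h.z_mem⟩ := by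
  classical
  have htz1 : t * z ≠ 1 := by
    intro h1
    apply h.z_ne_t
    exact mul_left_cancel (h1.trans h.tt.symm)
  have htz2 : t * z ≠ t := fun h1 => h.z_ne_one (mul_left_cancel (h1.trans (mul_one t).symm))
  have htz3 : t * z ≠ z := fun h1 => h.t_ne (mul_right_cancel (h1.trans (one_mul z).symm))
  have e1 : (1 : V) ∉ ({⟨t, h.t_mem⟩, ⟨z, h.z_mem⟩, ⟨t * z, V.mul_mem h.t_mem h.z_mem⟩} : Finset V) := by
    simp only [Finset.mem_insert, Finset.mem_singleton, Subtype.ext_iff, OneMemClass.coe_one]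
    rintro (h1 | h1 | h1)
    · exact h.t_ne h1.symm
    · exact h.z_ne_one h1.symm
    · exact htz1 h1.symm
  have e2 : (⟨t, h.t_mem⟩ : V) ∉ ({⟨z, h.z_mem⟩, ⟨t * z, V.mul_mem h.t_mem h.z_mem⟩} : Finset V) := by
    simp only [Finset.mem_insert, Finset.mem_singleton, Subtype.ext_iff]
    rintro (h1 | h1)
    · exact h.z_ne_t h1.symm
    · exact htz2 h1.symm
  have e3 : (⟨z, h.z_mem⟩ : V) ∉ ({⟨t * z, V.mul_mem h.t_mem h.z_mem⟩} : Finset V) := by
    simp only [Finset.mem_singleton, Subtype.ext_iff]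
    exact fun h1 => htz3 h1.symm
  have hS : (Finset.univ : Finset V) =
      {1, ⟨t, h.t_mem⟩, ⟨z, h.z_mem⟩, ⟨t * z, V.mul_mem h.t_mem h.z_mem⟩} := by
    ext v
    simp only [Finset.mem_univ, Finset.mem_insert, Finset.mem_singleton, true_iff, Subtype.ext_iff]
    exact h.V_cases v v.2
  rw [hS, Finset.sum_insert e1, Finset.sum_insert e2, Finset.sum_insert e3, Finset.sum_singleton]
  ring

theorem alpha_z (h : Loc t z ρ s V Y) : (Del.alpha h ⟨z, h.z_mem⟩ : ℂ) = -1 := by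
  rcases alpha_one_or h ⟨z, h.z_mem⟩ with ⟨_, h1 | h1⟩ | ⟨h1, _⟩
  · exact absurd h1 h.z_ne_one
  · exact absurd h1 h.z_ne_t
  · rw [h1]; simp

theorem alpha_tz (h : Loc t z ρ s V Y) :
    (Del.alpha h ⟨t * z, V.mul_mem h.t_mem h.z_mem⟩ : ℂ) = -1 := by
  have : (⟨t * z, V.mul_mem h.t_mem h.z_mem⟩ : V) = ⟨t, h.t_mem⟩ * ⟨z, h.z_mem⟩ := rfl
  rw [this, map_mul, alpha_t, one_mul, alpha_z]

theorem ρ_sq (h : Loc t z ρ s V Y) : ρ * ρ ∈ normalizer (V : Set G) := mul_mem h.ρ_norm h.ρ_norm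

/-- the building blocks of the scalar products -/
noncomputable def D [Fintype Y] (h : Loc t z ρ s V Y) (hYL : Y ≤ L) (a : L → ℂ) (b : NT Y) (g : G)
    (hg : g ∈ normalizer (V : Set G)) : ℂ :=
  ∑ y : Y, conj (1 - (b.1 (cY h g hg y) : ℂ)) * a ⟨y, hYL y.2⟩

theorem sum_S [Fintype G] [Fintype L] [Fintype Y] (hC : Cent t L) (h : Loc t z ρ s V Y)
    (hYL : Y ≤ L) {a : L → ℂ} (ha : IsClassFunction L a)
    (ha0 : ∀ l : L, Even (orderOf l) → a l = 0) (b : NT Y) {r v : G}
    (hrN : r ∈ normalizer (V : Set G)) (hr : r * t * r⁻¹ = v) :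
    ∑ y : Y, conj (1 - (b.1 y : ℂ)) *
      ∑ l : L, a l * (Nat.card {g : G // g * (v * y) * g⁻¹ = t * l} : ℂ) =
      2 * (Nat.card L : ℂ) * D h hYL a b r hrN := by
  unfold D
  rw [Finset.mul_sum]
  symm
  refine Fintype.sum_equiv (cY h r hrN).toEquiv _ _ fun y => ?_
  have hmem : r⁻¹ * (cY h r hrN y : Y) * r ∈ L := by
    rw [cY_apply]
    have : r⁻¹ * (r * y * r⁻¹) * r = y := by group
    rw [this]
    exact hYL y.2
  have hp : ((cY h r hrN y : Y) : G) ^ (Nat.card Y) = 1 := by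
    have : (cY h r hrN y) ^ (Nat.card Y) = 1 := pow_card_eq_one'
    exact_mod_cast congrArg Subtype.val this
  have e := sum_count_conj hC ha ha0 (y := ((cY h r hrN y : Y) : G)) hr hmem h.odd_Y hp
  have e2 : (⟨r⁻¹ * (cY h r hrN y : Y) * r, hmem⟩ : L) = ⟨y, hYL y.2⟩ := by
    apply Subtype.ext
    simp only [cY_apply]
    group
  rw [e2] at e
  simp only [MulEquiv.toEquiv_eq_coe, EquivLike.coe_coe] at e ⊢
  rw [e]
  ring

theorem sum_S_one [Fintype G] [Fintype L] [Fintype Y] (hC : Cent t L) (h : Loc t z ρ s V Y)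
    {a : L → ℂ} (ha0 : ∀ l : L, Even (orderOf l) → a l = 0) (b : NT Y) :
    ∑ y : Y, conj (1 - (b.1 y : ℂ)) *
      ∑ l : L, a l * (Nat.card {g : G // g * (1 * y) * g⁻¹ = t * l} : ℂ) = 0 := by
  apply Finset.sum_eq_zero
  intro y _
  have hp : (y : G) ^ (Nat.card Y) = 1 := by
    have : y ^ (Nat.card Y) = 1 := pow_card_eq_one'
    exact_mod_cast congrArg Subtype.val this
  rw [sum_count_one hC ha0 h.odd_Y hp, mul_zero]

/-- scalar products of the vectors `vecP` and `del` -/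
theorem sum_vecP_del [Fintype G] [Fintype (IrrCharacter G)] [Fintype L] [Fintype V] [Fintype Y]
    (hC : Cent t L) (h : Loc t z ρ s V Y)
    (hYL : Y ≤ L) {a : L → ℂ} (ha : IsClassFunction L a)
    (ha0 : ∀ l : L, Even (orderOf l) → a l = 0) (b : NT Y) :
    ∑ χ : IrrCharacter G, vecP t L a (χ : G → ℂ) * conj (del h b (χ : G → ℂ)) =
      (2 * (Nat.card Y : ℂ))⁻¹ * (D h hYL a b 1 (one_mem _) - D h hYL a b ρ h.ρ_norm -
        D h hYL a b (ρ * ρ) (ρ_sq h)) := by
  classical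
  have hL : (Nat.card L : ℂ) ≠ 0 := by exact_mod_cast Nat.card_pos.ne'
  have hm : (Nat.card Y : ℂ) ≠ 0 := by exact_mod_cast Nat.card_pos.ne'
  have h1 := sum_vec_mul (G := G) (c := fun l : L => a l) (x := fun l : L => t * l)
    (d := fun p : V × Y => (Del.alpha h p.1 : ℂ) * (1 - (b.1 p.2 : ℂ)))
    (y := fun p : V × Y => (p.1 : G) * p.2)
  have h2 : ∑ l : L, ∑ p : V × Y, a l * conj ((Del.alpha h p.1 : ℂ) * (1 - (b.1 p.2 : ℂ))) *
      (Nat.card {g : G // g * ((p.1 : G) * p.2) * g⁻¹ = t * l} : ℂ) =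
      2 * (Nat.card L : ℂ) * (D h hYL a b 1 (one_mem _) - D h hYL a b ρ h.ρ_norm -
        D h hYL a b (ρ * ρ) (ρ_sq h)) := by
    rw [Finset.sum_comm, Fintype.sum_prod_type]
    have e1 : ∀ v : V, ∑ y : Y, ∑ l : L, a l * conj ((Del.alpha h v : ℂ) * (1 - (b.1 y : ℂ))) *
        (Nat.card {g : G // g * ((v : G) * y) * g⁻¹ = t * l} : ℂ) =
        (Del.alpha h v : ℂ) * ∑ y : Y, conj (1 - (b.1 y : ℂ)) *
          ∑ l : L, a l * (Nat.card {g : G // g * ((v : G) * y) * g⁻¹ = t * l} : ℂ) := by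
      intro v
      rw [Finset.mul_sum]
      refine Finset.sum_congr rfl fun y _ => ?_
      rw [Finset.mul_sum, Finset.mul_sum]
      refine Finset.sum_congr rfl fun l _ => ?_
      rw [map_mul, conj_alpha]
      ring
    calc _ = ∑ v : V, (Del.alpha h v : ℂ) * ∑ y : Y, conj (1 - (b.1 y : ℂ)) *
          ∑ l : L, a l * (Nat.card {g : G // g * ((v : G) * y) * g⁻¹ = t * l} : ℂ) :=
          Finset.sum_congr rfl fun v _ => e1 v
      _ = _ := by
          rw [sum_V h, alpha_z, alpha_tz, alpha_t, map_one]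
          simp only [Subgroup.coe_one]
          rw [sum_S_one hC h ha0 b,
            sum_S hC h hYL ha ha0 b (r := 1) (one_mem _) (by group : 1 * t * 1⁻¹ = t),
            sum_S hC h hYL ha ha0 b h.ρ_norm h.ρ_t,
            sum_S hC h hYL ha ha0 b (ρ_sq h) (v := t * z)]
          · simp only [Units.val_one]; ring
          · rw [← h.ρ_z, ← h.ρ_t]; group
  rw [h2] at h1
  have h4 : ∀ χ : IrrCharacter G, vecP t L a (χ : G → ℂ) * conj (del h b (χ : G → ℂ)) =
      ((Nat.card L : ℂ)⁻¹ * (4 * (Nat.card Y : ℂ))⁻¹) *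
      ((∑ l : L, a l * conj ((χ : G → ℂ) (t * l))) *
        conj (∑ p : V × Y, ((Del.alpha h p.1 : ℂ) * (1 - (b.1 p.2 : ℂ))) *
          conj ((χ : G → ℂ) ((p.1 : G) * p.2)))) := by
    intro χ
    unfold vecP del vecD
    rw [map_mul, map_inv₀, map_mul, Complex.conj_natCast, Complex.conj_natCast, h.card_V]
    push_cast
    ring
  simp only [h4]
  rw [← Finset.mul_sum, h1]
  field_simp
  ring

section values

/-- `b ∘ (conjugation by g)` -/
def conjNT (h : Loc t z ρ s V Y) (g : G) (hg : g ∈ normalizer (V : Set G)) (b : NT Y) : NT Y :=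
  ⟨b.1.comp (cY h g hg).toMonoidHom, fun h0 => b.2 (by
    ext y
    have h1 := DFunLike.congr_fun h0 ((cY h g hg).symm y)
    have h2 : b.1 (cY h g hg ((cY h g hg).symm y)) = 1 := h1
    rw [MulEquiv.apply_symm_apply] at h2
    rw [h2]; rfl)⟩

theorem conjNT_apply (h : Loc t z ρ s V Y) (g : G) (hg : g ∈ normalizer (V : Set G)) (b : NT Y)
    (y : Y) : (conjNT h g hg b).1 y = b.1 (cY h g hg y) := rfl

theorem conj_val [Finite Y] (b : NT Y) (y : Y) :
    conj (b.1 y : ℂ) = ((invNT b).1 y : ℂ) := by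
  rw [Cfsg.Agent.OddOrderCharacters.CyclicTI.conj_hom_apply, invNT_val, MonoidHom.inv_apply,
    Units.val_inv_eq_inv_val]

theorem D_const [Fintype Y] (h : Loc t z ρ s V Y) (hYL : Y ≤ L) {a : L → ℂ} {κ : ℂ}
    (haY : ∀ y : Y, y ≠ 1 → a ⟨y, hYL y.2⟩ = κ) (b : NT Y) (g : G)
    (hg : g ∈ normalizer (V : Set G)) : D h hYL a b g hg = κ * Nat.card Y := by
  unfold D
  have h1 : ∀ y : Y, conj (1 - (b.1 (cY h g hg y) : ℂ)) * a ⟨y, hYL y.2⟩ =
      κ - κ * conj ((conjNT h g hg b).1 y : ℂ) := by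
    intro y
    by_cases hy : y = 1
    · rw [hy, map_one, map_one, map_one]; simp
    · rw [haY y hy, conjNT_apply, map_sub, map_one]; ring
  rw [Finset.sum_congr rfl fun y _ => h1 y, Finset.sum_sub_distrib, ← Finset.mul_sum, ← map_sum,
    sum_nt, map_zero, mul_zero, sub_zero, Finset.sum_const, Finset.card_univ, nsmul_eq_mul,
    Nat.card_eq_fintype_card, mul_comm]

open Classical in
theorem D_pair [Fintype Y] (h : Loc t z ρ s V Y) (hYL : Y ≤ L) {a : L → ℂ} {κ : ℂ} {b' : NT Y}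
    (haY : ∀ y : Y, y ≠ 1 → a ⟨y, hYL y.2⟩ = κ * ((b'.1 y : ℂ) + conj (b'.1 y : ℂ))) (b : NT Y)
    (g : G) (hg : g ∈ normalizer (V : Set G)) :
    D h hYL a b g hg = -κ * Nat.card Y * (if cls (conjNT h g hg b) = cls b' then 1 else 0) := by
  unfold D
  set c := conjNT h g hg b with hc
  have h1 : ∀ y : Y, conj (1 - (b.1 (cY h g hg y) : ℂ)) * a ⟨y, hYL y.2⟩ =
      κ * (b'.1 y : ℂ) + κ * ((invNT b').1 y : ℂ) - κ * ((b'.1 y : ℂ) * conj (c.1 y : ℂ)) -
      κ * (((invNT b').1 y : ℂ) * conj (c.1 y : ℂ)) := by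
    intro y
    by_cases hy : y = 1
    · rw [hy, map_one, map_one, map_one, map_one, map_one]; simp
    · rw [haY y hy, hc, conjNT_apply, map_sub, map_one, conj_val b' y]; ring
  have hodd := h.odd_Y
  have e1 := sum_hom_mul_conj (Y := Y) b'.1 c.1
  have e2 := sum_hom_mul_conj (Y := Y) (invNT b').1 c.1
  rw [Finset.sum_congr rfl fun y _ => h1 y, Finset.sum_sub_distrib, Finset.sum_sub_distrib,
    Finset.sum_add_distrib, ← Finset.mul_sum, ← Finset.mul_sum, ← Finset.mul_sum, ← Finset.mul_sum,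
    sum_nt, sum_nt, e1, e2]
  have hne : invNT b' ≠ b' := invNT_ne hodd b'
  by_cases hcc : cls c = cls b'
  · rw [if_pos hcc]
    rcases (cls_eq_iff c b').1 hcc with e | e
    · rw [e] at hne
      rw [e, if_pos rfl, if_neg (fun h0 => hne (Subtype.ext h0))]
      ring
    · rw [e, invNT_invNT, if_pos rfl, if_neg]
      · ring
      · intro h0
        apply hne
        rw [e, invNT_invNT]
        exact Subtype.ext h0.symm
  · rw [if_neg hcc, if_neg, if_neg]
    · ring
    · intro h0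
      apply hcc
      rw [← cls_inv b']
      congr 1
      exact (Subtype.ext h0).symm
    · intro h0
      apply hcc
      congr 1
      exact (Subtype.ext h0).symm

end values

section rho

/-- the action of `ρ` on nontrivial characters modulo inversion -/
noncomputable def rho (h : Loc t z ρ s V Y) (c : BT Y) : BT Y :=
  cls (conjNT h ρ h.ρ_norm (cls_surj c).choose)

theorem conjNT_inv (h : Loc t z ρ s V Y) (g : G) (hg : g ∈ normalizer (V : Set G)) (b : NT Y) :
    conjNT h g hg (invNT b) = invNT (conjNT h g hg b) := by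
  apply Subtype.ext
  ext y
  rfl

theorem cls_conjNT (h : Loc t z ρ s V Y) (g : G) (hg : g ∈ normalizer (V : Set G)) {b b' : NT Y}
    (hb : cls b = cls b') : cls (conjNT h g hg b) = cls (conjNT h g hg b') := by
  rcases (cls_eq_iff b b').1 hb with e | e
  · rw [e]
  · rw [e, conjNT_inv, cls_inv]

theorem rho_cls (h : Loc t z ρ s V Y) (b : NT Y) :
    rho h (cls b) = cls (conjNT h ρ h.ρ_norm b) :=
  cls_conjNT h ρ h.ρ_norm (cls_surj (cls b)).choose_spec

theorem conjNT_mul (h : Loc t z ρ s V Y) {g g' : G} (hg : g ∈ normalizer (V : Set G))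
    (hg' : g' ∈ normalizer (V : Set G)) (b : NT Y) :
    conjNT h g' hg' (conjNT h g hg b) = conjNT h (g * g') (mul_mem hg hg') b := by
  apply Subtype.ext
  ext y
  rw [conjNT_apply, conjNT_apply, conjNT_apply]
  congr 2
  apply Subtype.ext
  rw [cY_apply, cY_apply, cY_apply]
  group

theorem conjNT_one (h : Loc t z ρ s V Y) (b : NT Y) : conjNT h 1 (one_mem _) b = b := by
  apply Subtype.ext
  ext y
  rw [conjNT_apply]
  congr 2
  apply Subtype.ext
  rw [cY_apply]
  group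

theorem rho_two (h : Loc t z ρ s V Y) (b : NT Y) :
    rho h (rho h (cls b)) = cls (conjNT h (ρ * ρ) (ρ_sq h) b) := by
  rw [rho_cls, rho_cls, conjNT_mul]

theorem conjNT_cent (h : Loc t z ρ s V Y) {g : G} (hg : g ∈ centralizer (V : Set G)) (b : NT Y) :
    cls (conjNT h g (mem_norm_of_cent hg) b) = cls b := by
  rcases h.cent_cases g hg with h1 | h1
  · congr 1
    apply Subtype.ext
    ext y
    rw [conjNT_apply]
    congr 2
    apply Subtype.ext
    rw [cY_apply]
    exact conj_of_sup h h1 y.2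
  · rw [← cls_inv b]
    congr 1
    apply Subtype.ext
    ext y
    rw [conjNT_apply, invNT_val, MonoidHom.inv_apply, ← map_inv]
    congr 2
    apply Subtype.ext
    rw [cY_apply]
    have h1 := conj_of_sup h h1 y.2
    have h2 : g * y * g⁻¹ = s⁻¹ * y * s := by
      calc g * y * g⁻¹ = s⁻¹ * ((s * g) * y * (s * g)⁻¹) * s := by group
        _ = _ := by rw [h1]
    rw [h2]
    have h3 := h.s_Y _ (Y.inv_mem y.2)
    rw [inv_inv] at h3
    rw [← h3]
    push_cast
    group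

theorem rho_three (h : Loc t z ρ s V Y) (c : BT Y) : rho h (rho h (rho h c)) = c := by
  obtain ⟨b, rfl⟩ := cls_surj c
  rw [rho_two, rho_cls, conjNT_mul]
  have hc : ρ * ρ * ρ ∈ centralizer (V : Set G) := by
    have := h.ρ_cube
    rwa [pow_three'] at this
  exact conjNT_cent h hc b

theorem Y_mul_comm (h : Loc t z ρ s V Y) (a b : Y) : a * b = b * a :=
  Subtype.ext (h.Y_comm a a.2 b b.2)

theorem rho_ne [Finite Y] (h : Loc t z ρ s V Y) (c : BT Y) : rho h c ≠ c := by
  obtain ⟨b, rfl⟩ := cls_surj c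
  rw [rho_cls]
  intro he
  rcases (cls_eq_iff _ _).1 he with e | e
  · let φ : Y → Y := fun y => cY h ρ h.ρ_norm y * y⁻¹
    have hφ : Function.Injective φ := by
      intro y y' hyy
      have h0 : cY h ρ h.ρ_norm y * y⁻¹ = cY h ρ h.ρ_norm y' * y'⁻¹ := hyy
      have h1 : cY h ρ h.ρ_norm (y'⁻¹ * y) = y'⁻¹ * y := by
        rw [map_mul, map_inv, eq_comm, eq_inv_mul_iff_mul_eq]
        calc cY h ρ h.ρ_norm y' * (y'⁻¹ * y) = (cY h ρ h.ρ_norm y' * y'⁻¹) * y := by group
          _ = cY h ρ h.ρ_norm y := by rw [← h0]; group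
      by_contra hne
      have h2 : y'⁻¹ * y ≠ 1 := fun h3 => hne (inv_mul_eq_one.1 h3).symm
      have h3 := congrArg Subtype.val h1
      rw [cY_apply] at h3
      exact h.ρ_ne _ (y'⁻¹ * y).2 (fun h4 => h2 (Subtype.ext h4)) h3
    have hs : Function.Surjective φ := Finite.surjective_of_injective hφ
    refine b.2 (MonoidHom.ext fun w => ?_)
    obtain ⟨y, rfl⟩ := hs w
    have h1 := DFunLike.congr_fun (congrArg Subtype.val e) y
    rw [conjNT_apply] at h1
    show b.1 (cY h ρ h.ρ_norm y * y⁻¹) = 1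
    rw [map_mul, map_inv, ← h1, mul_inv_cancel]
  · let φ : Y → Y := fun y => cY h ρ h.ρ_norm y * y
    have hφ : Function.Injective φ := by
      intro y y' hyy
      have h0 : cY h ρ h.ρ_norm y * y = cY h ρ h.ρ_norm y' * y' := hyy
      have h1 : cY h ρ h.ρ_norm (y'⁻¹ * y) = (y'⁻¹ * y)⁻¹ := by
        rw [map_mul, map_inv, inv_mul_eq_iff_eq_mul, mul_inv_rev, inv_inv]
        calc cY h ρ h.ρ_norm y = (cY h ρ h.ρ_norm y * y) * y⁻¹ := by group
          _ = (cY h ρ h.ρ_norm y' * y') * y⁻¹ := by rw [h0]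
          _ = cY h ρ h.ρ_norm y' * (y' * y⁻¹) := by group
          _ = cY h ρ h.ρ_norm y' * (y⁻¹ * y') := by rw [Y_mul_comm h y']
      by_contra hne
      have h2 : y'⁻¹ * y ≠ 1 := fun h3 => hne (inv_mul_eq_one.1 h3).symm
      have h3 := congrArg Subtype.val h1
      rw [cY_apply] at h3
      exact h.ρ_ne_inv _ (y'⁻¹ * y).2 (fun h4 => h2 (Subtype.ext h4)) h3
    have hs : Function.Surjective φ := Finite.surjective_of_injective hφ
    refine b.2 (MonoidHom.ext fun w => ?_)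
    obtain ⟨y, rfl⟩ := hs w
    have h1 := DFunLike.congr_fun (congrArg Subtype.val e) y
    rw [invNT_val, MonoidHom.inv_apply, conjNT_apply] at h1
    show b.1 (cY h ρ h.ρ_norm y * y) = 1
    rw [map_mul, h1, mul_inv_cancel]

end rho

end Cfsg.Agent.Ree.Del2
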