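import Mathlib
import Cfsg.Agent.Ree.Del2
import Cfsg.Agent.Ree.VecInt
import Cfsg.Agent.Classification.BSW.Theta

/-!
# S0343: the integral vectors `Del`

`dz h c χ : ℤ` for `c : BT Y` is the integer `del h b χ`, `c = cls b`.
-/

set_option autoImplicit false

open scoped ComplexConjugate
open Matrix
open Cfsg Cfsg.Agent.Ree.VecDef Cfsg.Agent.Ree.VecP Cfsg.Agent.Ree.VecInt Cfsg.Agent.Ree.DelLoc
  Cfsg.Agent.Ree.Del Cfsg.Agent.Ree.Del2 Subgroup

namespace Cfsg.Agent.Ree.Del3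

universe u
variable {G : Type u} [Group G] {t z ρ s : G} {L V Y : Subgroup G}

theorem irr_class [Finite G] (χ : IrrCharacter G) : IsClassFunction G (χ : G → ℂ) :=
  Cfsg.Agent.Characters.Core.isCharacter_isClassFunction
    (Cfsg.Agent.Characters.Core.isIrr_isCharacter χ.2)

theorem del_cls [Finite G] [Fintype V] [Fintype Y] (h : Loc t z ρ s V Y) {b b' : NT Y}
    (hb : cls b = cls b') (χ : IrrCharacter G) :
    del h b (χ : G → ℂ) = del h b' (χ : G → ℂ) := by
  rcases (cls_eq_iff b b').1 hb with e | e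
  · rw [e]
  · rw [e, del_inv h b (irr_class χ)]

/-- the integral vector `Del c` -/
noncomputable def dz [Fintype V] [Fintype Y] (h : Loc t z ρ s V Y) (c : BT Y)
    (χ : IrrCharacter G) : ℤ :=
  ⌊(del h (cls_surj c).choose (χ : G → ℂ)).re⌋

theorem dz_coe [Finite G] [Fintype V] [Fintype Y] (h : Loc t z ρ s V Y) (b : NT Y)
    (χ : IrrCharacter G) : (dz h (cls b) χ : ℂ) = del h b (χ : G → ℂ) := by
  rw [dz, del_cls h (cls_surj (cls b)).choose_spec χ]
  obtain ⟨n, hn⟩ := exists_int_del h b χ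
  rw [hn]
  simp

theorem dz_one [Finite G] [Fintype V] [Fintype Y] (h : Loc t z ρ s V Y) (c : BT Y)
    {χ : IrrCharacter G} (hχ : (χ : G → ℂ) = fun _ => 1) : dz h c χ = 0 := by
  obtain ⟨b, rfl⟩ := cls_surj c
  have h1 := dz_coe h b χ
  rw [hχ, del_one_eq] at h1
  exact_mod_cast h1

theorem dz_deg [Finite G] [Fintype (IrrCharacter G)] [Fintype V] [Fintype Y]
    (h : Loc t z ρ s V Y) (c : BT Y) :
    dz h c ⬝ᵥ (DegVal.deg : IrrCharacter G → ℤ) = 0 := by
  have := Fintype.ofFinite G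
  obtain ⟨b, rfl⟩ := cls_surj c
  refine dot_of_complex' (dz_coe h b) DegVal.deg_coe ?_
  rw [sum_del_deg h, Int.cast_zero]

theorem dz_dot [Finite G] [Fintype (IrrCharacter G)] [Fintype V] [Fintype Y]
    (h : Loc t z ρ s V Y) (c c' : BT Y) :
    dz h c ⬝ᵥ dz h c' = if c = c' then 3 else 2 := by
  classical
  have := Fintype.ofFinite G
  obtain ⟨b, rfl⟩ := cls_surj c
  obtain ⟨b', rfl⟩ := cls_surj c'
  refine dot_of_complex (dz_coe h b) (dz_coe h b') ?_
  rw [sum_del_mul h]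
  split_ifs <;> simp

theorem dz_class [Finite G] [Fintype (IrrCharacter G)] [Fintype V] [Fintype Y]
    (h : Loc t z ρ s V Y) (ht : orderOf t = 2) (c : BT Y) (k : ℕ)
    (hk : ∀ v ∈ V, ∀ y ∈ Y, y ≠ 1 →
      Nat.card {p : G × G // IsConj t p.1 ∧ IsConj t p.2 ∧ p.1 * p.2 = v * y} = k) :
    ∑ χ : IrrCharacter G, (dz h c χ : ℚ) * ((DegVal.val t χ : ℚ) ^ 2 / DegVal.deg χ) = 0 := by
  have := Fintype.ofFinite G
  obtain ⟨b, rfl⟩ := cls_surj c
  refine rat_of_complex (dz_coe h b) (DegVal.val_coe ht) DegVal.deg_coe ?_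
  rw [sum_del_class h b k hk, Rat.cast_zero]

theorem isConj_iff_orderOf (ht : orderOf t = 2)
    (hconj : ∀ u v : G, orderOf u = 2 → orderOf v = 2 → IsConj u v) (x : G) :
    IsConj t x ↔ orderOf x = 2 := by
  constructor
  · rintro h
    obtain ⟨g, rfl⟩ := isConj_iff.1 h
    rw [← ht]
    exact orderOf_injective (MulAut.conj g).toMonoidHom (MulAut.conj g).injective t
  · exact hconj t x ht

/-- class-sum equation under `Good` -/
theorem dz_class' {F : Type*} [Field F] [Fintype F] {m : ℕ} {ε : ℤ}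
    (hG : Cfsg.Agent.Ree.Interface.Good F t L V Y m ε) [Finite G] [Fintype (IrrCharacter G)]
    [Fintype V] [Fintype Y] (h : Loc t z ρ s V Y) (c : BT Y) :
    ∑ χ : IrrCharacter G, (dz h c χ : ℚ) * ((DegVal.val t χ : ℚ) ^ 2 / DegVal.deg χ) = 0 := by
  refine dz_class h hG.ord_t c (4 * m) fun v hv y hy hy1 => ?_
  rw [← hG.inv_count v hv y hy hy1]
  simp only [isConj_iff_orderOf hG.ord_t hG.conj]

theorem isClassFunction_gen {a : L → ℂ} (ha : IsGeneralizedCharacter L a) : IsClassFunction L a := by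
  obtain ⟨α, β, hα, hβ, rfl⟩ := ha
  intro g k
  rw [Pi.sub_apply, Pi.sub_apply, Characters.Core.isCharacter_isClassFunction hα g k,
    Characters.Core.isCharacter_isClassFunction hβ g k]

theorem ip_dz_const [Finite G] [Fintype (IrrCharacter G)] [Fintype L] [Fintype V] [Fintype Y]
    (hC : Cent t L) (h : Loc t z ρ s V Y) (hYL : Y ≤ L) {a : L → ℂ}
    (ha : IsGeneralizedCharacter L a) (ha0 : ∀ l : L, Even (orderOf l) → a l = 0) (κ : ℤ)
    (haY : ∀ y : Y, y ≠ 1 → a ⟨y, hYL y.2⟩ = 2 * κ) (c : BT Y) :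
    ip t L a ⬝ᵥ dz h c = -κ := by
  have := Fintype.ofFinite G
  obtain ⟨b, rfl⟩ := cls_surj c
  have hm : (Nat.card Y : ℂ) ≠ 0 := by exact_mod_cast Nat.card_pos.ne'
  refine dot_of_complex (ip_coe hC ha) (dz_coe h b) ?_
  rw [sum_vecP_del hC h hYL (isClassFunction_gen ha) ha0, D_const h hYL haY, D_const h hYL haY,
    D_const h hYL haY]
  push_cast
  field_simp
  ring

theorem ip_dz_pair [Finite G] [Fintype (IrrCharacter G)] [Fintype L] [Fintype V] [Fintype Y]
    (hC : Cent t L) (h : Loc t z ρ s V Y) (hYL : Y ≤ L) {a : L → ℂ}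
    (ha : IsGeneralizedCharacter L a) (ha0 : ∀ l : L, Even (orderOf l) → a l = 0) (κ : ℤ)
    {b' : NT Y}
    (haY : ∀ y : Y, y ≠ 1 → a ⟨y, hYL y.2⟩ = 2 * κ * ((b'.1 y : ℂ) + conj (b'.1 y : ℂ)))
    (c : BT Y) :
    ip t L a ⬝ᵥ dz h c = if c = cls b' then -κ else
      if c = rho h (cls b') ∨ c = rho h (rho h (cls b')) then κ else 0 := by
  classical
  have := Fintype.ofFinite G
  obtain ⟨b, rfl⟩ := cls_surj c
  have hm : (Nat.card Y : ℂ) ≠ 0 := by exact_mod_cast Nat.card_pos.ne'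
  refine dot_of_complex (ip_coe hC ha) (dz_coe h b) ?_
  rw [sum_vecP_del hC h hYL (isClassFunction_gen ha) ha0, D_pair h hYL haY, D_pair h hYL haY,
    D_pair h hYL haY, conjNT_one, ← rho_cls, ← rho_two]
  set c := cls b
  set c' := cls b'
  have e1 : rho h c = c' ↔ c = rho h (rho h c') := by
    constructor
    · intro e; rw [← e, rho_three]
    · intro e; rw [e, rho_three]
  have e2 : rho h (rho h c) = c' ↔ c = rho h c' := by
    constructor
    · intro e; rw [← e, rho_three]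
    · intro e; rw [e, rho_three]
  have n1 := rho_ne h c'
  have n2 := rho_ne h (rho h c')
  have n3 : rho h (rho h c') ≠ c' := by
    intro e
    have := rho_three h c'
    rw [e] at this
    exact n1 this
  simp only [e1, e2]
  by_cases h1 : c = c'
  · rw [if_pos h1, if_neg (by rw [h1]; exact n3.symm), if_neg (by rw [h1]; exact n1.symm), if_pos h1]
    push_cast
    field_simp
    ring
  · rw [if_neg h1, if_neg h1]
    by_cases h2 : c = rho h c'
    · rw [if_neg (by rw [h2]; exact n2.symm), if_pos h2, if_pos (Or.inl h2)]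
      field_simp
      ring
    · by_cases h3 : c = rho h (rho h c')
      · rw [if_pos h3, if_neg h2, if_pos (Or.inr h3)]
        field_simp
        ring
      · rw [if_neg h3, if_neg h2, if_neg (by rintro (h4 | h4) <;> contradiction)]
        push_cast
        ring

/-- number of elements of `BT Y` -/
theorem card_BT (h : Loc t z ρ s V Y) [Finite Y] :
    2 * (Fintype.card (BT Y) : ℤ) = (Nat.card Y : ℤ) - 1 := by
  have h1 := two_mul_card_BT (Y := Y) (Y_mul_comm h) h.odd_Y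
  rw [← h1]
  push_cast
  ring

open Classical in
theorem sum_NT_one_sub [Finite Y] [Fintype (NT Y)] (h : Loc t z ρ s V Y) (y : Y) :
    ∑ b : NT Y, (1 - (b.1 y : ℂ)) = (Nat.card Y : ℂ) * (1 - if y = 1 then 1 else 0) := by
  have : Fintype (Y →* ℂˣ) := Fintype.ofFinite _
  have h1 := Cfsg.Agent.Classification.BSW.Theta.sum_hom_apply (Y_mul_comm h) y
  have h2 := Cfsg.Agent.Classification.BSW.Theta.card_hom (Y_mul_comm h)
  have h3 : ∑ l : Y →* ℂˣ, (1 - (l y : ℂ)) = (Nat.card Y : ℂ) * (1 - if y = 1 then 1 else 0) := by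
    rw [Finset.sum_sub_distrib, h1, Finset.sum_const, Finset.card_univ, nsmul_eq_mul, mul_one, h2]
    split_ifs <;> ring
  rw [← h3, ← Finset.add_sum_erase _ _ (Finset.mem_univ (1 : Y →* ℂˣ))]
  simp only [MonoidHom.one_apply, Units.val_one, sub_self, zero_add]
  refine (Finset.sum_subtype (Finset.univ.erase (1 : Y →* ℂˣ)) (by simp)
    (fun l : Y →* ℂˣ => (1 - (l y : ℂ)))).symm

/-- the congruence modulo `m` -/
theorem modm [Finite G] [Fintype V] [Fintype Y] (h : Loc t z ρ s V Y) (ht : orderOf t = 2)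
    (χ : IrrCharacter G) :
    ∃ a : ℤ, DegVal.deg χ - DegVal.val t χ =
      4 * ((Nat.card Y : ℤ) * a - 2 * ∑ c : BT Y, dz h c χ) := by
  classical
  have : Fintype (NT Y) := Fintype.ofFinite _
  have hm : (Nat.card Y : ℂ) ≠ 0 := by exact_mod_cast Nat.card_pos.ne'
  -- the integer `a`
  let φ : V × Y →* G := V.subtype.noncommCoprod Y.subtype (commute_VY h)
  let f1 : V × Y →* ℂˣ := (Del.alpha h).comp (MonoidHom.fst V Y)
  have hθ : IsGeneralizedCharacter (V × Y) ((fun p => (f1 p : ℂ)) - 0) :=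
    ⟨_, _, Cfsg.Agent.Characters.Linear.isCharacter_hom f1,
      Cfsg.Agent.Characters.Core.isCharacter_zero, rfl⟩
  obtain ⟨a, ha⟩ := exists_int_hom φ hθ χ
  let f : Y → ℂ := fun y => ∑ v : V, (Del.alpha h v : ℂ) * conj ((χ : G → ℂ) (v * y))
  have ha' : ∑ y : Y, f y = 4 * (Nat.card Y : ℂ) * a := by
    rw [← ha, Nat.card_prod, h.card_V]
    have e1 : ∑ y : Y, f y = ∑ p : V × Y, ((fun p => (f1 p : ℂ)) - 0) p *
        conj ((χ : G → ℂ) (φ p)) := by
      rw [Fintype.sum_prod_type, Finset.sum_comm]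
      refine Finset.sum_congr rfl fun v _ => Finset.sum_congr rfl fun y _ => ?_
      simp only [Pi.sub_apply, Pi.zero_apply, sub_zero]
      rfl
    rw [e1]
    push_cast
    field_simp
  have hf1 : f 1 = (DegVal.deg χ : ℂ) - DegVal.val t χ := by
    have hz : (χ : G → ℂ) z = (χ : G → ℂ) t := by
      rw [← h.ρ_t]; exact irr_class χ t ρ
    have htz : (χ : G → ℂ) (t * z) = (χ : G → ℂ) t := by
      rw [← h.ρ_z, ← hz]; exact irr_class χ z ρ
    simp only [f]
    rw [sum_V h, alpha_z, alpha_tz, alpha_t, map_one]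
    simp only [Subgroup.coe_one, mul_one, Units.val_one, one_mul]
    rw [hz, htz, ← DegVal.deg_coe, ← DegVal.val_coe ht, conj_int, conj_int]
    ring
  have hsum : ∑ b : NT Y, del h b (χ : G → ℂ) = (Nat.card Y : ℂ) * a - f 1 / 4 := by
    have e1 : ∀ b : NT Y, del h b (χ : G → ℂ) =
        (4 * (Nat.card Y : ℂ))⁻¹ * ∑ y : Y, (1 - (b.1 y : ℂ)) * f y := by
      intro b
      unfold del vecD
      rw [h.card_V, Fintype.sum_prod_type, Finset.sum_comm]
      push_cast
      congr 1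
      refine Finset.sum_congr rfl fun y _ => ?_
      rw [Finset.mul_sum]
      refine Finset.sum_congr rfl fun v _ => ?_
      ring
    rw [Finset.sum_congr rfl fun b _ => e1 b, ← Finset.mul_sum, Finset.sum_comm]
    have e2 : ∀ y : Y, ∑ b : NT Y, (1 - (b.1 y : ℂ)) * f y =
        (Nat.card Y : ℂ) * f y - if y = 1 then (Nat.card Y : ℂ) * f 1 else 0 := by
      intro y
      rw [← Finset.sum_mul, sum_NT_one_sub h y]
      split_ifs with hy
      · rw [hy]; ring
      · ring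
    rw [Finset.sum_congr rfl fun y _ => e2 y, Finset.sum_sub_distrib, ← Finset.mul_sum, ha',
      Finset.sum_ite_eq', if_pos (Finset.mem_univ _)]
    field_simp
  have hsum2 : ∑ b : NT Y, del h b (χ : G → ℂ) = 2 * ∑ c : BT Y, (dz h c χ : ℂ) := by
    rw [← sum_NT h.odd_Y]
    exact Finset.sum_congr rfl fun b _ => (dz_coe h b χ).symm
  refine ⟨a, ?_⟩
  have e : ((DegVal.deg χ - DegVal.val t χ : ℤ) : ℂ) =
      ((4 * ((Nat.card Y : ℤ) * a - 2 * ∑ c : BT Y, dz h c χ) : ℤ) : ℂ) := by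
    push_cast
    rw [← hsum2, hsum, hf1]
    ring
  exact_mod_cast e

end Cfsg.Agent.Ree.Del3
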