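import Cfsg.Agent.Ree.CoreRed2

/-!
# The patterns in the numerical core of S0343
-/

set_option autoImplicit false

open Matrix

namespace Cfsg.Agent.Ree.CorePattern

open Cfsg.Agent.Ree.Vec Cfsg.Agent.Ree.VecB Cfsg.Agent.Ree.CoreRed Cfsg.Agent.Ree.CoreRed2

section general

variable {ι : Type*} [Fintype ι] [DecidableEq ι]

/-- two vectors of norm three, product one and equal degree meet in one place -/
theorem inter {v w d : ι → ℤ} (hd : ∀ i, 0 < d i) (hv : v ⬝ᵥ v = 3) (hw : w ⬝ᵥ w = 3)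
    (hvw : v ⬝ᵥ w = 1) (hdeg : v ⬝ᵥ d = w ⬝ᵥ d) :
    ∃ x, ∃ s : ℤ, (s = 1 ∨ s = -1) ∧ v x = s ∧ w x = s ∧ ∀ i, i ≠ x → v i * w i = 0 := by
  have hve := entry_of_norm_lt_four (v := v) (by omega)
  have hwe := entry_of_norm_lt_four (v := w) (by omega)
  have hne : ∀ i, v i * w i ≠ -1 := by
    intro i hi
    have h1 : w i = -v i := by
      rcases hve i with h | h | h <;> rcases hwe i with h' | h' | h' <;> rw [h, h'] at hi <;>
        omega
    have h2 : v i * v i = 1 := by rw [h1] at hi; linarith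
    have hr : (v - w - Pi.single i (2 * v i)) ⬝ᵥ (v - w - Pi.single i (2 * v i)) ≤ 0 := by
      simp only [sub_dotProduct, dotProduct_sub, dotProduct_single, single_dotProduct,
        Pi.sub_apply, Pi.single_eq_same, hv, hw, hvw, dotProduct_comm w v, h1]
      nlinarith
    have hz := sub_eq_zero.mp (eq_zero_of_norm hr)
    have h3 : (v - w) ⬝ᵥ d = 0 := by rw [sub_dotProduct, hdeg]; ring
    rw [hz, single_dotProduct] at h3
    have := hd i
    rcases hve i with h | h | h <;> rw [h] at h3 h2 <;> nlinarith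
  have h01 : ∀ i, v i * w i = 0 ∨ v i * w i = 1 := by
    intro i
    have := hne i
    rcases hve i with h | h | h <;> rcases hwe i with h' | h' | h' <;> rw [h, h'] at this ⊢ <;>
      omega
  obtain ⟨z, hz⟩ : ∃ z : ι → ℤ, z = fun i => v i * w i := ⟨_, rfl⟩
  have hzz : z ⬝ᵥ z = 1 := by
    rw [← hvw]
    unfold dotProduct
    refine Finset.sum_congr rfl fun i _ => ?_
    rw [hz]
    rcases h01 i with h | h <;> simp only [h] <;> norm_num
  obtain ⟨x, s, hs, hzs⟩ := norm_one hzz
  have hzx : v x * w x = s := by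
    have := congrFun hzs x
    rw [hz, Pi.single_eq_same] at this
    exact this
  have hs1 : v x * w x = 1 := by
    rcases h01 x with h | h
    · rw [h] at hzx
      rcases hs with h' | h' <;> omega
    · exact h
  have hvx : v x = 1 ∨ v x = -1 := by
    rcases hve x with h | h
    · rw [h] at hs1; norm_num at hs1
    · exact h
  refine ⟨x, v x, hvx, rfl, ?_, ?_⟩
  · rcases hvx with h | h <;> rw [h] at hs1 ⊢ <;> linarith
  · intro i hi
    have := congrFun hzs i
    rw [hz, Pi.single_eq_of_ne hi] at this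
    exact this

/-- a vector of norm two with two given places in its support -/
theorem two {v : ι → ℤ} (hv : v ⬝ᵥ v = 2) {i j : ι} (hij : i ≠ j) (hi : v i ≠ 0) (hj : v j ≠ 0) :
    v = Pi.single i (v i) + Pi.single j (v j) := by
  have hve := entry_of_norm_lt_four (v := v) (by omega)
  have hi2 : v i * v i = 1 := by
    rcases hve i with h | h | h
    · exact absurd h hi
    · rw [h]; norm_num
    · rw [h]; norm_num
  have hj2 : v j * v j = 1 := by
    rcases hve j with h | h | h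
    · exact absurd h hj
    · rw [h]; norm_num
    · rw [h]; norm_num
  have hr : (v - (Pi.single i (v i) + Pi.single j (v j))) ⬝ᵥ
      (v - (Pi.single i (v i) + Pi.single j (v j))) ≤ 0 := by
    simp only [sub_dotProduct, dotProduct_sub, add_dotProduct, dotProduct_add, dotProduct_single,
      single_dotProduct, Pi.sub_apply, Pi.add_apply, Pi.single_eq_same, Pi.single_eq_of_ne hij,
      Pi.single_eq_of_ne hij.symm, hv]
    nlinarith
  exact sub_eq_zero.mp (eq_zero_of_norm hr)

theorem conv {s : ℤ} (hs : s = 1 ∨ s = -1) (T : ℚ) (d : ℤ) :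
    (s : ℚ) * (T / d) = T / ((s * d : ℤ) : ℚ) := by
  rcases hs with h | h
  · rw [h]; push_cast; rw [one_mul, one_mul]
  · rw [h]; push_cast; rw [neg_one_mul, neg_one_mul, div_neg]

end general

variable {ι C : Type*} [Fintype ι] [DecidableEq ι] [Fintype C] [DecidableEq C] {q ε m Z : ℤ}

/-- sum of the `Gam` -/
def G (R : Red ι C q ε m Z) (i : ι) : ℤ := ∑ c, R.Gam c i

theorem G_one (R : Red ι C q ε m Z) : G R R.one = 0 :=
  Finset.sum_eq_zero fun c _ => R.Gam_one c

/-- contamination -/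
theorem contam (R : Red ι C q ε m Z) (i : ι) :
    G R i = 0 ∨ ∃ j, j ≠ i ∧ j ≠ R.one ∧ R.d j = R.d i ∧ (∀ k, R.P k j = R.P k i) ∧
      R.E j = R.E i ∧ G R j = -G R i ∧ (G R i = 1 ∨ G R i = -1) := by
  by_cases h : ∃ c, R.Gam c i ≠ 0
  · right
    obtain ⟨c, hc⟩ := h
    have hn : R.Gam c ⬝ᵥ R.Gam c = 2 := by rw [R.GG, if_pos rfl]
    obtain ⟨α, β, hαβ, hd, hv⟩ := norm_two_deg hn R.d_pos (R.Gam_deg c)
    have hother : ∀ c', c' ≠ c → R.Gam c' α = 0 ∧ R.Gam c' β = 0 := by
      intro c' hc'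
      have hn' : R.Gam c' ⬝ᵥ R.Gam c' = 2 := by rw [R.GG, if_pos rfl]
      obtain ⟨α', β', hαβ', hd', hv'⟩ := norm_two_deg hn' R.d_pos (R.Gam_deg c')
      have h0 : R.Gam c ⬝ᵥ R.Gam c' = 0 := by rw [R.GG, if_neg (Ne.symm hc')]
      rw [hv, sub_dotProduct, single_dotProduct, single_dotProduct] at h0
      have h1 : R.Gam c' α = R.Gam c' β := by linarith
      have h2 : R.Gam c' α = 0 := by
        by_contra hne
        have h3 : α = α' ∨ α = β' := by
          by_contra hcon
          rw [not_or] at hcon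
          apply hne
          rw [hv', Pi.sub_apply, Pi.single_eq_of_ne hcon.1, Pi.single_eq_of_ne hcon.2]; norm_num
        have h4 : β = α' ∨ β = β' := by
          by_contra hcon
          rw [not_or] at hcon
          apply hne
          rw [h1, hv', Pi.sub_apply, Pi.single_eq_of_ne hcon.1, Pi.single_eq_of_ne hcon.2]
          norm_num
        rw [hv', Pi.sub_apply, Pi.sub_apply] at h1
        rcases h3 with h3 | h3 <;> rcases h4 with h4 | h4
        · exact hαβ (h3.trans h4.symm)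
        · rw [h3, h4, Pi.single_eq_same, Pi.single_eq_same, Pi.single_eq_of_ne hαβ',
            Pi.single_eq_of_ne hαβ'.symm] at h1
          norm_num at h1
        · rw [h3, h4, Pi.single_eq_same, Pi.single_eq_same, Pi.single_eq_of_ne hαβ',
            Pi.single_eq_of_ne hαβ'.symm] at h1
          norm_num at h1
        · exact hαβ (h3.trans h4.symm)
      exact ⟨h2, by rw [← h1, h2]⟩
    have hGα : G R α = 1 := by
      unfold G
      rw [Finset.sum_eq_single c (fun c' _ hc' => (hother c' hc').1)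
        (fun h => absurd (Finset.mem_univ c) h), hv, Pi.sub_apply, Pi.single_eq_same,
        Pi.single_eq_of_ne hαβ]
      norm_num
    have hGβ : G R β = -1 := by
      unfold G
      rw [Finset.sum_eq_single c (fun c' _ hc' => (hother c' hc').2)
        (fun h => absurd (Finset.mem_univ c) h), hv, Pi.sub_apply, Pi.single_eq_same,
        Pi.single_eq_of_ne hαβ.symm]
      norm_num
    have hP : ∀ k, R.P k α = R.P k β := by
      intro k
      have h1 := R.PG k c
      rw [hv, dotProduct_sub, dotProduct_single, dotProduct_single] at h1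
      linarith
    have hE : R.E α = R.E β := by
      have h1 := R.GE c
      rw [hv, sub_dotProduct, single_dotProduct, single_dotProduct] at h1
      linarith
    have hα1 : α ≠ R.one := by
      intro h
      rw [h, G_one] at hGα
      norm_num at hGα
    have hβ1 : β ≠ R.one := by
      intro h
      rw [h, G_one] at hGβ
      norm_num at hGβ
    have hi : i = α ∨ i = β := by
      by_contra hcon
      rw [not_or] at hcon
      apply hc
      rw [hv, Pi.sub_apply, Pi.single_eq_of_ne hcon.1, Pi.single_eq_of_ne hcon.2]; norm_num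
    rcases hi with rfl | rfl
    · exact ⟨β, hαβ.symm, hβ1, hd.symm, fun k => (hP k).symm, hE.symm, by rw [hGα, hGβ],
        Or.inl hGα⟩
    · exact ⟨α, hαβ, hα1, hd, hP, hE, by rw [hGα, hGβ]; norm_num, Or.inr hGβ⟩
  · left
    push Not at h
    exact Finset.sum_eq_zero fun c _ => h c

/-- uncontaminated places -/
theorem uncontam (R : Red ι C q ε m Z) (i : ι)
    (h : ∀ j, j ≠ i → j ≠ R.one → (∀ k, R.P k j = R.P k i) → R.E j = R.E i → False) :
    G R i = 0 := by
  rcases contam R i with h' | ⟨j, h1, h2, _, h4, h5, _⟩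
  · exact h'
  · exact absurd (h j h1 h2 h4 h5) (fun h => h)

/-- the vectors without the trivial character -/
def V (R : Red ι C q ε m Z) (k : Fin 3) : ι → ℤ := R.P k - Pi.single R.one ε

theorem V_one (R : Red ι C q ε m Z) (k : Fin 3) : V R k R.one = 0 := by
  unfold V
  rw [Pi.sub_apply, R.P_one, Pi.single_eq_same, sub_self]

theorem V_ne_one (R : Red ι C q ε m Z) (k : Fin 3) {i : ι} (hi : i ≠ R.one) :
    V R k i = R.P k i := by
  unfold V
  rw [Pi.sub_apply, Pi.single_eq_of_ne hi, sub_zero]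

theorem ne_one_of (R : Red ι C q ε m Z) (k : Fin 3) {i : ι} (hi : V R k i ≠ 0) :
    i ≠ R.one := by
  rintro rfl
  exact hi (V_one R k)

theorem V_dot (hε : ε = 1 ∨ ε = -1) (R : Red ι C q ε m Z) (k l : Fin 3) :
    V R k ⬝ᵥ V R l = if k = l then 3 else 1 := by
  have hεε : ε * ε = 1 := by rcases hε with h | h <;> rw [h] <;> norm_num
  unfold V
  simp only [sub_dotProduct, dotProduct_sub, dotProduct_single, single_dotProduct,
    Pi.sub_apply, Pi.single_eq_same, R.PP, R.P_one]
  split_ifs <;> linarith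

theorem V_deg (R : Red ι C q ε m Z) (k : Fin 3) : V R k ⬝ᵥ R.d = -ε := by
  unfold V
  rw [sub_dotProduct, R.P_deg, single_dotProduct, R.d_one]; ring

/-- decomposition of `P k` with three places -/
structure Row (R : Red ι C q ε m Z) (k : Fin 3) (x a b : ι) (s r t : ℤ) : Prop where
  hs : s = 1 ∨ s = -1
  hr : r = 1 ∨ r = -1
  ht : t = 1 ∨ t = -1
  x1 : x ≠ R.one
  a1 : a ≠ R.one
  b1 : b ≠ R.one
  xa : x ≠ a
  xb : x ≠ b
  ab : a ≠ b
  eq : R.P k = Pi.single R.one ε + Pi.single x s + Pi.single a r + Pi.single b t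

theorem Row.swap {R : Red ι C q ε m Z} {k : Fin 3} {x a b : ι} {s r t : ℤ}
    (h : Row R k x a b s r t) : Row R k x b a s t r :=
  ⟨h.hs, h.ht, h.hr, h.x1, h.b1, h.a1, h.xb, h.xa, h.ab.symm, by rw [h.eq]; abel⟩

theorem Row.rot {R : Red ι C q ε m Z} {k : Fin 3} {x a b : ι} {s r t : ℤ}
    (h : Row R k x a b s r t) : Row R k a b x r t s :=
  ⟨h.hr, h.ht, h.hs, h.a1, h.b1, h.x1, h.ab, h.xa.symm, h.xb.symm, by rw [h.eq]; abel⟩

theorem Row.Px {R : Red ι C q ε m Z} {k : Fin 3} {x a b : ι} {s r t : ℤ}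
    (h : Row R k x a b s r t) : R.P k x = s := by
  rw [h.eq, Pi.add_apply, Pi.add_apply, Pi.add_apply, Pi.single_eq_same,
    Pi.single_eq_of_ne h.x1, Pi.single_eq_of_ne h.xa, Pi.single_eq_of_ne h.xb]
  ring

theorem Row.Pa {R : Red ι C q ε m Z} {k : Fin 3} {x a b : ι} {s r t : ℤ}
    (h : Row R k x a b s r t) : R.P k a = r := h.rot.Px

theorem Row.Pb {R : Red ι C q ε m Z} {k : Fin 3} {x a b : ι} {s r t : ℤ}
    (h : Row R k x a b s r t) : R.P k b = t := h.rot.rot.Px

theorem Row.supp {R : Red ι C q ε m Z} {k : Fin 3} {x a b : ι} {s r t : ℤ}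
    (h : Row R k x a b s r t) {i : ι} (hi : i ≠ R.one) (hP : R.P k i ≠ 0) :
    i = x ∨ i = a ∨ i = b := by
  by_contra hcon
  simp only [not_or] at hcon
  apply hP
  rw [h.eq, Pi.add_apply, Pi.add_apply, Pi.add_apply, Pi.single_eq_of_ne hi,
    Pi.single_eq_of_ne hcon.1, Pi.single_eq_of_ne hcon.2.1, Pi.single_eq_of_ne hcon.2.2]
  ring

theorem Row.deg {R : Red ι C q ε m Z} {k : Fin 3} {x a b : ι} {s r t : ℤ}
    (h : Row R k x a b s r t) : ε + s * R.d x + r * R.d a + t * R.d b = 0 := by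
  have h1 := R.P_deg k
  rw [h.eq, add_dotProduct, add_dotProduct, add_dotProduct, single_dotProduct, single_dotProduct,
    single_dotProduct, single_dotProduct, R.d_one] at h1
  linarith

theorem Row.dotE {R : Red ι C q ε m Z} {k : Fin 3} {x a b : ι} {s r t : ℤ}
    (h : Row R k x a b s r t) :
    s * R.E x + r * R.E a + t * R.E b = if k = 2 then 0 else -ε := by
  have h1 := R.PE k
  rw [h.eq, add_dotProduct, add_dotProduct, add_dotProduct, single_dotProduct, single_dotProduct,
    single_dotProduct, single_dotProduct, R.E_one] at h1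
  linarith

theorem Row.sum {R : Red ι C q ε m Z} {k : Fin 3} {x a b : ι} {s r t : ℤ}
    (h : Row R k x a b s r t) :
    (ε : ℚ) + (R.tau x : ℚ) ^ 2 / ((s * R.d x : ℤ) : ℚ) + (R.tau a : ℚ) ^ 2 / ((r * R.d a : ℤ) : ℚ)
      + (R.tau b : ℚ) ^ 2 / ((t * R.d b : ℤ) : ℚ)
    = ((q + ε : ℚ) ^ 2 / Z) * (if k = 2 then (ε : ℚ) - 1 / q else ε + 2 / (q + ε)) := by
  rw [← R.SP k]
  have h1 : ∀ i, (R.P k i : ℚ) * ((R.tau i : ℚ) ^ 2 / R.d i)
      = (((Pi.single R.one ε : ι → ℤ) i : ℤ) : ℚ) * ((R.tau i : ℚ) ^ 2 / R.d i)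
      + (((Pi.single x s : ι → ℤ) i : ℤ) : ℚ) * ((R.tau i : ℚ) ^ 2 / R.d i)
      + (((Pi.single a r : ι → ℤ) i : ℤ) : ℚ) * ((R.tau i : ℚ) ^ 2 / R.d i)
      + (((Pi.single b t : ι → ℤ) i : ℤ) : ℚ) * ((R.tau i : ℚ) ^ 2 / R.d i) := by
    intro i
    rw [h.eq, Pi.add_apply, Pi.add_apply, Pi.add_apply]
    push_cast
    ring
  rw [Finset.sum_congr rfl (fun i _ => h1 i), Finset.sum_add_distrib, Finset.sum_add_distrib,
    Finset.sum_add_distrib, sum_single_mul, sum_single_mul, sum_single_mul, sum_single_mul,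
    conv h.hs, conv h.hr, conv h.ht, R.tau_one, R.d_one]
  push_cast
  ring

/-- the shape of `E` when two places of its support are known -/
theorem E_deg {R : Red ι C q ε m Z} {i j : ι} (hij : i ≠ j) (hi : R.E i ≠ 0) (hj : R.E j ≠ 0) :
    R.E i * R.d i + R.E j * R.d j = ε * ((q + ε) * Z) := by
  rw [← R.E_deg]
  conv_rhs => rw [two R.EE hij hi hj]
  rw [add_dotProduct, single_dotProduct, single_dotProduct]

theorem E_sum {R : Red ι C q ε m Z} {i j : ι} (hij : i ≠ j) (hi : R.E i ≠ 0) (hj : R.E j ≠ 0) :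
    (R.E i : ℚ) * ((R.tau i : ℚ) ^ 2 / R.d i) + (R.E j : ℚ) * ((R.tau j : ℚ) ^ 2 / R.d j)
      = ε * (q + ε) / Z := by
  rw [← R.SE]
  have h1 : ∀ l, (R.E l : ℚ) * ((R.tau l : ℚ) ^ 2 / R.d l)
      = (((Pi.single i (R.E i) : ι → ℤ) l : ℤ) : ℚ) * ((R.tau l : ℚ) ^ 2 / R.d l)
      + (((Pi.single j (R.E j) : ι → ℤ) l : ℤ) : ℚ) * ((R.tau l : ℚ) ^ 2 / R.d l) := by
    intro l
    have h2 : R.E l = (Pi.single i (R.E i) : ι → ℤ) l + (Pi.single j (R.E j) : ι → ℤ) l :=
      congrFun (two R.EE hij hi hj) l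
    rw [h2]
    push_cast
    ring
  rw [Finset.sum_congr rfl (fun i _ => h1 i), Finset.sum_add_distrib, sum_single_mul,
    sum_single_mul]

theorem E_zero {R : Red ι C q ε m Z} {i j l : ι} (hij : i ≠ j) (hi : R.E i ≠ 0) (hj : R.E j ≠ 0)
    (hli : l ≠ i) (hlj : l ≠ j) : R.E l = 0 := by
  rw [two R.EE hij hi hj, Pi.add_apply, Pi.single_eq_of_ne hli, Pi.single_eq_of_ne hlj, add_zero]

end Cfsg.Agent.Ree.CorePattern
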