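import Cfsg.Agent.Ree.Vec

/-! Vectors of norm four meeting a coherent triple; vanishing on a quadruple. -/

set_option autoImplicit false

open Matrix

namespace Cfsg.Agent.Ree.VecB

open Cfsg.Agent.Ree.Vec

variable {ι : Type*} [Fintype ι] [DecidableEq ι]

/-- from the norm: zero vector -/
theorem eq_zero_of_norm {v : ι → ℤ} (h : v ⬝ᵥ v ≤ 0) : v = 0 := by
  funext i
  have h1 := sq_le_norm v i
  have h2 : v i ^ 2 ≤ 0 := le_trans h1 h
  have h3 : v i ^ 2 = 0 := le_antisymm h2 (sq_nonneg _)
  exact pow_eq_zero_iff (two_ne_zero) |>.mp h3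

theorem triple {v d : ι → ℤ} {T0 T1 T2 : ι} (h01 : T0 ≠ T1) (h02 : T0 ≠ T2) (h12 : T1 ≠ T2)
    (hd : ∀ i, 0 < d i) (hd1 : d T1 = d T0) (hd2 : d T2 = d T0) {s : ℤ} (hs : s = 1 ∨ s = -1)
    (hv : v ⬝ᵥ v = 4) (hvd : v ⬝ᵥ d = 0) (h1 : v T0 - v T1 = 2 * s) (h2 : v T1 = v T2) :
    ∃ T', T' ≠ T0 ∧ T' ≠ T1 ∧ T' ≠ T2 ∧ d T' = d T0 ∧
      v = Pi.single T' s + Pi.single T0 s - Pi.single T1 s - Pi.single T2 s := by
  have hss : s * s = 1 := by rcases hs with rfl | rfl <;> norm_num
  have hsum := sum_sq_le v {T0, T1, T2}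
  rw [Finset.sum_insert (by simp [h01, h02]), Finset.sum_insert (by simp [h12]),
    Finset.sum_singleton, hv] at hsum
  have hc : v T1 = 0 ∨ v T1 = -s := by
    have ha : v T0 = v T1 + 2 * s := by linarith
    rw [ha, ← h2] at hsum
    have h3 : 3 * v T1 ^ 2 + 4 * s * v T1 ≤ 0 := by nlinarith
    rcases hs with rfl | rfl
    · have h4 : v T1 < 1 := by nlinarith
      have h5 : -2 < v T1 := by nlinarith
      omega
    · have h4 : v T1 < 2 := by nlinarith
      have h5 : -1 < v T1 := by nlinarith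
      omega
  rcases hc with hc | hc
  · exfalso
    have ha : v T0 = 2 * s := by linarith
    have hr : (v - Pi.single T0 (2 * s)) ⬝ᵥ (v - Pi.single T0 (2 * s)) ≤ 0 := by
      rw [sub_dotProduct, dotProduct_sub, dotProduct_sub, dotProduct_single, single_dotProduct,
        single_dotProduct, Pi.single_eq_same, hv, ha]
      nlinarith
    have hz := eq_zero_of_norm hr
    have hveq : v = Pi.single T0 (2 * s) := sub_eq_zero.mp hz
    rw [hveq, single_dotProduct] at hvd
    have := hd T0
    rcases hs with rfl | rfl <;> nlinarith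
  · have ha : v T0 = s := by linarith
    have hc2 : v T2 = -s := by rw [← h2]; exact hc
    set w : ι → ℤ := Pi.single T0 s - Pi.single T1 s - Pi.single T2 s with hw
    have hvw : v ⬝ᵥ w = 3 := by
      rw [hw, dotProduct_sub, dotProduct_sub, dotProduct_single, dotProduct_single,
        dotProduct_single, ha, hc, hc2]
      nlinarith
    have hww : w ⬝ᵥ w = 3 := by
      rw [hw, dotProduct_sub, dotProduct_sub, dotProduct_single, dotProduct_single,
        dotProduct_single]
      simp only [Pi.sub_apply, Pi.single_eq_same, Pi.single_eq_of_ne h01, Pi.single_eq_of_ne h02,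
        Pi.single_eq_of_ne h12, Pi.single_eq_of_ne h01.symm, Pi.single_eq_of_ne h02.symm,
        Pi.single_eq_of_ne h12.symm]
      nlinarith
    have hr : (v - w) ⬝ᵥ (v - w) = 1 := by
      rw [sub_dotProduct, dotProduct_sub v v w, dotProduct_sub w v w, dotProduct_comm w v, hv,
        hvw, hww]
      norm_num
    obtain ⟨T', r, hrs, hrv⟩ := norm_one hr
    have hveq : v = Pi.single T' r + w := by rw [← hrv]; abel
    -- degree
    have hdeg : r * d T' = s * d T0 := by
      rw [hveq, add_dotProduct, hw, sub_dotProduct, sub_dotProduct, single_dotProduct,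
        single_dotProduct, single_dotProduct, single_dotProduct, hd1, hd2] at hvd
      linarith
    have hdT := hd T'
    have hd0 := hd T0
    have hrs' : r = s := by
      rcases hs with rfl | rfl <;> rcases hrs with rfl | rfl
      · rfl
      · nlinarith
      · nlinarith
      · rfl
    subst hrs'
    have hdeq : d T' = d T0 := by
      rcases hs with h | h
      · rw [h] at hdeg; linarith
      · rw [h] at hdeg; linarith
    have hsne : r ≠ 0 := by rcases hs with h | h <;> rw [h] <;> norm_num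
    refine ⟨T', ?_, ?_, ?_, hdeq, ?_⟩
    · rintro rfl
      have := congrFun hveq T'
      rw [ha, Pi.add_apply, hw] at this
      simp only [Pi.sub_apply, Pi.single_eq_same, Pi.single_eq_of_ne h01,
        Pi.single_eq_of_ne h02] at this
      apply hsne; linarith
    · rintro rfl
      have := congrFun hveq T'
      rw [hc, Pi.add_apply, hw] at this
      simp only [Pi.sub_apply, Pi.single_eq_same, Pi.single_eq_of_ne h01.symm,
        Pi.single_eq_of_ne h12] at this
      apply hsne; linarith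
    · rintro rfl
      have := congrFun hveq T'
      rw [hc2, Pi.add_apply, hw] at this
      simp only [Pi.sub_apply, Pi.single_eq_same, Pi.single_eq_of_ne h02.symm,
        Pi.single_eq_of_ne h12.symm] at this
      apply hsne; linarith
    · rw [hveq, hw]; abel

/-- a vector of norm at most four, orthogonal to the degrees and constant on four places of equal
degree, vanishes there -/
theorem vanish4 {v d : ι → ℤ} {T0 T1 T2 T3 : ι} (h01 : T0 ≠ T1) (h02 : T0 ≠ T2) (h12 : T1 ≠ T2)
    (h30 : T3 ≠ T0) (h31 : T3 ≠ T1) (h32 : T3 ≠ T2)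
    (hd : ∀ i, 0 < d i) (hd1 : d T1 = d T0) (hd2 : d T2 = d T0) (hd3 : d T3 = d T0)
    (hv : v ⬝ᵥ v ≤ 4) (hvd : v ⬝ᵥ d = 0) (h1 : v T1 = v T0) (h2 : v T2 = v T0)
    (h3 : v T3 = v T0) : v T0 = 0 := by
  by_contra hne
  have hsq : 1 ≤ v T0 ^ 2 := by
    have := sq_nonneg (v T0)
    have h4 : v T0 ^ 2 ≠ 0 := pow_ne_zero 2 hne
    omega
  set c := v T0 with hc
  set w : ι → ℤ := Pi.single T0 c + Pi.single T1 c + Pi.single T2 c + Pi.single T3 c with hw
  have hvw : v ⬝ᵥ w = 4 * c ^ 2 := by
    rw [hw, dotProduct_add, dotProduct_add, dotProduct_add, dotProduct_single, dotProduct_single,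
      dotProduct_single, dotProduct_single, h1, h2, h3, ← hc]
    ring
  have hww : w ⬝ᵥ w = 4 * c ^ 2 := by
    rw [hw, dotProduct_add, dotProduct_add, dotProduct_add, dotProduct_single, dotProduct_single,
      dotProduct_single, dotProduct_single]
    simp only [Pi.add_apply, Pi.single_eq_same, Pi.single_eq_of_ne h01, Pi.single_eq_of_ne h02,
      Pi.single_eq_of_ne h12, Pi.single_eq_of_ne h01.symm, Pi.single_eq_of_ne h02.symm,
      Pi.single_eq_of_ne h12.symm, Pi.single_eq_of_ne h30, Pi.single_eq_of_ne h31,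
      Pi.single_eq_of_ne h32, Pi.single_eq_of_ne h30.symm, Pi.single_eq_of_ne h31.symm,
      Pi.single_eq_of_ne h32.symm]
    ring
  have hr : (v - w) ⬝ᵥ (v - w) ≤ 0 := by
    rw [sub_dotProduct, dotProduct_sub v v w, dotProduct_sub w v w, dotProduct_comm w v, hvw, hww]
    nlinarith
  have hveq : v = w := sub_eq_zero.mp (eq_zero_of_norm hr)
  rw [hveq, hw, add_dotProduct, add_dotProduct, add_dotProduct, single_dotProduct,
    single_dotProduct, single_dotProduct, single_dotProduct, hd1, hd2, hd3] at hvd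
  have hd0 := hd T0
  have : c * d T0 = 0 := by linarith
  rcases mul_eq_zero.mp this with h | h
  · exact hne h
  · omega

/-- two differences of unit vectors with inner product one form a coherent triple -/
theorem coherent {v w d : ι → ℤ} (hd : ∀ i, 0 < d i) (hv : v ⬝ᵥ v = 2) (hw : w ⬝ᵥ w = 2)
    (hvw : v ⬝ᵥ w = 1) (hvd : v ⬝ᵥ d = 0) (hwd : w ⬝ᵥ d = 0) :
    ∃ (e : ℤ) (T0 T1 T2 : ι), (e = 1 ∨ e = -1) ∧ T0 ≠ T1 ∧ T0 ≠ T2 ∧ T1 ≠ T2 ∧
      d T1 = d T0 ∧ d T2 = d T0 ∧ v = Pi.single T1 e - Pi.single T0 e ∧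
      w = Pi.single T2 e - Pi.single T0 e := by
  obtain ⟨a, b, hab, hdab, hva⟩ := norm_two_deg hv hd hvd
  obtain ⟨x, y, hxy, hdxy, hwa⟩ := norm_two_deg hw hd hwd
  rw [hva, hwa, sub_dotProduct, single_dotProduct, single_dotProduct] at hvw
  simp only [Pi.sub_apply, Pi.single_apply] at hvw
  by_cases hax : a = x
  · by_cases hby : b = y
    · exfalso
      subst hax; subst hby
      simp [hab, hab.symm] at hvw
    · refine ⟨-1, a, b, y, Or.inr rfl, hab, ?_, hby, hdab.symm, ?_, ?_, ?_⟩
      · rw [hax]; exact hxy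
      · rw [hax]; exact hdxy.symm
      · rw [hva, Pi.single_neg, Pi.single_neg]; abel
      · rw [hwa, Pi.single_neg, Pi.single_neg, hax]; abel
  · by_cases hby : b = y
    · refine ⟨1, b, a, x, Or.inl rfl, hab.symm, ?_, hax, hdab, ?_, ?_, ?_⟩
      · rw [hby]; exact hxy.symm
      · rw [hby]; exact hdxy
      · rw [hva]
      · rw [hwa, hby]
    · exfalso
      rw [if_neg hax, if_neg hby] at hvw
      split_ifs at hvw <;> omega

end Cfsg.Agent.Ree.VecB
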