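import Mathlib
import Cfsg.Agent.LieExceptional.ReeArith

/-!
# S0343, numerical part: arithmetic of the pattern with eight rows
-/

set_option autoImplicit false

namespace Cfsg.Agent.Ree.EightArith

/-- Case I. -/
theorem caseOne {Q M X2 X3 X6 X7 : ℤ} (hQ : 13 ≤ Q ∨ Q ≤ -11) (hM : M ≠ 0) (h2 : X2 ≠ 0) (h3 : X3 ≠ 0)
    (h6 : X6 ≠ 0) (h7 : X7 ≠ 0) (hs2 : X2 + X3 = M + 1) (hs6 : X6 + X7 = M + 1) (κ : ℚ)
    (c0 : -1 - 1 / (M : ℚ) + ((Q + 1) / 2 : ℚ) ^ 2 / X2 + ((Q + 1) / 2 : ℚ) ^ 2 / X3 = κ * (-2 / (Q + 1) - 1))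
    (c2 : -1 - 1 / (M : ℚ) + (Q : ℚ) ^ 2 / X6 + (Q : ℚ) ^ 2 / X7 = κ * (1 / Q - 1))
    (hD : M + X6 ≠ 0) (hb : 1 / (M : ℚ) + (Q : ℚ) ^ 2 / X6 = (1 + Q) ^ 2 / (M + X6))
    (hk : κ * (M + X6) = (Q + 1) ^ 2 * ((1 + Q) - 2 * (Q + 1))) :
    M = -(Q ^ 2 + Q + 1) ∧ 12 * (X2 * X3) = Q * (Q + 1) ^ 2 * (Q ^ 2 + Q + 1) ∧
      κ * (Q ^ 2 + Q + 1) = (Q + 1) ^ 2 := by
  have hQ0 : (Q : ℚ) ≠ 0 := by
    intro h; have : Q = 0 := by exact_mod_cast h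
    omega
  have hQ1 : (Q : ℚ) + 1 ≠ 0 := by
    intro h; have : Q + 1 = 0 := by exact_mod_cast h
    omega
  have hMq : (M : ℚ) ≠ 0 := by exact_mod_cast hM
  have h2q : (X2 : ℚ) ≠ 0 := by exact_mod_cast h2
  have h3q : (X3 : ℚ) ≠ 0 := by exact_mod_cast h3
  have h6q : (X6 : ℚ) ≠ 0 := by exact_mod_cast h6
  have h7q : (X7 : ℚ) ≠ 0 := by exact_mod_cast h7
  have hDq : (M : ℚ) + X6 ≠ 0 := by exact_mod_cast hD
  have hs2q : (X2 : ℚ) + X3 = M + 1 := by exact_mod_cast hs2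
  have hs6q : (X6 : ℚ) + X7 = M + 1 := by exact_mod_cast hs6
  -- X6 = Q M
  have e6 : (X6 : ℚ) = Q * M := by
    field_simp at hb
    have h : ((X6 : ℚ) - Q * M) ^ 2 = 0 := by linear_combination hb
    have := pow_eq_zero_iff (two_ne_zero) |>.mp h
    linarith
  have hκ : κ * M = -(Q + 1) ^ 2 := by
    rw [e6] at hk
    have : (Q + 1 : ℚ) * (κ * M) = (Q + 1) * (-(Q + 1) ^ 2) := by linear_combination hk
    exact mul_left_cancel₀ hQ1 this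
  have e7 : (X7 : ℚ) = 1 - (Q - 1) * M := by linarith
  have hκe : κ = -(Q + 1) ^ 2 / M := by rw [eq_div_iff hMq]; exact hκ
  have key : ((M : ℚ) + (Q ^ 2 + Q + 1)) * (Q * (M + 1) - (Q + 1)) = 0 := by
    rw [e6, hκe] at c2
    field_simp at c2
    rw [e7] at c2
    have h : ((Q : ℚ) - 1) * (((M : ℚ) + (Q ^ 2 + Q + 1)) * (Q * (M + 1) - (Q + 1))) = 0 := by
      linear_combination c2
    have hQm : (Q : ℚ) - 1 ≠ 0 := by
      intro h; have : Q - 1 = 0 := by exact_mod_cast h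
      omega
    exact (mul_eq_zero.mp h).resolve_left hQm
  have hM1 : M = -(Q ^ 2 + Q + 1) := by
    rcases mul_eq_zero.mp key with h | h
    · have : M + (Q ^ 2 + Q + 1) = 0 := by exact_mod_cast h
      linarith
    · exfalso
      have h' : Q * (M + 1) - (Q + 1) = 0 := by exact_mod_cast h
      have hdvd : Q ∣ 1 := ⟨M, by linarith⟩
      have := Int.isUnit_iff.mp (isUnit_of_dvd_one hdvd)
      omega
  have hMq1 : (M : ℚ) = -(Q ^ 2 + Q + 1) := by exact_mod_cast hM1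
  have hR : (Q : ℚ) ^ 2 + Q + 1 ≠ 0 := by
    intro h; apply hMq; rw [hMq1, h]; ring
  refine ⟨hM1, ?_, ?_⟩
  · rw [hκe] at c0
    field_simp at c0
    have h5 : (Q + 1 : ℚ) * (12 * (X2 * X3)) = (Q + 1) * (Q * (Q + 1) ^ 2 * (Q ^ 2 + Q + 1)) := by
      linear_combination (-1 : ℚ) * c0 + (M * (Q + 1) ^ 2 : ℚ) * hs2q
        + (-4 * X2 * X3 + (Q + 1) ^ 2 * (M - (Q ^ 2 + Q + 1) + 1) : ℚ) * hMq1
    have : (12 : ℚ) * (X2 * X3) = Q * (Q + 1) ^ 2 * (Q ^ 2 + Q + 1) := mul_left_cancel₀ hQ1 h5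
    exact_mod_cast this
  · rw [hMq1] at hκ
    linarith

/-- The case `{4, 4'}`. -/
theorem caseFour_false {Q M X6 X7 : ℤ} (hQ8 : Q % 8 = 5) (hM : M ≠ 0) (hs6 : X6 + X7 = M + 1) (κ : ℚ)
    (c2 : -1 - 1 / (M : ℚ) + (Q : ℚ) ^ 2 / X6 + (Q : ℚ) ^ 2 / X7 = κ * (1 / Q - 1))
    (hD : X6 + X7 ≠ 0) (hb : (Q : ℚ) ^ 2 / X6 + (Q : ℚ) ^ 2 / X7 = (2 * Q) ^ 2 / (X6 + X7))
    (hk : κ * (X6 + X7) = (Q + 1) ^ 2 * (2 * Q - 2 * (Q + 1))) : False := by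
  have hQ0 : (Q : ℚ) ≠ 0 := by
    intro h; have : Q = 0 := by exact_mod_cast h
    omega
  have hMq : (M : ℚ) ≠ 0 := by exact_mod_cast hM
  have hs6q : (X6 : ℚ) + X7 = M + 1 := by exact_mod_cast hs6
  have hDq : (X6 : ℚ) + X7 ≠ 0 := by exact_mod_cast hD
  have hM1 : (M : ℚ) + 1 ≠ 0 := by rw [← hs6q]; exact hDq
  rw [hs6q] at hb hk
  have c2' : -1 - 1 / (M : ℚ) + (2 * Q) ^ 2 / (M + 1) = κ * (1 / Q - 1) := by
    rw [← hb, ← c2]; ring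
  have hκe : κ = -2 * (Q + 1) ^ 2 / (M + 1) := by
    rw [eq_div_iff hM1, hk]; ring
  rw [hκe] at c2'
  field_simp at c2'
  have h1 : (Q : ℚ) * (M + 1) ^ 2 = 2 * M * (Q ^ 3 - Q ^ 2 + Q + 1) := by
    linear_combination (-1 : ℚ) * c2'
  have h2 : Q * (M + 1) ^ 2 = 2 * M * (Q ^ 3 - Q ^ 2 + Q + 1) := by exact_mod_cast h1
  have h3 : Q ∣ M := by
    have h4 : Q ∣ 2 * M := ⟨(M + 1) ^ 2 - 2 * M * (Q ^ 2 - Q + 1), by linear_combination (-1 : ℤ) * h2⟩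
    obtain ⟨c, hc⟩ := h4
    have : c % 2 = 0 := by
      have h5 : (Q * c) % 2 = 0 := by omega
      rcases Int.emod_two_eq_zero_or_one c with h6 | h6
      · exact h6
      · rw [Int.mul_emod, h6] at h5
        omega
    exact ⟨c / 2, by
      have h7 : c = 2 * (c / 2) := by omega
      rw [h7] at hc
      linarith⟩
  obtain ⟨t, rfl⟩ := h3
  have hQ0' : Q ≠ 0 := by omega
  have h4 : (Q * t + 1) ^ 2 = 2 * t * (Q ^ 3 - Q ^ 2 + Q + 1) :=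
    mul_left_cancel₀ hQ0' (by linear_combination h2)
  have h5 : t ∣ 1 := ⟨2 * (Q ^ 3 - Q ^ 2 + Q + 1) - Q ^ 2 * t - 2 * Q, by linear_combination h4⟩
  rcases Int.isUnit_iff.mp (isUnit_of_dvd_one h5) with h | h
  · rw [h] at h4
    have h6 : (Q - 1) ^ 2 * (2 * Q + 1) = 0 := by linear_combination (-1 : ℤ) * h4
    rcases mul_eq_zero.mp h6 with h7 | h7
    · have := pow_eq_zero_iff (two_ne_zero) |>.mp h7
      omega
    · omega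
  · rw [h] at h4
    have h6 : (Q + 1) * (2 * Q ^ 2 - 3 * Q + 3) = 0 := by linear_combination h4
    rcases mul_eq_zero.mp h6 with h7 | h7
    · omega
    · nlinarith [sq_nonneg (4 * Q - 3)]

/-- Case II. -/
theorem caseTwo_false {Q M X2 X3 : ℤ} {m g : ℕ} (hQ : 13 ≤ Q ∨ Q ≤ -11) (hQ8 : Q % 8 = 5)
    (hm : 4 * (m : ℤ) = |Q - 1|) (hg : 0 < g) (hcg : |Q| * (Q ^ 2 - 1) ∣ (g : ℤ)) (hM : M ≠ 0) (h2 : X2 ≠ 0)
    (h3 : X3 ≠ 0) (hs2 : X2 + X3 = M + 1)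
    (κ : ℚ) (hκ : κ = |(Q : ℚ)| ^ 3 * (Q - 1) * (Q + 1) ^ 3 / g)
    (c0 : -1 - 1 / (M : ℚ) + ((Q + 1) / 2 : ℚ) ^ 2 / X2 + ((Q + 1) / 2 : ℚ) ^ 2 / X3 = κ * (-2 / (Q + 1) - 1))
    (hk : κ * (2 * X2) = (Q + 1) ^ 3) (hM8 : (8 : ℤ) ∣ M - 1) (hX8 : (8 : ℤ) ∣ 2 * X2 + (Q + 1))
    (hMm : (m : ℤ) ∣ M - 1) (hXm : (m : ℤ) ∣ X2 - 3) : False := by
  have hQ1 : (Q : ℚ) + 1 ≠ 0 := by
    intro h; have : Q + 1 = 0 := by exact_mod_cast h
    omega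
  have hQ1' : Q + 1 ≠ 0 := by omega
  have hQm' : Q - 1 ≠ 0 := by omega
  have hgq : (g : ℚ) ≠ 0 := by positivity
  have hMq : (M : ℚ) ≠ 0 := by exact_mod_cast hM
  have h2q : (X2 : ℚ) ≠ 0 := by exact_mod_cast h2
  have h3q : (X3 : ℚ) ≠ 0 := by exact_mod_cast h3
  -- g = 2 X2 |Q|^3 (Q-1)
  have hgX : (g : ℤ) = 2 * X2 * |Q| ^ 3 * (Q - 1) := by
    have h4 : (g : ℚ) = 2 * X2 * |(Q : ℚ)| ^ 3 * (Q - 1) := by
      rw [hκ] at hk
      have h5 : (Q + 1 : ℚ) ^ 3 * (g : ℚ) = (Q + 1) ^ 3 * (2 * X2 * |(Q : ℚ)| ^ 3 * (Q - 1)) := by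
        field_simp at hk
        linear_combination (-1 : ℚ) * hk * (Q + 1 : ℚ) ^ 3
      exact mul_left_cancel₀ (pow_ne_zero _ hQ1) h5
    have h5 : ((g : ℤ) : ℚ) = ((2 * X2 * |Q| ^ 3 * (Q - 1) : ℤ) : ℚ) := by
      push_cast
      exact h4
    exact_mod_cast h5
  -- Q + 1 ∣ 2 X2
  have habs : |Q| ≠ 0 := by
    rw [abs_ne_zero]; omega
  have hdvd : (Q + 1) ∣ 2 * X2 := by
    rw [hgX] at hcg
    have h4 : (Q + 1) ∣ 2 * X2 * |Q| ^ 2 := by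
      have h5 : (|Q| * (Q - 1)) * (Q + 1) ∣ (|Q| * (Q - 1)) * (2 * X2 * |Q| ^ 2) := by
        convert hcg using 1 <;> ring
      exact (mul_dvd_mul_iff_left (mul_ne_zero habs hQm')).mp h5
    rw [sq_abs] at h4
    have hco : IsCoprime (Q + 1) (Q ^ 2) := by
      have : IsCoprime (Q + 1) Q := ⟨1, -1, by ring⟩
      exact this.pow_right
    exact hco.dvd_of_dvd_mul_right h4
  obtain ⟨Z, hZ⟩ := hdvd
  obtain ⟨y, hy⟩ : ∃ y, 2 * y = Q + 1 := ⟨(Q + 1) / 2, by omega⟩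
  have hX2 : X2 = y * Z := by
    have : 2 * X2 = 2 * (y * Z) := by rw [hZ, ← hy]; ring
    linarith
  have hmQ : (m : ℤ) ∣ Q - 1 := by
    have : (m : ℤ) ∣ |Q - 1| := ⟨4, by linarith⟩
    exact (dvd_abs _ _).mp this
  have hmodd : IsCoprime (m : ℤ) 2 := by
    rw [Int.isCoprime_iff_gcd_eq_one]
    have h4 : m % 2 = 1 := by
      rcases abs_cases (Q - 1) with h | h <;> omega
    have h5 : Nat.Coprime m 2 := by
      rw [Nat.coprime_comm, Nat.coprime_two_left]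
      exact Nat.odd_iff.mpr h4
    exact_mod_cast h5
  have hZm : (m : ℤ) ∣ Z - 3 := by
    have h4 : (m : ℤ) ∣ (Z - 3) * 2 := by
      have h5 : (Z - 3) * 2 = 2 * (X2 - 3) - (Q - 1) * Z := by rw [mul_sub, hZ]; ring
      rw [h5]
      exact dvd_sub (hXm.mul_left 2) (hmQ.mul_right Z)
    exact hmodd.dvd_of_dvd_mul_right h4
  have hZ4 : (4 : ℤ) ∣ Z - 3 := by
    rw [hZ] at hX8
    have h4 : (8 : ℤ) ∣ (Q + 1) * (Z + 1) := by
      convert hX8 using 1; ring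
    obtain ⟨u, hu⟩ : ∃ u, Q = 8 * u + 5 := ⟨Q / 8, by omega⟩
    subst hu
    obtain ⟨c, hc⟩ := h4
    have h5 : (4 : ℤ) ∣ 3 * (Z + 1) := ⟨c - u * (Z + 1), by linarith⟩
    omega
  have hco4 : IsCoprime (m : ℤ) 4 := by
    have : (4 : ℤ) = 2 ^ 2 := by norm_num
    rw [this]; exact hmodd.pow_right
  have hZQ : (Q - 1) ∣ Z - 3 := by
    have h4 : (m : ℤ) * 4 ∣ Z - 3 := hco4.mul_dvd hZm hZ4
    have h5 : |Q - 1| ∣ Z - 3 := by rw [← hm, mul_comm]; exact h4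
    exact (abs_dvd _ _).mp h5
  have hMQ : (Q - 1) / 2 ∣ M - 1 := by
    have h4 : (m : ℤ) * 2 ∣ M - 1 := hmodd.mul_dvd hMm (dvd_trans (by norm_num) hM8)
    have h5 : |(Q - 1) / 2| ∣ M - 1 := by
      have : |(Q - 1) / 2| = (m : ℤ) * 2 := by
        rcases abs_cases (Q - 1) with h | h <;> rcases abs_cases ((Q - 1) / 2) with h' | h' <;> omega
      rw [this]; exact h4
    exact (abs_dvd _ _).mp h5
  have hQ5 : 5 < |Q| := by
    rcases abs_cases Q with h | h <;> omega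
  have he : X3 = M + 1 - y * Z := by rw [← hX2]; linarith
  have hZ0 : Z ≠ 0 := by
    rintro rfl
    apply h2; rw [hX2]; ring
  have hy0 : y ≠ 0 := by omega
  refine Cfsg.Agent.LieExceptional.ReeArith.caseII_false hQ8 hQ5 hy he hZQ hMQ ?_
  -- the class equation
  have hZq : (Z : ℚ) ≠ 0 := by exact_mod_cast hZ0
  have hyq : (y : ℚ) ≠ 0 := by exact_mod_cast hy0
  have hy2 : (Q : ℚ) + 1 = 2 * y := by
    have : (2 * y : ℤ) = Q + 1 := hy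
    have h4 : ((2 * y : ℤ) : ℚ) = ((Q + 1 : ℤ) : ℚ) := by rw [this]
    push_cast at h4
    linarith
  have hX2q : (X2 : ℚ) = y * Z := by exact_mod_cast hX2
  have hκ2 : κ = 4 * y ^ 2 / Z := by
    rw [hX2q, hy2] at hk
    field_simp
    have h4 : (2 * y : ℚ) * (κ * Z) = (2 * y) * (4 * y ^ 2) := by linear_combination hk
    exact mul_left_cancel₀ (mul_ne_zero two_ne_zero hyq) h4
  rw [hκ2, hX2q, hy2] at c0
  field_simp at c0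
  have hQq : (Q : ℚ) = 2 * y - 1 := by linarith
  have hX3q : (X3 : ℚ) = M + 1 - y * Z := by exact_mod_cast he
  have h4 : (Z : ℚ) * (M + 1) * X3 - (M + 1) * y * M = 2 * y * (Q + 3) * M * X3 := by
    rw [hQq]
    linear_combination (-1 : ℚ) * c0 + (M * y : ℚ) * hX3q
  exact_mod_cast h4

end Cfsg.Agent.Ree.EightArith
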