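import Mathlib

/-!
# [REE] S0343, the case of an even field

`W` is a group of odd order acting faithfully on an elementary abelian group `V` of order `2q`, `q = 2^n`,
such that the stabilizer of some `t ≠ 0` has order `q - 1` and acts semiregularly on `V \ {0, t}`.
If `t` is moved, then `q = 4`.
-/

set_option autoImplicit false
set_option linter.unusedSectionVars false

namespace Cfsg.Agent.Ree.EvenQ

open MulAction

section

variable {V : Type*} [AddCommGroup V] [Finite V] {W : Type*} [Group W] [Finite W]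
  [DistribMulAction W V]

/-- The configuration. -/
structure Cfg (t : V) (q n : ℕ) : Prop where
  hn : 2 ≤ n
  hq : q = 2 ^ n
  card : Nat.card V = 2 * q
  exp : ∀ v : V, v + v = 0
  ht : t ≠ 0
  odd : Odd (Nat.card W)
  hA : Nat.card (stabilizer W t) = q - 1
  free : ∀ a : W, a • t = t → a ≠ 1 → ∀ v : V, a • v = v → v = 0 ∨ v = t
  move : ∃ w : W, w • t ≠ t

variable {t : V} {q n : ℕ} (h : Cfg (W := W) t q n)

include h

theorem Cfg.q4 : 4 ≤ q := by
  rw [h.hq]
  calc 4 = 2 ^ 2 := by norm_num
    _ ≤ 2 ^ n := Nat.pow_le_pow_right (by norm_num) h.hn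

theorem Cfg.qeven : 2 ∣ q := by
  rw [h.hq]; exact dvd_pow_self 2 (by have := h.hn; omega)

theorem Cfg.smul_ne {v : V} (hv : v ≠ 0) (w : W) : w • v ≠ 0 := by
  intro h0
  apply hv
  have h1 := congrArg (fun x => w⁻¹ • x) h0
  simpa using h1

theorem Cfg.ncard_orbit {v : V} (h0 : v ≠ 0) (h1 : v ≠ t) :
    (orbit (stabilizer W t) v).ncard = q - 1 := by
  have h2 : stabilizer (stabilizer W t) v = ⊥ := by
    rw [eq_bot_iff]
    rintro ⟨a, ha⟩ hav
    rw [Subgroup.mem_bot]
    by_contra hne
    have h3 : a ≠ 1 := fun h4 => hne (Subtype.ext h4)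
    have h4 : a • v = v := hav
    rcases h.free a ha h3 v h4 with h5 | h5
    · exact h0 h5
    · exact h1 h5
  rw [← MulAction.index_stabilizer, h2, Subgroup.index_bot, h.hA]

theorem Cfg.transitive {v : V} (hv : v ≠ 0) : ∃ w : W, w • t = v := by
  classical
  by_contra hcon
  push Not at hcon
  obtain ⟨w₁, hw₁⟩ := h.move
  set v₁ := w₁ • t with hv₁
  have hv₁0 : v₁ ≠ 0 := h.smul_ne h.ht w₁
  have hvt : v ≠ t := fun h1 => hcon 1 (by rw [one_smul, h1])
  set A := stabilizer W t with hA
  have hX0 := h.ncard_orbit hv hvt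
  have hX1 := h.ncard_orbit hv₁0 hw₁
  have hO1 : ∀ x ∈ orbit A v₁, ∃ w : W, w • t = x := by
    rintro x ⟨a, rfl⟩
    exact ⟨a * w₁, by rw [mul_smul]; rfl⟩
  have hO0 : ∀ x ∈ orbit A v, ∀ w : W, w • t ≠ x := by
    rintro x ⟨a, rfl⟩ w hw
    apply hcon ((a : W)⁻¹ * w)
    rw [mul_smul, hw]
    change (a : W)⁻¹ • ((a : W) • v) = v
    rw [inv_smul_smul]
  have hdisj : Disjoint (orbit A v₁) (orbit A v) := by
    rw [Set.disjoint_left]
    intro x hx hx'
    obtain ⟨w, hw⟩ := hO1 x hx
    exact hO0 x hx' w hw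
  have h0X : ∀ u : V, u ≠ 0 → (0 : V) ∉ orbit A u := by
    rintro u hu ⟨a, ha⟩
    exact h.smul_ne hu (a : W) ha
  have htX : ∀ u : V, u ≠ t → t ∉ orbit A u := by
    rintro u hu ⟨a, ha⟩
    apply hu
    have h2 : (a : W) • u = t := ha
    have h3 : (a : W) • t = t := a.2
    have h4 : (a : W) • u = (a : W) • t := by rw [h2, h3]
    exact smul_left_cancel _ h4
  have hU : ((orbit A v₁ ∪ orbit A v) ∪ ({0, t} : Set V)).ncard = 2 * q := by
    rw [Set.ncard_union_eq, Set.ncard_union_eq hdisj, hX0, hX1, Set.ncard_pair h.ht.symm]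
    · have := h.q4
      omega
    · rw [Set.disjoint_right]
      rintro x (rfl | hx) hx'
      · rcases hx' with h2 | h2
        · exact h0X _ hv₁0 h2
        · exact h0X _ hv h2
      · rw [Set.mem_singleton_iff] at hx
        subst hx
        rcases hx' with h2 | h2
        · exact htX _ hw₁ h2
        · exact htX _ hvt h2
  have huniv : ((orbit A v₁ ∪ orbit A v) ∪ ({0, t} : Set V)) = Set.univ := by
    apply Set.eq_of_subset_of_ncard_le (Set.subset_univ _)
    rw [Set.ncard_univ, hU, h.card]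
  have hO : orbit W t = orbit A v₁ ∪ {t} := by
    ext x
    constructor
    · rintro ⟨w, rfl⟩
      have h2 : w • t ∈ ((orbit A v₁ ∪ orbit A v) ∪ ({0, t} : Set V)) := by rw [huniv]; trivial
      rcases h2 with (h2 | h2) | h2
      · exact Or.inl h2
      · exact absurd rfl (hO0 _ h2 w)
      · rcases h2 with h2 | h2
        · exact absurd h2 (h.smul_ne h.ht w)
        · exact Or.inr h2
    · rintro (hx | hx)
      · obtain ⟨w, hw⟩ := hO1 x hx
        exact ⟨w, hw⟩
      · rw [Set.mem_singleton_iff] at hx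
        rw [hx]; exact mem_orbit_self t
  have hOc : (orbit W t).ncard = q := by
    rw [hO, Set.ncard_union_eq (Set.disjoint_singleton_right.2 (htX _ hw₁)), hX1,
      Set.ncard_singleton]
    have := h.q4
    omega
  have h5 : (orbit W t).ncard ∣ Nat.card W := by
    rw [← MulAction.index_stabilizer]
    exact Subgroup.index_dvd_card _
  rw [hOc] at h5
  have h6 := h.qeven.trans h5
  have h7 := h.odd
  rw [Nat.odd_iff] at h7
  omega

/-- A nontrivial element fixes at most one nonzero vector. -/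
theorem Cfg.unique {w : W} (hw : w ≠ 1) {u v : V} (hu : u ≠ 0) (hv : v ≠ 0) (hwu : w • u = u)
    (hwv : w • v = v) : u = v := by
  obtain ⟨g, rfl⟩ := h.transitive hu
  have h1 : (g⁻¹ * w * g) • t = t := by
    rw [mul_smul, mul_smul, hwu, inv_smul_smul]
  have h2 : g⁻¹ * w * g ≠ 1 := by
    intro h3
    apply hw
    have : w = g * (g⁻¹ * w * g) * g⁻¹ := by group
    rw [this, h3]; group
  have h3 : (g⁻¹ * w * g) • (g⁻¹ • v) = g⁻¹ • v := by
    rw [mul_smul, mul_smul, smul_inv_smul, hwv]
  rcases h.free _ h1 h2 _ h3 with h4 | h4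
  · exact absurd h4 (h.smul_ne hv _)
  · rw [← h4, smul_inv_smul]

theorem Cfg.orbit_eq : orbit W t = {v : V | v ≠ 0} := by
  ext v
  constructor
  · rintro ⟨w, rfl⟩
    exact h.smul_ne h.ht w
  · intro hv
    obtain ⟨w, hw⟩ := h.transitive hv
    exact ⟨w, hw⟩

theorem Cfg.ncard_ne : ({v : V | v ≠ 0} : Set V).ncard = 2 * q - 1 := by
  have h1 : ({v : V | v ≠ 0} : Set V) = Set.univ \ {0} := by
    ext v; simp
  rw [h1, Set.ncard_sdiff_singleton_of_mem (Set.mem_univ _), Set.ncard_univ, h.card]

theorem Cfg.card_W : Nat.card W = (2 * q - 1) * (q - 1) := by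
  rw [← Subgroup.index_mul_card (stabilizer W t), h.hA, MulAction.index_stabilizer, h.orbit_eq,
    h.ncard_ne]

theorem Cfg.card_stab {v : V} (hv : v ≠ 0) : Nat.card (stabilizer W v) = q - 1 := by
  have h1 := Subgroup.index_mul_card (stabilizer W v)
  obtain ⟨g, rfl⟩ := h.transitive hv
  have h2 : orbit W (g • t) = orbit W t := by
    rw [MulAction.orbit_smul]
  rw [MulAction.index_stabilizer, h2, h.orbit_eq, h.ncard_ne, h.card_W] at h1
  have := h.q4
  exact Nat.eq_of_mul_eq_mul_left (by omega) h1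

/-- The fixed-point-free elements together with `1`. -/
def Cfg.K (_ : Cfg (W := W) t q n) : Set W := {w | w = 1 ∨ ∀ v : V, v ≠ 0 → w • v ≠ v}

theorem Cfg.ncard_K : (h.K : Set W).ncard = 2 * q - 1 := by
  classical
  have : Fintype W := Fintype.ofFinite W
  have : Fintype V := Fintype.ofFinite V
  set B : Finset W := (Finset.univ.filter (fun v : V => v ≠ 0)).biUnion
    (fun v => Finset.univ.filter (fun w : W => w ≠ 1 ∧ w • v = v)) with hB
  have hcard : B.card = (2 * q - 1) * (q - 2) := by
    rw [hB, Finset.card_biUnion]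
    · have h1 : ∀ v ∈ Finset.univ.filter (fun v : V => v ≠ 0),
          (Finset.univ.filter (fun w : W => w ≠ 1 ∧ w • v = v)).card = q - 2 := by
        intro v hv
        have hv0 : v ≠ 0 := (Finset.mem_filter.1 hv).2
        have h2 : (Finset.univ.filter (fun w : W => w ≠ 1 ∧ w • v = v)) =
            (Finset.univ.filter (fun w : W => w • v = v)).erase 1 := by
          ext w; simp
        rw [h2, Finset.card_erase_of_mem (by simp)]
        have h3 : (Finset.univ.filter (fun w : W => w • v = v)).card = q - 1 := by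
          rw [← h.card_stab hv0, Nat.card_eq_fintype_card, Fintype.card_subtype]
          rfl
        rw [h3]; omega
      rw [Finset.sum_congr rfl h1, Finset.sum_const, smul_eq_mul]
      congr 1
      rw [← h.ncard_ne, ← Set.ncard_coe_finset]
      congr 1
      ext v; simp
    · intro u hu v hv huv
      have hu0 : u ≠ 0 := (Finset.mem_filter.1 hu).2
      have hv0 : v ≠ 0 := (Finset.mem_filter.1 hv).2
      change Disjoint _ _
      rw [Finset.disjoint_left]
      intro w hw hw'
      have h1 := (Finset.mem_filter.1 hw).2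
      have h2 := (Finset.mem_filter.1 hw').2
      exact huv (h.unique h1.1 hu0 hv0 h1.2 h2.2)
  have h1 : (h.K : Set W) = ((Finset.univ \ B : Finset W) : Set W) := by
    ext w
    rw [Finset.mem_coe, Finset.mem_sdiff]
    constructor
    · intro hw
      refine ⟨Finset.mem_univ _, fun hwB => ?_⟩
      rw [hB, Finset.mem_biUnion] at hwB
      obtain ⟨v, hv, hwv⟩ := hwB
      have hv0 : v ≠ 0 := (Finset.mem_filter.1 hv).2
      have h2 := (Finset.mem_filter.1 hwv).2
      rcases hw with hw | hw
      · exact h2.1 hw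
      · exact hw v hv0 h2.2
    · rintro ⟨-, hw⟩
      by_contra hcon
      apply hw
      unfold Cfg.K at hcon
      rw [Set.mem_ofPred_eq] at hcon
      push Not at hcon
      obtain ⟨h2, v, hv, h3⟩ := hcon
      rw [hB, Finset.mem_biUnion]
      exact ⟨v, by simp [hv], by simp [h2, h3]⟩
  rw [h1, Set.ncard_coe_finset, Finset.card_sdiff_of_subset (Finset.subset_univ _), Finset.card_univ,
    ← Nat.card_eq_fintype_card, h.card_W, hcard]
  have h4 := h.q4
  obtain ⟨r, rfl⟩ : ∃ r, q = r + 2 := ⟨q - 2, by omega⟩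
  have e1 : 2 * (r + 2) - 1 = 2 * r + 3 := by omega
  have e2 : r + 2 - 1 = r + 1 := by omega
  have e3 : r + 2 - 2 = r := by omega
  rw [e1, e2, e3]
  have : (2 * r + 3) * (r + 1) = (2 * r + 3) * r + (2 * r + 3) := by ring
  omega

theorem Cfg.cent_sub {k : W} (hk : k ∈ h.K) (hk1 : k ≠ 1) {c : W} (hc : c * k = k * c) :
    c ∈ h.K := by
  by_contra hcon
  unfold Cfg.K at hcon
  rw [Set.mem_ofPred_eq] at hcon
  push Not at hcon
  obtain ⟨h2, v, hv, h3⟩ := hcon
  rcases hk with hk | hk
  · exact hk1 hk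
  · apply hk v hv
    apply h.unique h2 (h.smul_ne hv k) hv _ h3
    rw [← mul_smul, hc, mul_smul, h3]

theorem Cfg.conj_K {k : W} (hk : k ∈ h.K) (g : W) : g * k * g⁻¹ ∈ h.K := by
  rcases hk with hk | hk
  · left; rw [hk]; group
  · right
    intro v hv h1
    apply hk (g⁻¹ • v) (h.smul_ne hv _)
    have h2 := congrArg (fun x => g⁻¹ • x) h1
    simp only [mul_smul, inv_smul_smul] at h2
    exact h2

/-- the free orbits of a centralizer -/
theorem Cfg.ncard_cent_orbit {k : W} (hk : k ∈ h.K) (hk1 : k ≠ 1) {v : V} (hv : v ≠ 0) :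
    (orbit (Subgroup.centralizer ({k} : Set W)) v).ncard =
      Nat.card (Subgroup.centralizer ({k} : Set W)) := by
  have h2 : stabilizer (Subgroup.centralizer ({k} : Set W)) v = ⊥ := by
    rw [eq_bot_iff]
    rintro ⟨a, ha⟩ hav
    rw [Subgroup.mem_bot]
    apply Subtype.ext
    have h3 : a • v = v := hav
    rcases h.cent_sub hk hk1 (Subgroup.mem_centralizer_singleton_iff.1 ha) with h4 | h4
    · exact h4
    · exact absurd h3 (h4 v hv)
  rw [← MulAction.index_stabilizer, h2, Subgroup.index_bot]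

theorem Cfg.card_cent_ge {k : W} (hk : k ∈ h.K) (hk1 : k ≠ 1) :
    q ≤ Nat.card (Subgroup.centralizer ({k} : Set W)) := by
  -- the class of `k` is contained in `K \ {1}`
  have h1 : (orbit (ConjAct W) k).ncard ≤ 2 * q - 2 := by
    have h2 : orbit (ConjAct W) k ⊆ h.K \ {1} := by
      rintro x ⟨g, rfl⟩
      change g • k ∈ _
      rw [ConjAct.smul_def]
      refine ⟨h.conj_K hk _, ?_⟩
      rw [Set.mem_singleton_iff]
      intro h3
      apply hk1
      have : k = (ConjAct.ofConjAct g)⁻¹ * (ConjAct.ofConjAct g * k * (ConjAct.ofConjAct g)⁻¹) *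
        ConjAct.ofConjAct g := by group
      rw [this, h3]; group
    calc (orbit (ConjAct W) k).ncard ≤ (h.K \ {1}).ncard := Set.ncard_le_ncard h2
      _ = 2 * q - 2 := by
        rw [Set.ncard_sdiff_singleton_of_mem (show (1 : W) ∈ h.K from Or.inl rfl), h.ncard_K]
        omega
  have h3 : (orbit (ConjAct W) k).ncard * Nat.card (Subgroup.centralizer ({k} : Set W)) =
      (2 * q - 1) * (q - 1) := by
    have h4 := Subgroup.index_mul_card (stabilizer (ConjAct W) k)
    rw [MulAction.index_stabilizer] at h4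
    have h5 : Nat.card (stabilizer (ConjAct W) k) =
        Nat.card (Subgroup.centralizer ({k} : Set W)) := by
      rw [ConjAct.stabilizer_eq_centralizer]
      rfl
    rw [h5] at h4
    rw [h4, ← h.card_W]
    rfl
  have hq4 := h.q4
  by_contra hcon
  push Not at hcon
  set c := Nat.card (Subgroup.centralizer ({k} : Set W))
  set m := (orbit (ConjAct W) k).ncard
  have h6 : c ≤ q - 1 := by omega
  have h7 : m * c ≤ (2 * q - 2) * (q - 1) := Nat.mul_le_mul h1 h6
  rw [h3] at h7
  obtain ⟨r, rfl⟩ : ∃ r, q = r + 2 := ⟨q - 2, by omega⟩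
  have e1 : 2 * (r + 2) - 1 = 2 * r + 3 := by omega
  have e2 : r + 2 - 1 = r + 1 := by omega
  have e3 : 2 * (r + 2) - 2 = 2 * r + 2 := by omega
  rw [e1, e2, e3] at h7
  nlinarith

theorem Cfg.cent_transitive {k : W} (hk : k ∈ h.K) (hk1 : k ≠ 1) {u v : V} (hu : u ≠ 0)
    (hv : v ≠ 0) : ∃ c ∈ Subgroup.centralizer ({k} : Set W), c • u = v := by
  by_contra hcon
  push Not at hcon
  have h1 := h.ncard_cent_orbit hk hk1 hu
  have h2 := h.ncard_cent_orbit hk hk1 hv
  have h3 := h.card_cent_ge hk hk1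
  set C := Subgroup.centralizer ({k} : Set W)
  have hdisj : Disjoint (orbit C u) (orbit C v) := by
    rw [Set.disjoint_left]
    rintro x ⟨a, ha⟩ ⟨b, hb⟩
    have ha' : (a : W) • u = x := ha
    have hb' : (b : W) • v = x := hb
    apply hcon ((b : W)⁻¹ * a) (C.mul_mem (C.inv_mem b.2) a.2)
    rw [mul_smul, ha', ← hb', inv_smul_smul]
  have h4 : (orbit C u ∪ orbit C v).ncard ≤ 2 * q - 1 := by
    rw [← h.ncard_ne]
    refine Set.ncard_le_ncard ?_ (Set.toFinite _)
    rintro x (⟨a, rfl⟩ | ⟨a, rfl⟩)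
    · exact h.smul_ne hu (a : W)
    · exact h.smul_ne hv (a : W)
  rw [Set.ncard_union_eq hdisj, h1, h2] at h4
  have := h.q4
  omega

theorem Cfg.card_cent {k : W} (hk : k ∈ h.K) (hk1 : k ≠ 1) :
    Nat.card (Subgroup.centralizer ({k} : Set W)) = 2 * q - 1 := by
  rw [← h.ncard_cent_orbit hk hk1 h.ht, ← h.ncard_ne]
  congr 1
  ext v
  constructor
  · rintro ⟨a, rfl⟩
    exact h.smul_ne h.ht (a : W)
  · intro hv
    obtain ⟨c, hc, rfl⟩ := h.cent_transitive hk hk1 h.ht hv
    exact ⟨⟨c, hc⟩, rfl⟩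

theorem Cfg.cent_eq {k : W} (hk : k ∈ h.K) (hk1 : k ≠ 1) :
    (Subgroup.centralizer ({k} : Set W) : Set W) = h.K := by
  refine Set.eq_of_subset_of_ncard_le ?_ ?_ (Set.toFinite _)
  · intro c hc
    exact h.cent_sub hk hk1 (Subgroup.mem_centralizer_singleton_iff.1 hc)
  · rw [h.ncard_K, ← Nat.card_coe_set_eq]
    exact (h.card_cent hk hk1).ge

theorem Cfg.comm_K {k l : W} (hk : k ∈ h.K) (hl : l ∈ h.K) : k * l = l * k := by
  by_cases hk1 : k = 1
  · rw [hk1]; simp
  · have h1 : l ∈ (Subgroup.centralizer ({k} : Set W) : Set W) := by rwa [h.cent_eq hk hk1]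
    exact (Subgroup.mem_centralizer_singleton_iff.1 h1).symm

theorem Cfg.exists_K : ∃ k ∈ h.K, k ≠ 1 := by
  by_contra hcon
  push Not at hcon
  have h1 : (h.K : Set W) ⊆ {1} := fun k hk => hcon k hk
  have h2 := Set.ncard_le_ncard h1
  rw [h.ncard_K, Set.ncard_singleton] at h2
  have := h.q4
  omega

theorem Cfg.inter {a : W} (ha : a ∈ h.K) (hat : a • t = t) : a = 1 := by
  rcases ha with ha | ha
  · exact ha
  · exact absurd hat (ha t h.ht)

end

section ring

variable {V : Type*} [AddCommGroup V] [Finite V] {W : Type*} [Group W] [Finite W]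
  [DistribMulAction W V] [Module (ZMod 2) V]

/-- The linear map of an element of `W`. -/
def T (w : W) : Module.End (ZMod 2) V :=
  AddMonoidHom.toZModLinearMap 2 (DistribSMul.toAddMonoidHom V w)

theorem T_apply (w : W) (v : V) : T w v = w • v := rfl

theorem T_mul (w w' : W) : (T (w * w') : Module.End (ZMod 2) V) = T w * T w' := by
  ext v
  change (w * w') • v = w • w' • v
  rw [mul_smul]

theorem T_one : (T (1 : W) : Module.End (ZMod 2) V) = 1 := by
  ext v
  change (1 : W) • v = v
  rw [one_smul]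

theorem aeval_conj {R A : Type*} [CommRing R] [Ring A] [Algebra R A] {x y a : A} (hxy : x * y = 1)
    (hyx : y * x = 1) (p : Polynomial R) :
    Polynomial.aeval (x * a * y) p = x * Polynomial.aeval a p * y := by
  have hpow : ∀ m : ℕ, (x * a * y) ^ m = x * a ^ m * y := by
    intro m
    induction m with
    | zero => rw [pow_zero, pow_zero, mul_one, hxy]
    | succ m ih =>
      rw [pow_succ, ih, pow_succ]
      calc x * a ^ m * y * (x * a * y) = x * a ^ m * (y * x) * a * y := by simp only [mul_assoc]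
        _ = x * (a ^ m * a) * y := by rw [hyx, mul_one]; simp only [mul_assoc]
  rw [Polynomial.aeval_eq_sum_range, Polynomial.aeval_eq_sum_range, Finset.mul_sum, Finset.sum_mul]
  apply Finset.sum_congr rfl
  intro i _
  rw [hpow, mul_smul_comm, smul_mul_assoc]

theorem Cfg.bound [FaithfulSMul W V] {t : V} {q n : ℕ} (h : Cfg (W := W) t q n) : q - 1 ≤ n + 1 := by
  classical
  obtain ⟨k, hk, hk1⟩ := h.exists_K
  have : Fintype V := Fintype.ofFinite V
  have hTinj : Function.Injective (T : W → Module.End (ZMod 2) V) := by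
    intro a b hab
    apply FaithfulSMul.eq_of_smul_eq_smul (α := V)
    intro v
    exact congrArg (fun f : Module.End (ZMod 2) V => f v) hab
  have hcomm : ∀ a ∈ (T '' h.K : Set (Module.End (ZMod 2) V)), ∀ b ∈ (T '' h.K : Set _),
      a * b = b * a := by
    rintro _ ⟨a, ha, rfl⟩ _ ⟨b, hb, rfl⟩
    rw [← T_mul, ← T_mul, h.comm_K ha hb]
  have hmc := Algebra.isMulCommutative_adjoin (ZMod 2) hcomm
  set E := Algebra.adjoin (ZMod 2) (T '' h.K : Set (Module.End (ZMod 2) V)) with hE
  let _ : CommRing E := { (inferInstance : Ring E) with mul_comm := hmc.is_comm.comm }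
  -- nonzero elements of `E` are injective
  have hinj : ∀ f : E, ∀ v : V, v ≠ 0 → (f : Module.End (ZMod 2) V) v = 0 → f = 0 := by
    intro f v hv hfv
    apply Subtype.ext
    apply LinearMap.ext
    intro u
    rw [ZeroMemClass.coe_zero, LinearMap.zero_apply]
    by_cases hu : u = 0
    · rw [hu, map_zero]
    · obtain ⟨c, hc, rfl⟩ := h.cent_transitive hk hk1 hv hu
      have hcK : c ∈ h.K := by rw [← h.cent_eq hk hk1]; exact hc
      have hTc : (T c : Module.End (ZMod 2) V) ∈ E := Algebra.subset_adjoin ⟨c, hcK, rfl⟩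
      have h1 : f * ⟨T c, hTc⟩ = ⟨T c, hTc⟩ * f := mul_comm _ _
      have h2 := congrArg (fun g : E => (g : Module.End (ZMod 2) V) v) h1
      change (f : Module.End (ZMod 2) V) (c • v) = c • ((f : Module.End (ZMod 2) V) v) at h2
      rw [h2, hfv, smul_zero]
  have hdom : NoZeroDivisors E := by
    refine ⟨?_⟩
    intro f g hfg
    by_cases hg : g = 0
    · exact Or.inr hg
    · left
      have h1 : ∃ v : V, (g : Module.End (ZMod 2) V) v ≠ 0 := by
        by_contra hcon
        push Not at hcon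
        exact hg (Subtype.ext (LinearMap.ext hcon))
      obtain ⟨v, hv⟩ := h1
      apply hinj f _ hv
      exact congrArg (fun x : E => (x : Module.End (ZMod 2) V) v) hfg
  have hnt : Nontrivial E := by
    refine ⟨⟨0, 1, fun h01 => ?_⟩⟩
    have h1 := congrArg (fun x : E => (x : Module.End (ZMod 2) V) t) h01
    exact h.ht h1.symm
  have hid : IsDomain E := NoZeroDivisors.to_isDomain E
  -- the polynomial
  have hfree : Module.Free (ZMod 2) V := inferInstance
  have hfin : Module.Finite (ZMod 2) V := inferInstance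
  set p := (T k : Module.End (ZMod 2) V).charpoly with hp
  have hpm : p.Monic := LinearMap.charpoly_monic _
  have hdeg : p.natDegree = n + 1 := by
    rw [hp, LinearMap.charpoly_natDegree]
    have h1 := Module.card_eq_pow_finrank (K := ZMod 2) (V := V)
    rw [ZMod.card, ← Nat.card_eq_fintype_card, h.card, h.hq, ← pow_succ'] at h1
    exact (Nat.pow_right_injective le_rfl h1).symm
  have hroot : Polynomial.aeval (T k : Module.End (ZMod 2) V) p = 0 :=
    LinearMap.aeval_self_charpoly _
  -- the conjugates of `k`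
  let x : stabilizer W t → E := fun a => ⟨T ((a : W) * k * (a : W)⁻¹),
    Algebra.subset_adjoin ⟨_, h.conj_K hk a, rfl⟩⟩
  have hx : Function.Injective x := by
    intro a b hab
    have h1 : (a : W) * k * (a : W)⁻¹ = b * k * (b : W)⁻¹ := hTinj (congrArg Subtype.val hab)
    have h2 : ((b : W)⁻¹ * a) * k = k * ((b : W)⁻¹ * a) := by
      calc ((b : W)⁻¹ * a) * k = (b : W)⁻¹ * (a * k * (a : W)⁻¹) * a := by group
        _ = (b : W)⁻¹ * (b * k * (b : W)⁻¹) * a := by rw [h1]
        _ = k * ((b : W)⁻¹ * a) := by group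
    have h3 : ((b : W)⁻¹ * a) ∈ h.K := h.cent_sub hk hk1 h2
    have h4 : ((b : W)⁻¹ * a) • t = t := by
      have ha : (a : W) • t = t := a.2
      have hb : (b : W) • t = t := b.2
      rw [mul_smul, ha, inv_smul_eq_iff, hb]
    have h5 := h.inter h3 h4
    apply Subtype.ext
    exact (inv_mul_eq_one.1 h5).symm
  have hxroot : ∀ a, Polynomial.aeval (x a) p = 0 := by
    intro a
    apply Subtype.ext
    have h1 : ((Polynomial.aeval (x a) p : E) : Module.End (ZMod 2) V) =
        Polynomial.aeval (T ((a : W) * k * (a : W)⁻¹) : Module.End (ZMod 2) V) p := by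
      have h2 := Polynomial.aeval_algHom_apply E.val (x a) p
      exact h2.symm
    rw [h1, T_mul, T_mul, aeval_conj (by rw [← T_mul, mul_inv_cancel, T_one])
      (by rw [← T_mul, inv_mul_cancel, T_one]), hroot, mul_zero, zero_mul]
    rfl
  have : Fintype (stabilizer W t) := Fintype.ofFinite _
  set P := p.map (algebraMap (ZMod 2) E) with hP
  have hP0 : P ≠ 0 := (hpm.map _).ne_zero
  have h6 : (Finset.univ.image x).card ≤ P.natDegree := by
    apply Polynomial.card_le_degree_of_subset_roots
    intro y hy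
    rw [Finset.mem_val, Finset.mem_image] at hy
    obtain ⟨a, -, rfl⟩ := hy
    rw [Polynomial.mem_roots hP0, Polynomial.IsRoot.def, hP, Polynomial.eval_map_algebraMap]
    exact hxroot a
  rw [Finset.card_image_of_injective _ hx, Finset.card_univ, ← Nat.card_eq_fintype_card, h.hA,
    hP, hpm.natDegree_map, hdeg] at h6
  exact h6

/-- **The conclusion**: `q = 4`. -/
theorem Cfg.eq_four [FaithfulSMul W V] {t : V} {q n : ℕ} (h : Cfg (W := W) t q n) : q = 4 := by
  have h1 := h.bound
  have h2 := h.hq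
  have h3 := h.hn
  have h4 : n = 2 := by
    by_contra hne
    have h5 : 3 ≤ n := by omega
    have h6 : ∀ m : ℕ, 3 ≤ m → m + 3 ≤ 2 ^ m := by
      intro m hm
      induction m, hm using Nat.le_induction with
      | base => norm_num
      | succ m hm ih => rw [pow_succ]; omega
    have h7 := h6 n h5
    omega
  rw [h2, h4]; norm_num

end ring

end Cfsg.Agent.Ree.EvenQ
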