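import Cfsg.Agent.Ree.EvenQ
import Cfsg.Agent.Ree.LocalSetup
import Cfsg.Agent.WeakTI.PslTwo
import Cfsg.Agent.Walter.PSLFacts
import Cfsg.Agent.SmallSimple.SylowEight
import Cfsg.Agent.TwoFusion.AbelianJanko

/-!
# [REE] S0343: the case of an even field, group part
-/

set_option autoImplicit false
set_option linter.unusedSectionVars false

namespace Cfsg.Agent.Ree.EvenQGroup

open Subgroup
open Cfsg.Agent.Ree.LocalSetup (Comp)

/-- Multiplicative version of `EvenQ.Cfg.eq_four`. -/
theorem eq_four_mul {S : Type*} [CommGroup S] [Finite S] (W : Subgroup (MulAut S)) (t : S) (q n : ℕ)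
    (hn : 2 ≤ n) (hq : q = 2 ^ n) (card : Nat.card S = 2 * q) (exp : ∀ s : S, s * s = 1) (ht : t ≠ 1)
    (odd : Odd (Nat.card W)) (hA : Nat.card {w : MulAut S // w ∈ W ∧ w t = t} = q - 1)
    (free : ∀ w ∈ W, w t = t → w ≠ 1 → ∀ s : S, w s = s → s = 1 ∨ s = t)
    (move : ∃ w ∈ W, w t ≠ t) : q = 4 := by
  let V := Additive S
  let _ : DistribMulAction W V :=
    { smul := fun w v => Additive.ofMul ((w : MulAut S) v.toMul)
      one_smul := fun v => rfl
      mul_smul := fun w w' v => rfl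
      smul_zero := fun w => congrArg Additive.ofMul (map_one (w : MulAut S))
      smul_add := fun w u v => congrArg Additive.ofMul (map_mul (w : MulAut S) u.toMul v.toMul) }
  have hsm : ∀ (w : W) (v : V), w • v = Additive.ofMul ((w : MulAut S) v.toMul) := fun _ _ => rfl
  have hf : FaithfulSMul W V := by
    refine ⟨?_⟩
    intro a b hab
    apply Subtype.ext
    apply MulEquiv.ext
    intro s
    exact congrArg Additive.toMul (hab (Additive.ofMul s))
  have hfinW : Finite (MulAut S) := inferInstance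
  have hexp : ∀ v : V, v + v = 0 := fun v => congrArg Additive.ofMul (exp v.toMul)
  let _ : Module (ZMod 2) V := AddCommGroup.zmodModule (n := 2) (fun v => by rw [two_nsmul]; exact hexp v)
  have h : EvenQ.Cfg (W := W) (V := V) (Additive.ofMul t) q n :=
    { hn := hn
      hq := hq
      card := card
      exp := hexp
      ht := fun h0 => ht (congrArg Additive.toMul h0)
      odd := odd
      hA := by
        rw [← hA]
        refine Nat.card_congr ⟨fun w => ⟨w.1, w.1.2, congrArg Additive.toMul w.2⟩,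
          fun w => ⟨⟨w.1, w.2.1⟩, congrArg Additive.ofMul w.2.2⟩, fun _ => rfl, fun _ => rfl⟩
      free := by
        intro a ha ha1 v hv
        have h1 := free a a.2 (congrArg Additive.toMul ha) (fun h2 => ha1 (Subtype.ext h2)) v.toMul
          (congrArg Additive.toMul hv)
        rcases h1 with h1 | h1
        · exact Or.inl (congrArg Additive.ofMul h1)
        · exact Or.inr (congrArg Additive.ofMul h1)
      move := by
        obtain ⟨w, hw, hwt⟩ := move
        exact ⟨⟨w, hw⟩, fun h0 => hwt (congrArg Additive.toMul h0)⟩ }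
  exact h.eq_four

variable {G : Type*} [Group G]

local notation "PSL2" F => Matrix.ProjectiveSpecialLinearGroup (Fin 2) F

theorem comp_of_center {F : Type*} [Field F] {t : G} (ht : orderOf t = 2)
    (hcen : ∀ x : PSL2 F, (∀ g, g * x = x * g) → x = 1)
    (e : Subgroup.centralizer ({t} : Set G) ≃* Multiplicative (ZMod 2) × PSL2 F) :
    ∃ K : Subgroup G, Comp F t K := by
  have htC : t ∈ Subgroup.centralizer ({t} : Set G) := by
    rw [Subgroup.mem_centralizer_singleton_iff]
  obtain ⟨tt, htt⟩ : ∃ tt : Subgroup.centralizer ({t} : Set G), (tt : G) = t := ⟨⟨t, htC⟩, rfl⟩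
  have h1 : ∀ g, g * tt = tt * g := by
    intro g
    apply Subtype.ext
    rw [Subgroup.coe_mul, Subgroup.coe_mul, htt]
    exact Subgroup.mem_centralizer_singleton_iff.1 g.2
  have h2 : (e tt).2 = 1 := by
    apply hcen
    intro g
    have := congrArg e (h1 (e.symm (1, g)))
    rw [map_mul, map_mul, e.apply_symm_apply] at this
    exact congrArg Prod.snd this
  have h3 : (e tt).1 ≠ 1 := by
    intro h
    have h4 : e tt = 1 := Prod.ext h h2
    have h5 : tt = 1 := by simpa using h4
    rw [h5] at htt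
    rw [← htt, Subgroup.coe_one, orderOf_one] at ht
    omega
  have h22 : ∀ a b : Multiplicative (ZMod 2), a ≠ 1 → b ≠ 1 → a * b = 1 := by decide
  let g : (PSL2 F) →* G := (Subgroup.subtype _).comp (e.symm.toMonoidHom.comp (MonoidHom.inr _ _))
  have hgdef : ∀ x, g x = ((e.symm (1, x) : Subgroup.centralizer ({t} : Set G)) : G) := fun x => rfl
  have hg : Function.Injective g := by
    intro x y hxy
    rw [hgdef, hgdef] at hxy
    have := e.symm.injective (Subtype.ext hxy)
    exact congrArg Prod.snd this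
  refine ⟨g.range, ?_, ?_, ?_, ⟨(MonoidHom.ofInjective hg).symm⟩⟩
  · rintro _ ⟨x, rfl⟩
    exact (e.symm (1, x)).2
  · rintro ⟨x, hx⟩
    apply h3
    have : e.symm (1, x) = tt := Subtype.ext ((hgdef x).symm.trans (hx.trans htt.symm))
    rw [← this, e.apply_symm_apply]
  · intro y hy
    by_cases h : (e ⟨y, hy⟩).1 = 1
    · left
      refine ⟨(e ⟨y, hy⟩).2, ?_⟩
      rw [hgdef]
      have : ((1 : Multiplicative (ZMod 2)), (e ⟨y, hy⟩).2) = e ⟨y, hy⟩ := Prod.ext h.symm rfl
      rw [this, e.symm_apply_apply]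
    · right
      refine ⟨(e ⟨y, hy⟩).2, ?_⟩
      rw [hgdef]
      have : ((1 : Multiplicative (ZMod 2)), (e ⟨y, hy⟩).2) = e (tt * ⟨y, hy⟩) := by
        rw [map_mul]
        apply Prod.ext
        · exact (h22 _ _ h3 h).symm
        · change _ = (e tt).2 * _
          rw [h2, one_mul]
      rw [this, e.symm_apply_apply, Subgroup.coe_mul, htt]

/-- The center of `PSL(2, F)`, char 2, is trivial. -/
theorem center_even {F : Type*} [Field F] [Fintype F] [CharP F 2] (h3 : 3 ≤ Fintype.card F)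
    (x : PSL2 F) (hx : ∀ g, g * x = x * g) : x = 1 := by
  by_contra hne
  have hcard := WeakTI.PslTwo.card_eq (MulEquiv.refl (PSL2 F))
  obtain ⟨n, _, hn⟩ := FiniteField.card F 2
  have h2q : 2 ∣ Fintype.card F := by rw [hn]; exact dvd_pow_self 2 n.ne_zero
  have hfin : Finite (PSL2 F) := inferInstance
  -- an involution
  obtain ⟨u, hu⟩ := exists_prime_orderOf_dvd_card' (G := PSL2 F) 2
    (by rw [hcard]; exact h2q.mul_right _)
  have hu2 : u * u = 1 := by
    have := pow_orderOf_eq_one u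
    rwa [hu, pow_two] at this
  have hu1 : u ≠ 1 := by
    intro h
    rw [h, orderOf_one] at hu
    omega
  have hx2 : x * x = 1 := WeakTI.PslTwo.cent (MulEquiv.refl _) hu2 hu1 (hx u)
  have hall : ∀ y : PSL2 F, y * y = 1 := fun y =>
    WeakTI.PslTwo.cent (MulEquiv.refl _) hx2 hne (hx y).symm
  have h4 : 1 < Fintype.card F ^ 2 - 1 := by
    have : 3 ^ 2 ≤ Fintype.card F ^ 2 := Nat.pow_le_pow_left h3 2
    omega
  obtain ⟨p, hp, hpd⟩ := Nat.exists_prime_and_dvd h4.ne'
  have hp2 : p ≠ 2 := by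
    rintro rfl
    have h5 : 2 ∣ Fintype.card F ^ 2 := h2q.trans (dvd_pow_self _ (by norm_num))
    omega
  have : Fact p.Prime := ⟨hp⟩
  obtain ⟨y, hy⟩ := exists_prime_orderOf_dvd_card' (G := PSL2 F) p
    (by rw [hcard]; exact hpd.mul_left _)
  have h6 : orderOf y ∣ 2 := orderOf_dvd_of_pow_eq_one (by rw [pow_two]; exact hall y)
  rw [hy] at h6
  exact hp2 ((Nat.prime_dvd_prime_iff_eq hp Nat.prime_two).1 h6)

/-- **Even fields**: `|F| = 4`. -/
theorem card_eq_four [Finite G] [IsSimpleGroup G] (hab : ∀ P : Sylow 2 G, ∀ a b : P, a * b = b * a)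
    {F : Type*} [Field F] [Fintype F] (heven : Even (Fintype.card F)) (hq : 3 ≤ Fintype.card F)
    (t : G) (ht : orderOf t = 2)
    (e : Subgroup.centralizer ({t} : Set G) ≃* Multiplicative (ZMod 2) × PSL2 F) :
    Fintype.card F = 4 := by
  classical
  have h2 : Fact (Nat.Prime 2) := ⟨Nat.prime_two⟩
  -- the characteristic
  obtain ⟨p, hp⟩ := CharP.exists F
  obtain ⟨n, hpp, hn⟩ := FiniteField.card F p
  have hp2 : p = 2 := by
    have h3 : 2 ∣ p ^ (n : ℕ) := by rw [← hn]; exact heven.two_dvd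
    exact ((Nat.prime_dvd_prime_iff_eq Nat.prime_two hpp).1 (Nat.prime_two.dvd_of_dvd_pow h3)).symm
  subst hp2
  have hn2 : 2 ≤ (n : ℕ) := by
    by_contra hcon
    have h3 : (n : ℕ) = 1 := by have := n.pos; omega
    rw [h3] at hn
    omega
  obtain ⟨K, hK⟩ := comp_of_center ht (center_even hq) e
  obtain ⟨eK⟩ := hK.iso
  have htt : t * t = 1 := by
    have := pow_orderOf_eq_one t
    rwa [ht, pow_two] at this
  have ht1 : t ≠ 1 := by
    intro h
    rw [h, orderOf_one] at ht
    omega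
  have hKt : ∀ k ∈ K, k * t = t * k := fun k hk =>
    Subgroup.mem_centralizer_singleton_iff.1 (hK.le hk)
  -- Sylow subgroup `Q` of `K`
  let Q : Sylow 2 K := default
  obtain ⟨hQ2, hQc, hQcard⟩ := Walter.PSLFacts.even_facts n.ne_zero hn eK Q
  set A : Subgroup G := (Q : Subgroup K).map K.subtype with hA
  have hAK : A ≤ K := by
    rintro _ ⟨x, -, rfl⟩
    exact x.2
  have hA2 : ∀ a ∈ A, a * a = 1 := by
    rintro _ ⟨x, hx, rfl⟩
    exact congrArg Subtype.val (hQ2 x hx)
  have hAcard : Nat.card A = 2 ^ (n : ℕ) := by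
    rw [← hQcard]
    exact Nat.card_congr (equivMapOfInjective _ _ K.subtype_injective).toEquiv.symm
  have hAc : ∀ a ∈ A, a ≠ 1 → ∀ k ∈ K, k * a = a * k → k ∈ A := by
    rintro _ ⟨x, hx, rfl⟩ hx1 k hk hka
    have h3 := hQc x hx (fun h => hx1 (by rw [h]; rfl))
    have h4 : (⟨k, hk⟩ : K) ∈ centralizer ({x} : Set K) := by
      rw [mem_centralizer_singleton_iff]
      exact Subtype.ext hka
    rw [h3] at h4
    exact ⟨⟨k, hk⟩, h4, rfl⟩
  have hAcomm : ∀ a ∈ A, ∀ b ∈ A, a * b = b * a := by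
    intro a ha b hb
    have h3 := hA2 (a * b) (A.mul_mem ha hb)
    have h4 : (a * b)⁻¹ = a * b := inv_eq_of_mul_eq_one_left h3
    rw [mul_inv_rev, inv_eq_of_mul_eq_one_left (hA2 a ha), inv_eq_of_mul_eq_one_left (hA2 b hb)] at h4
    exact h4.symm
  have htA : t ∉ A := fun h => hK.not_mem (hAK h)
  -- a Sylow subgroup containing `A` and `t`
  obtain ⟨P, hAP, htP⟩ : ∃ P : Sylow 2 G, A ≤ P ∧ t ∈ P := by
    have hB : IsPGroup 2 (A ⊔ zpowers t : Subgroup G) := by
      have h3 : IsPGroup 2 (zpowers t) := IsPGroup.of_card (n := 1) (by rw [Nat.card_zpowers, ht, pow_one])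
      have h4 : IsPGroup 2 A := IsPGroup.of_card hAcard
      refine IsPGroup.to_sup_of_normal_right' h4 h3 ?_
      intro a ha
      rw [mem_normalizer_iff]
      have hat : a * t = t * a := hKt a (hAK ha)
      have hcm : ∀ i : ℤ, Commute a (t ^ i) := fun i => (show Commute a t from hat).zpow_right i
      have key : ∀ i : ℤ, a * t ^ i * a⁻¹ = t ^ i := fun i => by
        rw [(hcm i).eq, mul_inv_cancel_right]
      intro x
      constructor
      · rintro ⟨i, rfl⟩
        exact ⟨i, (key i).symm⟩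
      · rintro ⟨i, hi⟩
        refine ⟨i, ?_⟩
        have hi' : t ^ i = a * x * a⁻¹ := hi
        have h6 : x = a⁻¹ * (a * x * a⁻¹) * a := by group
        change t ^ i = x
        rw [h6, ← hi', mul_assoc, (hcm i).eq.symm, inv_mul_cancel_left]
    obtain ⟨P, hP⟩ := hB.exists_le_sylow
    exact ⟨P, le_sup_left.trans hP, hP ((le_sup_right : zpowers t ≤ A ⊔ zpowers t) (mem_zpowers t))⟩
  have hPc : ∀ x ∈ (P : Subgroup G), ∀ y ∈ (P : Subgroup G), x * y = y * x := fun x hx y hy =>
    congrArg Subtype.val (hab P ⟨x, hx⟩ ⟨y, hy⟩)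
  obtain ⟨a₀, ha₀, ha₀1⟩ : ∃ a ∈ A, a ≠ 1 := by
    by_contra hcon
    push Not at hcon
    have h3 : A = ⊥ := by
      rw [eq_bot_iff]
      intro a ha
      rw [mem_bot]; exact hcon a ha
    rw [h3, card_bot] at hAcard
    have := Nat.one_lt_two_pow n.ne_zero
    omega
  have hPK : ∀ x ∈ (P : Subgroup G), x ∈ K → x ∈ A := fun x hx hxK =>
    hAc a₀ ha₀ ha₀1 x hxK (hPc x hx a₀ (hAP ha₀))
  have hPC : ∀ x ∈ (P : Subgroup G), x ∈ K ∨ t * x ∈ K := fun x hx =>
    hK.cover x (Subgroup.mem_centralizer_singleton_iff.2 (hPc x hx t htP))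
  have hPdec : ∀ x ∈ (P : Subgroup G), x ∈ A ∨ t * x ∈ A := by
    intro x hx
    rcases hPC x hx with h3 | h3
    · exact Or.inl (hPK x hx h3)
    · exact Or.inr (hPK _ ((P : Subgroup G).mul_mem htP hx) h3)
  have hPcard : Nat.card (P : Subgroup G) = 2 * 2 ^ (n : ℕ) := by
    rw [TwoFusion.AbelianJanko.card_eq_two_mul hAP htP htA htt hPdec, hAcard]
  have hP2 : ∀ x ∈ (P : Subgroup G), x * x = 1 := by
    intro x hx
    rcases hPdec x hx with h3 | h3
    · exact hA2 x h3
    · have h4 := hA2 _ h3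
      have h5 : t * x = x * t := hPc t htP x hx
      calc x * x = (t * t) * (x * x) := by rw [htt, one_mul]
        _ = t * (t * x) * x := by simp only [mul_assoc]
        _ = t * (x * t) * x := by rw [h5]
        _ = (t * x) * (t * x) := by simp only [mul_assoc]
        _ = 1 := h4
  -- conjugation by `C(t)` preserves `K`
  have hKn : ∀ g, g * t = t * g → ∀ k ∈ K, g * k * g⁻¹ ∈ K := by
    intro g hg k hk
    rcases hK.cover g (Subgroup.mem_centralizer_singleton_iff.2 hg) with h3 | h3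
    · exact K.mul_mem (K.mul_mem h3 hk) (K.inv_mem h3)
    · have h4 : g * k * g⁻¹ = (t * g) * k * (t * g)⁻¹ := by
        have h5 := K.mul_mem (K.mul_mem h3 hk) (K.inv_mem h3)
        have h6 := hKt _ h5
        have h7 : g * k * g⁻¹ = t⁻¹ * ((t * g) * k * (t * g)⁻¹ * t) := by group
        rw [h7, h6]; group
      rw [h4]
      exact K.mul_mem (K.mul_mem h3 hk) (K.inv_mem h3)
  -- the noncommutativity
  have hG : ¬ IsMulCommutative G := by
    intro hc
    apply ha₀1
    have h3 : eK ⟨a₀, hAK ha₀⟩ = 1 := by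
      apply center_even hq
      intro g
      rw [← eK.apply_symm_apply g, ← map_mul, ← map_mul]
      congr 1
      exact Subtype.ext (hc.is_comm.comm _ _)
    have h4 : (⟨a₀, hAK ha₀⟩ : K) = 1 := eK.injective (by rw [h3, map_one])
    exact congrArg Subtype.val h4
  -- the automorphisms
  let _ : CommGroup (P : Subgroup G) :=
    { (inferInstance : Group (P : Subgroup G)) with mul_comm := fun a b => hab P a b }
  set N := normalizer ((P : Subgroup G) : Set G) with hN
  let W : Subgroup (MulAut (P : Subgroup G)) := (P : Subgroup G).normalizerMonoidHom.range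
  have hWmem : ∀ w ∈ W, ∃ m ∈ N, ∀ x : (P : Subgroup G), ((w x : (P : Subgroup G)) : G) = m * x * m⁻¹ := by
    rintro w ⟨m, rfl⟩
    exact ⟨m, m.2, fun x => rfl⟩
  have hNmem : ∀ m ∈ N, ∃ w ∈ W, ∀ x : (P : Subgroup G),
      ((w x : (P : Subgroup G)) : G) = m * x * m⁻¹ :=
    fun m hm => ⟨_, ⟨⟨m, hm⟩, rfl⟩, fun x => rfl⟩
  have hWodd : Odd (Nat.card W) := by
    rw [← Nat.not_even_iff_odd, even_iff_two_dvd]
    have h1 : Nat.card W = (P : Subgroup G).normalizerMonoidHom.ker.index := by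
      rw [Subgroup.index_ker]
    have h2 : (P : Subgroup G).subgroupOf N ≤ (P : Subgroup G).normalizerMonoidHom.ker := by
      rw [normalizerMonoidHom_ker]
      intro x hx
      rw [mem_subgroupOf] at hx ⊢
      rw [mem_centralizer_iff]
      intro y hy
      exact hPc y hy _ hx
    have h3 := Subgroup.index_dvd_of_le h2
    have h4 : ((P : Subgroup G).subgroupOf N).index ∣ (P : Subgroup G).index :=
      ⟨N.index, (Subgroup.relIndex_mul_index le_normalizer).symm⟩
    intro h5
    exact P.not_dvd_index (h5.trans ((h1 ▸ h3).trans h4))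
  -- the key rigidity statement
  have hrigid : ∀ m ∈ N, m * t = t * m → ∀ a ∈ A, a ≠ 1 → m * a = a * m →
      ∀ x ∈ (P : Subgroup G), m * x * m⁻¹ = x := by
    intro m _ hmt a ha ha1 hma x hx
    rcases hK.cover m (Subgroup.mem_centralizer_singleton_iff.2 hmt) with h3 | h3
    · have h4 := hAc a ha ha1 m h3 hma
      rw [hPc m (hAP h4) x hx, mul_inv_cancel_right]
    · have h4 : t * m ∈ A := by
        apply hAc a ha ha1 _ h3
        rw [mul_assoc, hma, ← mul_assoc, ← mul_assoc, hKt a (hAK ha)]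
      have h5 : m ∈ (P : Subgroup G) := by
        have h6 := (P : Subgroup G).mul_mem htP (hAP h4)
        rwa [← mul_assoc, htt, one_mul] at h6
      rw [hPc m h5 x hx, mul_inv_cancel_right]
  have hcommof : ∀ m x : G, m * x * m⁻¹ = x → m * x = x * m := fun m x h =>
    mul_inv_eq_iff_eq_mul.1 h
  have htp : (⟨t, htP⟩ : (P : Subgroup G)) ≠ 1 := fun h => ht1 (congrArg Subtype.val h)
  rw [hn]
  refine eq_four_mul W (⟨t, htP⟩ : (P : Subgroup G)) (2 ^ (n : ℕ)) n hn2 rfl hPcard
    (fun s => Subtype.ext (hP2 s s.2)) htp hWodd ?_ ?_ ?_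
  · -- the order of the stabilizer
    have ha₀P : a₀ ∈ (P : Subgroup G) := hAP ha₀
    let f : {w : MulAut (P : Subgroup G) // w ∈ W ∧ w ⟨t, htP⟩ = ⟨t, htP⟩} → {a : A // a ≠ 1} :=
      fun w => ⟨⟨(w.1 ⟨a₀, ha₀P⟩ : (P : Subgroup G)), by
        obtain ⟨m, hm, hmx⟩ := hWmem w.1 w.2.1
        have h3 : m * t * m⁻¹ = t := by rw [← hmx ⟨t, htP⟩, w.2.2]
        apply hPK _ (w.1 ⟨a₀, ha₀P⟩ : (P : Subgroup G)).2
        rw [hmx ⟨a₀, ha₀P⟩]
        exact hKn m (hcommof m t h3) a₀ (hAK ha₀)⟩, by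
        intro h3
        apply ha₀1
        have h4 : w.1 ⟨a₀, ha₀P⟩ = 1 := Subtype.ext (congrArg (fun y : A => (y : G)) h3)
        have h5 : (⟨a₀, ha₀P⟩ : (P : Subgroup G)) = 1 := (map_eq_one_iff w.1 w.1.injective).1 h4
        exact congrArg Subtype.val h5⟩
    have hf : Function.Bijective f := by
      constructor
      · rintro ⟨w, hw, hwt⟩ ⟨w', hw', hwt'⟩ hww
        apply Subtype.ext
        have h3 : ((w ⟨a₀, ha₀P⟩ : (P : Subgroup G)) : G) = (w' ⟨a₀, ha₀P⟩ : (P : Subgroup G)) :=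
          congrArg (fun y : {a : A // a ≠ 1} => ((y : A) : G)) hww
        obtain ⟨m, hm, hmx⟩ := hWmem w hw
        obtain ⟨m', hm', hmx'⟩ := hWmem w' hw'
        have h4 : m * t * m⁻¹ = t := by rw [← hmx ⟨t, htP⟩, hwt]
        have h4' : m' * t * m'⁻¹ = t := by rw [← hmx' ⟨t, htP⟩, hwt']
        rw [hmx ⟨a₀, ha₀P⟩, hmx' ⟨a₀, ha₀P⟩] at h3
        change m * a₀ * m⁻¹ = m' * a₀ * m'⁻¹ at h3
        have h5 : ∀ x ∈ (P : Subgroup G), (m'⁻¹ * m) * x * (m'⁻¹ * m)⁻¹ = x := by
          refine hrigid (m'⁻¹ * m) (N.mul_mem (N.inv_mem hm') hm) ?_ a₀ ha₀ ha₀1 ?_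
          · apply hcommof
            calc (m'⁻¹ * m) * t * (m'⁻¹ * m)⁻¹ = m'⁻¹ * (m * t * m⁻¹) * m' := by group
              _ = m'⁻¹ * (m' * t * m'⁻¹) * m' := by rw [h4, h4']
              _ = t := by group
          · apply hcommof
            calc (m'⁻¹ * m) * a₀ * (m'⁻¹ * m)⁻¹ = m'⁻¹ * (m * a₀ * m⁻¹) * m' := by group
              _ = m'⁻¹ * (m' * a₀ * m'⁻¹) * m' := by rw [h3]
              _ = a₀ := by group
        apply MulEquiv.ext
        intro x
        apply Subtype.ext
        rw [hmx x, hmx' x]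
        calc m * (x : G) * m⁻¹ = m' * ((m'⁻¹ * m) * x * (m'⁻¹ * m)⁻¹) * m'⁻¹ := by group
          _ = m' * x * m'⁻¹ := by rw [h5 x x.2]
      · rintro ⟨⟨b, hb⟩, hb1⟩
        have hb1' : b ≠ 1 := fun h => hb1 (Subtype.ext h)
        -- conjugate in `K`
        obtain ⟨g, hg⟩ := WeakTI.PslTwo.exists_conj eK (x := ⟨a₀, hAK ha₀⟩) (y := ⟨b, hAK hb⟩)
          (Subtype.ext (hA2 a₀ ha₀)) (fun h => ha₀1 (congrArg Subtype.val h))
          (Subtype.ext (hA2 b hb)) (fun h => hb1' (congrArg Subtype.val h))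
        have hmemQ : ∀ a (ha : a ∈ A), (⟨a, hAK ha⟩ : K) ∈ (Q : Subgroup K) := by
          rintro _ ⟨x, hx, rfl⟩
          exact hx
        have hQcomm : IsMulCommutative (Q : Subgroup K) := by
          refine ⟨⟨fun x y => Subtype.ext (Subtype.ext ?_)⟩⟩
          exact hAcomm _ ⟨x, x.2, rfl⟩ _ ⟨y, y.2, rfl⟩
        obtain ⟨k, hk, hk'⟩ := Sylow.conj_eq_normalizer_conj_of_mem Q ⟨a₀, hAK ha₀⟩ g⁻¹
          (hmemQ a₀ ha₀) (by rw [inv_inv, hg]; exact hmemQ b hb)
        rw [inv_inv, hg] at hk'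
        have hkA : ∀ a ∈ A, ((k⁻¹ : K) : G) * a * ((k⁻¹ : K) : G)⁻¹ ∈ A := by
          rintro _ ⟨x, hx, rfl⟩
          refine ⟨k⁻¹ * x * (k⁻¹)⁻¹, ?_, rfl⟩
          exact (mem_normalizer_iff.1 (inv_mem hk) x).1 hx
        have hkA' : ∀ a ∈ A, (((k⁻¹ : K) : G))⁻¹ * a * ((k⁻¹ : K) : G) ∈ A := by
          rintro _ ⟨x, hx, rfl⟩
          refine ⟨(k⁻¹)⁻¹ * x * (k⁻¹), ?_, rfl⟩
          have h3 := (mem_normalizer_iff.1 hk x).1 hx
          rwa [inv_inv]
        set m : G := ((k⁻¹ : K) : G) with hm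
        have hmt : m * t = t * m := hKt _ (k⁻¹ : K).2
        have hmN : m ∈ N := by
          rw [hN, mem_normalizer_iff]
          have hti : t⁻¹ = t := inv_eq_of_mul_eq_one_left htt
          intro x
          constructor
          · intro hx
            rcases hPdec x hx with h3 | h3
            · exact hAP (hkA x h3)
            · have h4 := (P : Subgroup G).mul_mem htP (hAP (hkA _ h3))
              have h5 : t * (m * (t * x) * m⁻¹) = m * x * m⁻¹ := by
                calc t * (m * (t * x) * m⁻¹) = t * (m * t) * x * m⁻¹ := by group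
                  _ = t * (t * m) * x * m⁻¹ := by rw [hmt]
                  _ = (t * t) * m * x * m⁻¹ := by group
                  _ = m * x * m⁻¹ := by rw [htt, one_mul]
              rwa [h5] at h4
          · intro hx
            have h6 : x = m⁻¹ * (m * x * m⁻¹) * m := by group
            rw [h6]
            set y := m * x * m⁻¹ with hy
            rcases hPdec y hx with h3 | h3
            · exact hAP (hkA' y h3)
            · have h4 := (P : Subgroup G).mul_mem htP (hAP (hkA' _ h3))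
              have hmt' : m⁻¹ * t = t * m⁻¹ := by
                have := congrArg (fun z => m⁻¹ * z * m⁻¹) hmt
                simp only [mul_assoc, inv_mul_cancel_left, mul_inv_cancel, mul_one] at this
                exact this.symm
              have h5 : t * (m⁻¹ * (t * y) * m) = m⁻¹ * y * m := by
                calc t * (m⁻¹ * (t * y) * m) = t * (m⁻¹ * t) * y * m := by group
                  _ = t * (t * m⁻¹) * y * m := by rw [hmt']
                  _ = (t * t) * m⁻¹ * y * m := by group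
                  _ = m⁻¹ * y * m := by rw [htt, one_mul]
              rwa [h5] at h4
        obtain ⟨w, hw, hwx⟩ := hNmem m hmN
        refine ⟨⟨w, hw, Subtype.ext ?_⟩, ?_⟩
        · rw [hwx]
          change m * t * m⁻¹ = t
          rw [hmt, mul_inv_cancel_right]
        · apply Subtype.ext
          apply Subtype.ext
          change ((w ⟨a₀, ha₀P⟩ : (P : Subgroup G)) : G) = b
          rw [hwx]
          have h7 := congrArg Subtype.val hk'
          change b = _ at h7
          rw [h7, hm]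
          change ((k⁻¹ : K) : G) * a₀ * ((k⁻¹ : K) : G)⁻¹ = ((k⁻¹ : K) : G) * a₀ * (k : G)
          rw [Subgroup.coe_inv, inv_inv]
    rw [Nat.card_congr (Equiv.ofBijective f hf)]
    have h8 : Nat.card {a : A // a ≠ 1} = (Set.univ \ {(1 : A)} : Set A).ncard := by
      rw [← Nat.card_coe_set_eq]
      apply Nat.card_congr
      exact Equiv.subtypeEquivRight (fun a => by simp)
    rw [h8, Set.ncard_sdiff_singleton_of_mem (Set.mem_univ _), Set.ncard_univ, hAcard]
  · intro w hw hwt hw1 s hws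
    obtain ⟨m, hm, hmx⟩ := hWmem w hw
    have h3 : m * t * m⁻¹ = t := by rw [← hmx ⟨t, htP⟩, hwt]
    have h4 : m * s * m⁻¹ = s := by rw [← hmx s, hws]
    by_contra hcon
    push Not at hcon
    apply hw1
    apply MulEquiv.ext
    intro x
    apply Subtype.ext
    rw [hmx x]
    rcases hPdec s s.2 with h5 | h5
    · exact hrigid m hm (hcommof m t h3) s h5 (fun h => hcon.1 (Subtype.ext h)) (hcommof m s h4) x x.2
    · refine hrigid m hm (hcommof m t h3) (t * s) h5 ?_ ?_ x x.2
      · intro h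
        apply hcon.2
        apply Subtype.ext
        have : (s : G) = t⁻¹ := eq_inv_of_mul_eq_one_right h
        rw [this]
        exact inv_eq_of_mul_eq_one_left htt
      · rw [← mul_assoc, hcommof m t h3, mul_assoc, hcommof m s h4, mul_assoc]
  · by_contra hcon
    push Not at hcon
    apply ht1
    refine SmallSimple.SylowEight.eq_one_of_forall_normalizer hG P hPc t htP ?_
    intro m hm
    obtain ⟨w, hw, hwx⟩ := hNmem m hm
    apply hcommof
    rw [← hwx ⟨t, htP⟩, hcon w hw]

end Cfsg.Agent.Ree.EvenQGroup
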