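import Mathlib

/-!
# S0343, local part: counting lemma

`K` a finite group of odd order with an automorphism `σ` of order two, `z` a central element of order `3` fixed by `σ`,
`W` a cyclic subgroup of order prime to `3` inverted by `σ` with `C_K(w) = ⟨z⟩ W` and `N_K(⟨w⟩) = C_K(w)` for all
`1 ≠ w ∈ W`. Then `|C_K(σ)| ^ 2 = 9` modulo `|W|`.
-/

set_option autoImplicit false

namespace Cfsg.Agent.Ree.FrobCount

section Basic

variable {K : Type*} [Group K]

/-- square root in a group of odd order -/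
theorem half_mul_half (hodd : Odd (Nat.card K)) (x : K) :
    x ^ ((Nat.card K + 1) / 2) * x ^ ((Nat.card K + 1) / 2) = x := by
  have h2 : (Nat.card K + 1) / 2 + (Nat.card K + 1) / 2 = Nat.card K + 1 := by
    obtain ⟨k, hk⟩ := hodd
    omega
  rw [← pow_add, h2, pow_succ, pow_card_eq_one', one_mul]

theorem eq_one_of_mul_self (hodd : Odd (Nat.card K)) {x : K} (h : x * x = 1) : x = 1 := by
  have h1 := half_mul_half hodd x
  rw [← (Commute.refl x).mul_pow, h, one_pow] at h1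
  exact h1.symm

/-- coprime action of an involution on a `σ`-invariant subgroup `N`: `|N| = |C_N(σ)| |I_N(σ)|`. -/
theorem card_eq_fix_mul_inv (σ : K ≃* K) (hσ : ∀ x, σ (σ x) = x) (hodd : Odd (Nat.card K))
    (N : Subgroup K) (hN : ∀ x ∈ N, σ x ∈ N) :
    Nat.card N = Nat.card {x : K // x ∈ N ∧ σ x = x} * Nat.card {x : K // x ∈ N ∧ σ x = x⁻¹} := by
  set s : K → K := fun x => x ^ ((Nat.card K + 1) / 2) with hs
  have hss : ∀ x, s x * s x = x := half_mul_half hodd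
  have hsN : ∀ x ∈ N, s x ∈ N := fun x hx => N.pow_mem hx _
  have hsσ : ∀ x, σ (s x) = s (σ x) := fun x => map_pow σ x _
  have hsinv : ∀ x, s x⁻¹ = (s x)⁻¹ := fun x => inv_pow x _
  rw [← Nat.card_prod]
  refine Nat.card_congr
    { toFun := fun g => (⟨(s (g * (σ g)⁻¹))⁻¹ * g, ?_, ?_⟩, ⟨g * (σ g)⁻¹, ?_, ?_⟩)
      invFun := fun p => ⟨s p.2.1 * p.1.1, N.mul_mem (hsN _ p.2.2.1) p.1.2.1⟩
      left_inv := ?_
      right_inv := ?_ }
  · exact N.mul_mem (N.inv_mem (hsN _ (N.mul_mem g.2 (N.inv_mem (hN _ g.2))))) g.2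
  · have h1 : σ (g * (σ g)⁻¹ : K) = (g * (σ g)⁻¹ : K)⁻¹ := by
      rw [map_mul, map_inv, hσ]; group
    have h2 : σ (s (g * (σ g)⁻¹)) = (s (g * (σ g)⁻¹))⁻¹ := by rw [hsσ, h1, hsinv]
    rw [map_mul, map_inv, h2, inv_inv, eq_inv_mul_iff_mul_eq, ← mul_assoc, hss]
    group
  · exact N.mul_mem g.2 (N.inv_mem (hN _ g.2))
  · rw [map_mul, map_inv, hσ]; group
  · intro g
    apply Subtype.ext
    simp
  · rintro ⟨⟨c, hcN, hc⟩, ⟨x, hxN, hx⟩⟩
    have h1 : s x * c * (σ (s x * c))⁻¹ = x := by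
      rw [map_mul, hsσ, hx, hsinv, hc]
      calc s x * c * ((s x)⁻¹ * c)⁻¹ = s x * s x := by group
        _ = x := hss x
    simp only [Prod.mk.injEq, Subtype.mk.injEq]
    refine ⟨?_, h1⟩
    rw [h1]; group

end Basic

/-- Burnside's lemma when every non-identity element has exactly `k` fixed points. -/
theorem card_modEq_of_fixed {A X : Type*} [Group A] [Finite A] [Finite X] [MulAction A X] (k : ℕ)
    (h : ∀ a : A, a ≠ 1 → Nat.card (MulAction.fixedBy X a) = k) :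
    (Nat.card X : ℤ) ≡ k [ZMOD (Nat.card A : ℤ)] := by
  classical
  have := Fintype.ofFinite A
  have := Fintype.ofFinite X
  have h1 := MulAction.sum_card_fixedBy_eq_card_orbits_mul_card_group A X
  rw [← Finset.add_sum_erase Finset.univ _ (Finset.mem_univ (1 : A))] at h1
  have h2 : ∑ a ∈ Finset.univ.erase (1 : A), Fintype.card (MulAction.fixedBy X a) =
      ∑ a ∈ Finset.univ.erase (1 : A), k := by
    apply Finset.sum_congr rfl
    intro a ha
    rw [← Nat.card_eq_fintype_card]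
    exact h a (Finset.ne_of_mem_erase ha)
  rw [h2, Finset.sum_const, Finset.card_erase_of_mem (Finset.mem_univ _), Finset.card_univ, smul_eq_mul] at h1
  have h3 : Fintype.card (MulAction.fixedBy X (1 : A)) = Nat.card X := by
    rw [← Nat.card_eq_fintype_card, MulAction.fixedBy_one_eq_univ, Nat.card_coe_set_eq, Set.ncard_univ]
  rw [h3, ← Nat.card_eq_fintype_card (α := A)] at h1
  have hpos : 0 < Nat.card A := Nat.card_pos
  rw [Int.modEq_iff_dvd]
  have h4 : (Nat.card X : ℤ) + ((Nat.card A : ℤ) - 1) * k =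
      (Fintype.card (Quotient (MulAction.orbitRel A X)) : ℤ) * (Nat.card A : ℤ) := by
    have h5 : ((Nat.card A - 1 : ℕ) : ℤ) = (Nat.card A : ℤ) - 1 := by
      push_cast [Nat.cast_sub (Nat.succ_le_of_lt hpos)]; ring
    rw [← h5]; exact_mod_cast h1
  refine ⟨(k : ℤ) - (Fintype.card (Quotient (MulAction.orbitRel A X)) : ℤ), ?_⟩
  linear_combination -h4

section Main

variable {K : Type*} [Group K]

structure Hyp (K : Type*) [Group K] (σ : K ≃* K) (z : K) (W : Subgroup K) : Prop where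
  odd : Odd (Nat.card K)
  inv : ∀ x, σ (σ x) = x
  ord_z : orderOf z = 3
  z_comm : ∀ x, x * z = z * x
  σ_z : σ z = z
  W_comm : ∀ a ∈ W, ∀ b ∈ W, a * b = b * a
  W_three : (Nat.card W).Coprime 3
  σ_W : ∀ w ∈ W, σ w = w⁻¹
  cent : ∀ w ∈ W, w ≠ 1 → ∀ g, g * w = w * g → ∃ i : ℕ, ∃ w' ∈ W, g = z ^ i * w'
  norm : ∀ w ∈ W, ∀ g, g * w * g⁻¹ ∈ W → g * w * g⁻¹ = w

variable {σ : K ≃* K} {z : K} {W : Subgroup K}

theorem Hyp.zpow_mem (h : Hyp K σ z W) {i : ℕ} (hi : z ^ i ∈ W) : z ^ i = 1 := by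
  have h1 : (z ^ i) ^ Nat.card W = 1 := by
    have := pow_card_eq_one' (x := (⟨z ^ i, hi⟩ : W))
    exact congrArg Subtype.val this
  have h2 : (z ^ i) ^ 3 = 1 := by
    rw [← pow_mul, mul_comm, pow_mul, ← h.ord_z, pow_orderOf_eq_one, one_pow]
  have h3 : orderOf (z ^ i) ∣ Nat.gcd (Nat.card W) 3 :=
    Nat.dvd_gcd (orderOf_dvd_of_pow_eq_one h1) (orderOf_dvd_of_pow_eq_one h2)
  rw [h.W_three.gcd_eq_one, Nat.dvd_one, orderOf_eq_one_iff] at h3
  exact h3

theorem Hyp.z_comm_pow (h : Hyp K σ z W) (x : K) (i : ℕ) : x * z ^ i = z ^ i * x :=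
  (Commute.pow_right (h.z_comm x) i)

theorem Hyp.index_modEq [Finite K] (h : Hyp K σ z W) : (W.index : ℤ) ≡ 3 [ZMOD (Nat.card W : ℤ)] := by
  rw [Subgroup.index]
  refine card_modEq_of_fixed (A := W) 3 ?_
  intro w hw
  have hw' : (w : K) ≠ 1 := fun h0 => hw (Subtype.ext h0)
  let f : Fin 3 → MulAction.fixedBy (K ⧸ W) w := fun i => ⟨((z ^ (i : ℕ) : K) : K ⧸ W), by
    rw [MulAction.mem_fixedBy]
    change (((w : K) * z ^ (i : ℕ) : K) : K ⧸ W) = _
    rw [h.z_comm_pow]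
    exact QuotientGroup.mk_mul_of_mem _ w.2⟩
  have hf : Function.Bijective f := by
    constructor
    · intro i j hij
      classical
      have h1 : ((z ^ (i : ℕ) : K) : K ⧸ W) = ((z ^ (j : ℕ) : K) : K ⧸ W) := congrArg Subtype.val hij
      rw [QuotientGroup.eq] at h1
      have h2 : ∃ k : ℕ, (z ^ (i : ℕ))⁻¹ * z ^ (j : ℕ) = z ^ k := by
        have h3 : (z ^ (i : ℕ))⁻¹ * z ^ (j : ℕ) ∈ Subgroup.zpowers z :=
          Subgroup.mul_mem _ (Subgroup.inv_mem _ (Subgroup.npow_mem_zpowers z _)) (Subgroup.npow_mem_zpowers z _)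
        rw [mem_zpowers_iff_mem_range_orderOf] at h3
        simp only [Finset.mem_image, Finset.mem_range] at h3
        obtain ⟨k, _, hk⟩ := h3
        exact ⟨k, hk.symm⟩
      obtain ⟨k, hk⟩ := h2
      rw [hk] at h1
      rw [h.zpow_mem h1, inv_mul_eq_one] at hk
      have h4 := pow_inj_mod.1 hk
      rw [h.ord_z] at h4
      have := i.2
      have := j.2
      apply Fin.ext
      omega
    · rintro ⟨x, hx⟩
      induction x using QuotientGroup.induction_on with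
      | H g =>
        rw [MulAction.mem_fixedBy] at hx
        have h1 : (((w : K) * g : K) : K ⧸ W) = (g : K ⧸ W) := hx
        rw [eq_comm, QuotientGroup.eq] at h1
        have h2 : g⁻¹ * (w : K) * g⁻¹⁻¹ ∈ W := by
          have : g⁻¹ * (w : K) * g⁻¹⁻¹ = g⁻¹ * ((w : K) * g) := by group
          rw [this]; exact h1
        have h3 := h.norm w w.2 g⁻¹ h2
        have h4 : g * (w : K) = (w : K) * g := by
          have h5 : g * (g⁻¹ * (w : K) * g⁻¹⁻¹) = (w : K) * g := by group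
          rw [h3] at h5; exact h5
        obtain ⟨i, w', hw'W, hg⟩ := h.cent w w.2 hw' g h4
        refine ⟨⟨i % 3, Nat.mod_lt _ (by norm_num)⟩, Subtype.ext ?_⟩
        change ((z ^ (i % 3) : K) : K ⧸ W) = (g : K ⧸ W)
        rw [hg, QuotientGroup.mk_mul_of_mem _ hw'W]
        have : z ^ (i % 3) = z ^ i := by
          have := pow_mod_orderOf z i
          rwa [h.ord_z] at this
        rw [this]
  rw [← Nat.card_congr (Equiv.ofBijective f hf), Nat.card_eq_fintype_card, Fintype.card_fin]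

theorem Hyp.coprime [Finite K] (h : Hyp K σ z W) : (Nat.card W).Coprime W.index := by
  have h1 := h.index_modEq
  have h2 : (Nat.card W : ℤ) ∣ 3 - (W.index : ℤ) := h1.dvd
  rw [Nat.coprime_iff_gcd_eq_one]
  have h3 : Nat.gcd (Nat.card W) W.index ∣ 3 := by
    have h4 : ((Nat.gcd (Nat.card W) W.index : ℕ) : ℤ) ∣ 3 - (W.index : ℤ) :=
      (Int.natCast_dvd_natCast.2 (Nat.gcd_dvd_left _ _)).trans h2
    have h5 : ((Nat.gcd (Nat.card W) W.index : ℕ) : ℤ) ∣ (W.index : ℤ) :=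
      Int.natCast_dvd_natCast.2 (Nat.gcd_dvd_right _ _)
    have h6 := dvd_add h4 h5
    rw [sub_add_cancel] at h6
    exact_mod_cast h6
  have h7 : Nat.gcd (Nat.card W) W.index ∣ Nat.gcd (Nat.card W) 3 :=
    Nat.dvd_gcd (Nat.gcd_dvd_left _ _) h3
  rw [h.W_three.gcd_eq_one, Nat.dvd_one] at h7
  exact h7

open scoped IsMulCommutative in
/-- the normal complement of `W` -/
theorem Hyp.exists_complement [Finite K] (h : Hyp K σ z W) : ∃ N : Subgroup K, N.Normal ∧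
    Nat.card N = W.index ∧
    (∀ x ∈ N, x ∈ W → x = 1) ∧ (∀ x : K, ∃ w ∈ W, x * w⁻¹ ∈ N) := by
  have : IsMulCommutative W := ⟨⟨fun a b => Subtype.ext (h.W_comm a a.2 b b.2)⟩⟩
  have hcop := h.coprime
  let φ : K →* W := MonoidHom.transfer (MonoidHom.id W)
  have hφ : ∀ w : W, φ (w : K) = w ^ W.index := by
    intro w
    have := MonoidHom.transfer_eq_pow (MonoidHom.id W) (w : K) (by
      intro k g hk
      have := h.norm ((w : K) ^ k) (W.pow_mem w.2 k) g⁻¹ (by simpa using hk)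
      simpa using this)
    rw [show φ (w : K) = _ from this]
    rfl
  have hbij : Function.Bijective (fun w : W => w ^ W.index) := (powCoprime hcop).bijective
  refine ⟨φ.ker, inferInstance, ?_, ?_, ?_⟩
  · have hsurj : Function.Surjective φ := by
      intro w
      obtain ⟨w', hw'⟩ := hbij.2 w
      exact ⟨w', (hφ w').trans hw'⟩
    have h1 : φ.ker.index = Nat.card W := by
      rw [Subgroup.index_ker, MonoidHom.range_eq_top.2 hsurj, Subgroup.card_top]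
    have h2 := φ.ker.card_mul_index
    have h3 := W.card_mul_index
    rw [h1, ← h3, mul_comm] at h2
    exact Nat.eq_of_mul_eq_mul_left Nat.card_pos h2
  · intro x hx hxW
    have h1 := hφ ⟨x, hxW⟩
    rw [MonoidHom.mem_ker.1 hx] at h1
    have h2 : (⟨x, hxW⟩ : W) = 1 := by
      apply hbij.1
      change (⟨x, hxW⟩ : W) ^ W.index = 1 ^ W.index
      rw [one_pow]; exact h1.symm
    exact congrArg Subtype.val h2
  · intro x
    obtain ⟨w, hw⟩ := hbij.2 (φ x)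
    refine ⟨w, w.2, ?_⟩
    rw [MonoidHom.mem_ker, map_mul, map_inv, hφ, show w ^ W.index = φ x from hw, mul_inv_cancel]

theorem Hyp.sep (h : Hyp K σ z W) {w : K} (hw : w ∈ W) {g g' u u' : K} (hu : u ^ 3 = 1) (hu' : u' ^ 3 = 1)
    (huc : ∀ x, x * u = u * x) (huc' : ∀ x, x * u' = u' * x)
    (heq : g * w * g⁻¹ * u = g' * w * g'⁻¹ * u') : u = u' := by
  have hwe : w ^ Nat.card W = 1 := congrArg Subtype.val (pow_card_eq_one' (x := (⟨w, hw⟩ : W)))
  have h1 : ∀ (y v : K), (∀ x, x * v = v * x) → (y * w * y⁻¹ * v) ^ Nat.card W = v ^ Nat.card W := by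
    intro y v hv
    rw [(show Commute (y * w * y⁻¹) v from hv _).mul_pow, conj_pow, hwe, mul_one, mul_inv_cancel, one_mul]
  have h2 : u ^ Nat.card W = u' ^ Nat.card W := by
    rw [← h1 g u huc, ← h1 g' u' huc', heq]
  have h3 : (u * u'⁻¹) ^ Nat.card W = 1 := by
    rw [(show Commute u u'⁻¹ from (show Commute u u' from huc' u).inv_right).mul_pow, inv_pow, h2, mul_inv_cancel]
  have h4 : (u * u'⁻¹) ^ 3 = 1 := by
    rw [(show Commute u u'⁻¹ from (show Commute u u' from huc' u).inv_right).mul_pow, inv_pow, hu, hu']; simp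
  have h5 : orderOf (u * u'⁻¹) ∣ Nat.gcd (Nat.card W) 3 :=
    Nat.dvd_gcd (orderOf_dvd_of_pow_eq_one h3) (orderOf_dvd_of_pow_eq_one h4)
  rw [h.W_three.gcd_eq_one, Nat.dvd_one, orderOf_eq_one_iff] at h5
  exact mul_inv_eq_one.1 h5

theorem Hyp.z_pow_three (h : Hyp K σ z W) (i : ℕ) : (z ^ i) ^ 3 = 1 := by
  rw [← pow_mul, mul_comm, pow_mul, ← h.ord_z, pow_orderOf_eq_one, one_pow]

/-- every element of the coset `N w` is conjugate under `N` to some `w z ^ i` -/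
theorem Hyp.coset [Finite K] (h : Hyp K σ z W) (N : Subgroup K) [N.Normal] (hNW : ∀ x ∈ N, x ∈ W → x = 1)
    (hzN : z ∈ N) {w : K} (hw : w ∈ W) (hw1 : w ≠ 1) {x : K} (hx : x * w⁻¹ ∈ N) :
    ∃ g ∈ N, ∃ i : ℕ, x = g * w * g⁻¹ * z ^ i := by
  classical
  have := Fintype.ofFinite K
  have := Fintype.ofFinite N
  let F : N × Fin 3 → N := fun p => ⟨p.1 * w * (p.1 : K)⁻¹ * z ^ (p.2 : ℕ) * w⁻¹, by
    have h1 : (p.1 : K) * w * (p.1 : K)⁻¹ * z ^ (p.2 : ℕ) * w⁻¹ =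
        p.1 * (w * (p.1 : K)⁻¹ * w⁻¹) * z ^ (p.2 : ℕ) := by
      rw [mul_assoc _ (z ^ _) w⁻¹, ← h.z_comm_pow w⁻¹]; group
    rw [h1]
    exact N.mul_mem (N.mul_mem p.1.2 (Subgroup.Normal.conj_mem inferInstance _ (N.inv_mem p.1.2) w))
      (N.pow_mem hzN _)⟩
  have hfib : ∀ a ∈ Finset.univ.image F, (Finset.univ.filter (fun p => F p = a)).card ≤ 3 := by
    intro a ha
    obtain ⟨⟨g0, i0⟩, -, rfl⟩ := Finset.mem_image.1 ha
    have hsub : Finset.univ.filter (fun p => F p = F (g0, i0)) ⊆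
        Finset.univ.image (fun j : Fin 3 => ((g0 * (⟨z, hzN⟩ : N) ^ (j : ℕ), i0) : N × Fin 3)) := by
      rintro ⟨g, i⟩ hgi
      rw [Finset.mem_filter] at hgi
      have h1 : (g : K) * w * (g : K)⁻¹ * z ^ (i : ℕ) * w⁻¹ = g0 * w * (g0 : K)⁻¹ * z ^ (i0 : ℕ) * w⁻¹ :=
        congrArg Subtype.val hgi.2
      have h2 := mul_right_cancel h1
      have h3 : z ^ (i : ℕ) = z ^ (i0 : ℕ) :=
        h.sep hw (h.z_pow_three i) (h.z_pow_three i0) (fun x => h.z_comm_pow x i) (fun x => h.z_comm_pow x i0) h2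
      have h4 : i = i0 := by
        have h5 := pow_inj_mod.1 h3
        rw [h.ord_z] at h5
        have := i.2
        have := i0.2
        apply Fin.ext; omega
      rw [h3] at h2
      have h5 := mul_right_cancel h2
      have h6 : ((g0 : K)⁻¹ * g) * w = w * ((g0 : K)⁻¹ * g) := by
        have : (g0 : K)⁻¹ * (g * w * (g : K)⁻¹) * g = (g0 : K)⁻¹ * (g0 * w * (g0 : K)⁻¹) * g := by rw [h5]
        calc ((g0 : K)⁻¹ * g) * w = (g0 : K)⁻¹ * (g * w * (g : K)⁻¹) * g := by group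
          _ = (g0 : K)⁻¹ * (g0 * w * (g0 : K)⁻¹) * g := this
          _ = _ := by group
      obtain ⟨j, w', hw', hj⟩ := h.cent w hw hw1 _ h6
      have h7 : w' = 1 := by
        apply hNW _ _ hw'
        have h8 : w' = (z ^ j)⁻¹ * ((g0 : K)⁻¹ * g) := by rw [hj]; group
        rw [h8]
        exact N.mul_mem (N.inv_mem (N.pow_mem hzN _)) (N.mul_mem (N.inv_mem g0.2) g.2)
      rw [h7, mul_one] at hj
      refine Finset.mem_image.2 ⟨⟨j % 3, Nat.mod_lt _ (by norm_num)⟩, Finset.mem_univ _, ?_⟩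
      rw [Prod.mk.injEq]
      refine ⟨Subtype.ext ?_, h4.symm⟩
      change (g0 : K) * z ^ (j % 3) = g
      have h9 : z ^ (j % 3) = z ^ j := by
        have := pow_mod_orderOf z j
        rwa [h.ord_z] at this
      rw [h9, ← hj]; group
    exact (Finset.card_le_card hsub).trans (Finset.card_image_le.trans (by simp))
  have hcard := Finset.card_le_mul_card_image (Finset.univ : Finset (N × Fin 3)) 3 hfib
  rw [Finset.card_univ, Fintype.card_prod, Fintype.card_fin, mul_comm] at hcard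
  have h1 : Fintype.card N ≤ (Finset.univ.image F).card := Nat.le_of_mul_le_mul_left hcard (by norm_num)
  have h2 : Finset.univ.image F = Finset.univ :=
    (Finset.card_eq_iff_eq_univ _).1 (le_antisymm (Finset.card_le_univ _) h1)
  have h3 : (⟨x * w⁻¹, hx⟩ : N) ∈ Finset.univ.image F := by rw [h2]; exact Finset.mem_univ _
  obtain ⟨⟨g, i⟩, -, hgi⟩ := Finset.mem_image.1 h3
  have h4 : (g : K) * w * (g : K)⁻¹ * z ^ (i : ℕ) * w⁻¹ = x * w⁻¹ := congrArg Subtype.val hgi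
  exact ⟨g, g.2, i, (mul_right_cancel h4).symm⟩

theorem Hyp.three_mul [Finite K] (h : Hyp K σ z W) (hW : W ≠ ⊥) (N : Subgroup K) [N.Normal]
    (hNW : ∀ x ∈ N, x ∈ W → x = 1) (hzN : z ∈ N) (hσN : ∀ x ∈ N, σ x ∈ N) :
    Nat.card N = 3 * (Nat.card {x : K // x ∈ N ∧ σ x = x⁻¹} * Nat.card {x : K // x ∈ N ∧ σ x = x⁻¹}) := by
  classical
  obtain ⟨⟨w, hw⟩, hw1'⟩ := (Subgroup.ne_bot_iff_exists_ne_one.1 hW)
  have hw1 : w ≠ 1 := fun h0 => hw1' (Subtype.ext h0)
  obtain ⟨v, hvW, hvv⟩ : ∃ v ∈ W, v * v = w := ⟨_, W.pow_mem hw _, half_mul_half h.odd w⟩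
  have hσv : σ v = v⁻¹ := h.σ_W v hvW
  have hσw : σ w = w⁻¹ := h.σ_W w hw
  have hcN : ∀ g ∈ N, g * w = w * g → ∃ j : ℕ, g = z ^ j := by
    intro g hg hgw
    obtain ⟨j, w', hw', hj⟩ := h.cent w hw hw1 _ hgw
    have h7 : w' = 1 := by
      apply hNW _ _ hw'
      have h8 : w' = (z ^ j)⁻¹ * g := by rw [hj]; group
      rw [h8]
      exact N.mul_mem (N.inv_mem (N.pow_mem hzN _)) hg
    exact ⟨j, by rw [hj, h7, mul_one]⟩
  let Ψ : N → {x : K // x ∈ N ∧ σ x = x⁻¹} × {x : K // x ∈ N ∧ σ x = x⁻¹} := fun g =>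
    (⟨g * (σ g)⁻¹, N.mul_mem g.2 (N.inv_mem (hσN _ g.2)), by rw [map_mul, map_inv, h.inv]; group⟩,
     ⟨(v⁻¹ * σ g * v) * (v * (g : K)⁻¹ * v⁻¹), N.mul_mem (by
        have := (inferInstance : N.Normal).conj_mem _ (hσN _ g.2) v⁻¹
        rwa [inv_inv] at this) ((inferInstance : N.Normal).conj_mem _ (N.inv_mem g.2) v), by
        simp only [map_mul, map_inv, h.inv, hσv]; group⟩)
  have hΨz : ∀ (g : N) (j : ℕ), Ψ (g * (⟨z, hzN⟩ : N) ^ j) = Ψ g := by
    intro g j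
    have hzj : σ (z ^ j) = z ^ j := by rw [map_pow, h.σ_z]
    have hzc : ∀ x, x * z ^ j = z ^ j * x := fun x => h.z_comm_pow x j
    refine Prod.ext (Subtype.ext ?_) (Subtype.ext ?_)
    · change (g * z ^ j : K) * (σ (g * z ^ j))⁻¹ = g * (σ g)⁻¹
      rw [map_mul, hzj]; group
    · change (v⁻¹ * σ (g * z ^ j) * v) * (v * (g * z ^ j : K)⁻¹ * v⁻¹) = (v⁻¹ * σ g * v) * (v * (g : K)⁻¹ * v⁻¹)
      rw [map_mul, hzj]
      have : v⁻¹ * (σ g * z ^ j) * v * (v * (g * z ^ j : K)⁻¹ * v⁻¹) =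
          v⁻¹ * σ g * (z ^ j * (v * v) ) * (z ^ j)⁻¹ * (g : K)⁻¹ * v⁻¹ := by group
      rw [this, ← hzc]; group
  have hΨinj : ∀ g g' : N, Ψ g = Ψ g' → ∃ j : ℕ, (g' : K) = g * z ^ j := by
    intro g g' hgg
    have h1 : (g : K) * (σ g)⁻¹ = g' * (σ g')⁻¹ := congrArg (fun p => (p.1 : K)) hgg
    have h2 : (v⁻¹ * σ g * v) * (v * (g : K)⁻¹ * v⁻¹) = (v⁻¹ * σ g' * v) * (v * (g' : K)⁻¹ * v⁻¹) :=
      congrArg (fun p => (p.2 : K)) hgg
    have h3 : σ g * w * (g : K)⁻¹ = σ g' * w * (g' : K)⁻¹ := by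
      calc σ g * w * (g : K)⁻¹ = v * ((v⁻¹ * σ g * v) * (v * (g : K)⁻¹ * v⁻¹)) * v := by rw [← hvv]; group
        _ = v * ((v⁻¹ * σ g' * v) * (v * (g' : K)⁻¹ * v⁻¹)) * v := by rw [h2]
        _ = _ := by rw [← hvv]; group
    have h4 : (g : K) * w * (g : K)⁻¹ = g' * w * (g' : K)⁻¹ := by
      calc (g : K) * w * (g : K)⁻¹ = (g * (σ g)⁻¹) * (σ g * w * (g : K)⁻¹) := by group
        _ = (g' * (σ g')⁻¹) * (σ g' * w * (g' : K)⁻¹) := by rw [h1, h3]
        _ = _ := by group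
    have h6 : ((g : K)⁻¹ * g') * w = w * ((g : K)⁻¹ * g') := by
      calc ((g : K)⁻¹ * g') * w = (g : K)⁻¹ * (g' * w * (g' : K)⁻¹) * g' := by group
        _ = (g : K)⁻¹ * (g * w * (g : K)⁻¹) * g' := by rw [h4]
        _ = _ := by group
    obtain ⟨j, hj⟩ := hcN _ (N.mul_mem (N.inv_mem g.2) g'.2) h6
    exact ⟨j, by rw [← hj]; group⟩
  have hΨsurj : Function.Surjective Ψ := by
    rintro ⟨⟨x, hxN, hx⟩, ⟨y, hyN, hy⟩⟩
    obtain ⟨g0, hg0N, hg0g0, hσg0⟩ : ∃ g0 ∈ N, g0 * g0 = x ∧ σ g0 = g0⁻¹ :=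
      ⟨x ^ ((Nat.card K + 1) / 2), N.pow_mem hxN _, half_mul_half h.odd x, by rw [map_pow, hx, inv_pow]⟩
    have h1 : (g0 * v * y * v * g0) * w⁻¹ ∈ N := by
      have h2 : (g0 * v * y * v * g0) * w⁻¹ = g0 * (v * y * v⁻¹) * (w * g0 * w⁻¹) := by rw [← hvv]; group
      rw [h2]
      exact N.mul_mem (N.mul_mem hg0N ((inferInstance : N.Normal).conj_mem _ hyN v))
        ((inferInstance : N.Normal).conj_mem _ hg0N w)
    obtain ⟨k, hkN, i, hki⟩ := h.coset N hNW hzN hw hw1 h1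
    have hzc : ∀ x, x * z ^ i = z ^ i * x := fun x => h.z_comm_pow x i
    have h2 : σ (g0 * v * y * v * g0) = (g0 * v * y * v * g0)⁻¹ := by
      simp only [map_mul, hσg0, hσv, hy]; group
    rw [hki] at h2
    have h3 : σ k * w⁻¹ * (σ k)⁻¹ * z ^ i = k * w⁻¹ * k⁻¹ * (z ^ i)⁻¹ := by
      have h4 : σ (k * w * k⁻¹ * z ^ i) = σ k * w⁻¹ * (σ k)⁻¹ * z ^ i := by
        simp only [map_mul, map_inv, map_pow, hσw, h.σ_z]
      rw [← h4, h2, mul_inv_rev, ← (show Commute (k * w * k⁻¹)⁻¹ (z ^ i)⁻¹ from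
        ((show Commute (k * w * k⁻¹) (z ^ i) from hzc _).inv_inv)).eq]
      group
    have h4 : z ^ i = (z ^ i)⁻¹ :=
      h.sep (W.inv_mem hw) (h.z_pow_three i) (by rw [inv_pow, h.z_pow_three, inv_one]) hzc
        (fun x => (show Commute x (z ^ i) from hzc x).inv_right) h3
    have h5 : z ^ i = 1 := eq_one_of_mul_self h.odd (by
      nth_rewrite 1 [h4]; exact inv_mul_cancel _)
    rw [h5, inv_one, mul_one, mul_one] at h3
    rw [h5, mul_one] at hki
    have h6 : (k⁻¹ * σ k) * w = w * (k⁻¹ * σ k) := by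
      have h7 : (k⁻¹ * σ k) * w⁻¹ = w⁻¹ * (k⁻¹ * σ k) := by
        calc (k⁻¹ * σ k) * w⁻¹ = k⁻¹ * (σ k * w⁻¹ * (σ k)⁻¹) * σ k := by group
          _ = k⁻¹ * (k * w⁻¹ * k⁻¹) * σ k := by rw [h3]
          _ = _ := by group
      have h8 := (show Commute (k⁻¹ * σ k) w⁻¹ from h7).inv_right
      rw [inv_inv] at h8
      exact h8
    obtain ⟨j, hj⟩ := hcN _ (N.mul_mem (N.inv_mem hkN) (hσN _ hkN)) h6
    have h7 : σ k = k := by
      have h8 : σ (k⁻¹ * σ k) = k⁻¹ * σ k := by rw [hj, map_pow, h.σ_z]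
      have h9 : σ (k⁻¹ * σ k) = (k⁻¹ * σ k)⁻¹ := by rw [map_mul, map_inv, h.inv]; group
      have h10 := eq_one_of_mul_self h.odd (x := k⁻¹ * σ k) (by
        nth_rewrite 1 [← h8]; rw [h9]; exact inv_mul_cancel _)
      exact (inv_mul_eq_one.1 h10).symm
    refine ⟨⟨g0 * k, N.mul_mem hg0N hkN⟩, ?_⟩
    refine Prod.ext (Subtype.ext ?_) (Subtype.ext ?_)
    · change g0 * k * (σ (g0 * k))⁻¹ = x
      rw [map_mul, h7, hσg0, ← hg0g0]; group
    · change (v⁻¹ * σ (g0 * k) * v) * (v * (g0 * k)⁻¹ * v⁻¹) = y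
      rw [map_mul, h7, hσg0]
      calc v⁻¹ * (g0⁻¹ * k) * v * (v * (g0 * k)⁻¹ * v⁻¹) = v⁻¹ * g0⁻¹ * (k * (v * v) * k⁻¹) * g0⁻¹ * v⁻¹ := by group
        _ = v⁻¹ * g0⁻¹ * (g0 * v * y * v * g0) * g0⁻¹ * v⁻¹ := by rw [hvv, hki]
        _ = y := by group
  choose sec hsec using hΨsurj
  have hequiv : Function.Bijective (fun p : Fin 3 ×
      ({x : K // x ∈ N ∧ σ x = x⁻¹} × {x : K // x ∈ N ∧ σ x = x⁻¹}) => sec p.2 * (⟨z, hzN⟩ : N) ^ (p.1 : ℕ)) := by
    constructor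
    · rintro ⟨i, p⟩ ⟨i', p'⟩ hpp
      have hpp : sec p * (⟨z, hzN⟩ : N) ^ (i : ℕ) = sec p' * (⟨z, hzN⟩ : N) ^ (i' : ℕ) := hpp
      have h1 : p = p' := by
        rw [← hsec p, ← hsec p', ← hΨz _ i, hpp, hΨz]
      rw [h1] at hpp
      have h2 : z ^ (i : ℕ) = z ^ (i' : ℕ) := congrArg Subtype.val (mul_left_cancel hpp)
      have h3 : i = i' := by
        have h5 := pow_inj_mod.1 h2
        rw [h.ord_z] at h5
        have := i.2
        have := i'.2
        apply Fin.ext; omega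
      rw [h1, h3]
    · intro g
      obtain ⟨j, hj⟩ := hΨinj _ _ (hsec (Ψ g))
      refine ⟨(⟨j % 3, Nat.mod_lt _ (by norm_num)⟩, Ψ g), Subtype.ext ?_⟩
      change (sec (Ψ g) : K) * z ^ (j % 3) = g
      have h9 : z ^ (j % 3) = z ^ j := by
        have := pow_mod_orderOf z j
        rwa [h.ord_z] at this
      rw [h9, ← hj]
  rw [← Nat.card_congr (Equiv.ofBijective _ hequiv), Nat.card_prod, Nat.card_prod, Nat.card_eq_fintype_card,
    Fintype.card_fin]

/-- the counting lemma -/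
theorem Hyp.main [Finite K] (h : Hyp K σ z W) :
    ((Nat.card {x : K // σ x = x} : ℤ)) ^ 2 ≡ 9 [ZMOD (Nat.card W : ℤ)] := by
  by_cases hW : W = ⊥
  · rw [hW, Subgroup.card_bot]; exact Int.modEq_one
  obtain ⟨N, hNn, hNcard, hNW, hcov⟩ := h.exists_complement
  have hchar : ∀ x, x ∈ N ↔ x ^ Nat.card N = 1 := by
    intro x
    constructor
    · intro hx
      exact congrArg Subtype.val (pow_card_eq_one' (x := (⟨x, hx⟩ : N)))
    · intro hx
      obtain ⟨w, hw, hxw⟩ := hcov x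
      have h1 : ((x : K) : K ⧸ N) = (w : K ⧸ N) := by
        rw [eq_comm, QuotientGroup.eq]
        have h2 := hNn.conj_mem _ hxw w⁻¹
        have h3 : w⁻¹ * (x * w⁻¹) * w⁻¹⁻¹ = w⁻¹ * x := by group
        rwa [h3] at h2
      have h4 : w ^ Nat.card N ∈ N := by
        rw [← QuotientGroup.eq_one_iff, QuotientGroup.mk_pow, ← h1, ← QuotientGroup.mk_pow, hx,
          QuotientGroup.mk_one]
      have h5 := hNW _ h4 (W.pow_mem hw _)
      have h6 : w ^ Nat.card W = 1 := congrArg Subtype.val (pow_card_eq_one' (x := (⟨w, hw⟩ : W)))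
      have h7 : orderOf w ∣ Nat.gcd (Nat.card W) W.index := by
        rw [← hNcard]
        exact Nat.dvd_gcd (orderOf_dvd_of_pow_eq_one h6) (orderOf_dvd_of_pow_eq_one h5)
      rw [h.coprime.gcd_eq_one, Nat.dvd_one, orderOf_eq_one_iff] at h7
      rw [h7, inv_one, mul_one] at hxw
      exact hxw
  have hσN : ∀ x ∈ N, σ x ∈ N := by
    intro x hx
    rw [hchar] at hx ⊢
    rw [← map_pow, hx, map_one]
  have hfix : ∀ x, σ x = x → x ∈ N := by
    intro x hx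
    obtain ⟨w, hw, hxw⟩ := hcov x
    have h1 := hσN _ hxw
    rw [map_mul, map_inv, h.σ_W w hw, hx, inv_inv] at h1
    have h2 : w * w ∈ N := by
      have h3 := N.mul_mem (N.inv_mem hxw) h1
      have h4 : (x * w⁻¹)⁻¹ * (x * w) = w * w := by group
      rwa [h4] at h3
    have h3 := eq_one_of_mul_self h.odd (hNW _ h2 (W.mul_mem hw hw))
    rw [h3, inv_one, mul_one] at hxw
    exact hxw
  have hzN : z ∈ N := hfix z h.σ_z
  have h1 := card_eq_fix_mul_inv σ h.inv h.odd N hσN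
  have h2 := h.three_mul hW N hNW hzN hσN
  have h3 : Nat.card {x : K // x ∈ N ∧ σ x = x} = Nat.card {x : K // σ x = x} :=
    Nat.card_congr (Equiv.subtypeEquivRight fun x => ⟨fun hx => hx.2, fun hx => ⟨hfix x hx, hx⟩⟩)
  rw [h3] at h1
  set c := Nat.card {x : K // σ x = x} with hc
  set j := Nat.card {x : K // x ∈ N ∧ σ x = x⁻¹} with hj
  have hj0 : 0 < j := by
    rcases Nat.eq_zero_or_pos j with h0 | h0
    · rw [h0] at h2
      have : 0 < Nat.card N := Nat.card_pos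
      omega
    · exact h0
  have h4 : c = 3 * j := by
    have h5 : c * j = (3 * j) * j := by rw [← h1, h2]; ring
    exact Nat.eq_of_mul_eq_mul_right hj0 h5
  have h5 : c ^ 2 = 3 * Nat.card N := by rw [h2, h4]; ring
  have h6 := h.index_modEq
  rw [← hNcard] at h6
  have h7 := h6.mul_left 3
  have h8 : ((c : ℤ)) ^ 2 = 3 * (Nat.card N : ℤ) := by exact_mod_cast h5
  rw [h8]
  exact h7

end Main

end Cfsg.Agent.Ree.FrobCount
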