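import Mathlib
import Cfsg.Prelude.Def_Blocks
import Cfsg.Agent.Blocks.PPart
import Cfsg.Agent.Blocks.PrincipalSection
import Cfsg.Agent.Blocks.ExistsModular
import Cfsg.Agent.S0923
import Cfsg.Agent.S0939
import Cfsg.Agent.S0942

/-!
# S0343, the blocks at a prime dividing `|Y|`

Let `z` be a `p`-element whose centralizer `C` is abelian.

* `const_of_mem` : a character of the principal block is constant on `z n`, `n` running through the `p`-regular
  elements of `C`;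
* `sum_eq_zero_of_notMem` : for a character outside the principal block the sum of the values at these elements is `0`.
-/

set_option autoImplicit false

open Cfsg Cfsg.Agent.Blocks Cfsg.Agent.Blocks.Basic Cfsg.Agent.Blocks.Local
open scoped ComplexConjugate

namespace Cfsg.Agent.Ree.LBlock

section Abelian

variable {K : Type*} [Group K] [Finite K] {p : ℕ} [Fact p.Prime]

/-- The `p'`-core of an abelian group. -/
theorem mem_pPrimeCore_iff (hK : ∀ a b : K, a * b = b * a) {x : K} :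
    x ∈ pPrimeCore p K ↔ ¬ p ∣ orderOf x := by
  have hp : p.Prime := Fact.out
  constructor
  · intro hx hdvd
    have h1 : orderOf x ∣ Nat.card (pPrimeCore p K) := by
      have := orderOf_dvd_natCard (⟨x, hx⟩ : pPrimeCore p K)
      rwa [← Subgroup.orderOf_coe] at this
    have h2 := Lib.Cores.pPrimeCore_coprime (G := K) p
    exact ((Nat.Prime.coprime_iff_not_dvd hp).1 h2.symm) (hdvd.trans h1)
  · intro hx
    have hn : (Subgroup.zpowers x).Normal := by
      refine ⟨fun n hn g => ?_⟩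
      rw [hK g n, mul_assoc, mul_inv_cancel, mul_one]
      exact hn
    have h1 : (Nat.card (Subgroup.zpowers x)).Coprime p := by
      rw [Nat.card_zpowers]
      exact ((Nat.Prime.coprime_iff_not_dvd hp).2 hx).symm
    exact Lib.Cores.le_pPrimeCore hn h1 (Subgroup.mem_zpowers x)

/-- An abelian group has a normal `p`-complement. -/
theorem index_pPrimeCore (hK : ∀ a b : K, a * b = b * a) :
    ∃ k : ℕ, (pPrimeCore p K).index = p ^ k := by
  have hN : (pPrimeCore p K).Normal := Lib.Cores.pPrimeCore_normal p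
  have hP : IsPGroup p (K ⧸ pPrimeCore p K) := by
    intro x
    obtain ⟨g, rfl⟩ := QuotientGroup.mk_surjective x
    obtain ⟨u, y, rfl, hc, ⟨k, hk⟩, hy⟩ := PPart.exists_isPPart p g
    refine ⟨k, ?_⟩
    have h1 : (y : K ⧸ pPrimeCore p K) = 1 := (QuotientGroup.eq_one_iff _).2 ((mem_pPrimeCore_iff hK).2 hy)
    rw [QuotientGroup.mk_mul, h1, mul_one, ← QuotientGroup.mk_pow, ← hk, pow_orderOf_eq_one,
      QuotientGroup.mk_one]
  obtain ⟨k, hk⟩ := IsPGroup.iff_card.1 hP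
  exact ⟨k, hk⟩

end Abelian

variable {G : Type*} [Group G] [Finite G] {p : ℕ} [Fact p.Prime] {M : Ideal AlgInt}

omit [Finite G] in
/-- Induced blocks are unique. -/
theorem eq_of_isInducedBlock [M.IsPrime] {H : Subgroup G} {b : Set (IrrCharacter H)}
    {B B' : Set (IrrCharacter G)} (h : IsInducedBlock M H b B) (h' : IsInducedBlock M H b B') :
    B = B' := by
  obtain ⟨ξ, hξ⟩ := isPBlock_nonempty h.1
  obtain ⟨χ, hχ⟩ := isPBlock_nonempty h.2.1
  obtain ⟨χ', hχ'⟩ := isPBlock_nonempty h'.2.1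
  refine isPBlock_eq_of_sameBlock h.2.1 h'.2.1 hχ hχ' ?_
  intro g
  have h1 := h.2.2 ξ hξ χ hχ g
  have h2 := h'.2.2 ξ hξ χ' hχ' g
  have := memLocalIdeal_sub h2 h1
  simpa using this

/-- The principal block of the centralizer of a `p`-element induces only the principal block. -/
theorem not_isInducedBlock (hM : IsPModular p M) {z : G} (hz : ∃ k : ℕ, orderOf z = p ^ k)
    {χ : IrrCharacter G} (hχ : χ ∉ principalBlock M G) :
    ¬ IsInducedBlock M (Subgroup.centralizer ({z} : Set G))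
      (principalBlock M (Subgroup.centralizer ({z} : Set G))) (blockOf M (χ : G → ℂ)) := by
  have := isPrime_of_isPModular hM
  intro h
  have h1 := (PrincipalSection.mem_principalBlock_iff_induced hM z hz rfl _).1
    (PrincipalSection.one_mem_principalBlock (K := Subgroup.centralizer ({z} : Set G)) (M := M))
  have h2 : IsInducedBlock M (Subgroup.centralizer ({z} : Set G))
      (principalBlock M (Subgroup.centralizer ({z} : Set G))) (principalBlock M G) := h1
  have h3 := eq_of_isInducedBlock h h2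
  exact hχ (h3 ▸ mem_blockOf_self χ)

/-- Second main theorem for the principal block of a `p`-nilpotent centralizer. -/
theorem sum_eq_zero_aux (hM : IsPModular p M) {z : G} (hz : ∃ k : ℕ, orderOf z = p ^ k)
    {χ : IrrCharacter G} (hχ : χ ∉ principalBlock M G)
    {H : Subgroup G} (hH : H = Subgroup.centralizer ({z} : Set G))
    (hnc : ∃ k : ℕ, (pPrimeCore p H).index = p ^ k)
    (S : Finset H) (hS : ∀ x, x ∈ S ↔ x ∈ pPrimeCore p H) :
    ∑ n ∈ S, (χ : G → ℂ) (z * (n : G)) = 0 := by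
  classical
  have := isPrime_of_isPModular hM
  have hp : p.Prime := Fact.out
  have h : blockPart (principalBlock M H) (fun c : H => (χ : G → ℂ) (z * (c : G))) 1 = 0 := by
    subst hH
    exact S0923.result p M hM z hz (blockOf M (χ : G → ℂ)) (isPBlock_blockOf χ) χ
      (mem_blockOf_self χ) _ PrincipalSection.isPBlock_principalBlock
      (not_isInducedBlock hM hz hχ) 1 (by rw [orderOf_one]; exact hp.not_dvd_one)
  let _ := Fintype.ofFinite H
  have : Finite (IrrCharacter H) := Characters.Core.finite_irr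
  let _ := Fintype.ofFinite (IrrCharacter H)
  have hN : (pPrimeCore p H).Normal := Lib.Cores.pPrimeCore_normal p
  set θ : H → ℂ := fun c => (χ : G → ℂ) (z * (c : G)) with hθ
  have h1 : ∑ᶠ ψ ∈ principalBlock M H, classInner θ (ψ : H → ℂ) * (ψ : H → ℂ) 1 = 0 := h
  rw [S0939.result p M hM hnc, finsum_mem_eq_toFinset_sum] at h1
  have h2 : ∑ ψ : IrrCharacter H, (if ∀ a ∈ pPrimeCore p H, (ψ : H → ℂ) a = (ψ : H → ℂ) 1
      then classInner θ (ψ : H → ℂ) * (ψ : H → ℂ) 1 else 0) = 0 := by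
    refine Eq.trans ?_ h1
    rw [← Finset.sum_filter]
    refine Finset.sum_congr ?_ fun _ _ => rfl
    ext ψ
    simp
  have h3 : ∀ ψ : IrrCharacter H, (if ∀ a ∈ pPrimeCore p H, (ψ : H → ℂ) a = (ψ : H → ℂ) 1
      then classInner θ (ψ : H → ℂ) * (ψ : H → ℂ) 1 else 0) =
      (Nat.card H : ℂ)⁻¹ * ∑ g : H, θ g * conj (if ∀ a ∈ pPrimeCore p H,
        (ψ : H → ℂ) a = (ψ : H → ℂ) 1 then (ψ : H → ℂ) 1 * (ψ : H → ℂ) g else 0) := by
    intro ψ
    split_ifs with hψ
    · rw [classInner_def, mul_assoc, Finset.sum_mul]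
      congr 1
      refine Finset.sum_congr rfl fun g _ => ?_
      obtain ⟨n, -, hn⟩ := irr_one_eq_natCast ψ.2
      rw [map_mul, hn, Complex.conj_natCast]
      ring
    · simp
  rw [Finset.sum_congr rfl fun ψ _ => h3 ψ, ← Finset.mul_sum, Finset.sum_comm] at h2
  have h4 : ∀ g : H, ∑ ψ : IrrCharacter H, θ g * conj (if ∀ a ∈ pPrimeCore p H,
        (ψ : H → ℂ) a = (ψ : H → ℂ) 1 then (ψ : H → ℂ) 1 * (ψ : H → ℂ) g else 0) =
      θ g * (if g ∈ pPrimeCore p H then ((pPrimeCore p H).index : ℂ) else 0) := by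
    intro g
    rw [← Finset.mul_sum, ← map_sum, OddOrderCharacters.InducedSum.sum_above]
    split_ifs <;> simp
  rw [Finset.sum_congr rfl fun g _ => h4 g] at h2
  have hc : (Nat.card H : ℂ)⁻¹ ≠ 0 := inv_ne_zero (Nat.cast_ne_zero.mpr Nat.card_pos.ne')
  have h5 := (mul_eq_zero.mp h2).resolve_left hc
  have h6 : ∑ g : H, θ g * (if g ∈ pPrimeCore p H then ((pPrimeCore p H).index : ℂ) else 0) =
      (∑ n ∈ S, θ n) * ((pPrimeCore p H).index : ℂ) := by
    have hSf : S = Finset.univ.filter (· ∈ pPrimeCore p H) := by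
      ext x
      rw [hS]
      simp
    rw [hSf, Finset.sum_filter, Finset.sum_mul]
    refine Finset.sum_congr rfl fun g _ => ?_
    split_ifs <;> simp
  rw [h6] at h5
  have hi : ((pPrimeCore p H).index : ℂ) ≠ 0 :=
    Nat.cast_ne_zero.mpr (Subgroup.index_ne_zero_of_finite)
  exact (mul_eq_zero.mp h5).resolve_right hi

/-- For a character outside the principal block. -/
theorem sum_eq_zero_of_notMem (hM : IsPModular p M) {z : G} (hz : ∃ k : ℕ, orderOf z = p ^ k)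
    {χ : IrrCharacter G} (hχ : χ ∉ principalBlock M G)
    (hab : ∀ a ∈ Subgroup.centralizer ({z} : Set G), ∀ b ∈ Subgroup.centralizer ({z} : Set G),
      a * b = b * a) (S : Finset G)
    (hS : ∀ x, x ∈ S ↔ x ∈ Subgroup.centralizer ({z} : Set G) ∧ ¬ p ∣ orderOf x) :
    ∑ n ∈ S, (χ : G → ℂ) (z * n) = 0 := by
  classical
  obtain ⟨H, hH⟩ : ∃ H : Subgroup G, H = Subgroup.centralizer ({z} : Set G) := ⟨_, rfl⟩
  rw [← hH] at hab hS
  let _ := Fintype.ofFinite H
  have hab' : ∀ a b : H, a * b = b * a := fun a b => Subtype.ext (hab a a.2 b b.2)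
  have h := sum_eq_zero_aux hM hz hχ hH (index_pPrimeCore hab')
    (Finset.univ.filter (· ∈ pPrimeCore p H)) (by simp)
  rw [← h]
  symm
  refine Finset.sum_bij (fun x _ => (x : G)) ?_ ?_ ?_ ?_
  · intro x hx
    have hx' := (mem_pPrimeCore_iff hab').1 (Finset.mem_filter.1 hx).2
    rw [hS]
    refine ⟨x.2, ?_⟩
    rwa [Subgroup.orderOf_coe]
  · intro x _ y _ hxy
    exact Subtype.ext hxy
  · intro x hx
    obtain ⟨h1, h2⟩ := (hS x).1 hx
    refine ⟨⟨x, h1⟩, ?_, rfl⟩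
    rw [Finset.mem_filter]
    refine ⟨Finset.mem_univ _, (mem_pPrimeCore_iff hab').2 ?_⟩
    rwa [← Subgroup.orderOf_coe]
  · intro x _
    rfl

/-- For a character of the principal block. -/
theorem const_of_mem (hM : IsPModular p M) {z : G} (hz : ∃ k : ℕ, orderOf z = p ^ k)
    {χ : IrrCharacter G} (hχ : χ ∈ principalBlock M G)
    (hab : ∀ a ∈ Subgroup.centralizer ({z} : Set G), ∀ b ∈ Subgroup.centralizer ({z} : Set G),
      a * b = b * a) {n : G} (hn : n ∈ Subgroup.centralizer ({z} : Set G)) (hn' : ¬ p ∣ orderOf n) :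
    (χ : G → ℂ) (z * n) = (χ : G → ℂ) z := by
  have hab' : ∀ a b : Subgroup.centralizer ({z} : Set G), a * b = b * a :=
    fun a b => Subtype.ext (hab a a.2 b b.2)
  refine S0942.result p M hM z hz n ?_ χ hχ
  refine ⟨⟨n, hn⟩, (mem_pPrimeCore_iff hab').2 ?_, rfl⟩
  rwa [← Subgroup.orderOf_coe]

section Cases

variable {V Y : Subgroup G}

/-- The hypotheses on `V × Y` used here. -/
structure Hyp (V Y : Subgroup G) : Prop where
  V_card : Nat.card V = 4
  V_exp : ∀ v ∈ V, v * v = 1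
  Y_odd : Odd (Nat.card Y)
  Y_comm : ∀ a ∈ Y, ∀ b ∈ Y, a * b = b * a
  VY_comm : ∀ v ∈ V, ∀ y ∈ Y, v * y = y * v
  cent_y : ∀ y ∈ Y, y ≠ 1 → Subgroup.centralizer ({y} : Set G) = V ⊔ Y

omit [Finite G] in
theorem Hyp.V_comm (h : Hyp V Y) {a b : G} (ha : a ∈ V) (hb : b ∈ V) : a * b = b * a := by
  have h1 := h.V_exp (a * b) (V.mul_mem ha hb)
  have h2 := h.V_exp a ha
  have h3 := h.V_exp b hb
  calc a * b = a * (a * b * (a * b)) * b := by rw [h1]; group
    _ = (a * a) * b * a * (b * b) := by group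
    _ = b * a := by rw [h2, h3]; group

omit [Finite G] in
theorem Hyp.orderOf_dvd (h : Hyp V Y) {v : G} (hv : v ∈ V) : orderOf v ∣ 2 :=
  orderOf_dvd_of_pow_eq_one (by rw [pow_two]; exact h.V_exp v hv)

omit [Finite G] in
theorem Hyp.coprime (h : Hyp V Y) {v y : G} (hv : v ∈ V) (hy : y ∈ Y) :
    (orderOf v).Coprime (orderOf y) := by
  have h1 : orderOf y ∣ Nat.card Y := Subgroup.orderOf_dvd_natCard Y hy
  have h2 : Nat.Coprime 2 (orderOf y) :=
    (Nat.Coprime.coprime_dvd_right h1 (Nat.coprime_two_left.2 h.Y_odd))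
  exact Nat.Coprime.coprime_dvd_left (h.orderOf_dvd hv) h2

omit [Finite G] in
theorem Hyp.mem_sup (h : Hyp V Y) {x : G} : x ∈ V ⊔ Y ↔ ∃ v ∈ V, ∃ y ∈ Y, v * y = x := by
  constructor
  · intro hx
    rw [Subgroup.sup_eq_closure_mul] at hx
    induction hx using Subgroup.closure_induction with
    | mem x hx =>
      obtain ⟨v, hv, y, hy, rfl⟩ := hx
      exact ⟨v, hv, y, hy, rfl⟩
    | one => exact ⟨1, V.one_mem, 1, Y.one_mem, mul_one _⟩
    | mul x x' _ _ hx hx' =>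
      obtain ⟨v, hv, y, hy, rfl⟩ := hx
      obtain ⟨v', hv', y', hy', rfl⟩ := hx'
      refine ⟨v * v', V.mul_mem hv hv', y * y', Y.mul_mem hy hy', ?_⟩
      have := h.VY_comm v' hv' y hy
      calc v * v' * (y * y') = v * (v' * y) * y' := by group
        _ = v * y * (v' * y') := by rw [this]; group
    | inv x _ hx =>
      obtain ⟨v, hv, y, hy, rfl⟩ := hx
      refine ⟨v⁻¹, V.inv_mem hv, y⁻¹, Y.inv_mem hy, ?_⟩
      rw [mul_inv_rev, h.VY_comm v⁻¹ (V.inv_mem hv) y⁻¹ (Y.inv_mem hy)]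
  · rintro ⟨v, hv, y, hy, rfl⟩
    exact Subgroup.mul_mem_sup hv hy

omit [Finite G] in
theorem Hyp.eq_one (h : Hyp V Y) {x : G} (hv : x ∈ V) (hy : x ∈ Y) : x = 1 := by
  have := h.coprime hv hy
  rw [Nat.coprime_self] at this
  exact orderOf_eq_one_iff.1 this

omit [Finite G] in
theorem Hyp.inj (h : Hyp V Y) {v v' y y' : G} (hv : v ∈ V) (hv' : v' ∈ V) (hy : y ∈ Y)
    (hy' : y' ∈ Y) (he : v * y = v' * y') : v = v' ∧ y = y' := by
  have h1 : v'⁻¹ * v = y' * y⁻¹ := by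
    calc v'⁻¹ * v = v'⁻¹ * (v * y) * y⁻¹ := by group
      _ = y' * y⁻¹ := by rw [he]; group
  have h2 : v'⁻¹ * v = 1 :=
    h.eq_one (V.mul_mem (V.inv_mem hv') hv) (h1 ▸ Y.mul_mem hy' (Y.inv_mem hy))
  have h3 : v = v' := (inv_mul_eq_one.1 h2).symm
  refine ⟨h3, ?_⟩
  rw [h3] at he
  exact mul_left_cancel he

omit [Finite G] in
theorem Hyp.comm (h : Hyp V Y) {a b : G} (ha : a ∈ V ⊔ Y) (hb : b ∈ V ⊔ Y) : a * b = b * a := by
  obtain ⟨v, hv, y, hy, rfl⟩ := h.mem_sup.1 ha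
  obtain ⟨v', hv', y', hy', rfl⟩ := h.mem_sup.1 hb
  have e1 := h.VY_comm v' hv' y hy
  have e2 := h.V_comm hv hv'
  have e3 := h.Y_comm y hy y' hy'
  have e4 := h.VY_comm v hv y' hy'
  calc v * y * (v' * y') = v * (v' * y) * y' := by rw [e1]; group
    _ = (v * v') * (y * y') := by group
    _ = (v' * v) * (y' * y) := by rw [e2, e3]
    _ = v' * (v * y') * y := by group
    _ = v' * y' * (v * y) := by rw [e4]; group

omit [Finite G] in
theorem Hyp.dvd_iff (h : Hyp V Y) (hp : p ∣ Nat.card Y) {v y : G} (hv : v ∈ V) (hy : y ∈ Y) :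
    p ∣ orderOf (v * y) ↔ p ∣ orderOf y := by
  have hpp : p.Prime := Fact.out
  have h1 : orderOf (v * y) = orderOf v * orderOf y :=
    (show Commute v y from h.VY_comm v hv y hy).orderOf_mul_eq_mul_orderOf_of_coprime
      (h.coprime hv hy)
  rw [h1, hpp.dvd_mul]
  constructor
  · rintro (h2 | h2)
    · exfalso
      have h3 := (Nat.prime_dvd_prime_iff_eq hpp Nat.prime_two).1 (h2.trans (h.orderOf_dvd hv))
      rw [h3] at hp
      exact (Nat.not_even_iff_odd.2 h.Y_odd) (even_iff_two_dvd.2 hp)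
    · exact h2
  · exact Or.inr

/-- The `p`-part of an element of `Y`. -/
theorem exists_ppart {y : G} (hy : y ∈ Y) (hd : p ∣ orderOf y) :
    ∃ z ∈ Y, ∃ n ∈ Y, z ≠ 1 ∧ (∃ k : ℕ, orderOf z = p ^ k) ∧ ¬ p ∣ orderOf n ∧ z * n = y := by
  obtain ⟨x, w, hxy, hc, hk, hw⟩ := PPart.exists_isPPart p (⟨y, hy⟩ : Y)
  refine ⟨x, x.2, w, w.2, ?_, ?_, ?_, ?_⟩
  · intro h1
    have h2 : x = 1 := Subtype.ext h1
    rw [h2, one_mul] at hxy
    rw [hxy] at hw
    apply hw
    rwa [Subgroup.orderOf_mk]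
  · obtain ⟨k, hk⟩ := hk
    exact ⟨k, by rw [Subgroup.orderOf_coe]; exact hk⟩
  · rwa [Subgroup.orderOf_coe]
  · rw [← Subgroup.coe_mul, hxy]

omit [Finite G] in
theorem Hyp.exists_ne (h : Hyp V Y) : ∃ v ∈ V, v ≠ 1 := by
  by_contra hcon
  push Not at hcon
  have h1 : V = ⊥ := (Subgroup.eq_bot_iff_forall V).2 hcon
  have h2 := h.V_card
  rw [h1, Subgroup.card_bot] at h2
  norm_num at h2

omit [Finite G] in
theorem Hyp.cent_comm (h : Hyp V Y) {z : G} (hz : z ∈ Y) (hz1 : z ≠ 1) :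
    ∀ a ∈ Subgroup.centralizer ({z} : Set G), ∀ b ∈ Subgroup.centralizer ({z} : Set G),
      a * b = b * a := by
  rw [h.cent_y z hz hz1]
  exact fun a ha b hb => h.comm ha hb

/-- Values of a character of the principal block. -/
theorem value_of_mem (hM : IsPModular p M) (h : Hyp V Y) (hp : p ∣ Nat.card Y)
    {χ : IrrCharacter G} (hχ : χ ∈ principalBlock M G) {s : ℂ}
    (hs : ∀ v ∈ V, v ≠ 1 → ∀ y ∈ Y, y ≠ 1 → (χ : G → ℂ) (v * y) = s) {v y : G} (hv : v ∈ V)
    (hy : y ∈ Y) (hd : p ∣ orderOf y) : (χ : G → ℂ) (v * y) = s := by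
  obtain ⟨z, hz, n, hn, hz1, hzk, hnd, rfl⟩ := exists_ppart hy hd
  have hab := h.cent_comm hz hz1
  have key : ∀ v ∈ V, ∀ n ∈ Y, ¬ p ∣ orderOf n → (χ : G → ℂ) (z * (v * n)) = (χ : G → ℂ) z := by
    intro v hv n hn hnd
    refine const_of_mem hM hzk hχ hab ?_ ?_
    · rw [h.cent_y z hz hz1]
      exact Subgroup.mul_mem_sup hv hn
    · rwa [h.dvd_iff hp hv hn]
  obtain ⟨v₁, hv₁, hv₁1⟩ := h.exists_ne
  have e1 := key v₁ hv₁ 1 Y.one_mem (by rw [orderOf_one]; exact (Fact.out : p.Prime).not_dvd_one)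
  rw [mul_one, ← h.VY_comm v₁ hv₁ z hz, hs v₁ hv₁ hv₁1 z hz hz1] at e1
  have e2 := key v hv n hn hnd
  rw [← mul_assoc, ← h.VY_comm v hv z hz, mul_assoc, ← e1] at e2
  exact e2

/-- Sums of a character outside the principal block. -/
theorem sum_of_notMem (hM : IsPModular p M) (h : Hyp V Y) (hp : p ∣ Nat.card Y)
    [Fintype V] (N : Subgroup Y) [Fintype N] (hN : ∀ n : Y, n ∈ N ↔ ¬ p ∣ orderOf n)
    {χ : IrrCharacter G} (hχ : χ ∉ principalBlock M G) {z : G} (hz : z ∈ Y) (hz1 : z ≠ 1)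
    (hzk : ∃ k : ℕ, orderOf z = p ^ k) :
    ∑ v : V, ∑ n : N, (χ : G → ℂ) (z * ((v : G) * ((n : Y) : G))) = 0 := by
  classical
  have hmem : ∀ n : N, ¬ p ∣ orderOf (((n : Y) : G)) := by
    intro n
    rw [Subgroup.orderOf_coe]
    exact (hN n).1 n.2
  have h1 := sum_eq_zero_of_notMem hM hzk hχ (h.cent_comm hz hz1)
    ((Finset.univ : Finset (V × N)).image fun x => (x.1 : G) * ((x.2 : Y) : G)) ?_
  · rw [Finset.sum_image, Fintype.sum_prod_type] at h1
    · exact h1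
    · rintro ⟨v, n⟩ _ ⟨v', n'⟩ _ he
      obtain ⟨e1, e2⟩ := h.inj v.2 v'.2 (n : Y).2 (n' : Y).2 he
      exact Prod.ext (Subtype.ext e1) (Subtype.ext (Subtype.ext e2))
  · intro x
    rw [h.cent_y z hz hz1, h.mem_sup]
    simp only [Finset.mem_image, Finset.mem_univ, true_and, Prod.exists]
    constructor
    · rintro ⟨v, n, rfl⟩
      refine ⟨⟨v, v.2, n, (n : Y).2, rfl⟩, ?_⟩
      rw [h.dvd_iff hp v.2 (n : Y).2]
      exact hmem n
    · rintro ⟨⟨v, hv, y, hy, rfl⟩, hd⟩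
      rw [h.dvd_iff hp hv hy] at hd
      refine ⟨⟨v, hv⟩, ⟨⟨y, hy⟩, (hN _).2 ?_⟩, rfl⟩
      rwa [Subgroup.orderOf_mk]

theorem sum_coset (hM : IsPModular p M) (h : Hyp V Y) (hp : p ∣ Nat.card Y)
    (N : Subgroup Y) [Fintype N] (hN : ∀ n : Y, n ∈ N ↔ ¬ p ∣ orderOf n)
    {χ : IrrCharacter G} (hχ : χ ∉ principalBlock M G) {s : ℂ}
    (hs : ∀ v ∈ V, v ≠ 1 → ∀ y ∈ Y, y ≠ 1 → (χ : G → ℂ) (v * y) = s) (y : Y)
    (hy : p ∣ orderOf y) :
    ∑ n : N, (χ : G → ℂ) ((y * (n : Y) : Y) : G) = -3 * (Nat.card N) * s := by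
  classical
  let _ := Fintype.ofFinite V
  obtain ⟨z, hz, w, hw, hz1, hzk, hnd, hzw⟩ := exists_ppart (p := p) y.2 (by rwa [Subgroup.orderOf_coe])
  have h1 := sum_of_notMem hM h hp N hN hχ hz hz1 hzk
  rw [← Finset.add_sum_erase _ _ (Finset.mem_univ (1 : V))] at h1
  have h2 : ∀ v ∈ Finset.univ.erase (1 : V),
      ∑ n : N, (χ : G → ℂ) (z * ((v : G) * ((n : Y) : G))) = (Nat.card N : ℂ) * s := by
    intro v hv
    have hv1 : (v : G) ≠ 1 := fun h0 => (Finset.mem_erase.1 hv).1 (Subtype.ext h0)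
    have h3 : ∀ n : N, (χ : G → ℂ) (z * ((v : G) * ((n : Y) : G))) = s := by
      intro n
      rw [← mul_assoc, ← h.VY_comm v v.2 z hz, mul_assoc]
      refine hs v v.2 hv1 _ (Y.mul_mem hz (n : Y).2) ?_
      intro h0
      have h4 : z = (((n : Y) : G))⁻¹ := eq_inv_of_mul_eq_one_left h0
      have h5 : ¬ p ∣ orderOf z := by
        rw [h4, orderOf_inv, Subgroup.orderOf_coe]
        exact (hN n).1 n.2
      obtain ⟨k, hk⟩ := hzk
      rw [hk] at h5
      have h6 : k = 0 := by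
        by_contra hk0
        exact h5 (dvd_pow_self p hk0)
      rw [h6, pow_zero] at hk
      exact hz1 (orderOf_eq_one_iff.1 hk)
    rw [Finset.sum_congr rfl fun n _ => h3 n, Finset.sum_const, Finset.card_univ, nsmul_eq_mul,
      Nat.card_eq_fintype_card]
  rw [Finset.sum_congr rfl h2, Finset.sum_const, Finset.card_erase_of_mem (Finset.mem_univ _),
    Finset.card_univ, ← Nat.card_eq_fintype_card, h.V_card] at h1
  have h7 : ∑ n : N, (χ : G → ℂ) ((y * (n : Y) : Y) : G) =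
      ∑ n : N, (χ : G → ℂ) (z * (((1 : V) : G) * ((n : Y) : G))) := by
    have hwN : (⟨w, hw⟩ : Y) ∈ N := (hN _).2 (by rwa [Subgroup.orderOf_mk])
    refine Fintype.sum_equiv (Equiv.mulLeft (⟨⟨w, hw⟩, hwN⟩ : N)) _ _ fun n => ?_
    simp only [Equiv.coe_mulLeft, Subgroup.coe_mul, Subgroup.coe_one, one_mul]
    rw [← hzw, mul_assoc]
  rw [h7]
  simp only [nsmul_eq_mul] at h1
  push_cast at h1
  linear_combination h1

theorem sum_Y_of_notMem (hM : IsPModular p M) (h : Hyp V Y) (hp : p ∣ Nat.card Y) [Fintype Y]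
    {χ : IrrCharacter G} (hχ : χ ∉ principalBlock M G) {s : ℂ}
    (hs : ∀ v ∈ V, v ≠ 1 → ∀ y ∈ Y, y ≠ 1 → (χ : G → ℂ) (v * y) = s)
    (f : Y → ℂ) (hf0 : ∀ y, ¬ p ∣ orderOf y → f y = 0)
    (hf1 : ∀ y n, ¬ p ∣ orderOf n → f (y * n) = f y) (hf2 : ∑ y, f y = Nat.card Y) :
    ∑ y : Y, (χ : G → ℂ) y * f y = -3 * (Nat.card Y) * s := by
  classical
  have hYc : ∀ a b : Y, a * b = b * a := fun a b => Subtype.ext (h.Y_comm a a.2 b b.2)
  obtain ⟨N, hN⟩ : ∃ N : Subgroup Y, ∀ n : Y, n ∈ N ↔ ¬ p ∣ orderOf n :=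
    ⟨pPrimeCore p Y, fun n => mem_pPrimeCore_iff hYc⟩
  let _ := Fintype.ofFinite N
  have hN0 : (Nat.card N : ℂ) ≠ 0 := Nat.cast_ne_zero.2 Nat.card_pos.ne'
  have e1 : (Nat.card N : ℂ) * ∑ y : Y, (χ : G → ℂ) y * f y =
      ∑ y : Y, f y * ∑ n : N, (χ : G → ℂ) ((y * (n : Y) : Y) : G) := by
    have e2 : ∀ n : N, ∑ y : Y, (χ : G → ℂ) y * f y =
        ∑ y : Y, f y * (χ : G → ℂ) ((y * (n : Y) : Y) : G) := by
      intro n
      refine (Fintype.sum_equiv (Equiv.mulRight (n : Y)) _ _ fun y => ?_).symm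
      simp only [Equiv.coe_mulRight]
      rw [hf1 y n ((hN n).1 n.2), mul_comm]
    have e3 : ∑ n : N, ∑ y : Y, (χ : G → ℂ) y * f y =
        ∑ n : N, ∑ y : Y, f y * (χ : G → ℂ) ((y * (n : Y) : Y) : G) :=
      Finset.sum_congr rfl fun n _ => e2 n
    rw [Finset.sum_const, Finset.card_univ, ← Nat.card_eq_fintype_card, nsmul_eq_mul] at e3
    rw [e3, Finset.sum_comm]
    exact Finset.sum_congr rfl fun y _ => (Finset.mul_sum _ _ _).symm
  have e4 : ∀ y : Y, f y * ∑ n : N, (χ : G → ℂ) ((y * (n : Y) : Y) : G) =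
      f y * (-3 * (Nat.card N) * s) := by
    intro y
    by_cases hy : p ∣ orderOf y
    · rw [sum_coset hM h hp N hN hχ hs y hy]
    · rw [hf0 y hy, zero_mul, zero_mul]
  rw [Finset.sum_congr rfl fun y _ => e4 y, ← Finset.sum_mul, hf2] at e1
  have e5 : (Nat.card N : ℂ) * (∑ y : Y, (χ : G → ℂ) y * f y + 3 * (Nat.card Y) * s) = 0 := by
    linear_combination e1
  have e6 := (mul_eq_zero.1 e5).resolve_left hN0
  linear_combination e6

/-- **The two cases.** -/
theorem cases_aux (hM : IsPModular p M) (h : Hyp V Y) (hp : p ∣ Nat.card Y) [Fintype V] [Fintype Y]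
    (χ : IrrCharacter G) {s : ℂ}
    (hs : ∀ v ∈ V, v ≠ 1 → ∀ y ∈ Y, y ≠ 1 → (χ : G → ℂ) (v * y) = s)
    (f : Y → ℂ) (hf0 : ∀ y, ¬ p ∣ orderOf y → f y = 0)
    (hf1 : ∀ y n, ¬ p ∣ orderOf n → f (y * n) = f y) (hf2 : ∑ y, f y = Nat.card Y)
    (g : V → ℂ) (hg1 : g 1 = 1) (hg : ∑ v, g v = 0) :
    (∑ v : V, ∑ y : Y, (χ : G → ℂ) ((v : G) * y) * f y = 4 * (Nat.card Y) * s ∧
      ∑ v : V, ∑ y : Y, (χ : G → ℂ) ((v : G) * y) * (g v * f y) = 0 ∧
      ∀ y ∈ Y, p ∣ orderOf y → (χ : G → ℂ) y = s) ∨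
    (∑ v : V, ∑ y : Y, (χ : G → ℂ) ((v : G) * y) * f y = 0 ∧
      ∑ v : V, ∑ y : Y, (χ : G → ℂ) ((v : G) * y) * (g v * f y) = -4 * (Nat.card Y) * s) := by
  classical
  by_cases hχ : χ ∈ principalBlock M G
  · left
    have hval : ∀ (v : V) (y : Y), (χ : G → ℂ) ((v : G) * y) * f y = s * f y := by
      intro v y
      by_cases hy : p ∣ orderOf y
      · rw [value_of_mem hM h hp hχ hs v.2 y.2 (by rwa [Subgroup.orderOf_coe])]
      · rw [hf0 y hy, mul_zero, mul_zero]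
    refine ⟨?_, ?_, ?_⟩
    · rw [Finset.sum_congr rfl fun v _ => Finset.sum_congr rfl fun y _ => hval v y,
        Finset.sum_const, Finset.card_univ, ← Nat.card_eq_fintype_card, h.V_card,
        ← Finset.mul_sum, hf2, nsmul_eq_mul]
      push_cast
      ring
    · have h1 : ∀ (v : V), ∑ y : Y, (χ : G → ℂ) ((v : G) * y) * (g v * f y) =
          g v * (s * Nat.card Y) := by
        intro v
        have h2 : ∀ y : Y, (χ : G → ℂ) ((v : G) * y) * (g v * f y) = g v * (s * f y) := by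
          intro y
          rw [← hval v y]
          ring
        rw [Finset.sum_congr rfl fun y _ => h2 y, ← Finset.mul_sum, ← Finset.mul_sum, hf2]
      rw [Finset.sum_congr rfl fun v _ => h1 v, ← Finset.sum_mul, hg, zero_mul]
    · intro y hy hd
      have := value_of_mem hM h hp hχ hs V.one_mem hy hd
      rwa [one_mul] at this
  · right
    have hT := sum_Y_of_notMem hM h hp hχ hs f hf0 hf1 hf2
    have hval : ∀ v ∈ Finset.univ.erase (1 : V), ∀ y : Y,
        (χ : G → ℂ) ((v : G) * y) * f y = s * f y := by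
      intro v hv y
      have hv1 : (v : G) ≠ 1 := fun h0 => (Finset.mem_erase.1 hv).1 (Subtype.ext h0)
      by_cases hy : y = 1
      · rw [hy, hf0 1 (by rw [orderOf_one]; exact (Fact.out : p.Prime).not_dvd_one), mul_zero,
          mul_zero]
      · rw [hs v v.2 hv1 y y.2 (fun h0 => hy (Subtype.ext h0))]
    constructor
    · rw [← Finset.add_sum_erase _ _ (Finset.mem_univ (1 : V)),
        Finset.sum_congr rfl fun v hv => Finset.sum_congr rfl fun y _ => hval v hv y,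
        Finset.sum_const, Finset.card_erase_of_mem (Finset.mem_univ _), Finset.card_univ,
        ← Nat.card_eq_fintype_card, h.V_card, ← Finset.mul_sum, hf2, nsmul_eq_mul]
      simp only [Subgroup.coe_one, one_mul]
      rw [hT]
      push_cast
      ring
    · have h1 : ∀ v ∈ Finset.univ.erase (1 : V),
          ∑ y : Y, (χ : G → ℂ) ((v : G) * y) * (g v * f y) = g v * (s * Nat.card Y) := by
        intro v hv
        have h2 : ∀ y : Y, (χ : G → ℂ) ((v : G) * y) * (g v * f y) = g v * (s * f y) := by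
          intro y
          rw [← hval v hv y]
          ring
        rw [Finset.sum_congr rfl fun y _ => h2 y, ← Finset.mul_sum, ← Finset.mul_sum, hf2]
      rw [← Finset.add_sum_erase _ _ (Finset.mem_univ (1 : V)), Finset.sum_congr rfl h1,
        ← Finset.sum_mul]
      have h3 : ∑ v ∈ Finset.univ.erase (1 : V), g v = -1 := by
        have h4 := Finset.add_sum_erase Finset.univ g (Finset.mem_univ (1 : V))
        rw [hg, hg1] at h4
        linear_combination h4
      rw [h3, hg1]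
      simp only [Subgroup.coe_one, one_mul]
      rw [hT]
      ring

theorem apply_eq_one {Z : Type*} [Group Z] (θ : Z →* ℂ) (hθ : ∀ y, θ y ^ p = 1) {y : Z}
    (hy : ¬ p ∣ orderOf y) : θ y = 1 := by
  have h1 : orderOf (θ y) ∣ p := orderOf_dvd_of_pow_eq_one (hθ y)
  have h2 : orderOf (θ y) ∣ orderOf y :=
    orderOf_dvd_of_pow_eq_one (by rw [← map_pow, pow_orderOf_eq_one, map_one])
  have h3 : Nat.Coprime p (orderOf y) := (Nat.Prime.coprime_iff_not_dvd Fact.out).2 hy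
  exact orderOf_eq_one_iff.1 (Nat.eq_one_of_dvd_coprimes h3 h1 h2)

/-- **The two cases**, with the linear characters `θ` (of order `p`) of `Y` and `ψ ≠ 1` of `V`. -/
theorem cases (hM : IsPModular p M) (h : Hyp V Y) (hp : p ∣ Nat.card Y) [Fintype V] [Fintype Y]
    (θ : Y →* ℂ) (hθ : ∀ y, θ y ^ p = 1) (hθ1 : θ ≠ 1) (ψ : V →* ℂ) (hψ : ψ ≠ 1)
    (χ : IrrCharacter G) {s : ℂ}
    (hs : ∀ v ∈ V, v ≠ 1 → ∀ y ∈ Y, y ≠ 1 → (χ : G → ℂ) (v * y) = s) :
    (∑ v : V, ∑ y : Y, (χ : G → ℂ) ((v : G) * y) * (1 - conj (θ y)) = 4 * (Nat.card Y) * s ∧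
      ∑ v : V, ∑ y : Y, (χ : G → ℂ) ((v : G) * y) * (conj (ψ v) * (1 - conj (θ y))) = 0 ∧
      ∀ y ∈ Y, p ∣ orderOf y → (χ : G → ℂ) y = s) ∨
    (∑ v : V, ∑ y : Y, (χ : G → ℂ) ((v : G) * y) * (1 - conj (θ y)) = 0 ∧
      ∑ v : V, ∑ y : Y, (χ : G → ℂ) ((v : G) * y) * (conj (ψ v) * (1 - conj (θ y))) =
        -4 * (Nat.card Y) * s) := by
  refine cases_aux hM h hp χ hs (fun y => 1 - conj (θ y)) ?_ ?_ ?_ (fun v => conj (ψ v)) ?_ ?_
  · intro y hy
    simp only [apply_eq_one θ hθ hy, map_one, sub_self]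
  · intro y n hn
    simp only [map_mul, apply_eq_one θ hθ hn, mul_one]
  · rw [Finset.sum_sub_distrib, ← map_sum, sum_hom_units_eq_zero θ hθ1, map_zero, sub_zero,
      Finset.sum_const, Finset.card_univ, ← Nat.card_eq_fintype_card, nsmul_eq_mul, mul_one]
  · simp
  · rw [← map_sum, sum_hom_units_eq_zero ψ hψ, map_zero]

/-- The congruence for a character constant on the `p`-singular elements of `Y`. -/
theorem dvd_of_const {χ : G → ℂ} (hχ : IsCharacter G χ) {s d : ℤ}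
    (hs : ∀ y ∈ Y, p ∣ orderOf y → χ y = s) (hd : χ 1 = d) :
    ((p ^ (Nat.card Y).factorization p : ℕ) : ℤ) ∣ d - s := by
  classical
  obtain ⟨Q, hQp, hQc⟩ : ∃ Q : Subgroup Y, IsPGroup p Q ∧
      Nat.card Q = p ^ (Nat.card Y).factorization p := by
    obtain ⟨Q⟩ : Nonempty (Sylow p Y) := inferInstance
    exact ⟨Q, Q.isPGroup', Q.card_eq_multiplicity⟩
  set k := p ^ (Nat.card Y).factorization p with hk
  have := Fintype.ofFinite Q
  obtain ⟨m, hm⟩ := Characters.Core.classInner_isNat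
    (Characters.Core.isCharacter_comp (Y.subtype.comp Q.subtype) hχ)
    (Characters.Core.isCharacter_one (G := Q))
  have h1 : ∑ g : Q, (χ ∘ (Y.subtype.comp Q.subtype)) g * conj ((1 : Q → ℂ) g) =
      (d : ℂ) + (k - 1 : ℤ) * s := by
    rw [← Finset.add_sum_erase _ _ (Finset.mem_univ (1 : Q))]
    have h2 : ∀ g ∈ Finset.univ.erase (1 : Q),
        (χ ∘ (Y.subtype.comp Q.subtype)) g * conj ((1 : Q → ℂ) g) = (s : ℂ) := by
      intro g hg
      have hg1 : g ≠ 1 := (Finset.mem_erase.1 hg).1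
      have h3 : p ∣ orderOf ((g : Y) : G) := by
        rw [Subgroup.orderOf_coe, Subgroup.orderOf_coe]
        obtain ⟨j, hj⟩ := (IsPGroup.iff_orderOf.1 hQp) g
        rw [hj]
        refine dvd_pow_self p ?_
        rintro rfl
        rw [pow_zero] at hj
        exact hg1 (orderOf_eq_one_iff.1 hj)
      have := hs _ (g : Y).2 h3
      simpa using this
    rw [Finset.sum_congr rfl h2, Finset.sum_const, Finset.card_erase_of_mem (Finset.mem_univ _),
      Finset.card_univ, ← Nat.card_eq_fintype_card, hQc, nsmul_eq_mul]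
    have hk1 : 1 ≤ k := Nat.one_le_iff_ne_zero.2 (pow_ne_zero _ (Fact.out : p.Prime).ne_zero)
    push_cast [Nat.cast_sub hk1]
    simp [hd]
  rw [classInner_def, h1, hQc] at hm
  have hk0 : (k : ℂ) ≠ 0 := Nat.cast_ne_zero.2 (pow_ne_zero _ (Fact.out : p.Prime).ne_zero)
  have h5 : (d : ℂ) + (k - 1 : ℤ) * s = k * m := by
    field_simp at hm
    exact hm
  have h6 : d + (k - 1 : ℤ) * s = k * m := by exact_mod_cast h5
  exact ⟨m - s, by linarith⟩

end Cases

end Cfsg.Agent.Ree.LBlock
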