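import Mathlib

/-!
# S0343, local part: no elementary abelian `3`-subgroup of order `9` of type `C(y) = ⟨y⟩ × A₅`

If `y`, `a` are commuting conjugate elements of order `3` generating a group `E` of order `9`, `27` does not divide
`|C(y)|`, one involution inverts `y` and centralises `a`, another one inverts `a` and centralises `y`, then `G` has
an element of order divisible by `4`.
-/

set_option autoImplicit false

namespace Cfsg.Agent.Ree.Q11

open Subgroup

/-- Matrices over `ZMod 3`, as quadruples: `(i, j, k, l)` is `y ↦ y^i a^j`, `a ↦ y^k a^l`. -/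
abbrev Mat := (ZMod 3 × ZMod 3) × (ZMod 3 × ZMod 3)

/-- The image of a vector. -/
def app (M : Mat) (u : ZMod 3 × ZMod 3) : ZMod 3 × ZMod 3 :=
  (u.1 * M.1.1 + u.2 * M.2.1, u.1 * M.1.2 + u.2 * M.2.2)

/-- The composition `M ∘ N`. -/
def comp (M N : Mat) : Mat := (app M N.1, app M N.2)

/-- The identity. -/
def idM : Mat := ((1, 0), (0, 1))
/-- Minus the identity. -/
def negM : Mat := ((-1, 0), (0, -1))
/-- Inversion of `y`. -/
def dM : Mat := ((-1, 0), (0, 1))
/-- Inversion of `a`. -/
def eM : Mat := ((1, 0), (0, -1))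

theorem dec_unip : ∀ M : Mat, comp M (comp M M) = idM → M.1 ≠ (1, 0) → M.2 ≠ (0, 1) →
    comp (comp (comp M dM) (comp M dM)) (comp (comp M dM) (comp M dM)) = negM := by
  decide

theorem dec_swap : ∀ s i : ZMod 3, s ≠ 0 →
    comp ((0, 1), (s, i)) ((0, 1), (s, i)) = negM ∨
    comp (comp ((0, 1), (s, i)) dM) (comp ((0, 1), (s, i)) dM) = negM ∨
    comp (comp ((0, 1), (s, i)) idM) (comp (comp ((0, 1), (s, i)) idM) (comp ((0, 1), (s, i)) idM)) = idM ∨
    comp (comp ((0, 1), (s, i)) dM) (comp (comp ((0, 1), (s, i)) dM) (comp ((0, 1), (s, i)) dM)) = idM ∨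
    comp (comp ((0, 1), (s, i)) eM) (comp (comp ((0, 1), (s, i)) eM) (comp ((0, 1), (s, i)) eM)) = idM ∨
    comp (comp ((0, 1), (s, i)) negM) (comp (comp ((0, 1), (s, i)) negM) (comp ((0, 1), (s, i)) negM)) = idM := by
  decide

theorem dec_not_id : ∀ s i : ZMod 3, comp ((0, 1), (s, i)) idM ≠ idM ∧ comp ((0, 1), (s, i)) dM ≠ idM ∧
    comp ((0, 1), (s, i)) eM ≠ idM ∧ comp ((0, 1), (s, i)) negM ≠ idM := by
  decide

theorem dec_comp_id : ∀ M : Mat, comp M idM = M := by decide

theorem dec_comp_id_id : comp idM idM = idM := by decide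
theorem dec_comp_d_d : comp dM dM = idM := by decide
theorem dec_comp_e_e : comp eM eM = idM := by decide
theorem dec_comp_d_e : comp dM eM = negM := by decide

variable {G : Type*} [Group G]

/-- The element of `⟨y, a⟩` with coordinates `u`. -/
def vec (y a : G) (u : ZMod 3 × ZMod 3) : G := y ^ u.1.val * a ^ u.2.val

/-- Conjugation by `g` acts on `⟨y, a⟩` as `M`. -/
def Acts (y a g : G) (M : Mat) : Prop := ∀ u : ZMod 3 × ZMod 3, g * vec y a u * g⁻¹ = vec y a (app M u)

theorem pow_add_val {y : G} (hy : y ^ 3 = 1) (i j : ZMod 3) : y ^ (i + j).val = y ^ i.val * y ^ j.val := by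
  rw [← pow_add]
  have h : (i + j).val ≡ i.val + j.val [MOD 3] := by
    rw [ZMod.val_add]; exact Nat.mod_modEq _ _
  exact pow_eq_pow_of_modEq h hy

theorem vec_add {y a : G} (hy : y ^ 3 = 1) (ha : a ^ 3 = 1) (hya : Commute y a) (u w : ZMod 3 × ZMod 3) :
    vec y a (u + w) = vec y a u * vec y a w := by
  have h1 : Commute (a ^ u.2.val) (y ^ w.1.val) := (hya.symm.pow_pow _ _)
  simp only [vec, Prod.fst_add, Prod.snd_add]
  rw [pow_add_val hy, pow_add_val ha]
  calc y ^ u.1.val * y ^ w.1.val * (a ^ u.2.val * a ^ w.2.val)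
      = y ^ u.1.val * (y ^ w.1.val * a ^ u.2.val) * a ^ w.2.val := by group
    _ = y ^ u.1.val * (a ^ u.2.val * y ^ w.1.val) * a ^ w.2.val := by rw [h1.eq]
    _ = _ := by group

theorem acts_mul {y a g h : G} {M N : Mat} (hg : Acts y a g M) (hh : Acts y a h N) :
    Acts y a (g * h) (comp M N) := by
  intro u
  have h1 : app (comp M N) u = app M (app N u) := by
    simp only [app, comp, Prod.mk.injEq]
    constructor <;> ring
  calc g * h * vec y a u * (g * h)⁻¹ = g * (h * vec y a u * h⁻¹) * g⁻¹ := by group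
    _ = g * vec y a (app N u) * g⁻¹ := by rw [hh u]
    _ = _ := by rw [hg, h1]

theorem acts_one (y a : G) : Acts y a 1 idM := by
  intro u
  simp [app, idM]

/-- An action is determined by the images of `y` and `a`. -/
theorem acts_of {y a g : G} (hy : y ^ 3 = 1) (ha : a ^ 3 = 1) (hya : Commute y a) {M : Mat}
    (h1 : g * y * g⁻¹ = vec y a M.1) (h2 : g * a * g⁻¹ = vec y a M.2) : Acts y a g M := by
  have hn : ∀ (n : ℕ) (w : ZMod 3 × ZMod 3), vec y a w ^ n = vec y a ((n : ZMod 3) * w.1, (n : ZMod 3) * w.2) := by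
    intro n w
    induction n with
    | zero => simp [vec]
    | succ n ih =>
      rw [pow_succ, ih, ← vec_add hy ha hya]
      congr 1
      ext
      · simp [add_mul]
      · simp [add_mul]
  intro u
  have e1 : g * vec y a u * g⁻¹ = (g * y * g⁻¹) ^ u.1.val * (g * a * g⁻¹) ^ u.2.val := by
    rw [conj_pow, conj_pow]; simp only [vec]; group
  rw [e1, h1, h2, hn, hn, ← vec_add hy ha hya]
  congr 1
  have hv : ∀ i : ZMod 3, ((i.val : ℕ) : ZMod 3) = i := fun i => ZMod.natCast_zmod_val i
  rw [hv, hv]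
  rfl

theorem vec_inj {y a : G} (hy : orderOf y = 3) (ha : orderOf a = 3) (hne : a ∉ zpowers y) :
    Function.Injective (vec y a) := by
  intro u w h
  simp only [vec] at h
  have hval : ∀ {z : G}, orderOf z = 3 → ∀ i j : ZMod 3, z ^ i.val = z ^ j.val → i = j := by
    intro z hz i j hij
    have h3 := pow_inj_mod.1 hij
    rw [hz, Nat.mod_eq_of_lt (ZMod.val_lt i), Nat.mod_eq_of_lt (ZMod.val_lt j)] at h3
    exact ZMod.val_injective 3 h3
  have h2 : u.2 = w.2 := by
    by_contra hcon
    apply hne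
    have ha3 : a ^ 3 = 1 := by rw [← ha]; exact pow_orderOf_eq_one a
    -- a ^ (u.2 - w.2) ∈ zpowers y
    have hmem : a ^ u.2.val * (a ^ w.2.val)⁻¹ ∈ zpowers y := by
      have : a ^ u.2.val * (a ^ w.2.val)⁻¹ = (y ^ u.1.val)⁻¹ * y ^ w.1.val := by
        rw [mul_inv_eq_iff_eq_mul, mul_assoc, ← h, inv_mul_cancel_left]
      rw [this]
      exact mul_mem (inv_mem (pow_mem (mem_zpowers y) _)) (pow_mem (mem_zpowers y) _)
    have hsub : a ^ (u.2 - w.2).val ∈ zpowers y := by
      have : a ^ (u.2 - w.2).val = a ^ u.2.val * (a ^ w.2.val)⁻¹ := by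
        have h4 := pow_add_val ha3 (u.2 - w.2) w.2
        rw [sub_add_cancel] at h4
        rw [h4, mul_assoc, mul_inv_cancel, mul_one]
      rw [this]; exact hmem
    have hd : u.2 - w.2 ≠ 0 := sub_ne_zero.2 hcon
    generalize u.2 - w.2 = d at hd hsub
    have hcases : ∀ d : ZMod 3, d ≠ 0 → d = 1 ∨ d = 2 := by decide
    rcases hcases d hd with rfl | rfl
    · simpa [ZMod.val_one] using hsub
    · have hv : (2 : ZMod 3).val = 2 := rfl
      rw [hv] at hsub
      have : a = (a ^ 2)⁻¹ := by
        rw [eq_inv_iff_mul_eq_one, ← pow_succ']; exact ha3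
      rw [this]; exact inv_mem hsub
  rw [h2] at h
  have h1 := hval hy u.1 w.1 (mul_right_cancel h)
  exact Prod.ext h1 h2

theorem acts_unique {y a g : G} (hy : orderOf y = 3) (ha : orderOf a = 3) (hne : a ∉ zpowers y) {M N : Mat}
    (h1 : Acts y a g M) (h2 : Acts y a g N) : M = N := by
  have e : ∀ u, app M u = app N u := fun u => vec_inj hy ha hne ((h1 u).symm.trans (h2 u))
  have e1 := e (1, 0)
  have e2 := e (0, 1)
  simp only [app, one_mul, zero_mul, add_zero, zero_add, Prod.mk.injEq] at e1 e2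
  exact Prod.ext (Prod.ext e1.1 e1.2) (Prod.ext e2.1 e2.2)

/-- No element of `G` acts with square `-1`. -/
theorem no_neg [Finite G] (h4 : ∀ g : G, ¬ 4 ∣ orderOf g) {y a g : G} (hy : orderOf y = 3)
    {M : Mat} (h1 : Acts y a g M) (h2 : comp M M = negM) : False := by
  have h3 : Acts y a (g * g) negM := h2 ▸ acts_mul h1 h1
  have hinv : ∀ k : ℕ, (g * g) ^ (2 * k + 1) * y * ((g * g) ^ (2 * k + 1))⁻¹ = y⁻¹ := by
    have hy3 : y ^ 3 = 1 := by rw [← hy]; exact pow_orderOf_eq_one y
    have hb : (g * g) * y * (g * g)⁻¹ = y⁻¹ := by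
      have := h3 (1, 0)
      simp only [vec, app, negM] at this
      have e1 : ((1 : ZMod 3) * -1 + 0 * 0).val = 2 := rfl
      have e2 : ((1 : ZMod 3) * 0 + 0 * -1).val = 0 := rfl
      have e3 : (1 : ZMod 3).val = 1 := rfl
      have e4 : (0 : ZMod 3).val = 0 := rfl
      rw [e1, e2, e3, e4] at this
      simp only [pow_one, pow_zero, mul_one] at this
      rw [this, eq_inv_iff_mul_eq_one, ← pow_succ]; exact hy3
    have hc : Commute ((g * g) ^ 2) y := by
      have e1 : (g * g) * ((g * g) * y * (g * g)⁻¹) * (g * g)⁻¹ = y := by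
        rw [hb]
        have e2 : (g * g) * y⁻¹ * (g * g)⁻¹ = ((g * g) * y * (g * g)⁻¹)⁻¹ := by
          simp only [mul_inv_rev, inv_inv, mul_assoc]
        rw [e2, hb, inv_inv]
      have e3 : (g * g) ^ 2 * y * ((g * g) ^ 2)⁻¹ = y := by
        calc (g * g) ^ 2 * y * ((g * g) ^ 2)⁻¹ = (g * g) * ((g * g) * y * (g * g)⁻¹) * (g * g)⁻¹ := by
              rw [pow_two]; simp only [mul_inv_rev, mul_assoc]
          _ = y := e1
      exact mul_inv_eq_iff_eq_mul.1 e3
    intro k
    have hc2 : Commute ((g * g) ^ (2 * k)) y := by rw [pow_mul]; exact hc.pow_left k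
    have hc3 : (g * g) ^ (2 * k) * y * ((g * g) ^ (2 * k))⁻¹ = y := by
      rw [hc2.eq, mul_assoc, mul_inv_cancel, mul_one]
    calc (g * g) ^ (2 * k + 1) * y * ((g * g) ^ (2 * k + 1))⁻¹
        = (g * g) * ((g * g) ^ (2 * k) * y * ((g * g) ^ (2 * k))⁻¹) * (g * g)⁻¹ := by
          rw [pow_succ']; simp only [mul_inv_rev, mul_assoc]
      _ = y⁻¹ := by rw [hc3, hb]
  -- g * g has odd order
  have hodd : ∃ k : ℕ, (g * g) ^ (2 * k + 1) = 1 := by
    rcases Nat.even_or_odd (orderOf g) with he | ho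
    · obtain ⟨n, hn⟩ := he
      have hno : Odd n := by
        by_contra hcon
        rw [Nat.not_odd_iff_even] at hcon
        obtain ⟨j, hj⟩ := hcon
        exact h4 g ⟨j, by rw [hn, hj]; ring⟩
      obtain ⟨j, hj⟩ := hno
      refine ⟨j, ?_⟩
      rw [← hj, ← pow_two, ← pow_mul, show 2 * n = orderOf g by rw [hn]; ring, pow_orderOf_eq_one]
    · obtain ⟨j, hj⟩ := ho
      refine ⟨j, ?_⟩
      rw [← hj, ← pow_two, ← pow_mul, mul_comm, pow_mul, pow_orderOf_eq_one, one_pow]
  obtain ⟨k, hk⟩ := hodd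
  have := hinv k
  rw [hk] at this
  simp only [one_mul, inv_one, mul_one] at this
  have h5 : y ^ 2 = 1 := by
    rw [pow_two]; nth_rewrite 2 [this]; exact mul_inv_cancel y
  have h6 := orderOf_dvd_of_pow_eq_one h5
  rw [hy] at h6
  omega

/-- The subgroup `⟨y, a⟩`. -/
def grp {y a : G} (hy : y ^ 3 = 1) (ha : a ^ 3 = 1) (hya : Commute y a) : Subgroup G where
  carrier := Set.range (vec y a)
  one_mem' := ⟨(0, 0), by simp [vec]⟩
  mul_mem' := by
    rintro _ _ ⟨u, rfl⟩ ⟨w, rfl⟩
    exact ⟨u + w, vec_add hy ha hya u w⟩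
  inv_mem' := by
    rintro _ ⟨u, rfl⟩
    refine ⟨-u, ?_⟩
    rw [eq_inv_iff_mul_eq_one, ← vec_add hy ha hya]
    simp [vec]

theorem exists_acts {y a : G} (hy : y ^ 3 = 1) (ha : a ^ 3 = 1) (hya : Commute y a) {g : G}
    (hg : ∀ x ∈ grp hy ha hya, g * x * g⁻¹ ∈ grp hy ha hya) : ∃ M, Acts y a g M := by
  have hy1 : y ∈ grp hy ha hya := ⟨(1, 0), by
    have e3 : (1 : ZMod 3).val = 1 := rfl
    have e4 : (0 : ZMod 3).val = 0 := rfl
    simp [vec, e3, e4]⟩
  have ha1 : a ∈ grp hy ha hya := ⟨(0, 1), by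
    have e3 : (1 : ZMod 3).val = 1 := rfl
    have e4 : (0 : ZMod 3).val = 0 := rfl
    simp [vec, e3, e4]⟩
  obtain ⟨u, hu⟩ := hg y hy1
  obtain ⟨w, hw⟩ := hg a ha1
  exact ⟨(u, w), acts_of hy ha hya hu.symm hw.symm⟩

theorem card_grp {y a : G} (hy : orderOf y = 3) (ha : orderOf a = 3) (hya : Commute y a) (hne : a ∉ zpowers y)
    (hy3 : y ^ 3 = 1) (ha3 : a ^ 3 = 1) : Nat.card (grp hy3 ha3 hya) = 9 := by
  have h : Nat.card (Set.range (vec y a)) = Nat.card (ZMod 3 × ZMod 3) :=
    Nat.card_congr (Equiv.ofInjective _ (vec_inj hy ha hne)).symm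
  have h2 : Nat.card (grp hy3 ha3 hya) = Nat.card (Set.range (vec y a)) := rfl
  rw [h2, h, Nat.card_prod, Nat.card_zmod]

/-- Elements of `⟨y, a⟩` act trivially. -/
theorem acts_mem {y a g : G} (hy : y ^ 3 = 1) (ha : a ^ 3 = 1) (hya : Commute y a) (hg : g ∈ grp hy ha hya) :
    Acts y a g idM := by
  obtain ⟨w, rfl⟩ := hg
  intro u
  have h1 : app idM u = u := by simp [app, idM]
  rw [h1]
  have h2 : vec y a w * vec y a u = vec y a u * vec y a w := by
    rw [← vec_add hy ha hya, ← vec_add hy ha hya, add_comm]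
  rw [h2, mul_assoc, mul_inv_cancel, mul_one]

theorem acts_normalizer {y a g : G} (hy : y ^ 3 = 1) (ha : a ^ 3 = 1) (hya : Commute y a) {M N : Mat}
    (hM : Acts y a g M) (hMN : comp M N = idM) :
    g ∈ normalizer ((grp hy ha hya : Subgroup G) : Set G) := by
  rw [mem_normalizer_iff]
  intro x
  constructor
  · rintro ⟨u, rfl⟩
    exact ⟨app M u, (hM u).symm⟩
  · rintro ⟨w, hw⟩
    refine ⟨app N w, ?_⟩
    have h1 := hM (app N w)
    have h2 : app M (app N w) = w := by
      have h3 : app M (app N w) = app (comp M N) w := by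
        simp only [app, comp, Prod.mk.injEq]
        constructor <;> ring
      rw [h3, hMN]; simp [app, idM]
    rw [h2, hw] at h1
    exact mul_left_cancel (mul_right_cancel h1)

/-- No element normalising a Sylow subgroup `⟨y, a⟩` acts on it with order `3`. -/
theorem no_three [Finite G] {y a h : G} (hy : orderOf y = 3) (ha : orderOf a = 3) (hya : Commute y a)
    (hne : a ∉ zpowers y) (hy3 : y ^ 3 = 1) (ha3 : a ^ 3 = 1) [Fact (Nat.Prime 3)] (P : Sylow 3 G)
    (hP : (P : Subgroup G) = grp hy3 ha3 hya) (hn : h ∈ normalizer ((grp hy3 ha3 hya : Subgroup G) : Set G))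
    {M : Mat} (hM : Acts y a h M) (hM3 : comp M (comp M M) = idM) (hM1 : M ≠ idM) : False := by
  have h3 : Acts y a (h ^ 3) idM := by
    have h1 : Acts y a (h * (h * h)) (comp M (comp M M)) := acts_mul hM (acts_mul hM hM)
    have h2 : h * (h * h) = h ^ 3 := by rw [pow_succ', pow_two]
    rw [h2, hM3] at h1; exact h1
  have hid : comp idM idM = idM := dec_comp_id_id
  have hMid : comp M idM = M := dec_comp_id M
  have h3n : ∀ n : ℕ, Acts y a ((h ^ 3) ^ n) idM := by
    intro n
    induction n with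
    | zero => rw [pow_zero]; exact acts_one y a
    | succ n ih => rw [pow_succ']; have := acts_mul h3 ih; rw [hid] at this; exact this
  have h3n1 : ∀ n : ℕ, Acts y a (h ^ (3 * n + 1)) M := by
    intro n
    have := acts_mul hM (h3n n)
    rw [hMid] at this
    rw [pow_succ', pow_mul]; exact this
  -- the 3-part of h
  obtain ⟨k, n', hn', ho⟩ := Nat.exists_eq_pow_mul_and_not_dvd (orderOf_pos h).ne' 3 (by norm_num)
  obtain ⟨j, hj⟩ : ∃ j, n' * n' = 3 * j + 1 := by
    have : n' % 3 = 1 ∨ n' % 3 = 2 := by omega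
    refine ⟨n' * n' / 3, ?_⟩
    have h5 : n' * n' % 3 = 1 := by
      rcases this with h | h <;> simp [Nat.mul_mod, h]
    omega
  have hu : (h ^ (n' * n')) ^ 3 ^ k = 1 := by
    rw [← pow_mul, show n' * n' * 3 ^ k = orderOf h * n' by rw [ho]; ring, pow_mul, pow_orderOf_eq_one, one_pow]
  have huE : h ^ (n' * n') ∈ grp hy3 ha3 hya := by
    have hz : IsPGroup 3 (zpowers (h ^ (n' * n'))) := by
      intro x
      obtain ⟨i, hi⟩ := mem_zpowers_iff.1 x.2
      refine ⟨k, ?_⟩
      ext
      have hcomm : ∀ z : G, z ^ 3 ^ k = 1 → (z ^ i) ^ 3 ^ k = 1 := by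
        intro z hz
        rw [← zpow_natCast, ← zpow_mul, mul_comm, zpow_mul, zpow_natCast, hz, one_zpow]
      rw [SubmonoidClass.coe_pow, ← hi]
      exact hcomm _ hu
    have hsup : IsPGroup 3 ((grp hy3 ha3 hya ⊔ zpowers (h ^ (n' * n')) : Subgroup G)) := by
      apply IsPGroup.to_sup_of_normal_left' (hP ▸ P.2) hz
      rw [zpowers_le]
      exact pow_mem hn _
    have := P.3 hsup (by rw [hP]; exact le_sup_left)
    rw [hP] at this
    rw [← this]
    exact mem_sup_right (mem_zpowers _)
  have h6 := acts_mem hy3 ha3 hya huE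
  rw [hj] at h6
  exact hM1 (acts_unique hy ha hne (h3n1 j) h6)

/-- The main statement of the file. -/
theorem false_of_nine [Finite G] (h4 : ∀ g : G, ¬ 4 ∣ orderOf g) {y a v e : G} (hy : orderOf y = 3)
    (ha : orderOf a = 3) (hya : Commute y a) (hne : a ∉ zpowers y) (hvy : v * y * v⁻¹ = y⁻¹)
    (hva : Commute v a) (hea : e * a * e⁻¹ = a⁻¹) (hey : Commute e y)
    (hcy : ¬ 27 ∣ Nat.card (centralizer ({y} : Set G))) (hconj : IsConj y a) : False := by
  have hy3 : y ^ 3 = 1 := by rw [← hy]; exact pow_orderOf_eq_one y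
  have ha3 : a ^ 3 = 1 := by rw [← ha]; exact pow_orderOf_eq_one a
  obtain ⟨c, hc⟩ := isConj_iff.1 hconj
  have hca : ¬ 27 ∣ Nat.card (centralizer ({a} : Set G)) := by
    intro h
    apply hcy
    have e1 : Nat.card (centralizer ({a} : Set G)) = Nat.card (centralizer ({y} : Set G)) := by
      refine Nat.card_congr ((MulAut.conj c⁻¹).toEquiv.subtypeEquiv ?_)
      intro x
      simp only [mem_centralizer_singleton_iff, MulEquiv.toEquiv_eq_coe, EquivLike.coe_coe, MulAut.conj_apply,
        inv_inv]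
      rw [← hc]
      constructor
      · intro hx
        have := congrArg (fun z => c⁻¹ * z * c) hx
        simp only [mul_assoc, inv_mul_cancel_left, inv_mul_cancel, mul_one] at this ⊢
        exact this
      · intro hx
        have := congrArg (fun z => c * z * c⁻¹) hx
        simp only [mul_assoc, mul_inv_cancel_left, mul_inv_cancel, mul_one] at this ⊢
        exact this
    rw [← e1]; exact h
  -- matrices of `v` and `e`
  have v1 : (1 : ZMod 3).val = 1 := rfl
  have v0 : (0 : ZMod 3).val = 0 := rfl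
  have vm : (-1 : ZMod 3).val = 2 := rfl
  have hAv : Acts y a v dM := by
    apply acts_of hy3 ha3 hya
    · rw [hvy]; simp only [vec, dM, v0, vm, pow_zero, mul_one]
      rw [inv_eq_iff_mul_eq_one, ← pow_succ']; exact hy3
    · rw [hva.eq, mul_assoc, mul_inv_cancel, mul_one]; simp only [vec, dM, v0, v1, pow_zero, pow_one, one_mul]
  have hAe : Acts y a e eM := by
    apply acts_of hy3 ha3 hya
    · rw [hey.eq, mul_assoc, mul_inv_cancel, mul_one]; simp only [vec, eM, v0, v1, pow_zero, pow_one, mul_one]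
    · rw [hea]; simp only [vec, eM, v0, vm, pow_zero, one_mul]
      rw [inv_eq_iff_mul_eq_one, ← pow_succ']; exact ha3
  set E := grp hy3 ha3 hya with hE
  have hcard : Nat.card E = 9 := card_grp hy ha hya hne hy3 ha3
  have hyE : y ∈ E := ⟨(1, 0), by simp [vec, v1, v0]⟩
  have haE : a ∈ E := ⟨(0, 1), by simp [vec, v1, v0]⟩
  have : Fact (Nat.Prime 3) := ⟨Nat.prime_three⟩
  by_cases h27 : 3 ^ (2 + 1) ∣ Nat.card G
  · -- E is not Sylow
    obtain ⟨K, hK, hEK⟩ := Sylow.exists_subgroup_card_pow_succ h27 (H := E) (by rw [hcard]; rfl)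
    have hidx : (E.subgroupOf K).index = 3 := by
      have h1 := (E.subgroupOf K).card_mul_index
      have h2 : Nat.card (E.subgroupOf K) = Nat.card E := Nat.card_congr (subgroupOfEquivOfLe hEK).toEquiv
      rw [h2, hcard, hK] at h1
      norm_num at h1
      omega
    have hnorm : (E.subgroupOf K).Normal := by
      apply normal_of_index_eq_minFac_card
      rw [hidx, hK]
      exact (Nat.Prime.pow_minFac Nat.prime_three (by norm_num)).symm
    obtain ⟨r, hrK, hrE⟩ : ∃ r ∈ K, r ∉ E := by
      by_contra hcon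
      push Not at hcon
      have h1 : K = E := le_antisymm hcon hEK
      rw [h1, hcard] at hK
      norm_num at hK
    have hrn : ∀ x ∈ E, r * x * r⁻¹ ∈ E := by
      intro x hx
      have := hnorm.conj_mem ⟨x, hEK hx⟩ (by rw [mem_subgroupOf]; exact hx) ⟨r, hrK⟩
      rw [mem_subgroupOf] at this
      exact this
    obtain ⟨M, hM⟩ := exists_acts hy3 ha3 hya hrn
    have hr3 : r ^ 3 ∈ E := by
      have := (E.subgroupOf K).pow_mem_of_index_ne_zero_of_dvd
      have h1 : (⟨r, hrK⟩ : K) ^ (E.subgroupOf K).index ∈ E.subgroupOf K := pow_index_mem _ _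
      rw [hidx, mem_subgroupOf] at h1
      exact h1
    have hM3 : comp M (comp M M) = idM := by
      have h1 : Acts y a (r * (r * r)) (comp M (comp M M)) := acts_mul hM (acts_mul hM hM)
      have h2 : r * (r * r) = r ^ 3 := by rw [pow_succ', pow_two]
      rw [h2] at h1
      exact acts_unique hy ha hne h1 (acts_mem hy3 ha3 hya hr3)
    -- K centralises neither y nor a
    have hK27 : ∀ z ∈ E, (r * z * r⁻¹ = z) → 27 ∣ Nat.card (centralizer ({z} : Set G)) := by
      intro z hz hrz
      have hle : K ≤ centralizer ({z} : Set G) := by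
        have h1 : (E.subgroupOf K) < (centralizer ({z} : Set G)).subgroupOf K := by
          refine lt_of_le_of_ne ?_ ?_
          · intro x hx
            rw [mem_subgroupOf] at hx ⊢
            rw [mem_centralizer_singleton_iff]
            obtain ⟨u, hu⟩ := hx
            obtain ⟨w, hw⟩ := hz
            rw [← hu, ← hw, ← vec_add hy3 ha3 hya, ← vec_add hy3 ha3 hya, add_comm]
          · intro heq
            apply hrE
            have : (⟨r, hrK⟩ : K) ∈ (centralizer ({z} : Set G)).subgroupOf K := by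
              rw [mem_subgroupOf, mem_centralizer_singleton_iff]
              exact mul_inv_eq_iff_eq_mul.1 hrz
            rw [← heq, mem_subgroupOf] at this
            exact this
        have h2 : ((centralizer ({z} : Set G)).subgroupOf K) = ⊤ := by
          rw [← index_eq_one]
          have h3 := relIndex_mul_index h1.le
          rw [hidx] at h3
          have h4 : ((centralizer ({z} : Set G)).subgroupOf K).index ∣ 3 := Dvd.intro_left _ h3
          rcases (Nat.dvd_prime Nat.prime_three).1 h4 with h5 | h5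
          · exact h5
          · exfalso
            rw [h5] at h3
            have h6 : (E.subgroupOf K).relIndex ((centralizer ({z} : Set G)).subgroupOf K) = 1 := by omega
            rw [relIndex_eq_one] at h6
            exact absurd h6 (not_le_of_gt h1)
        exact subgroupOf_eq_top.1 h2
      have h5 := card_dvd_of_le hle
      rw [hK] at h5
      exact h5
    have hM1 : M.1 ≠ (1, 0) := by
      intro h
      apply hcy
      apply hK27 y hyE
      have := hM (1, 0)
      simp only [app, h, vec, v0, v1, pow_zero, pow_one, mul_one, one_mul, zero_mul, add_zero, mul_zero] at this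
      exact this
    have hM2 : M.2 ≠ (0, 1) := by
      intro h
      apply hca
      apply hK27 a haE
      have := hM (0, 1)
      simp only [app, h, vec, v0, v1, pow_zero, pow_one, mul_one, one_mul, zero_mul, zero_add, mul_zero] at this
      exact this
    have h7 := acts_mul (acts_mul hM hAv) (acts_mul hM hAv)
    exact no_neg h4 hy h7 (dec_unip M hM3 hM1 hM2)
  · -- E is Sylow
    have hfac : (Nat.card G).factorization 3 = 2 := by
      have hG : Nat.card G ≠ 0 := Nat.card_pos.ne'
      have h9 : 3 ^ 2 ∣ Nat.card G := by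
        have := card_subgroup_dvd_card E
        rw [hcard] at this; exact this
      have h1 := (Nat.Prime.pow_dvd_iff_le_factorization Nat.prime_three hG).1 h9
      have h2 : ¬ (2 + 1 ≤ (Nat.card G).factorization 3) := fun h =>
        h27 ((Nat.Prime.pow_dvd_iff_le_factorization Nat.prime_three hG).2 h)
      omega
    let P : Sylow 3 G := Sylow.ofCard E (by rw [hcard, hfac]; rfl)
    have hP : (P : Subgroup G) = E := rfl
    have : IsMulCommutative P := ⟨⟨fun x z => by
      obtain ⟨u, hu⟩ := x.2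
      obtain ⟨w, hw⟩ := z.2
      apply Subtype.ext
      show (x : G) * z = z * x
      rw [← hu, ← hw, ← vec_add hy3 ha3 hya, ← vec_add hy3 ha3 hya, add_comm]⟩⟩
    obtain ⟨n, hnN, hn⟩ := P.conj_eq_normalizer_conj_of_mem y c⁻¹ hyE (by rw [inv_inv, hc]; exact haE)
    rw [inv_inv, hc] at hn
    -- g = n⁻¹ maps y to a
    have hgN : n⁻¹ ∈ normalizer (E : Set G) := inv_mem hnN
    have hg : n⁻¹ * y * n⁻¹⁻¹ = a := by rw [inv_inv]; exact hn.symm
    generalize n⁻¹ = g at hgN hg
    obtain ⟨M, hM⟩ := exists_acts hy3 ha3 hya (fun x hx => (mem_normalizer_iff.1 hgN x).1 hx)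
    have hv1 : vec y a (0, 1) = a := by simp [vec, v0, v1]
    have hv2 : vec y a (1, 0) = y := by simp [vec, v0, v1]
    have hM1 : M.1 = (0, 1) := by
      have h1 : vec y a (0, 1) = vec y a (app M (1, 0)) := by rw [hv1, ← hM (1, 0), hv2, hg]
      have h2 := vec_inj hy ha hne h1
      simpa [app] using h2.symm
    obtain ⟨M1, s, i⟩ := M
    simp only at hM1
    subst hM1
    have hs : s ≠ 0 := by
      rintro rfl
      have h1 := hM (0, 1)
      have h2 := hM (i, 0)
      have h3 : app ((0, 1), ((0 : ZMod 3), i)) (0, 1) = app ((0, 1), ((0 : ZMod 3), i)) (i, 0) := by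
        simp [app]
      rw [h3, ← h2] at h1
      have h4 : vec y a (0, 1) = vec y a (i, 0) := by
        have := mul_right_cancel h1
        exact mul_left_cancel this
      have h5 := vec_inj hy ha hne h4
      simp at h5
    have hvN : v ∈ normalizer (E : Set G) := acts_normalizer hy3 ha3 hya hAv dec_comp_d_d
    have heN : e ∈ normalizer (E : Set G) := acts_normalizer hy3 ha3 hya hAe dec_comp_e_e
    have hAid : Acts y a 1 idM := acts_one y a
    have hAve : Acts y a (v * e) negM := by
      have := acts_mul hAv hAe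
      rw [dec_comp_d_e] at this; exact this
    obtain ⟨n1, n2, n3, n4⟩ := dec_not_id s i
    rcases dec_swap s i hs with h | h | h | h | h | h
    · exact no_neg h4 hy hM h
    · exact no_neg h4 hy (acts_mul hM hAv) h
    · exact no_three hy ha hya hne hy3 ha3 P hP (mul_mem hgN (one_mem _)) (acts_mul hM hAid) h n1
    · exact no_three hy ha hya hne hy3 ha3 P hP (mul_mem hgN hvN) (acts_mul hM hAv) h n2
    · exact no_three hy ha hya hne hy3 ha3 P hP (mul_mem hgN heN) (acts_mul hM hAe) h n3
    · exact no_three hy ha hya hne hy3 ha3 P hP (mul_mem hgN (mul_mem hvN heN)) (acts_mul hM hAve) h n4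

end Cfsg.Agent.Ree.Q11
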