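import Mathlib
import Cfsg.Agent.Characters.Core
import Cfsg.Agent.Ree.VecDef

/-!
# S0343: `8 ∣ χ(1) - χ(t)`
-/

set_option autoImplicit false

open scoped ComplexConjugate
open Cfsg

namespace Cfsg.Agent.Ree.Mod8

universe u
variable {G : Type u} [Group G]

/-- the sum of a character over a subgroup is a multiple of the order -/
theorem exists_sum_eq [Finite G] (H : Subgroup G) [Fintype H] (χ : IrrCharacter G) :
    ∃ a : ℤ, ∑ h : H, (χ : G → ℂ) h = (Nat.card H : ℂ) * a := by
  have h1 : IsGeneralizedCharacter H (fun _ : H => (1 : ℂ)) := by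
    refine ⟨1, 0, Cfsg.Agent.Characters.Core.isCharacter_one,
      Cfsg.Agent.Characters.Core.isCharacter_zero, ?_⟩
    rw [sub_zero]
    rfl

  obtain ⟨n, hn⟩ := Cfsg.Agent.Ree.VecDef.exists_int H h1 χ
  refine ⟨n, ?_⟩
  have hH : (Nat.card H : ℂ) ≠ 0 := by exact_mod_cast Nat.card_pos.ne'
  have h2 : ∑ h : H, conj ((χ : G → ℂ) h) = (Nat.card H : ℂ) * n := by
    rw [← hn]
    field_simp
  have h3 := congrArg conj h2
  rw [map_sum] at h3
  simpa using h3

theorem mod8 [Finite G] (h8 : ∀ P : Sylow 2 G, Nat.card P = 8)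
    (hexp : ∀ P : Sylow 2 G, ∀ x ∈ (P : Subgroup G), x * x = 1)
    (hconj : ∀ u v : G, orderOf u = 2 → orderOf v = 2 → IsConj u v) (χ : IrrCharacter G)
    {t : G} (ht : orderOf t = 2) {d τ : ℤ} (hd : (χ : G → ℂ) 1 = d) (hτ : (χ : G → ℂ) t = τ) :
    (8 : ℤ) ∣ d - τ := by
  classical
  obtain ⟨P⟩ : Nonempty (Sylow 2 G) := inferInstance
  have : Fintype (P : Subgroup G) := Fintype.ofFinite _
  obtain ⟨a, ha⟩ := exists_sum_eq (P : Subgroup G) χ
  have hval : ∀ x : (P : Subgroup G), x ≠ 1 → (χ : G → ℂ) x = τ := by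
    intro x hx
    have hx2 : orderOf (x : G) = 2 := by
      apply orderOf_eq_prime
      · rw [pow_two]; exact hexp P x x.2
      · intro h; exact hx (Subtype.ext h)
    rw [← hτ]
    obtain ⟨c, hc⟩ := isConj_iff.1 (hconj x t hx2 ht)
    rw [← hc]
    exact (Cfsg.Agent.Characters.Core.isClassFunction_def.1
      (Cfsg.Agent.Characters.Core.isIrr_isClassFunction χ.2) x c).symm
  have hsum : ∑ h : (P : Subgroup G), (χ : G → ℂ) h = (d : ℂ) + 7 * τ := by
    rw [← Finset.add_sum_erase Finset.univ _ (Finset.mem_univ (1 : (P : Subgroup G)))]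
    rw [Finset.sum_congr rfl (fun x hx => hval x (Finset.ne_of_mem_erase hx))]
    rw [Finset.sum_const, Finset.card_erase_of_mem (Finset.mem_univ _), Finset.card_univ,
      ← Nat.card_eq_fintype_card]
    have h8' : Nat.card (P : Subgroup G) = 8 := h8 P
    rw [h8']
    simp [hd]
  rw [hsum] at ha
  have h8' : Nat.card (P : Subgroup G) = 8 := h8 P
  rw [h8'] at ha
  have h4 : d + 7 * τ = 8 * a := by exact_mod_cast ha
  exact ⟨a - τ, by linarith⟩

end Cfsg.Agent.Ree.Mod8
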