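import Cfsg.Agent.Ree.Interface

/-!
# S0343, numerical part: elimination of the characters outside the principal `2`-block
-/

set_option autoImplicit false

namespace Cfsg.Agent.Ree.NumCore

open Finset Cfsg.Agent.Ree.Interface

section Aux

variable {ι : Type*}

theorem sum_sq_one (s : Finset ι) (b : ι → ℤ) (h : ∑ χ ∈ s, b χ ^ 2 = 1) :
    ∃ χ₀ ∈ s, (b χ₀ = 1 ∨ b χ₀ = -1) ∧ ∀ χ ∈ s, χ ≠ χ₀ → b χ = 0 := by
  classical
  have hne : ∃ χ₀ ∈ s, b χ₀ ≠ 0 := by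
    by_contra hcon
    push Not at hcon
    rw [Finset.sum_eq_zero (fun χ hχ => by rw [hcon χ hχ]; ring)] at h
    exact absurd h (by norm_num)
  obtain ⟨χ₀, hχ₀, hb⟩ := hne
  have hsplit := Finset.add_sum_erase s (fun χ => b χ ^ 2) hχ₀
  have hnn : 0 ≤ ∑ χ ∈ s.erase χ₀, b χ ^ 2 := Finset.sum_nonneg fun χ _ => sq_nonneg _
  have hpos : 1 ≤ b χ₀ ^ 2 := by
    have : 0 < b χ₀ ^ 2 := by positivity
    linarith
  have h1 : b χ₀ ^ 2 = 1 := by linarith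
  have h0 : ∑ χ ∈ s.erase χ₀, b χ ^ 2 = 0 := by linarith
  refine ⟨χ₀, hχ₀, mul_self_eq_one_iff.mp (by rw [← sq]; exact h1), ?_⟩
  intro χ hχ hne
  have := (Finset.sum_eq_zero_iff_of_nonneg (fun χ _ => sq_nonneg (b χ))).mp h0 χ
    (Finset.mem_erase.mpr ⟨hne, hχ⟩)
  exact pow_eq_zero_iff (two_ne_zero) |>.mp this

/-- A sum over a set where all terms but one vanish. -/
theorem sum_eq_single_of {M : Type*} [AddCommMonoid M] (s : Finset ι) (f : ι → M) (χ₀ : ι) (h₀ : χ₀ ∈ s)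
    (h : ∀ χ ∈ s, χ ≠ χ₀ → f χ = 0) : ∑ χ ∈ s, f χ = f χ₀ :=
  Finset.sum_eq_single_of_mem χ₀ h₀ (fun χ hχ hne => h χ hχ hne)

end Aux

variable {ι : Type*} [Fintype ι] {Q : ℤ} {g : ℕ} {deg val : ι → ℤ} {r : Fin 3 → ι → ℤ}
  {one : ι} {σ : ι ≃ ι} {k : ℕ} {a b : ι → ℤ}

/-- The value at `t y`. -/
def sv (r : Fin 3 → ι → ℤ) (χ : ι) : ℤ := -r 0 χ - r 1 χ + r 2 χ

omit [Fintype ι] in
theorem sv_def (r : Fin 3 → ι → ℤ) (χ : ι) : sv r χ = -r 0 χ - r 1 χ + r 2 χ := rfl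

section Base

variable (hb : NumBase Q g deg val r one σ)

include hb

theorem deg_sub_sv_even (hQ : Q % 8 = 5) (χ : ι) (h : ∃ i, r i χ ≠ 0) : (2 : ℤ) ∣ deg χ - sv r χ := by
  obtain ⟨c, hc⟩ := hb.mod8 χ
  have hv := hb.val_eq χ h
  obtain ⟨x, hx⟩ : ∃ x, Q = 8 * x + 5 := ⟨Q / 8, by omega⟩
  subst hx
  have h2 : val χ = -(4 * x + 3) * (r 0 χ + r 1 χ) + (8 * x + 5) * r 2 χ := by linarith
  refine ⟨4 * c - (2 * x + 1) * (r 0 χ + r 1 χ) + (4 * x + 2) * r 2 χ, ?_⟩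
  rw [sv_def]
  linarith

theorem sum_sv_sq : ∑ χ, sv r χ ^ 2 = 8 := by
  have h : ∀ χ, sv r χ ^ 2 = r 0 χ * r 0 χ + r 1 χ * r 1 χ + r 2 χ * r 2 χ + 2 * (r 0 χ * r 1 χ)
      - 2 * (r 0 χ * r 2 χ) - 2 * (r 1 χ * r 2 χ) := fun χ => by rw [sv_def]; ring
  simp only [h, Finset.sum_add_distrib, Finset.sum_sub_distrib, ← Finset.mul_sum, hb.gram]
  simp [show (0 : Fin 3) ≠ 2 by decide, show (1 : Fin 3) ≠ 2 by decide]

theorem sum_sv_deg : ∑ χ, sv r χ * deg χ = 0 := by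
  have h : ∀ χ, sv r χ * deg χ = -(r 0 χ * deg χ) - r 1 χ * deg χ + r 2 χ * deg χ :=
    fun χ => by rw [sv_def]; ring
  simp only [h, Finset.sum_add_distrib, Finset.sum_sub_distrib, Finset.sum_neg_distrib, hb.r_deg]
  norm_num

theorem sum_sv_val : ∑ χ, sv r χ * val χ = 4 * (Q + 1) := by
  have h : ∀ χ, 2 * (sv r χ * val χ) = (Q + 1) * (r 0 χ * r 0 χ) + (Q + 1) * (r 1 χ * r 1 χ)
      + 2 * (Q + 1) * (r 0 χ * r 1 χ) - (3 * Q + 1) * (r 0 χ * r 2 χ) - (3 * Q + 1) * (r 1 χ * r 2 χ)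
      + 2 * Q * (r 2 χ * r 2 χ) := fun χ => by
    by_cases hr : ∃ i, r i χ ≠ 0
    · have := hb.val_eq χ hr
      have e : 2 * (sv r χ * val χ) = sv r χ * (2 * val χ) := by ring
      rw [e, this, sv_def]; ring
    · push Not at hr
      rw [sv_def, hr 0, hr 1, hr 2]; ring
  have h2 : 2 * ∑ χ, sv r χ * val χ = 2 * (4 * (Q + 1)) := by
    rw [Finset.mul_sum]
    simp only [h, Finset.sum_add_distrib, Finset.sum_sub_distrib, ← Finset.mul_sum, hb.gram]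
    simp only [show (0 : Fin 3) ≠ 2 by decide, show (1 : Fin 3) ≠ 2 by decide, show (0 : Fin 3) ≠ 1 by decide,
      if_true, if_false]
    ring
  linarith

theorem sum_sv_class : ∑ χ, (sv r χ : ℚ) * (val χ : ℚ) ^ 2 / (deg χ : ℚ)
    = kappa Q g * (1 + 1 / Q + 4 / (Q + 1)) := by
  have h : ∀ χ, (sv r χ : ℚ) * (val χ : ℚ) ^ 2 / (deg χ : ℚ)
      = -((r 0 χ : ℚ) * (val χ : ℚ) ^ 2 / (deg χ : ℚ)) - (r 1 χ : ℚ) * (val χ : ℚ) ^ 2 / (deg χ : ℚ)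
        + (r 2 χ : ℚ) * (val χ : ℚ) ^ 2 / (deg χ : ℚ) := fun χ => by
    rw [sv_def]; push_cast; ring
  simp only [h, Finset.sum_add_distrib, Finset.sum_sub_distrib, Finset.sum_neg_distrib, hb.class0, hb.class1,
    hb.class2]
  ring

end Base

/-- Main elimination: all the information coming from `V Y ∖ V`, in terms of the characters with nonzero row only. -/
theorem core [DecidableEq ι] (hb : NumBase Q g deg val r one σ) (ht : NumTI Q g deg val r one σ k a b)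
    (hQ : Q % 8 = 5) (B : Finset ι) (hB : ∀ χ, χ ∈ B ↔ ∃ i, r i χ ≠ 0) :
    ∃ D P : ℤ, D ≠ 0 ∧ D = -∑ χ ∈ B, b χ * deg χ ∧ P = -∑ χ ∈ B, b χ * val χ ∧
      -∑ χ ∈ B, (b χ : ℚ) * (val χ : ℚ) ^ 2 / (deg χ : ℚ) = (P : ℚ) ^ 2 / D ∧
      kappa Q g * D = (Q + 1) ^ 2 * (P - 2 * (Q + 1)) ∧ ∑ χ ∈ B, b χ ^ 2 = 2 := by
  -- facts about members of `B`
  have hcase : ∀ χ ∈ B, (a χ = sv r χ ∧ b χ = 0) ∨ (a χ = 0 ∧ b χ = -sv r χ) := fun χ hχ => by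
    rcases ht.cases χ ((hB χ).mp hχ) with h | h
    · exact Or.inl ⟨h.1, h.2.1⟩
    · exact Or.inr ⟨h.1, h.2⟩
  have hO0 : ∀ χ ∈ Bᶜ, sv r χ = 0 := fun χ hχ => by
    rw [Finset.mem_compl, hB] at hχ
    push Not at hχ
    rw [sv_def, hχ 0, hχ 1, hχ 2]; ring
  have hsplit : ∀ f : ι → ℤ, ∑ χ, f χ = ∑ χ ∈ B, f χ + ∑ χ ∈ Bᶜ, f χ := fun f =>
    (Finset.sum_add_sum_compl B f).symm
  have hsplitQ : ∀ f : ι → ℚ, ∑ χ, f χ = ∑ χ ∈ B, f χ + ∑ χ ∈ Bᶜ, f χ := fun f =>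
    (Finset.sum_add_sum_compl B f).symm
  -- sums of squares
  have hBab : ∑ χ ∈ B, a χ * b χ = 0 := Finset.sum_eq_zero fun χ hχ => by
    rcases hcase χ hχ with h | h
    · rw [h.2, mul_zero]
    · rw [h.1, zero_mul]
  have hBs : ∑ χ ∈ B, a χ ^ 2 + ∑ χ ∈ B, b χ ^ 2 = 8 := by
    rw [← sum_sv_sq hb, hsplit (fun χ => sv r χ ^ 2),
      Finset.sum_eq_zero (s := Bᶜ) (fun χ hχ => by rw [hO0 χ hχ]; ring), add_zero, ← Finset.sum_add_distrib]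
    refine Finset.sum_congr rfl fun χ hχ => ?_
    rcases hcase χ hχ with h | h
    · rw [h.1, h.2]; ring
    · rw [h.1, h.2]; ring
  have haa := ht.aa
  have hbb := ht.bb
  have hab := ht.ab
  rw [hsplit] at haa hbb hab
  have hOab : ∑ χ ∈ Bᶜ, a χ * b χ = 0 := by linarith
  have hSA : 0 ≤ ∑ χ ∈ Bᶜ, a χ ^ 2 := Finset.sum_nonneg fun χ _ => sq_nonneg _
  have hSB : 0 ≤ ∑ χ ∈ Bᶜ, b χ ^ 2 := Finset.sum_nonneg fun χ _ => sq_nonneg _
  have hS : ∑ χ ∈ Bᶜ, a χ ^ 2 + ∑ χ ∈ Bᶜ, b χ ^ 2 = 2 := by linarith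
  -- degree of the difference outside `B`
  have hsB : ∀ f : ι → ℤ, ∑ χ, sv r χ * f χ = ∑ χ ∈ B, a χ * f χ - ∑ χ ∈ B, b χ * f χ := fun f => by
    rw [hsplit (fun χ => sv r χ * f χ),
      Finset.sum_eq_zero (s := Bᶜ) (fun χ hχ => by rw [hO0 χ hχ]; ring), add_zero, ← Finset.sum_sub_distrib]
    refine Finset.sum_congr rfl fun χ hχ => ?_
    rcases hcase χ hχ with h | h
    · rw [h.1, h.2]; ring
    · rw [h.1, h.2]; ring
  have hadeg := ht.a_deg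
  have hbdeg := ht.b_deg
  have haval := ht.a_val
  have hbval := ht.b_val
  rw [hsplit] at hadeg hbdeg haval hbval
  have h1 := hsB deg
  have h2 := hsB val
  rw [sum_sv_deg hb] at h1
  rw [sum_sv_val hb] at h2
  have hdegO : ∑ χ ∈ Bᶜ, a χ * deg χ = ∑ χ ∈ Bᶜ, b χ * deg χ := by linarith
  have hvalO : ∑ χ ∈ Bᶜ, a χ * val χ - ∑ χ ∈ Bᶜ, b χ * val χ = -4 * (Q + 1) := by linarith
  -- the three cases
  have hz : ∀ c : ι → ℤ, ∑ χ ∈ Bᶜ, c χ ^ 2 = 0 → ∀ χ ∈ Bᶜ, c χ = 0 := fun c hc χ hχ =>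
    pow_eq_zero_iff (two_ne_zero) |>.mp
      ((Finset.sum_eq_zero_iff_of_nonneg (fun χ _ => sq_nonneg (c χ))).mp hc χ hχ)
  have hcases : ∑ χ ∈ Bᶜ, b χ ^ 2 = 0 ∨ ∑ χ ∈ Bᶜ, b χ ^ 2 = 1 ∨ ∑ χ ∈ Bᶜ, b χ ^ 2 = 2 := by omega
  rcases hcases with h0 | h0 | h0
  · -- three odd degrees with sum zero
    exfalso
    have hb0 := hz b h0
    have hs0 : ∑ χ ∈ Bᶜ, b χ * deg χ = 0 := Finset.sum_eq_zero fun χ hχ => by rw [hb0 χ hχ, zero_mul]
    have hpar : (2 : ℤ) ∣ ∑ χ ∈ B, (b χ * deg χ - b χ ^ 2) := Finset.dvd_sum fun χ hχ => by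
      rcases hcase χ hχ with h | h
      · rw [h.2]; exact ⟨0, by ring⟩
      · obtain ⟨c, hc⟩ := deg_sub_sv_even hb hQ χ ((hB χ).mp hχ)
        rw [h.2]
        refine ⟨-sv r χ * (c + sv r χ), ?_⟩
        have : deg χ = sv r χ + 2 * c := by linarith
        rw [this]; ring
    rw [Finset.sum_sub_distrib] at hpar
    omega
  · -- the good case
    have h0' : ∑ χ ∈ Bᶜ, a χ ^ 2 = 1 := by linarith
    obtain ⟨z₁, hz₁, ha₁, haz⟩ := sum_sq_one _ a h0'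
    obtain ⟨z₂, hz₂, hb₂, hbz⟩ := sum_sq_one _ b h0
    have sa : ∀ f : ι → ℤ, ∑ χ ∈ Bᶜ, a χ * f χ = a z₁ * f z₁ := fun f =>
      sum_eq_single_of _ _ z₁ hz₁ fun χ hχ hne => by rw [haz χ hχ hne, zero_mul]
    have sb : ∀ f : ι → ℤ, ∑ χ ∈ Bᶜ, b χ * f χ = b z₂ * f z₂ := fun f =>
      sum_eq_single_of _ _ z₂ hz₂ fun χ hχ hne => by rw [hbz χ hχ hne, zero_mul]
    rw [sa, sb] at hdegO hvalO
    rw [sa] at hadeg haval
    rw [sb] at hbdeg hbval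
    have hd1 := hb.deg_pos z₁
    have hd2 := hb.deg_pos z₂
    have hdne : b z₂ * deg z₂ ≠ 0 := by
      rcases hb₂ with h | h <;> rw [h] <;> omega
    have ha2 : a z₁ ^ 2 = 1 := by rcases ha₁ with h | h <;> rw [h] <;> norm_num
    have hb2 : b z₂ ^ 2 = 1 := by rcases hb₂ with h | h <;> rw [h] <;> norm_num
    refine ⟨b z₂ * deg z₂, b z₂ * val z₂, hdne, by linarith, by linarith, ?_, ?_, by linarith⟩
    · -- class equation for `b`
      have hbc := ht.b_class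
      rw [hsplitQ, sum_eq_single_of Bᶜ _ z₂ hz₂ (fun χ hχ hne => by rw [hbz χ hχ hne]; push_cast; ring)] at hbc
      have hdq : (deg z₂ : ℚ) ≠ 0 := by
        have : (0 : ℚ) < deg z₂ := by exact_mod_cast hd2
        exact this.ne'
      have hbq : (b z₂ : ℚ) ^ 2 = 1 := by exact_mod_cast hb2
      have hbne : (b z₂ : ℚ) ≠ 0 := by
        intro h; rw [h] at hbq; norm_num at hbq
      have e : ((b z₂ * val z₂ : ℤ) : ℚ) ^ 2 / ((b z₂ * deg z₂ : ℤ) : ℚ)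
          = (b z₂ : ℚ) * (val z₂ : ℚ) ^ 2 / (deg z₂ : ℚ) := by
        push_cast
        field_simp
      rw [e]
      linarith
    · -- class equation for `a`
      have hbc := ht.b_class
      rw [hsplitQ, sum_eq_single_of Bᶜ _ z₂ hz₂ (fun χ hχ hne => by rw [hbz χ hχ hne]; push_cast; ring)] at hbc
      have hac := ht.a_class
      rw [hsplitQ, sum_eq_single_of Bᶜ _ z₁ hz₁ (fun χ hχ hne => by rw [haz χ hχ hne]; push_cast; ring)] at hac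
      have hsc := sum_sv_class hb
      rw [hsplitQ, Finset.sum_eq_zero (s := Bᶜ) (fun χ hχ => by rw [hO0 χ hχ]; push_cast; ring), add_zero] at hsc
      have hsc2 : ∑ χ ∈ B, (sv r χ : ℚ) * (val χ : ℚ) ^ 2 / (deg χ : ℚ)
          = ∑ χ ∈ B, (a χ : ℚ) * (val χ : ℚ) ^ 2 / (deg χ : ℚ) - ∑ χ ∈ B, (b χ : ℚ) * (val χ : ℚ) ^ 2 / (deg χ : ℚ) := by
        rw [← Finset.sum_sub_distrib]
        refine Finset.sum_congr rfl fun χ hχ => ?_
        rcases hcase χ hχ with h | h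
        · rw [h.1, h.2]; push_cast; ring
        · rw [h.1, h.2]; push_cast; ring
      have hQ1 : (Q : ℚ) + 1 ≠ 0 := by
        intro h
        have : Q + 1 = 0 := by exact_mod_cast h
        omega
      have hQ0 : (Q : ℚ) ≠ 0 := by
        intro h
        have : Q = 0 := by exact_mod_cast h
        omega
      have hd1q : (deg z₁ : ℚ) ≠ 0 := by
        have : (0 : ℚ) < deg z₁ := by exact_mod_cast hd1
        exact this.ne'
      have hd2q : (deg z₂ : ℚ) ≠ 0 := by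
        have : (0 : ℚ) < deg z₂ := by exact_mod_cast hd2
        exact this.ne'
      -- kappa * 8/(Q+1) = b val²/deg (z₂) - a val²/deg (z₁)
      have hk : kappa Q g * (8 / (Q + 1)) = (b z₂ : ℚ) * (val z₂ : ℚ) ^ 2 / (deg z₂ : ℚ)
          - (a z₁ : ℚ) * (val z₁ : ℚ) ^ 2 / (deg z₁ : ℚ) := by
        have e : (1 : ℚ) + 1 / Q + 4 / (Q + 1) - (Q - 1) ^ 2 / (Q * (Q + 1)) = 8 / (Q + 1) := by
          field_simp
          ring
        rw [← e, mul_sub]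
        linarith
      have hdeq : (a z₁ : ℚ) * deg z₁ = (b z₂ : ℚ) * deg z₂ := by exact_mod_cast hdegO
      have hveq : (a z₁ : ℚ) * val z₁ - (b z₂ : ℚ) * val z₂ = -4 * (Q + 1) := by exact_mod_cast hvalO
      have ha2q : (a z₁ : ℚ) ^ 2 = 1 := by exact_mod_cast ha2
      have hb2q : (b z₂ : ℚ) ^ 2 = 1 := by exact_mod_cast hb2
      have hbne : (b z₂ : ℚ) ≠ 0 := by
        intro h; rw [h] at hb2q; norm_num at hb2q
      have hane : (a z₁ : ℚ) ≠ 0 := by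
        intro h; rw [h] at ha2q; norm_num at ha2q
      have e1 : (a z₁ : ℚ) * (val z₁ : ℚ) ^ 2 / (deg z₁ : ℚ) = ((a z₁ : ℚ) * val z₁) ^ 2 / ((b z₂ : ℚ) * deg z₂) := by
        rw [← hdeq]; field_simp
      have e2 : (b z₂ : ℚ) * (val z₂ : ℚ) ^ 2 / (deg z₂ : ℚ) = ((b z₂ : ℚ) * val z₂) ^ 2 / ((b z₂ : ℚ) * deg z₂) := by
        field_simp
      have hD : (b z₂ : ℚ) * deg z₂ ≠ 0 := mul_ne_zero hbne hd2q
      rw [e1, e2, ← sub_div, eq_div_iff hD] at hk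
      have e3 : (a z₁ : ℚ) * val z₁ = (b z₂ : ℚ) * val z₂ - 4 * (Q + 1) := by linarith
      rw [e3] at hk
      push_cast
      have h8 : kappa Q g * ((b z₂ : ℚ) * deg z₂) * 8 = 8 * ((Q + 1) ^ 2 * ((b z₂ : ℚ) * val z₂ - 2 * (Q + 1))) := by
        have : kappa Q g * (8 / (Q + 1)) * ((b z₂ : ℚ) * deg z₂) * (Q + 1) = kappa Q g * ((b z₂ : ℚ) * deg z₂) * 8 := by
          field_simp
        rw [← this, hk]
        ring
      linarith
  · -- only one constituent in `B`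
    exfalso
    have h0' : ∑ χ ∈ Bᶜ, a χ ^ 2 = 0 := by linarith
    have ha0 := hz a h0'
    have hs0 : ∑ χ ∈ Bᶜ, a χ * deg χ = 0 := Finset.sum_eq_zero fun χ hχ => by rw [ha0 χ hχ, zero_mul]
    have h3 : ∑ χ ∈ B, b χ ^ 2 = 1 := by linarith
    obtain ⟨z, hz, hbz, hbz0⟩ := sum_sq_one _ b h3
    have hs1 : ∑ χ ∈ B, b χ * deg χ = b z * deg z :=
      sum_eq_single_of _ _ z hz fun χ hχ hne => by rw [hbz0 χ hχ hne, zero_mul]
    have hd := hb.deg_pos z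
    rcases hbz with h | h
    · rw [h] at hs1; omega
    · rw [h] at hs1; omega

end Cfsg.Agent.Ree.NumCore
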