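import Cfsg.Agent.Ree.Interface

/-!
# S0343, numerical part: the possible row patterns (eight or seven rows)
-/

set_option autoImplicit false

namespace Cfsg.Agent.Ree.NumPattern

open Finset Cfsg.Agent.Ree.Interface

variable {ι : Type*} [Fintype ι] {Q : ℤ} {g : ℕ} {deg val : ι → ℤ} {r : Fin 3 → ι → ℤ}
  {one : ι} {σ : ι ≃ ι}

theorem two_le_sum [DecidableEq ι] (f : ι → ℤ) {x y : ι} (h : x ≠ y) : f x ^ 2 + f y ^ 2 ≤ ∑ χ, f χ ^ 2 := by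
  rw [← Finset.sum_pair (f := fun χ => f χ ^ 2) h]
  exact Finset.sum_le_sum_of_subset_of_nonneg (Finset.subset_univ _) fun χ _ _ => sq_nonneg _

section

variable (hb : NumBase Q g deg val r one σ)

include hb

theorem sum_sq (i : Fin 3) : ∑ χ, r i χ ^ 2 = 4 := by
  have := hb.gram i i
  simp only [if_true] at this
  rw [← this]
  exact Finset.sum_congr rfl fun χ _ => by ring

theorem sum_mul {i j : Fin 3} (h : i ≠ j) : ∑ χ, r i χ * r j χ = 2 := by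
  have := hb.gram i j
  rwa [if_neg h] at this

theorem sum_sub_sq {i j : Fin 3} (h : i ≠ j) : ∑ χ, (r i χ - r j χ) ^ 2 = 4 := by
  have e : ∀ χ, (r i χ - r j χ) ^ 2 = r i χ ^ 2 + r j χ ^ 2 - 2 * (r i χ * r j χ) := fun χ => by ring
  simp only [e, Finset.sum_sub_distrib, Finset.sum_add_distrib, ← Finset.mul_sum, sum_sq hb, sum_mul hb h]
  norm_num

theorem abs_r_le (i : Fin 3) (χ : ι) : -1 ≤ r i χ ∧ r i χ ≤ 1 := by
  classical
  by_cases h : χ = one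
  · rw [h, hb.r_one]; norm_num
  · have h1 := two_le_sum (r i) h
    rw [sum_sq hb, hb.r_one] at h1
    constructor <;> nlinarith

theorem abs_sub01 (χ : ι) : -1 ≤ r 0 χ - r 1 χ ∧ r 0 χ - r 1 χ ≤ 1 := by
  classical
  by_contra hcon
  have hsq : 4 ≤ (r 0 χ - r 1 χ) ^ 2 := by
    by_cases h1 : -1 ≤ r 0 χ - r 1 χ
    · have h2 : 2 ≤ r 0 χ - r 1 χ := by
        by_contra h3
        exact hcon ⟨h1, by omega⟩
      nlinarith
    · have h2 : r 0 χ - r 1 χ ≤ -2 := by omega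
      nlinarith
  have hne : σ χ ≠ χ := by
    intro h
    have h0 := hb.gal0 χ
    rw [h] at h0
    rw [h0] at hsq
    norm_num at hsq
  have h1 := two_le_sum (fun χ => r 0 χ - r 1 χ) hne
  rw [sum_sub_sq hb (by decide : (0 : Fin 3) ≠ 1)] at h1
  have h2 : r 0 (σ χ) - r 1 (σ χ) = -(r 0 χ - r 1 χ) := by rw [hb.gal0, hb.gal1]; ring
  rw [h2] at h1
  nlinarith

theorem abs_sub02 (χ : ι) : -1 ≤ r 0 χ - r 2 χ ∧ r 0 χ - r 2 χ ≤ 1 := by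
  classical
  by_contra hcon
  have hu := abs_r_le hb 0 χ
  have hv := abs_r_le hb 1 χ
  have hw := abs_r_le hb 2 χ
  have h01 := abs_sub01 hb χ
  have hsq : (r 0 χ - r 2 χ) ^ 2 = 4 := by
    have : r 0 χ - r 2 χ = 2 ∨ r 0 χ - r 2 χ = -2 := by omega
    rcases this with h | h <;> rw [h] <;> norm_num
  -- every other character has r 0 = r 2
  have hoth : ∀ ψ, ψ ≠ χ → r 0 ψ = r 2 ψ := fun ψ hψ => by
    have h1 := two_le_sum (fun χ => r 0 χ - r 2 χ) hψ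
    rw [sum_sub_sq hb (by decide : (0 : Fin 3) ≠ 2), hsq] at h1
    have : (r 0 ψ - r 2 ψ) ^ 2 = 0 := le_antisymm (by linarith) (sq_nonneg _)
    have := pow_eq_zero_iff (two_ne_zero) |>.mp this
    omega
  by_cases hσ : σ χ = χ
  · -- then r 0 = r 1 everywhere
    have h01 : ∀ ψ, r 0 ψ - r 1 ψ = 0 := fun ψ => by
      by_cases hψ : ψ = χ
      · have h0 := hb.gal0 χ
        rw [hσ] at h0
        rw [hψ]; omega
      · have hσψ : σ ψ ≠ χ := fun h => hψ (σ.injective (h.trans hσ.symm))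
        have h1 := hoth ψ hψ
        have h2 := hoth (σ ψ) hσψ
        rw [hb.gal0, hb.gal2] at h2
        omega
    have hs := sum_sub_sq hb (by decide : (0 : Fin 3) ≠ 1)
    rw [Finset.sum_eq_zero fun ψ _ => by rw [h01 ψ]; ring] at hs
    norm_num at hs
  · have h2 := hoth (σ χ) hσ
    rw [hb.gal0, hb.gal2] at h2
    have h01 := abs_sub01 hb χ
    omega

theorem abs_sub12 (χ : ι) : -1 ≤ r 1 χ - r 2 χ ∧ r 1 χ - r 2 χ ≤ 1 := by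
  have := abs_sub02 hb (σ χ)
  rwa [hb.gal0, hb.gal2] at this

/-- the product of two of the `r i` is the indicator of the set where both are nonzero -/
theorem mul_eq_ite {i j : Fin 3} (h : i ≠ j) (χ : ι) :
    r i χ * r j χ = if r i χ ≠ 0 ∧ r j χ ≠ 0 then 1 else 0 := by
  have hi := abs_r_le hb i χ
  have hj := abs_r_le hb j χ
  have hij : -1 ≤ r i χ - r j χ ∧ r i χ - r j χ ≤ 1 := by
    have h01 := abs_sub01 hb χ
    have h02 := abs_sub02 hb χ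
    have h12 := abs_sub12 hb χ
    fin_cases i <;> fin_cases j <;> simp only [Fin.zero_eta, Fin.mk_one, Fin.reduceFinMk, ne_eq,
      not_true_eq_false] at h ⊢ <;> omega
  by_cases hi0 : r i χ = 0
  · rw [if_neg (fun h => h.1 hi0), hi0, zero_mul]
  by_cases hj0 : r j χ = 0
  · rw [if_neg (fun h => h.2 hj0), hj0, mul_zero]
  rw [if_pos ⟨hi0, hj0⟩]
  have h3 : (r i χ = 1 ∧ r j χ = 1) ∨ (r i χ = -1 ∧ r j χ = -1) := by omega
  rcases h3 with h3 | h3 <;> rw [h3.1, h3.2] <;> norm_num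

theorem card_filter_ne (i : Fin 3) : (univ.filter fun χ => r i χ ≠ 0).card = 4 := by
  have h : (((univ.filter fun χ => r i χ ≠ 0).card : ℕ) : ℤ) = ∑ χ, r i χ ^ 2 := by
    rw [Finset.card_filter]
    push_cast
    refine Finset.sum_congr rfl fun χ _ => ?_
    have hi := abs_r_le hb i χ
    have h1 : r i χ = -1 ∨ r i χ = 0 ∨ r i χ = 1 := by omega
    rcases h1 with h1 | h1 | h1 <;> rw [h1] <;> norm_num
  rw [sum_sq hb] at h
  exact_mod_cast h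

theorem card_filter_ne_ne {i j : Fin 3} (hij : i ≠ j) :
    (univ.filter fun χ => r i χ ≠ 0 ∧ r j χ ≠ 0).card = 2 := by
  have h : (((univ.filter fun χ => r i χ ≠ 0 ∧ r j χ ≠ 0).card : ℕ) : ℤ) = ∑ χ, r i χ * r j χ := by
    rw [Finset.card_filter]
    push_cast
    refine Finset.sum_congr rfl fun χ _ => ?_
    rw [mul_eq_ite hb hij]
  rw [sum_mul hb hij] at h
  exact_mod_cast h

end

/-- Eight rows: two of each kind. `e 0, e 1` of type `1`, `e 2, e 3` of type `2` (only `r 0 ≠ 0`), `e 4, e 5` of type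
`3`, `e 6, e 7` of type `4`; `δ` are the signs. -/
structure Eight (r : Fin 3 → ι → ℤ) (one : ι) (e : Fin 8 → ι) (δ : Fin 8 → ℤ) : Prop where
  inj : Function.Injective e
  zero : e 0 = one
  δ_zero : δ 0 = 1
  δ_sq : ∀ j, δ j = 1 ∨ δ j = -1
  mem : ∀ χ, (∃ i, r i χ ≠ 0) ↔ ∃ j, e j = χ
  r0 : ∀ j, r 0 (e j) = δ j * (![-1, -1, 1, 1, 0, 0, 0, 0] : Fin 8 → ℤ) j
  r1 : ∀ j, r 1 (e j) = δ j * (![-1, -1, 0, 0, 1, 1, 0, 0] : Fin 8 → ℤ) j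
  r2 : ∀ j, r 2 (e j) = δ j * (![-1, -1, 0, 0, 0, 0, 1, 1] : Fin 8 → ℤ) j

/-- Seven rows. -/
structure Seven (r : Fin 3 → ι → ℤ) (one : ι) (e : Fin 7 → ι) (δ : Fin 7 → ℤ) : Prop where
  inj : Function.Injective e
  zero : e 0 = one
  δ_zero : δ 0 = 1
  δ_sq : ∀ j, δ j = 1 ∨ δ j = -1
  mem : ∀ χ, (∃ i, r i χ ≠ 0) ↔ ∃ j, e j = χ
  r0 : ∀ j, r 0 (e j) = δ j * (![-1, 1, 0, 0, -1, -1, 0] : Fin 7 → ℤ) j
  r1 : ∀ j, r 1 (e j) = δ j * (![-1, 0, 1, 0, -1, 0, -1] : Fin 7 → ℤ) j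
  r2 : ∀ j, r 2 (e j) = δ j * (![-1, 0, 0, 1, 0, -1, -1] : Fin 7 → ℤ) j

omit [Fintype ι] in
theorem eight_of (e1 e2 e3 e4 e5 e6 e7 : ι)
    (o : ∀ i, r i one = -1)
    (n1 : e1 ≠ one) (h23 : e2 ≠ e3) (h45 : e4 ≠ e5) (h67 : e6 ≠ e7)
    (q1 : r 0 e1 ≠ 0 ∧ r 1 e1 = r 0 e1 ∧ r 2 e1 = r 0 e1 ∧ -1 ≤ r 0 e1 ∧ r 0 e1 ≤ 1)
    (q2 : r 0 e2 ≠ 0 ∧ r 1 e2 = 0 ∧ r 2 e2 = 0 ∧ -1 ≤ r 0 e2 ∧ r 0 e2 ≤ 1)
    (q3 : r 0 e3 ≠ 0 ∧ r 1 e3 = 0 ∧ r 2 e3 = 0 ∧ -1 ≤ r 0 e3 ∧ r 0 e3 ≤ 1)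
    (q4 : r 0 e4 = 0 ∧ r 1 e4 ≠ 0 ∧ r 2 e4 = 0 ∧ -1 ≤ r 1 e4 ∧ r 1 e4 ≤ 1)
    (q5 : r 0 e5 = 0 ∧ r 1 e5 ≠ 0 ∧ r 2 e5 = 0 ∧ -1 ≤ r 1 e5 ∧ r 1 e5 ≤ 1)
    (q6 : r 0 e6 = 0 ∧ r 1 e6 = 0 ∧ r 2 e6 ≠ 0 ∧ -1 ≤ r 2 e6 ∧ r 2 e6 ≤ 1)
    (q7 : r 0 e7 = 0 ∧ r 1 e7 = 0 ∧ r 2 e7 ≠ 0 ∧ -1 ≤ r 2 e7 ∧ r 2 e7 ≤ 1)
    (hall : ∀ χ, (∃ i, r i χ ≠ 0) → χ = one ∨ χ = e1 ∨ χ = e2 ∨ χ = e3 ∨ χ = e4 ∨ χ = e5 ∨ χ = e6 ∨ χ = e7) :
    ∃ e δ, Eight r one e δ := by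
  have o0 := o 0
  have o1 := o 1
  have o2 := o 2
  refine ⟨![one, e1, e2, e3, e4, e5, e6, e7],
    ![1, -r 0 e1, r 0 e2, r 0 e3, r 1 e4, r 1 e5, r 2 e6, r 2 e7], ?_, rfl, rfl, ?_, ?_, ?_, ?_, ?_⟩
  · have key : ∀ x y : ι, x = y → r 0 x = r 0 y ∧ r 1 x = r 1 y ∧ r 2 x = r 2 y := fun x y h => by
      subst h; exact ⟨rfl, rfl, rfl⟩
    intro i j h
    fin_cases i <;> fin_cases j <;> first
      | rfl
      | exact absurd h n1
      | exact absurd h.symm n1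
      | exact absurd h h23
      | exact absurd h.symm h23
      | exact absurd h h45
      | exact absurd h.symm h45
      | exact absurd h h67
      | exact absurd h.symm h67
      | (exfalso; have k := key _ _ h
         simp only [Fin.zero_eta, Fin.mk_one, Fin.reduceFinMk, Matrix.cons_val_zero,
           Matrix.cons_val_one, Matrix.cons_val] at k
         omega)
  · intro j
    fin_cases j
    · left; rfl
    · show -r 0 e1 = 1 ∨ -r 0 e1 = -1; omega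
    · show r 0 e2 = 1 ∨ r 0 e2 = -1; omega
    · show r 0 e3 = 1 ∨ r 0 e3 = -1; omega
    · show r 1 e4 = 1 ∨ r 1 e4 = -1; omega
    · show r 1 e5 = 1 ∨ r 1 e5 = -1; omega
    · show r 2 e6 = 1 ∨ r 2 e6 = -1; omega
    · show r 2 e7 = 1 ∨ r 2 e7 = -1; omega
  · intro χ
    constructor
    · intro h
      rcases hall χ h with h | h | h | h | h | h | h | h
      · exact ⟨0, h.symm⟩
      · exact ⟨1, h.symm⟩
      · exact ⟨2, h.symm⟩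
      · exact ⟨3, h.symm⟩
      · exact ⟨4, h.symm⟩
      · exact ⟨5, h.symm⟩
      · exact ⟨6, h.symm⟩
      · exact ⟨7, h.symm⟩
    · rintro ⟨j, rfl⟩
      fin_cases j
      · exact ⟨0, by show r 0 one ≠ 0; omega⟩
      · exact ⟨0, q1.1⟩
      · exact ⟨0, q2.1⟩
      · exact ⟨0, q3.1⟩
      · exact ⟨1, q4.2.1⟩
      · exact ⟨1, q5.2.1⟩
      · exact ⟨2, q6.2.2.1⟩
      · exact ⟨2, q7.2.2.1⟩
  · intro j
    fin_cases j
    · show r 0 one = 1 * (-1); omega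
    · show r 0 e1 = -r 0 e1 * (-1); omega
    · show r 0 e2 = r 0 e2 * 1; omega
    · show r 0 e3 = r 0 e3 * 1; omega
    · show r 0 e4 = r 1 e4 * 0; omega
    · show r 0 e5 = r 1 e5 * 0; omega
    · show r 0 e6 = r 2 e6 * 0; omega
    · show r 0 e7 = r 2 e7 * 0; omega
  · intro j
    fin_cases j
    · show r 1 one = 1 * (-1); omega
    · show r 1 e1 = -r 0 e1 * (-1); omega
    · show r 1 e2 = r 0 e2 * 0; omega
    · show r 1 e3 = r 0 e3 * 0; omega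
    · show r 1 e4 = r 1 e4 * 1; omega
    · show r 1 e5 = r 1 e5 * 1; omega
    · show r 1 e6 = r 2 e6 * 0; omega
    · show r 1 e7 = r 2 e7 * 0; omega
  · intro j
    fin_cases j
    · show r 2 one = 1 * (-1); omega
    · show r 2 e1 = -r 0 e1 * (-1); omega
    · show r 2 e2 = r 0 e2 * 0; omega
    · show r 2 e3 = r 0 e3 * 0; omega
    · show r 2 e4 = r 1 e4 * 0; omega
    · show r 2 e5 = r 1 e5 * 0; omega
    · show r 2 e6 = r 2 e6 * 1; omega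
    · show r 2 e7 = r 2 e7 * 1; omega

omit [Fintype ι] in
theorem seven_of (e1 e2 e3 e4 e5 e6 : ι)
    (o : ∀ i, r i one = -1)
    (q1 : r 0 e1 ≠ 0 ∧ r 1 e1 = 0 ∧ r 2 e1 = 0 ∧ -1 ≤ r 0 e1 ∧ r 0 e1 ≤ 1)
    (q2 : r 0 e2 = 0 ∧ r 1 e2 ≠ 0 ∧ r 2 e2 = 0 ∧ -1 ≤ r 1 e2 ∧ r 1 e2 ≤ 1)
    (q3 : r 0 e3 = 0 ∧ r 1 e3 = 0 ∧ r 2 e3 ≠ 0 ∧ -1 ≤ r 2 e3 ∧ r 2 e3 ≤ 1)
    (q4 : r 0 e4 ≠ 0 ∧ r 1 e4 = r 0 e4 ∧ r 2 e4 = 0 ∧ -1 ≤ r 0 e4 ∧ r 0 e4 ≤ 1)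
    (q5 : r 0 e5 ≠ 0 ∧ r 1 e5 = 0 ∧ r 2 e5 = r 0 e5 ∧ -1 ≤ r 0 e5 ∧ r 0 e5 ≤ 1)
    (q6 : r 0 e6 = 0 ∧ r 1 e6 ≠ 0 ∧ r 2 e6 = r 1 e6 ∧ -1 ≤ r 1 e6 ∧ r 1 e6 ≤ 1)
    (hall : ∀ χ, (∃ i, r i χ ≠ 0) → χ = one ∨ χ = e1 ∨ χ = e2 ∨ χ = e3 ∨ χ = e4 ∨ χ = e5 ∨ χ = e6) :
    ∃ e δ, Seven r one e δ := by
  have o0 := o 0
  have o1 := o 1
  have o2 := o 2
  refine ⟨![one, e1, e2, e3, e4, e5, e6],
    ![1, r 0 e1, r 1 e2, r 2 e3, -r 0 e4, -r 0 e5, -r 1 e6], ?_, rfl, rfl, ?_, ?_, ?_, ?_, ?_⟩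
  · have key : ∀ x y : ι, x = y → r 0 x = r 0 y ∧ r 1 x = r 1 y ∧ r 2 x = r 2 y := fun x y h => by
      subst h; exact ⟨rfl, rfl, rfl⟩
    intro i j h
    fin_cases i <;> fin_cases j <;> first
      | rfl
      | (exfalso; have k := key _ _ h
         simp only [Fin.zero_eta, Fin.mk_one, Fin.reduceFinMk, Matrix.cons_val_zero,
           Matrix.cons_val_one, Matrix.cons_val] at k
         omega)
  · intro j
    fin_cases j
    · left; rfl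
    · show r 0 e1 = 1 ∨ r 0 e1 = -1; omega
    · show r 1 e2 = 1 ∨ r 1 e2 = -1; omega
    · show r 2 e3 = 1 ∨ r 2 e3 = -1; omega
    · show -r 0 e4 = 1 ∨ -r 0 e4 = -1; omega
    · show -r 0 e5 = 1 ∨ -r 0 e5 = -1; omega
    · show -r 1 e6 = 1 ∨ -r 1 e6 = -1; omega
  · intro χ
    constructor
    · intro h
      rcases hall χ h with h | h | h | h | h | h | h
      · exact ⟨0, h.symm⟩
      · exact ⟨1, h.symm⟩
      · exact ⟨2, h.symm⟩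
      · exact ⟨3, h.symm⟩
      · exact ⟨4, h.symm⟩
      · exact ⟨5, h.symm⟩
      · exact ⟨6, h.symm⟩
    · rintro ⟨j, rfl⟩
      fin_cases j
      · exact ⟨0, by show r 0 one ≠ 0; omega⟩
      · exact ⟨0, q1.1⟩
      · exact ⟨1, q2.2.1⟩
      · exact ⟨2, q3.2.2.1⟩
      · exact ⟨0, q4.1⟩
      · exact ⟨0, q5.1⟩
      · exact ⟨1, q6.2.1⟩
  · intro j
    fin_cases j
    · show r 0 one = 1 * (-1); omega
    · show r 0 e1 = r 0 e1 * 1; omega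
    · show r 0 e2 = r 1 e2 * 0; omega
    · show r 0 e3 = r 2 e3 * 0; omega
    · show r 0 e4 = -r 0 e4 * (-1); omega
    · show r 0 e5 = -r 0 e5 * (-1); omega
    · show r 0 e6 = -r 1 e6 * 0; omega
  · intro j
    fin_cases j
    · show r 1 one = 1 * (-1); omega
    · show r 1 e1 = r 0 e1 * 0; omega
    · show r 1 e2 = r 1 e2 * 1; omega
    · show r 1 e3 = r 2 e3 * 0; omega
    · show r 1 e4 = -r 0 e4 * (-1); omega
    · show r 1 e5 = -r 0 e5 * 0; omega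
    · show r 1 e6 = -r 1 e6 * (-1); omega
  · intro j
    fin_cases j
    · show r 2 one = 1 * (-1); omega
    · show r 2 e1 = r 0 e1 * 0; omega
    · show r 2 e2 = r 1 e2 * 0; omega
    · show r 2 e3 = r 2 e3 * 1; omega
    · show r 2 e4 = -r 0 e4 * 0; omega
    · show r 2 e5 = -r 0 e5 * (-1); omega
    · show r 2 e6 = -r 1 e6 * (-1); omega

theorem pattern [DecidableEq ι] (hb : NumBase Q g deg val r one σ) :
    (∃ e δ, Eight r one e δ) ∨ (∃ e δ, Seven r one e δ) := by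
  obtain ⟨T, hT⟩ : ∃ T : Finset ι, T = univ.filter fun χ => r 0 χ ≠ 0 ∧ r 1 χ ≠ 0 ∧ r 2 χ ≠ 0 := ⟨_, rfl⟩
  obtain ⟨A, hA⟩ : ∃ T : Finset ι, T = univ.filter fun χ => r 0 χ ≠ 0 := ⟨_, rfl⟩
  obtain ⟨B, hB⟩ : ∃ T : Finset ι, T = univ.filter fun χ => r 1 χ ≠ 0 := ⟨_, rfl⟩
  obtain ⟨C, hC⟩ : ∃ T : Finset ι, T = univ.filter fun χ => r 2 χ ≠ 0 := ⟨_, rfl⟩
  obtain ⟨AB, hAB⟩ : ∃ T : Finset ι, T = univ.filter fun χ => r 0 χ ≠ 0 ∧ r 1 χ ≠ 0 := ⟨_, rfl⟩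
  obtain ⟨AC, hAC⟩ : ∃ T : Finset ι, T = univ.filter fun χ => r 0 χ ≠ 0 ∧ r 2 χ ≠ 0 := ⟨_, rfl⟩
  obtain ⟨BC, hBC⟩ : ∃ T : Finset ι, T = univ.filter fun χ => r 1 χ ≠ 0 ∧ r 2 χ ≠ 0 := ⟨_, rfl⟩
  have cA : A.card = 4 := hA ▸ card_filter_ne hb 0
  have cB : B.card = 4 := hB ▸ card_filter_ne hb 1
  have cC : C.card = 4 := hC ▸ card_filter_ne hb 2
  have cAB : AB.card = 2 := hAB ▸ card_filter_ne_ne hb (by decide)
  have cAC : AC.card = 2 := hAC ▸ card_filter_ne_ne hb (by decide)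
  have cBC : BC.card = 2 := hBC ▸ card_filter_ne_ne hb (by decide)
  have mT : ∀ χ, χ ∈ T ↔ r 0 χ ≠ 0 ∧ r 1 χ ≠ 0 ∧ r 2 χ ≠ 0 := fun χ => by simp [hT]
  have mA : ∀ χ, χ ∈ A ↔ r 0 χ ≠ 0 := fun χ => by simp [hA]
  have mB : ∀ χ, χ ∈ B ↔ r 1 χ ≠ 0 := fun χ => by simp [hB]
  have mC : ∀ χ, χ ∈ C ↔ r 2 χ ≠ 0 := fun χ => by simp [hC]
  have mAB : ∀ χ, χ ∈ AB ↔ r 0 χ ≠ 0 ∧ r 1 χ ≠ 0 := fun χ => by simp [hAB]
  have mAC : ∀ χ, χ ∈ AC ↔ r 0 χ ≠ 0 ∧ r 2 χ ≠ 0 := fun χ => by simp [hAC]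
  have mBC : ∀ χ, χ ∈ BC ↔ r 1 χ ≠ 0 ∧ r 2 χ ≠ 0 := fun χ => by simp [hBC]
  clear hT hA hB hC hAB hAC hBC
  have hone : one ∈ T := by rw [mT, hb.r_one, hb.r_one, hb.r_one]; norm_num
  have hTAB : T ⊆ AB := fun χ h => by rw [mT] at h; rw [mAB]; exact ⟨h.1, h.2.1⟩
  have hTAC : T ⊆ AC := fun χ h => by rw [mT] at h; rw [mAC]; exact ⟨h.1, h.2.2⟩
  have hTBC : T ⊆ BC := fun χ h => by rw [mT] at h; rw [mBC]; exact ⟨h.2.1, h.2.2⟩
  have hTpos : 0 < T.card := Finset.card_pos.mpr ⟨one, hone⟩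
  have hTle : T.card ≤ 2 := cAB ▸ Finset.card_le_card hTAB
  -- values
  have hval : ∀ χ, (-1 ≤ r 0 χ ∧ r 0 χ ≤ 1) ∧ (-1 ≤ r 1 χ ∧ r 1 χ ≤ 1) ∧ (-1 ≤ r 2 χ ∧ r 2 χ ≤ 1) ∧
      (-1 ≤ r 0 χ - r 1 χ ∧ r 0 χ - r 1 χ ≤ 1) ∧ (-1 ≤ r 0 χ - r 2 χ ∧ r 0 χ - r 2 χ ≤ 1) ∧
      (-1 ≤ r 1 χ - r 2 χ ∧ r 1 χ - r 2 χ ≤ 1) := fun χ =>
    ⟨abs_r_le hb 0 χ, abs_r_le hb 1 χ, abs_r_le hb 2 χ, abs_sub01 hb χ, abs_sub02 hb χ, abs_sub12 hb χ⟩
  have hcase : T.card = 1 ∨ T.card = 2 := by omega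
  rcases hcase with hc | hc
  · right
    obtain ⟨z, hz⟩ := Finset.card_eq_one.mp hc
    have tT : ∀ χ, χ ∈ T ↔ χ = one := by
      rw [hz, Finset.mem_singleton] at hone
      subst hone
      intro χ
      rw [hz, Finset.mem_singleton]
    have two : ∀ S : Finset ι, T ⊆ S → S.card = 2 → ∃ y, y ≠ one ∧ y ∈ S ∧ ∀ χ ∈ S, χ = one ∨ χ = y := by
      intro S hS hcS
      have h1 : (S.erase one).card = 1 := by rw [Finset.card_erase_of_mem (hS hone), hcS]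
      obtain ⟨y, hy⟩ := Finset.card_eq_one.mp h1
      have hy' : y ∈ S.erase one := by rw [hy]; exact Finset.mem_singleton_self _
      rw [Finset.mem_erase] at hy'
      refine ⟨y, hy'.1, hy'.2, fun χ hχ => ?_⟩
      by_cases h1 : χ = one
      · exact Or.inl h1
      · right
        have : χ ∈ S.erase one := Finset.mem_erase.mpr ⟨h1, hχ⟩
        rw [hy, Finset.mem_singleton] at this
        exact this
    obtain ⟨e4, n4, m4, u4⟩ := two AB hTAB cAB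
    obtain ⟨e5, n5, m5, u5⟩ := two AC hTAC cAC
    obtain ⟨e6, n6, m6, u6⟩ := two BC hTBC cBC
    rw [mAB] at m4
    rw [mAC] at m5
    rw [mBC] at m6
    have w4 : r 2 e4 = 0 := by
      by_contra h; exact n4 ((tT e4).mp ((mT e4).mpr ⟨m4.1, m4.2, h⟩))
    have w5 : r 1 e5 = 0 := by
      by_contra h; exact n5 ((tT e5).mp ((mT e5).mpr ⟨m5.1, h, m5.2⟩))
    have w6 : r 0 e6 = 0 := by
      by_contra h; exact n6 ((tT e6).mp ((mT e6).mpr ⟨h, m6.1, m6.2⟩))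
    -- three elements sets
    have three : ∀ S X Y : Finset ι, X ⊆ S → Y ⊆ S → X ∩ Y = T → X.card = 2 → Y.card = 2 → S.card = 4 →
        ∃ y, y ∈ S ∧ y ∉ X ∧ y ∉ Y ∧ ∀ χ ∈ S, χ ∉ X → χ ∉ Y → χ = y := by
      intro S X Y hX hY hXY cX cY cS
      have h1 : (X ∪ Y).card = 3 := by
        have := Finset.card_union_add_card_inter X Y
        rw [hXY, hc, cX, cY] at this
        omega
      have h2 : (S \ (X ∪ Y)).card = 1 := by
        rw [Finset.card_sdiff_of_subset (Finset.union_subset hX hY), cS, h1]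
      obtain ⟨y, hy⟩ := Finset.card_eq_one.mp h2
      have hy' : y ∈ S \ (X ∪ Y) := by rw [hy]; exact Finset.mem_singleton_self _
      rw [Finset.mem_sdiff, Finset.mem_union, not_or] at hy'
      refine ⟨y, hy'.1, hy'.2.1, hy'.2.2, fun χ h1 h2 h3 => ?_⟩
      have : χ ∈ S \ (X ∪ Y) := by
        rw [Finset.mem_sdiff, Finset.mem_union, not_or]; exact ⟨h1, h2, h3⟩
      rw [hy, Finset.mem_singleton] at this
      exact this
    obtain ⟨e1, a1, b1, c1, u1⟩ := three A AB AC (fun χ h => by rw [mAB] at h; rw [mA]; exact h.1)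
      (fun χ h => by rw [mAC] at h; rw [mA]; exact h.1)
      (by ext χ; rw [Finset.mem_inter, mAB, mAC, mT]; tauto) cAB cAC cA
    obtain ⟨e2, a2, b2, c2, u2⟩ := three B AB BC (fun χ h => by rw [mAB] at h; rw [mB]; exact h.2)
      (fun χ h => by rw [mBC] at h; rw [mB]; exact h.1)
      (by ext χ; rw [Finset.mem_inter, mAB, mBC, mT]; tauto) cAB cBC cB
    obtain ⟨e3, a3, b3, c3, u3⟩ := three C AC BC (fun χ h => by rw [mAC] at h; rw [mC]; exact h.2)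
      (fun χ h => by rw [mBC] at h; rw [mC]; exact h.2)
      (by ext χ; rw [Finset.mem_inter, mAC, mBC, mT]; tauto) cAC cBC cC
    rw [mA] at a1
    rw [mB] at a2
    rw [mC] at a3
    rw [mAB] at b1 b2
    rw [mAC] at b3 c1
    rw [mBC] at c2 c3
    have v1 := hval e1
    have v2 := hval e2
    have v3 := hval e3
    have v4 := hval e4
    have v5 := hval e5
    have v6 := hval e6
    refine seven_of e1 e2 e3 e4 e5 e6 hb.r_one ?_ ?_ ?_ ?_ ?_ ?_ ?_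
    · refine ⟨a1, ?_, ?_, v1.1⟩
      · by_contra h; exact b1 ⟨a1, h⟩
      · by_contra h; exact c1 ⟨a1, h⟩
    · refine ⟨?_, a2, ?_, v2.2.1⟩
      · by_contra h; exact b2 ⟨h, a2⟩
      · by_contra h; exact c2 ⟨a2, h⟩
    · refine ⟨?_, ?_, a3, v3.2.2.1⟩
      · by_contra h; exact b3 ⟨h, a3⟩
      · by_contra h; exact c3 ⟨h, a3⟩
    · refine ⟨m4.1, ?_, w4, v4.1⟩
      obtain ⟨h1, h2, h3, h4, h5, h6⟩ := v4
      omega
    · refine ⟨m5.1, w5, ?_, v5.1⟩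
      obtain ⟨h1, h2, h3, h4, h5, h6⟩ := v5
      omega
    · refine ⟨w6, m6.1, ?_, v6.2.1⟩
      obtain ⟨h1, h2, h3, h4, h5, h6⟩ := v6
      omega
    · rintro χ ⟨i, hi⟩
      by_cases x1 : χ ∈ AB
      · rcases u4 χ x1 with h | h
        · exact Or.inl h
        · exact Or.inr (Or.inr (Or.inr (Or.inr (Or.inl h))))
      by_cases x2 : χ ∈ AC
      · rcases u5 χ x2 with h | h
        · exact Or.inl h
        · exact Or.inr (Or.inr (Or.inr (Or.inr (Or.inr (Or.inl h)))))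
      by_cases x3 : χ ∈ BC
      · rcases u6 χ x3 with h | h
        · exact Or.inl h
        · exact Or.inr (Or.inr (Or.inr (Or.inr (Or.inr (Or.inr h)))))
      fin_cases i
      · exact Or.inr (Or.inl (u1 χ ((mA χ).mpr hi) x1 x2))
      · exact Or.inr (Or.inr (Or.inl (u2 χ ((mB χ).mpr hi) x1 x3)))
      · exact Or.inr (Or.inr (Or.inr (Or.inl (u3 χ ((mC χ).mpr hi) x2 x3))))
  · left
    have eAB : T = AB := Finset.eq_of_subset_of_card_le hTAB (by omega)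
    have eAC : T = AC := Finset.eq_of_subset_of_card_le hTAC (by omega)
    have eBC : T = BC := Finset.eq_of_subset_of_card_le hTBC (by omega)
    have sTA : T ⊆ A := fun χ h => by rw [mT] at h; rw [mA]; exact h.1
    have sTB : T ⊆ B := fun χ h => by rw [mT] at h; rw [mB]; exact h.2.1
    have sTC : T ⊆ C := fun χ h => by rw [mT] at h; rw [mC]; exact h.2.2
    -- second element of T
    have hc1 : (T.erase one).card = 1 := by rw [Finset.card_erase_of_mem hone, hc]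
    obtain ⟨e1, he1⟩ := Finset.card_eq_one.mp hc1
    have cA' : (A \ T).card = 2 := by rw [Finset.card_sdiff_of_subset sTA, cA, hc]
    have cB' : (B \ T).card = 2 := by rw [Finset.card_sdiff_of_subset sTB, cB, hc]
    have cC' : (C \ T).card = 2 := by rw [Finset.card_sdiff_of_subset sTC, cC, hc]
    obtain ⟨e2, e3, h23, hA2⟩ := Finset.card_eq_two.mp cA'
    obtain ⟨e4, e5, h45, hB2⟩ := Finset.card_eq_two.mp cB'
    obtain ⟨e6, e7, h67, hC2⟩ := Finset.card_eq_two.mp cC'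
    have m1 : e1 ∈ T ∧ e1 ≠ one := by
      have : e1 ∈ T.erase one := by rw [he1]; exact Finset.mem_singleton_self _
      rw [Finset.mem_erase] at this
      exact ⟨this.2, this.1⟩
    have t1 : ∀ χ, χ ∈ T → χ = one ∨ χ = e1 := fun χ h => by
      by_cases h1 : χ = one
      · exact Or.inl h1
      · right
        have : χ ∈ T.erase one := Finset.mem_erase.mpr ⟨h1, h⟩
        rw [he1, Finset.mem_singleton] at this
        exact this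
    have nT : ∀ χ, χ ∉ T → ¬ (r 0 χ ≠ 0 ∧ r 1 χ ≠ 0) ∧ ¬ (r 0 χ ≠ 0 ∧ r 2 χ ≠ 0) ∧ ¬ (r 1 χ ≠ 0 ∧ r 2 χ ≠ 0) :=
      fun χ h => ⟨fun h1 => h (eAB ▸ (mAB χ).mpr h1), fun h1 => h (eAC ▸ (mAC χ).mpr h1),
        fun h1 => h (eBC ▸ (mBC χ).mpr h1)⟩
    have pA : ∀ χ, χ ∈ A \ T → r 0 χ ≠ 0 ∧ r 1 χ = 0 ∧ r 2 χ = 0 ∧ -1 ≤ r 0 χ ∧ r 0 χ ≤ 1 := fun χ h => by
      rw [Finset.mem_sdiff, mA] at h
      have := nT χ h.2
      refine ⟨h.1, ?_, ?_, (hval χ).1⟩ <;> by_contra h3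
      · exact this.1 ⟨h.1, h3⟩
      · exact this.2.1 ⟨h.1, h3⟩
    have pB : ∀ χ, χ ∈ B \ T → r 0 χ = 0 ∧ r 1 χ ≠ 0 ∧ r 2 χ = 0 ∧ -1 ≤ r 1 χ ∧ r 1 χ ≤ 1 := fun χ h => by
      rw [Finset.mem_sdiff, mB] at h
      have := nT χ h.2
      refine ⟨?_, h.1, ?_, (hval χ).2.1⟩ <;> by_contra h3
      · exact this.1 ⟨h3, h.1⟩
      · exact this.2.2 ⟨h.1, h3⟩
    have pC : ∀ χ, χ ∈ C \ T → r 0 χ = 0 ∧ r 1 χ = 0 ∧ r 2 χ ≠ 0 ∧ -1 ≤ r 2 χ ∧ r 2 χ ≤ 1 := fun χ h => by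
      rw [Finset.mem_sdiff, mC] at h
      have := nT χ h.2
      refine ⟨?_, ?_, h.1, (hval χ).2.2.1⟩ <;> by_contra h3
      · exact this.2.1 ⟨h3, h.1⟩
      · exact this.2.2 ⟨h3, h.1⟩
    refine eight_of e1 e2 e3 e4 e5 e6 e7 hb.r_one m1.2 h23 h45 h67 ?_ (pA e2 (by rw [hA2]; simp))
      (pA e3 (by rw [hA2]; simp)) (pB e4 (by rw [hB2]; simp)) (pB e5 (by rw [hB2]; simp))
      (pC e6 (by rw [hC2]; simp)) (pC e7 (by rw [hC2]; simp)) ?_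
    · have q1 := (mT e1).mp m1.1
      obtain ⟨h1, h2, h3, h4, h5, h6⟩ := hval e1
      refine ⟨q1.1, ?_, ?_, h1⟩ <;> omega
    · rintro χ ⟨i, hi⟩
      by_cases hχ : χ ∈ T
      · rcases t1 χ hχ with h1 | h1
        · exact Or.inl h1
        · exact Or.inr (Or.inl h1)
      fin_cases i
      · have : χ ∈ A \ T := Finset.mem_sdiff.mpr ⟨(mA χ).mpr hi, hχ⟩
        rw [hA2, Finset.mem_insert, Finset.mem_singleton] at this
        tauto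
      · have : χ ∈ B \ T := Finset.mem_sdiff.mpr ⟨(mB χ).mpr hi, hχ⟩
        rw [hB2, Finset.mem_insert, Finset.mem_singleton] at this
        tauto
      · have : χ ∈ C \ T := Finset.mem_sdiff.mpr ⟨(mC χ).mpr hi, hχ⟩
        rw [hC2, Finset.mem_insert, Finset.mem_singleton] at this
        tauto

end Cfsg.Agent.Ree.NumPattern
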