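import Mathlib

/-!
# S0343, numerical part: arithmetic of the pattern with seven rows
-/

set_option autoImplicit false

namespace Cfsg.Agent.Ree.SevenArith

/-- The polynomial obtained by eliminating `h` from the two class equations. -/
def F (Q w : ℤ) : ℤ :=
  ((Q + 1) ^ 3 * (1 + (Q - 1) * w) * w - Q * (2 + (Q - 1) * w) * (w - 1) ^ 2) *
      ((Q + 1) * (1 + (Q - 1) * w) * (2 * w + Q - 1) - Q * (2 * Q + 7) * (w - 1) ^ 2) +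
    4 * Q * (Q + 1) ^ 3 * (1 + (Q - 1) * w) * w * (w - 1) ^ 2

theorem F_def (Q w : ℤ) : F Q w =
  ((Q + 1) ^ 3 * (1 + (Q - 1) * w) * w - Q * (2 + (Q - 1) * w) * (w - 1) ^ 2) *
      ((Q + 1) * (1 + (Q - 1) * w) * (2 * w + Q - 1) - Q * (2 * Q + 7) * (w - 1) ^ 2) +
    4 * Q * (Q + 1) ^ 3 * (1 + (Q - 1) * w) * w * (w - 1) ^ 2 := rfl


theorem F_pp (s r : ℤ) (hs : 0 ≤ s) (hr : 0 ≤ r) : 0 < F (13 + s) (1 + r) := by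
  have e : F (13 + s) (1 + r) = ((1 * s ^ 7 + 96 * s ^ 6 + 3949 * s ^ 5 + 90230 * s ^ 4 + 1236760 * s ^ 3 + 10169264 * s ^ 2 + 46444944 * s ^ 1 + 90892256) + (3 * s ^ 7 + 288 * s ^ 6 + 11845 * s ^ 5 + 270552 * s ^ 4 + 3706472 * s ^ 3 + 30455264 * s ^ 2 + 138972624 * s ^ 1 + 271677952) * r ^ 1 + (3 * s ^ 7 + 288 * s ^ 6 + 11838 * s ^ 5 + 270072 * s ^ 4 + 3693310 * s ^ 3 + 30274860 * s ^ 2 + 137736648 * s ^ 1 + 268291856) * r ^ 2) +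
      r ^ 3 * ((7 * s ^ 3 + 268 * s ^ 2 + 3417 * s ^ 1 + 14508) * r ^ 2 - (4 * s ^ 5 + 270 * s ^ 4 + 7275 * s ^ 3 + 97808 * s ^ 2 + 656115 * s ^ 1 + 1756818) * r + (1 * s ^ 7 + 96 * s ^ 6 + 3938 * s ^ 5 + 89480 * s ^ 4 + 1216314 * s ^ 3 + 9890692 * s ^ 2 + 44548056 * s ^ 1 + 85728048)) := by
    rw [F_def]; ring
  have hc : 0 < 7 * s ^ 3 + 268 * s ^ 2 + 3417 * s ^ 1 + 14508 := by positivity
  have hd : 0 < 12 * s ^ 10 + 1600 * s ^ 9 + 95744 * s ^ 8 + 3386172 * s ^ 7 + 78384143 * s ^ 6 + 1240907596 * s ^ 5 + 13605890670 * s ^ 4 + 102018719940 * s ^ 3 + 500611331895 * s ^ 2 + 1451594461716 * s ^ 1 + 1888560596412 := by positivity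
  have h2 : 0 < (7 * s ^ 3 + 268 * s ^ 2 + 3417 * s ^ 1 + 14508) * r ^ 2 - (4 * s ^ 5 + 270 * s ^ 4 + 7275 * s ^ 3 + 97808 * s ^ 2 + 656115 * s ^ 1 + 1756818) * r + (1 * s ^ 7 + 96 * s ^ 6 + 3938 * s ^ 5 + 89480 * s ^ 4 + 1216314 * s ^ 3 + 9890692 * s ^ 2 + 44548056 * s ^ 1 + 85728048) := by
    have h4 : 4 * (7 * s ^ 3 + 268 * s ^ 2 + 3417 * s ^ 1 + 14508) * ((7 * s ^ 3 + 268 * s ^ 2 + 3417 * s ^ 1 + 14508) * r ^ 2 - (4 * s ^ 5 + 270 * s ^ 4 + 7275 * s ^ 3 + 97808 * s ^ 2 + 656115 * s ^ 1 + 1756818) * r + (1 * s ^ 7 + 96 * s ^ 6 + 3938 * s ^ 5 + 89480 * s ^ 4 + 1216314 * s ^ 3 + 9890692 * s ^ 2 + 44548056 * s ^ 1 + 85728048))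
        = (2 * (7 * s ^ 3 + 268 * s ^ 2 + 3417 * s ^ 1 + 14508) * r - (4 * s ^ 5 + 270 * s ^ 4 + 7275 * s ^ 3 + 97808 * s ^ 2 + 656115 * s ^ 1 + 1756818)) ^ 2 + (12 * s ^ 10 + 1600 * s ^ 9 + 95744 * s ^ 8 + 3386172 * s ^ 7 + 78384143 * s ^ 6 + 1240907596 * s ^ 5 + 13605890670 * s ^ 4 + 102018719940 * s ^ 3 + 500611331895 * s ^ 2 + 1451594461716 * s ^ 1 + 1888560596412) := by ring
    have h5 : 0 < 4 * (7 * s ^ 3 + 268 * s ^ 2 + 3417 * s ^ 1 + 14508) * ((7 * s ^ 3 + 268 * s ^ 2 + 3417 * s ^ 1 + 14508) * r ^ 2 - (4 * s ^ 5 + 270 * s ^ 4 + 7275 * s ^ 3 + 97808 * s ^ 2 + 656115 * s ^ 1 + 1756818) * r + (1 * s ^ 7 + 96 * s ^ 6 + 3938 * s ^ 5 + 89480 * s ^ 4 + 1216314 * s ^ 3 + 9890692 * s ^ 2 + 44548056 * s ^ 1 + 85728048)) := by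
      rw [h4]
      positivity
    exact (mul_pos_iff_of_pos_left (by positivity)).mp h5
  rw [e]
  have h3 : 0 ≤ r ^ 3 := by positivity
  have h6 := mul_nonneg h3 h2.le
  have h7 : 0 < (1 * s ^ 7 + 96 * s ^ 6 + 3949 * s ^ 5 + 90230 * s ^ 4 + 1236760 * s ^ 3 + 10169264 * s ^ 2 + 46444944 * s ^ 1 + 90892256) + (3 * s ^ 7 + 288 * s ^ 6 + 11845 * s ^ 5 + 270552 * s ^ 4 + 3706472 * s ^ 3 + 30455264 * s ^ 2 + 138972624 * s ^ 1 + 271677952) * r ^ 1 + (3 * s ^ 7 + 288 * s ^ 6 + 11838 * s ^ 5 + 270072 * s ^ 4 + 3693310 * s ^ 3 + 30274860 * s ^ 2 + 137736648 * s ^ 1 + 268291856) * r ^ 2 := by positivity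
  linarith


theorem F_pm (s r : ℤ) (hs : 0 ≤ s) (hr : 0 ≤ r) : 0 < -F (13 + s) (-1 - r) := by
  have e : -F (13 + s) (-1 - r) = (1 * s ^ 7 + 96 * s ^ 6 + 3957 * s ^ 5 + 90746 * s ^ 4 + 1250080 * s ^ 3 + 10340864 * s ^ 2 + 47545344 * s ^ 1 + 93693952) + (3 * s ^ 7 + 288 * s ^ 6 + 11877 * s ^ 5 + 272664 * s ^ 4 + 3762360 * s ^ 3 + 31195424 * s ^ 2 + 143871744 * s ^ 1 + 284625920) * r ^ 1 + (3 * s ^ 7 + 288 * s ^ 6 + 11886 * s ^ 5 + 273288 * s ^ 4 + 3779734 * s ^ 3 + 31438124 * s ^ 2 + 145571808 * s ^ 1 + 289400704) * r ^ 2 + (1 * s ^ 7 + 96 * s ^ 6 + 3970 * s ^ 5 + 91640 * s ^ 4 + 1274794 * s ^ 3 + 10683876 * s ^ 2 + 49933656 * s ^ 1 + 100362912) * r ^ 3 + (4 * s ^ 5 + 270 * s ^ 4 + 7345 * s ^ 3 + 100488 * s ^ 2 + 690285 * s ^ 1 + 1901898) * r ^ 4 + (7 * s ^ 3 + 268 * s ^ 2 + 3417 * s ^ 1 + 14508) * r ^ 5 := by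
    rw [F_def]; ring
  rw [e]
  positivity


theorem F_mp (s r : ℤ) (hs : 0 ≤ s) (hr : 0 ≤ r) : 0 < -F (-11 - s) (1 + r) := by
  have e : -F (-11 - s) (1 + r) = ((1 * s ^ 7 + 72 * s ^ 6 + 2221 * s ^ 5 + 38050 * s ^ 4 + 391000 * s ^ 3 + 2410000 * s ^ 2 + 8250000 * s ^ 1 + 12100000) + (3 * s ^ 7 + 216 * s ^ 6 + 6661 * s ^ 5 + 114048 * s ^ 4 + 1170920 * s ^ 3 + 7208800 * s ^ 2 + 24642000 * s ^ 1 + 36080000) * r ^ 1 + (3 * s ^ 7 + 216 * s ^ 6 + 6654 * s ^ 5 + 113688 * s ^ 4 + 1163518 * s ^ 3 + 7132740 * s ^ 2 + 24251400 * s ^ 1 + 35278000) * r ^ 2) +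
      r ^ 3 * ((7 * s ^ 3 + 236 * s ^ 2 + 2649 * s ^ 1 + 9900) * r ^ 2 - (4 * s ^ 5 + 210 * s ^ 4 + 4395 * s ^ 3 + 45832 * s ^ 2 + 238131 * s ^ 1 + 493110) * r + (1 * s ^ 7 + 72 * s ^ 6 + 2210 * s ^ 5 + 37480 * s ^ 4 + 379194 * s ^ 3 + 2287820 * s ^ 2 + 7618200 * s ^ 1 + 10794000)) := by
    rw [F_def]; ring
  have hc : 0 < 7 * s ^ 3 + 236 * s ^ 2 + 2649 * s ^ 1 + 9900 := by positivity
  have hd : 0 < 12 * s ^ 10 + 1280 * s ^ 9 + 61184 * s ^ 8 + 1725636 * s ^ 7 + 31796399 * s ^ 6 + 399848996 * s ^ 5 + 3474309390 * s ^ 4 + 20589159036 * s ^ 3 + 79602846999 * s ^ 2 + 181204389180 * s ^ 1 + 184284927900 := by positivity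
  have h2 : 0 < (7 * s ^ 3 + 236 * s ^ 2 + 2649 * s ^ 1 + 9900) * r ^ 2 - (4 * s ^ 5 + 210 * s ^ 4 + 4395 * s ^ 3 + 45832 * s ^ 2 + 238131 * s ^ 1 + 493110) * r + (1 * s ^ 7 + 72 * s ^ 6 + 2210 * s ^ 5 + 37480 * s ^ 4 + 379194 * s ^ 3 + 2287820 * s ^ 2 + 7618200 * s ^ 1 + 10794000) := by
    have h4 : 4 * (7 * s ^ 3 + 236 * s ^ 2 + 2649 * s ^ 1 + 9900) * ((7 * s ^ 3 + 236 * s ^ 2 + 2649 * s ^ 1 + 9900) * r ^ 2 - (4 * s ^ 5 + 210 * s ^ 4 + 4395 * s ^ 3 + 45832 * s ^ 2 + 238131 * s ^ 1 + 493110) * r + (1 * s ^ 7 + 72 * s ^ 6 + 2210 * s ^ 5 + 37480 * s ^ 4 + 379194 * s ^ 3 + 2287820 * s ^ 2 + 7618200 * s ^ 1 + 10794000))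
        = (2 * (7 * s ^ 3 + 236 * s ^ 2 + 2649 * s ^ 1 + 9900) * r - (4 * s ^ 5 + 210 * s ^ 4 + 4395 * s ^ 3 + 45832 * s ^ 2 + 238131 * s ^ 1 + 493110)) ^ 2 + (12 * s ^ 10 + 1280 * s ^ 9 + 61184 * s ^ 8 + 1725636 * s ^ 7 + 31796399 * s ^ 6 + 399848996 * s ^ 5 + 3474309390 * s ^ 4 + 20589159036 * s ^ 3 + 79602846999 * s ^ 2 + 181204389180 * s ^ 1 + 184284927900) := by ring
    have h5 : 0 < 4 * (7 * s ^ 3 + 236 * s ^ 2 + 2649 * s ^ 1 + 9900) * ((7 * s ^ 3 + 236 * s ^ 2 + 2649 * s ^ 1 + 9900) * r ^ 2 - (4 * s ^ 5 + 210 * s ^ 4 + 4395 * s ^ 3 + 45832 * s ^ 2 + 238131 * s ^ 1 + 493110) * r + (1 * s ^ 7 + 72 * s ^ 6 + 2210 * s ^ 5 + 37480 * s ^ 4 + 379194 * s ^ 3 + 2287820 * s ^ 2 + 7618200 * s ^ 1 + 10794000)) := by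
      rw [h4]
      positivity
    exact (mul_pos_iff_of_pos_left (by positivity)).mp h5
  rw [e]
  have h3 : 0 ≤ r ^ 3 := by positivity
  have h6 := mul_nonneg h3 h2.le
  have h7 : 0 < (1 * s ^ 7 + 72 * s ^ 6 + 2221 * s ^ 5 + 38050 * s ^ 4 + 391000 * s ^ 3 + 2410000 * s ^ 2 + 8250000 * s ^ 1 + 12100000) + (3 * s ^ 7 + 216 * s ^ 6 + 6661 * s ^ 5 + 114048 * s ^ 4 + 1170920 * s ^ 3 + 7208800 * s ^ 2 + 24642000 * s ^ 1 + 36080000) * r ^ 1 + (3 * s ^ 7 + 216 * s ^ 6 + 6654 * s ^ 5 + 113688 * s ^ 4 + 1163518 * s ^ 3 + 7132740 * s ^ 2 + 24251400 * s ^ 1 + 35278000) * r ^ 2 := by positivity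
  linarith


theorem F_mm (s r : ℤ) (hs : 0 ≤ s) (hr : 0 ≤ r) : 0 < F (-11 - s) (-1 - r) := by
  have e : F (-11 - s) (-1 - r) = (1 * s ^ 7 + 72 * s ^ 6 + 2229 * s ^ 5 + 38494 * s ^ 4 + 400864 * s ^ 3 + 2520064 * s ^ 2 + 8868864 * s ^ 1 + 13506560) + (3 * s ^ 7 + 216 * s ^ 6 + 6693 * s ^ 5 + 115776 * s ^ 4 + 1208376 * s ^ 3 + 7617184 * s ^ 2 + 26886912 * s ^ 1 + 41067520) * r ^ 1 + (3 * s ^ 7 + 216 * s ^ 6 + 6702 * s ^ 5 + 116232 * s ^ 4 + 1217686 * s ^ 3 + 7713028 * s ^ 2 + 27384864 * s ^ 1 + 42112640) * r ^ 2 + (1 * s ^ 7 + 72 * s ^ 6 + 2242 * s ^ 5 + 39160 * s ^ 4 + 414634 * s ^ 3 + 2663916 * s ^ 2 + 9629208 * s ^ 1 + 15134880) * r ^ 3 + (4 * s ^ 5 + 210 * s ^ 4 + 4465 * s ^ 3 + 48192 * s ^ 2 + 264621 * s ^ 1 + 592110) * r ^ 4 + (7 * s ^ 3 + 236 * s ^ 2 + 2649 * s ^ 1 + 9900) * r ^ 5 := by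
    rw [F_def]; ring
  rw [e]
  positivity


theorem F_ne_zero {Q w : ℤ} (hQ : 13 ≤ Q ∨ Q ≤ -11) (hw : w ≠ 0) : F Q w ≠ 0 := by
  intro h
  rcases hQ with hQ | hQ
  · obtain ⟨s, rfl⟩ : ∃ s, Q = 13 + s := ⟨Q - 13, by ring⟩
    rcases lt_or_gt_of_ne hw with hw | hw
    · obtain ⟨r, rfl⟩ : ∃ r, w = -1 - r := ⟨-1 - w, by ring⟩
      have := F_pm s r (by omega) (by omega)
      rw [h] at this; exact absurd this (by norm_num)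
    · obtain ⟨r, rfl⟩ : ∃ r, w = 1 + r := ⟨w - 1, by ring⟩
      have := F_pp s r (by omega) (by omega)
      rw [h] at this; exact absurd this (by norm_num)
  · obtain ⟨s, rfl⟩ : ∃ s, Q = -11 - s := ⟨-11 - Q, by ring⟩
    rcases lt_or_gt_of_ne hw with hw | hw
    · obtain ⟨r, rfl⟩ : ∃ r, w = -1 - r := ⟨-1 - w, by ring⟩
      have := F_mm s r (by omega) (by omega)
      rw [h] at this; exact absurd this (by norm_num)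
    · obtain ⟨r, rfl⟩ : ∃ r, w = 1 + r := ⟨w - 1, by ring⟩
      have := F_mp s r (by omega) (by omega)
      rw [h] at this; exact absurd this (by norm_num)

/-- The pattern with seven rows is impossible. `H`, `X`, `Y`, `D = 1 + 2 X` are the signed degrees,
`κ = (Q+1)³ / (2 H)`. -/
theorem seven_false {Q H X Y D w : ℤ} (hQ : 13 ≤ Q ∨ Q ≤ -11) (hX : 2 * X = (Q - 1) * w) (hX0 : X ≠ 0)
    (hD : D = 1 + 2 * X) (hH : H = 1 + Y + X) (hH0 : H ≠ 0) (hY0 : Y ≠ 0) (hD0 : D ≠ 0) (κ : ℚ)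
    (hκ : κ * (2 * H) = (Q + 1) ^ 3)
    (h0 : -1 + ((Q + 1) / 2 : ℚ) ^ 2 / H - (Q + 1) ^ 2 / Y - ((Q - 1) / 2 : ℚ) ^ 2 / X = κ * (-2 / (Q + 1) - 1))
    (h2 : -1 + (Q : ℚ) ^ 2 / D - 2 * (((Q - 1) / 2 : ℚ) ^ 2 / X) = κ * (1 / Q - 1)) : False := by
  have hw : w ≠ 0 := by
    rintro rfl
    apply hX0
    have : 2 * X = 0 := by rw [hX]; ring
    omega
  have hQ0 : (Q : ℚ) ≠ 0 := by
    intro h; have : Q = 0 := by exact_mod_cast h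
    omega
  have hQ1 : (Q : ℚ) + 1 ≠ 0 := by
    intro h; have : Q + 1 = 0 := by exact_mod_cast h
    omega
  have hQm : (Q : ℚ) - 1 ≠ 0 := by
    intro h; have : Q - 1 = 0 := by exact_mod_cast h
    omega
  have hHq : (H : ℚ) ≠ 0 := by exact_mod_cast hH0
  have hYq : (Y : ℚ) ≠ 0 := by exact_mod_cast hY0
  have hDq : (D : ℚ) ≠ 0 := by exact_mod_cast hD0
  have hwq : (w : ℚ) ≠ 0 := by exact_mod_cast hw
  have hXe : (X : ℚ) = (Q - 1) * w / 2 := by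
    have : (2 : ℚ) * X = (Q - 1) * w := by exact_mod_cast hX
    linarith
  have hDe : (D : ℚ) = 1 + (Q - 1) * w := by
    have : (D : ℚ) = 1 + 2 * X := by exact_mod_cast hD
    rw [this, hXe]; ring
  have hYe : (Y : ℚ) = H - 1 - (Q - 1) * w / 2 := by
    have : (H : ℚ) = 1 + Y + X := by exact_mod_cast hH
    rw [this, hXe]; ring
  have hκe : κ = (Q + 1) ^ 3 / (2 * H) := by
    rw [eq_div_iff (by positivity)]; exact hκ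
  -- (B')
  have hB : 2 * (H : ℚ) * Q * (w - 1) ^ 2 = (Q + 1) ^ 3 * D * w := by
    rw [hκe, hXe] at h2
    field_simp at h2
    rw [hDe] at h2 ⊢
    have h3 : (Q - 1 : ℚ) * (2 * (H : ℚ) * Q * (w - 1) ^ 2) = (Q - 1) * ((Q + 1) ^ 3 * (1 + (Q - 1) * w) * w) := by
      linear_combination (-1 : ℚ) * h2
    exact mul_left_cancel₀ hQm h3
  have hA : (4 : ℚ) * H * Y * w - (Q + 1) ^ 2 * Y * w + 4 * (Q + 1) ^ 2 * H * w + 2 * (Q - 1) * H * Y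
      = 2 * (Q + 1) ^ 2 * (Q + 3) * Y * w := by
    rw [hκe, hXe] at h0
    field_simp at h0
    linear_combination (-1 : ℚ) * h0
  rw [hDe] at hB
  rw [hYe] at hA
  have hF : (4 : ℚ) * (Q + 1) ^ 2 * w * (F Q w : ℤ) = 0 := by
    rw [F_def]
    push_cast
    linear_combination (2 * (2 * Q * (w - 1) ^ 2) ^ 2 : ℚ) * hA
      - ((8 * w + 4 * (Q - 1)) * ((Q + 1) ^ 3 * (1 + (Q - 1) * w) * w + H * (2 * Q * (w - 1) ^ 2))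
        + (-4 * w * (2 + (Q - 1) * w) - 2 * (Q + 1) ^ 2 * w + 8 * (Q + 1) ^ 2 * w
          + 2 * (Q - 1) * (-2 - (Q - 1) * w) - 4 * (Q + 1) ^ 2 * (Q + 3) * w) * (2 * Q * (w - 1) ^ 2) : ℚ) * hB
  have hF0 : ((F Q w : ℤ) : ℚ) ≠ 0 := by exact_mod_cast F_ne_zero hQ hw
  have : (4 : ℚ) * (Q + 1) ^ 2 * w * (F Q w : ℤ) ≠ 0 :=
    mul_ne_zero (mul_ne_zero (mul_ne_zero (by norm_num) (pow_ne_zero _ hQ1)) hwq) hF0
  exact this hF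

end Cfsg.Agent.Ree.SevenArith
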