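import Cfsg.Agent.Ree.NumCore
import Cfsg.Agent.Ree.NumPattern
import Cfsg.Agent.Ree.EightArith
import Cfsg.Agent.Ree.SevenArith

/-!
# S0343, numerical part: from the patterns to the arithmetic
-/

set_option autoImplicit false

namespace Cfsg.Agent.Ree.NumEight

open Finset Cfsg.Agent.Ree.Interface Cfsg.Agent.Ree.NumCore Cfsg.Agent.Ree.NumPattern

variable {ι : Type*} [Fintype ι] [DecidableEq ι] {Q : ℤ} {g : ℕ} {deg val : ι → ℤ} {r : Fin 3 → ι → ℤ}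
  {one : ι} {σ : ι ≃ ι} {k : ℕ} {a b : ι → ℤ}

section Transfer

variable {N : ℕ} {e : Fin N → ι} {δ p : Fin N → ℤ}

omit [Fintype ι] in
theorem tr_deg (hinj : Function.Injective e) (c : ι → ℤ) (C : Fin N → ℤ)
    (hc : ∀ j, c (e j) = δ j * C j) :
    ∑ χ ∈ univ.image e, c χ * deg χ = ∑ j, C j * (δ j * deg (e j)) := by
  rw [Finset.sum_image fun i _ j _ h => hinj h]
  exact Finset.sum_congr rfl fun j _ => by rw [hc]; ring

omit [Fintype ι] in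
theorem tr_val (hinj : Function.Injective e) (hδ : ∀ j, δ j = 1 ∨ δ j = -1)
    (hv : ∀ j, val (e j) = δ j * p j) (c : ι → ℤ) (C : Fin N → ℤ)
    (hc : ∀ j, c (e j) = δ j * C j) :
    ∑ χ ∈ univ.image e, c χ * val χ = ∑ j, C j * p j := by
  rw [Finset.sum_image fun i _ j _ h => hinj h]
  refine Finset.sum_congr rfl fun j _ => ?_
  rw [hc, hv]
  rcases hδ j with h | h <;> rw [h] <;> ring

omit [Fintype ι] in
theorem tr_class (hinj : Function.Injective e) (hδ : ∀ j, δ j = 1 ∨ δ j = -1)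
    (hv : ∀ j, val (e j) = δ j * p j) (c : ι → ℤ) (C : Fin N → ℤ)
    (hc : ∀ j, c (e j) = δ j * C j) :
    ∑ χ ∈ univ.image e, (c χ : ℚ) * (val χ : ℚ) ^ 2 / (deg χ : ℚ)
      = ∑ j, (C j : ℚ) * (p j : ℚ) ^ 2 / ((δ j * deg (e j) : ℤ) : ℚ) := by
  rw [Finset.sum_image fun i _ j _ h => hinj h]
  refine Finset.sum_congr rfl fun j _ => ?_
  rw [hc, hv]
  rcases hδ j with h | h <;> rw [h] <;> push_cast
  · ring
  · rw [neg_one_mul, neg_one_mul, neg_one_mul, div_neg]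
    ring

omit [Fintype ι] in
theorem tr_sq (hinj : Function.Injective e) (hδ : ∀ j, δ j = 1 ∨ δ j = -1) (c : ι → ℤ) (C : Fin N → ℤ)
    (hc : ∀ j, c (e j) = δ j * C j) :
    ∑ χ ∈ univ.image e, c χ ^ 2 = ∑ j, C j ^ 2 := by
  rw [Finset.sum_image fun i _ j _ h => hinj h]
  refine Finset.sum_congr rfl fun j _ => ?_
  rw [hc]
  rcases hδ j with h | h <;> rw [h] <;> ring

theorem full_sum {A : Type*} [AddCommMonoid A] (hmem : ∀ χ, (∃ i, r i χ ≠ 0) ↔ ∃ j, e j = χ) (f : ι → A)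
    (hf : ∀ χ, (∀ i, r i χ = 0) → f χ = 0) : ∑ χ, f χ = ∑ χ ∈ univ.image e, f χ := by
  symm
  refine Finset.sum_subset (Finset.subset_univ _) fun χ _ h => hf χ ?_
  intro i
  by_contra hi
  apply h
  rw [Finset.mem_image]
  obtain ⟨j, hj⟩ := (hmem χ).mp ⟨i, hi⟩
  exact ⟨j, Finset.mem_univ _, hj⟩

/-- all equations of `NumBase` in terms of the pattern -/
theorem base_eqs (hb : NumBase Q g deg val r one σ) (hinj : Function.Injective e)
    (hδ : ∀ j, δ j = 1 ∨ δ j = -1) (hmem : ∀ χ, (∃ i, r i χ ≠ 0) ↔ ∃ j, e j = χ)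
    (hv : ∀ j, val (e j) = δ j * p j) (R : Fin 3 → Fin N → ℤ) (hR : ∀ i j, r i (e j) = δ j * R i j) :
    (∀ i, ∑ j, R i j * (δ j * deg (e j)) = 0) ∧
    ∑ j, (R 0 j : ℚ) * (p j : ℚ) ^ 2 / ((δ j * deg (e j) : ℤ) : ℚ) = kappa Q g * (-2 / (Q + 1) - 1) ∧
    ∑ j, (R 1 j : ℚ) * (p j : ℚ) ^ 2 / ((δ j * deg (e j) : ℤ) : ℚ) = kappa Q g * (-2 / (Q + 1) - 1) ∧
    ∑ j, (R 2 j : ℚ) * (p j : ℚ) ^ 2 / ((δ j * deg (e j) : ℤ) : ℚ) = kappa Q g * (1 / Q - 1) := by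
  refine ⟨fun i => ?_, ?_, ?_, ?_⟩
  · rw [← tr_deg hinj (r i) (R i) (hR i), ← full_sum hmem (fun χ => r i χ * deg χ) (fun χ h => by rw [h, zero_mul])]
    exact hb.r_deg i
  · rw [← tr_class hinj hδ hv (r 0) (R 0) (hR 0),
      ← full_sum hmem (fun χ => (r 0 χ : ℚ) * (val χ : ℚ) ^ 2 / (deg χ : ℚ)) (fun χ h => by rw [h]; push_cast; ring)]
    exact hb.class0
  · rw [← tr_class hinj hδ hv (r 1) (R 1) (hR 1),
      ← full_sum hmem (fun χ => (r 1 χ : ℚ) * (val χ : ℚ) ^ 2 / (deg χ : ℚ)) (fun χ h => by rw [h]; push_cast; ring)]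
    exact hb.class1
  · rw [← tr_class hinj hδ hv (r 2) (R 2) (hR 2),
      ← full_sum hmem (fun χ => (r 2 χ : ℚ) * (val χ : ℚ) ^ 2 / (deg χ : ℚ)) (fun χ h => by rw [h]; push_cast; ring)]
    exact hb.class2

/-- all consequences of `NumTI` in terms of the pattern -/
theorem ti_eqs (hb : NumBase Q g deg val r one σ) (ht : NumTI Q g deg val r one σ k a b) (hQ : Q % 8 = 5)
    (hinj : Function.Injective e)
    (hδ : ∀ j, δ j = 1 ∨ δ j = -1) (hmem : ∀ χ, (∃ i, r i χ ≠ 0) ↔ ∃ j, e j = χ)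
    (hv : ∀ j, val (e j) = δ j * p j) (w : Fin N → ℤ) (hw : ∀ j, -r 0 (e j) - r 1 (e j) + r 2 (e j) = δ j * w j) :
    ∃ β : Fin N → ℤ, (∀ j, b (e j) = δ j * β j) ∧
      (∀ j, (β j = 0 ∧ (k : ℤ) ∣ δ j * deg (e j) - w j) ∨ β j = -w j) ∧ ∑ j, β j ^ 2 = 2 ∧
      ∃ D P : ℤ, D ≠ 0 ∧ D = -∑ j, β j * (δ j * deg (e j)) ∧ P = -∑ j, β j * p j ∧
      -∑ j, (β j : ℚ) * (p j : ℚ) ^ 2 / ((δ j * deg (e j) : ℤ) : ℚ) = (P : ℚ) ^ 2 / D ∧
      kappa Q g * D = (Q + 1) ^ 2 * (P - 2 * (Q + 1)) := by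
  have hβ : ∀ j, b (e j) = δ j * (δ j * b (e j)) := fun j => by
    rcases hδ j with h | h <;> rw [h] <;> ring
  obtain ⟨D, P, h0, hD, hP, hc, hk, hs⟩ := core hb ht hQ (univ.image e) (fun χ => by
    rw [hmem χ, Finset.mem_image]; simp)
  refine ⟨fun j => δ j * b (e j), hβ, fun j => ?_, ?_, D, P, h0, ?_, ?_, ?_, hk⟩
  · rcases ht.cases (e j) ((hmem _).mpr ⟨j, rfl⟩) with h | h
    · left
      refine ⟨by show δ j * b (e j) = 0; rw [h.2.1, mul_zero], ?_⟩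
      have h3 := h.2.2
      rw [hw] at h3
      rcases hδ j with h4 | h4 <;> rw [h4] at h3 ⊢
      · simpa using h3
      · have : (-1 : ℤ) * deg (e j) - w j = -(deg (e j) - -1 * w j) := by ring
        rw [this]
        exact (dvd_neg).mpr h3
    · right
      rw [hw] at h
      show δ j * b (e j) = -w j
      rw [h.2]
      rcases hδ j with h4 | h4 <;> rw [h4] <;> ring
  · rw [← tr_sq hinj hδ b _ hβ]; exact hs
  · rw [hD, tr_deg hinj b _ hβ]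
  · rw [hP, tr_val hinj hδ hv b _ hβ]
  · rw [← hc, tr_class hinj hδ hv b _ hβ]

end Transfer

omit [DecidableEq ι] in
theorem eight_vals (hb : NumBase Q g deg val r one σ) {e : Fin 8 → ι} {δ : Fin 8 → ℤ}
    (h : Eight r one e δ) {c : ℤ} (hc : 2 * c = -(Q + 1)) :
    ∀ j, val (e j) = δ j * (![1, 1, c, c, c, c, Q, Q] : Fin 8 → ℤ) j := by
  intro j
  have h1 := hb.val_eq (e j) ((h.mem _).mpr ⟨j, rfl⟩)
  rw [h.r0, h.r1, h.r2] at h1
  obtain rfl : Q = -2 * c - 1 := by linarith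
  fin_cases j <;> simp only [Fin.zero_eta, Fin.mk_one, Fin.reduceFinMk, Matrix.cons_val_zero,
    Matrix.cons_val_one, Matrix.cons_val] at h1 ⊢ <;> linarith

omit [Fintype ι] [DecidableEq ι] in
theorem eight_w {e : Fin 8 → ι} {δ : Fin 8 → ℤ} (h : Eight r one e δ) :
    ∀ j, -r 0 (e j) - r 1 (e j) + r 2 (e j) = δ j * (![1, 1, -1, -1, -1, -1, 1, 1] : Fin 8 → ℤ) j := by
  intro j
  rw [h.r0, h.r1, h.r2]
  fin_cases j <;> simp only [Fin.zero_eta, Fin.mk_one, Fin.reduceFinMk, Matrix.cons_val_zero,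
    Matrix.cons_val_one, Matrix.cons_val] <;> ring

/-- The permutation `σ` exchanges types 2 and 3. -/
theorem eight_gal (hb : NumBase Q g deg val r one σ) {e : Fin 8 → ι} {δ : Fin 8 → ℤ}
    (h : Eight r one e δ) :
    (σ (e 2) = e 4 ∧ δ 2 = δ 4 ∧ σ (e 3) = e 5 ∧ δ 3 = δ 5) ∨
      (σ (e 2) = e 5 ∧ δ 2 = δ 5 ∧ σ (e 3) = e 4 ∧ δ 3 = δ 4) := by
  have key : ∀ j : Fin 8, (j = 2 ∨ j = 3) → (σ (e j) = e 4 ∧ δ j = δ 4) ∨ (σ (e j) = e 5 ∧ δ j = δ 5) := by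
    intro j hj
    have e0 : r 0 (e j) = δ j := by
      rw [h.r0]; rcases hj with rfl | rfl <;> simp
    have e1 : r 1 (e j) = 0 := by
      rw [h.r1]; rcases hj with rfl | rfl <;> simp
    have e2 : r 2 (e j) = 0 := by
      rw [h.r2]; rcases hj with rfl | rfl <;> simp
    have s0 : r 0 (σ (e j)) = 0 := by rw [hb.gal0, e1]
    have s1 : r 1 (σ (e j)) = δ j := by rw [hb.gal1, e0]
    have s2 : r 2 (σ (e j)) = 0 := by rw [hb.gal2, e2]
    have hδj : δ j ≠ 0 := by rcases h.δ_sq j with h | h <;> rw [h] <;> norm_num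
    obtain ⟨i, hi⟩ := (h.mem (σ (e j))).mp ⟨1, by rw [s1]; exact hδj⟩
    rw [← hi] at s0 s1 s2 ⊢
    rw [h.r0] at s0
    rw [h.r1] at s1
    rw [h.r2] at s2
    have hδi := h.δ_sq i
    fin_cases i <;> simp only [Fin.zero_eta, Fin.mk_one, Fin.reduceFinMk, Matrix.cons_val_zero,
      Matrix.cons_val_one, Matrix.cons_val] at s0 s1 s2 hδi
    · omega
    · omega
    · omega
    · omega
    · left; exact ⟨rfl, by omega⟩
    · right; exact ⟨rfl, by omega⟩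
    · omega
    · omega
  have n23 : e 2 ≠ e 3 := fun h23 => absurd (h.inj h23) (by decide)
  rcases key 2 (Or.inl rfl) with h2 | h2 <;> rcases key 3 (Or.inr rfl) with h3 | h3
  · exact absurd (σ.injective (h2.1.trans h3.1.symm)) n23
  · exact Or.inl ⟨h2.1, h2.2, h3.1, h3.2⟩
  · exact Or.inr ⟨h2.1, h2.2, h3.1, h3.2⟩
  · exact absurd (σ.injective (h2.1.trans h3.1.symm)) n23

/-- One prime, eight pattern. -/
theorem eight_step (hb : NumBase Q g deg val r one σ) (ht : NumTI Q g deg val r one σ k a b) (hQ8 : Q % 8 = 5)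
    (hQ : 13 ≤ Q ∨ Q ≤ -11) {e : Fin 8 → ι} {δ : Fin 8 → ℤ} (h : Eight r one e δ)
    {M X2 X3 X6 X7 : ℤ} (hM : M = δ 1 * deg (e 1)) (h2 : X2 = δ 2 * deg (e 2)) (h3 : X3 = δ 3 * deg (e 3))
    (h6 : X6 = δ 6 * deg (e 6)) (h7 : X7 = δ 7 * deg (e 7))
    (hM0 : M ≠ 0) (h20 : X2 ≠ 0) (h30 : X3 ≠ 0) (h60 : X6 ≠ 0) (h70 : X7 ≠ 0)
    (hs2 : X2 + X3 = M + 1) (hs6 : X6 + X7 = M + 1)
    (c0 : -1 - 1 / (M : ℚ) + ((Q + 1) / 2 : ℚ) ^ 2 / X2 + ((Q + 1) / 2 : ℚ) ^ 2 / X3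
      = kappa Q g * (-2 / (Q + 1) - 1))
    (c2 : -1 - 1 / (M : ℚ) + (Q : ℚ) ^ 2 / X6 + (Q : ℚ) ^ 2 / X7 = kappa Q g * (1 / Q - 1)) :
    (M = -(Q ^ 2 + Q + 1) ∧ 12 * (X2 * X3) = Q * (Q + 1) ^ 2 * (Q ^ 2 + Q + 1) ∧
      kappa Q g * (Q ^ 2 + Q + 1) = (Q + 1) ^ 2) ∨
    (∃ Xs Xo : ℤ, ((Xs = X2 ∧ Xo = X3) ∨ (Xs = X3 ∧ Xo = X2)) ∧ kappa Q g * (2 * Xs) = (Q + 1) ^ 3 ∧
      (k : ℤ) ∣ M - 1 ∧ (k : ℤ) ∣ Xs - 3) := by
  obtain ⟨c, hc⟩ : ∃ c, 2 * c = -(Q + 1) := ⟨-(Q + 1) / 2, by omega⟩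
  obtain ⟨β, hβ, hcase, hsq, D, P, hD0, hD, hP, hcl, hk⟩ :=
    ti_eqs hb ht hQ8 h.inj h.δ_sq h.mem (eight_vals hb h hc) _ (eight_w h)
  have hβ0 : β 0 = 0 := by
    have h1 := hβ 0
    rw [h.zero, ht.b_one, h.δ_zero] at h1
    omega
  have g1 := hcase 1
  have g2 := hcase 2
  have g3 := hcase 3
  have g4 := hcase 4
  have g5 := hcase 5
  have g6 := hcase 6
  have g7 := hcase 7
  simp only [Matrix.cons_val_one, Matrix.cons_val] at g1 g2 g3 g4 g5 g6 g7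
  rw [← hM] at g1
  rw [← h2] at g2
  rw [← h3] at g3
  rw [← h6] at g6
  rw [← h7] at g7
  -- Galois
  have hcan : ∀ (x y z : ℤ), (z = 1 ∨ z = -1) → z * x = z * y → x = y := by
    intro x y z hz hxy
    rcases hz with rfl | rfl <;> omega
  have hgal : (β 4 = β 2 ∧ δ 4 * deg (e 4) = X2 ∧ β 5 = β 3 ∧ δ 5 * deg (e 5) = X3) ∨
      (β 4 = β 3 ∧ δ 4 * deg (e 4) = X3 ∧ β 5 = β 2 ∧ δ 5 * deg (e 5) = X2) := by
    rcases eight_gal hb h with ⟨s2, d2, s3, d3⟩ | ⟨s2, d2, s3, d3⟩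
    · left
      have q2 := hb.gal_deg (e 2)
      have q3 := hb.gal_deg (e 3)
      have b2 := ht.gal_b (e 2)
      have b3 := ht.gal_b (e 3)
      rw [s2] at q2 b2
      rw [s3] at q3 b3
      refine ⟨?_, by rw [q2, ← d2, h2], ?_, by rw [q3, ← d3, h3]⟩
      · rw [hβ, hβ, d2] at b2
        exact hcan _ _ _ (h.δ_sq 4) b2
      · rw [hβ, hβ, d3] at b3
        exact hcan _ _ _ (h.δ_sq 5) b3
    · right
      have q2 := hb.gal_deg (e 2)
      have q3 := hb.gal_deg (e 3)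
      have b2 := ht.gal_b (e 2)
      have b3 := ht.gal_b (e 3)
      rw [s2] at q2 b2
      rw [s3] at q3 b3
      refine ⟨?_, by rw [q3, ← d3, h3], ?_, by rw [q2, ← d2, h2]⟩
      · rw [hβ, hβ, d3] at b3
        exact hcan _ _ _ (h.δ_sq 4) b3
      · rw [hβ, hβ, d2] at b2
        exact hcan _ _ _ (h.δ_sq 5) b2
  rw [Fin.sum_univ_eight] at hsq hD hP hcl
  simp only [Matrix.cons_val_zero, Matrix.cons_val_one, Matrix.cons_val] at hsq hD hP hcl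
  rw [← hM, ← h2, ← h3, ← h6, ← h7, hβ0] at hD hcl
  rw [hβ0] at hsq hP
  have hsq' : β 1 ^ 2 + 2 * β 2 ^ 2 + 2 * β 3 ^ 2 + β 6 ^ 2 + β 7 ^ 2 = 2 := by
    rcases hgal with ⟨q1, q2, q3, q4⟩ | ⟨q1, q2, q3, q4⟩ <;> rw [q1, q3] at hsq <;> linarith
  have hD' : D = -(β 1 * M + 2 * β 2 * X2 + 2 * β 3 * X3 + β 6 * X6 + β 7 * X7) := by
    rcases hgal with ⟨q1, q2, q3, q4⟩ | ⟨q1, q2, q3, q4⟩ <;> rw [q1, q2, q3, q4] at hD <;> linarith
  have hP' : P = -(β 1 + 2 * β 2 * c + 2 * β 3 * c + β 6 * Q + β 7 * Q) := by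
    rcases hgal with ⟨q1, q2, q3, q4⟩ | ⟨q1, q2, q3, q4⟩ <;> rw [q1, q3] at hP <;> linarith
  have hcl' : -((β 1 : ℚ) / M + β 6 * (Q : ℚ) ^ 2 / X6 + β 7 * (Q : ℚ) ^ 2 / X7
      + 2 * ((β 2 : ℚ) * (c : ℚ) ^ 2 / X2) + 2 * ((β 3 : ℚ) * (c : ℚ) ^ 2 / X3)) = (P : ℚ) ^ 2 / D := by
    rw [← hcl]
    rcases hgal with ⟨q1, q2, q3, q4⟩ | ⟨q1, q2, q3, q4⟩ <;> rw [q1, q2, q3, q4] <;> push_cast <;> ring
  clear hcl hD hP hsq hgal
  have hcq : (c : ℚ) = -(Q + 1) / 2 := by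
    have : (2 * c : ℤ) = -(Q + 1) := hc
    have h4 : ((2 * c : ℤ) : ℚ) = ((-(Q + 1) : ℤ) : ℚ) := by rw [this]
    push_cast at h4
    linarith
  have hk2 : β 2 = 0 ∨ β 2 = 1 := by
    rcases g2 with h | h
    · exact Or.inl h.1
    · right; rw [h]; norm_num
  have hk3 : β 3 = 0 ∨ β 3 = 1 := by
    rcases g3 with h | h
    · exact Or.inl h.1
    · right; rw [h]; norm_num
  have nn1 := sq_nonneg (β 1)
  have nn6 := sq_nonneg (β 6)
  have nn7 := sq_nonneg (β 7)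
  rcases hk2 with b2 | b2 <;> rcases hk3 with b3 | b3
  · -- β 2 = β 3 = 0
    left
    rw [b2, b3] at hsq' hD' hP' hcl'
    have hk1 : β 1 = 0 ∨ β 1 = -1 := by
      rcases g1 with h | h
      · exact Or.inl h.1
      · exact Or.inr h
    have hk6 : β 6 = 0 ∨ β 6 = -1 := by
      rcases g6 with h | h
      · exact Or.inl h.1
      · exact Or.inr h
    have hk7 : β 7 = 0 ∨ β 7 = -1 := by
      rcases g7 with h | h
      · exact Or.inl h.1
      · exact Or.inr h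
    rcases hk1 with z1 | z1 <;> rcases hk6 with z6 | z6 <;> rcases hk7 with z7 | z7 <;>
      rw [z1, z6, z7] at hsq' hD' hP' hcl'
    · exfalso; norm_num at hsq'
    · exfalso; norm_num at hsq'
    · exfalso; norm_num at hsq'
    · -- {4, 4'}
      exfalso
      have e1 : D = X6 + X7 := by rw [hD']; ring
      have e2 : P = 2 * Q := by rw [hP']; ring
      rw [e1, e2] at hcl' hk
      rw [e1] at hD0
      push_cast at hcl' hk
      refine EightArith.caseFour_false hQ8 hM0 hs6 (kappa Q g) c2 hD0 ?_ hk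
      rw [← hcl']; ring
    · exfalso; norm_num at hsq'
    · -- {1', 4'}
      have e1 : D = M + X7 := by rw [hD']; ring
      have e2 : P = 1 + Q := by rw [hP']; ring
      rw [e1, e2] at hcl' hk
      rw [e1] at hD0
      push_cast at hcl' hk
      refine EightArith.caseOne hQ hM0 h20 h30 h70 h60 hs2 (by linarith) (kappa Q g) c0 (by linarith) hD0 ?_ hk
      rw [← hcl']; ring
    · -- {1', 4}
      have e1 : D = M + X6 := by rw [hD']; ring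
      have e2 : P = 1 + Q := by rw [hP']; ring
      rw [e1, e2] at hcl' hk
      rw [e1] at hD0
      push_cast at hcl' hk
      refine EightArith.caseOne hQ hM0 h20 h30 h60 h70 hs2 hs6 (kappa Q g) c0 c2 hD0 ?_ hk
      rw [← hcl']; ring
    · exfalso; norm_num at hsq'
  · right
    rw [b2, b3] at hsq' hD' hP' hcl'
    have z1 : β 1 = 0 := pow_eq_zero_iff (two_ne_zero) |>.mp (by linarith)
    have z6 : β 6 = 0 := pow_eq_zero_iff (two_ne_zero) |>.mp (by linarith)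
    have z7 : β 7 = 0 := pow_eq_zero_iff (two_ne_zero) |>.mp (by linarith)
    rw [z1, z6, z7] at hD' hP'
    refine ⟨X3, X2, Or.inr ⟨rfl, rfl⟩, ?_, ?_, ?_⟩
    · have e1 : (D : ℚ) = -(2 * X3) := by rw [hD']; push_cast; ring
      have e2 : (P : ℚ) = Q + 1 := by rw [hP']; push_cast; rw [hcq]; ring
      rw [e1, e2] at hk
      linarith
    · rcases g1 with g1 | g1
      · exact g1.2
      · rw [z1] at g1; norm_num at g1
    · rcases g2 with g2 | g2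
      · have g1' : (k : ℤ) ∣ M - 1 := by
          rcases g1 with g1 | g1
          · exact g1.2
          · rw [z1] at g1; norm_num at g1
        have : X3 - 3 = (M - 1) - (X2 - -1) := by linarith
        rw [this]
        exact dvd_sub g1' g2.2
      · rw [b2] at g2; norm_num at g2
  · right
    rw [b2, b3] at hsq' hD' hP' hcl'
    have z1 : β 1 = 0 := pow_eq_zero_iff (two_ne_zero) |>.mp (by linarith)
    have z6 : β 6 = 0 := pow_eq_zero_iff (two_ne_zero) |>.mp (by linarith)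
    have z7 : β 7 = 0 := pow_eq_zero_iff (two_ne_zero) |>.mp (by linarith)
    rw [z1, z6, z7] at hD' hP'
    refine ⟨X2, X3, Or.inl ⟨rfl, rfl⟩, ?_, ?_, ?_⟩
    · have e1 : (D : ℚ) = -(2 * X2) := by rw [hD']; push_cast; ring
      have e2 : (P : ℚ) = Q + 1 := by rw [hP']; push_cast; rw [hcq]; ring
      rw [e1, e2] at hk
      linarith
    · rcases g1 with g1 | g1
      · exact g1.2
      · rw [z1] at g1; norm_num at g1
    · rcases g3 with g3 | g3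
      · have g1' : (k : ℤ) ∣ M - 1 := by
          rcases g1 with g1 | g1
          · exact g1.2
          · rw [z1] at g1; norm_num at g1
        have : X2 - 3 = (M - 1) - (X3 - -1) := by linarith
        rw [this]
        exact dvd_sub g1' g3.2
      · rw [b3] at g3; norm_num at g3
  · exfalso
    rw [b2, b3] at hsq'
    linarith

end Cfsg.Agent.Ree.NumEight
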