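import Cfsg.Agent.Classification.BSW.CharMain

/-!
# The irreducible characters in the Brauer-Suzuki-Wall configuration

All irreducible characters which are not constant multiples of the regular character on the
subgroup `A`: `1`, `φ` of degree `2|A|+δ`, the two halves `χ₁, χ₂` of degree `|A|+δ` and the
exceptional characters of degree `2(|A|+δ)`.
-/

set_option autoImplicit false

open scoped ComplexConjugate
open Cfsg

namespace Cfsg.Agent.Ree.PSLCharA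

open Cfsg.Agent.Characters.Core Cfsg.Agent.Characters.Linear Cfsg.Agent.Characters.ClassMul
open Cfsg.Agent.Classification.BSW.Setup Cfsg.Agent.Classification.BSW.Theta
open Cfsg.Agent.Classification.BSW.BetaSum Cfsg.Agent.Classification.BSW.SqSum
open Cfsg.Agent.Classification.BSW.Good Cfsg.Agent.Classification.BSW.Order

variable {G : Type*} [Group G] [Fintype G] {A : Subgroup G} {t s : G}

theorem sum_inv_eq_zero [Fintype A] (l : A →* ℂˣ) (hl : l ≠ 1) :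
    ∑ a : A, (((l a)⁻¹ : ℂˣ) : ℂ) = 0 := by
  have h5 := sum_apply l
  rw [if_neg hl] at h5
  have h6 : ∑ a : A, (((l a)⁻¹ : ℂˣ) : ℂ) = conj (∑ a : A, (l a : ℂ)) := by
    rw [map_sum]
    refine Finset.sum_congr rfl (fun a _ => ?_)
    rw [conj_hom]
  rw [h6, h5, map_zero]

/-- multiplicities for a character which is constant on `A \ {1}` -/
theorem v_of_const (φ : IrrCharacter G) (c : ℤ)
    (hc : ∀ a ∈ A, a ≠ 1 → (φ : G → ℂ) a = c) (l : A →* ℂˣ) (hl : l ≠ 1) : v l φ = c := by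
  classical
  have hm : (Nat.card A : ℂ) ≠ 0 := card_ne_zero_complex
  have h1 : (v l φ : ℂ) = c := by
    rw [v_eq']
    have e1 : ∀ a : A, (1 - (((l a)⁻¹ : ℂˣ) : ℂ)) * ((φ : G → ℂ) a) =
        (1 - (((l a)⁻¹ : ℂˣ) : ℂ)) * c := by
      intro a
      by_cases ha : a = 1
      · subst ha; simp
      · rw [hc a a.2 (fun h1 => ha (Subtype.ext h1))]
    rw [Finset.sum_congr rfl (fun a _ => e1 a), ← Finset.sum_mul, Finset.sum_sub_distrib,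
      sum_inv_eq_zero l hl, Finset.sum_const, Finset.card_univ, ← Nat.card_eq_fintype_card,
      nsmul_eq_mul]
    field_simp
    ring
  exact_mod_cast h1

variable (h : BSWData A t s)
include h

variable [Fintype (IrrCharacter G)] [Fintype (A →* ℂˣ)]

/-- The two constituents of `θ_l` for `l` of order two. -/
theorem exists_halves (hm : 4 ≤ Nat.card A) (φ : IrrCharacter G) (hφ : φ ≠ one) (δ : ℤ)
    (hδ : δ ^ 2 = 1) (hA : ∀ a ∈ A, a ≠ 1 → (φ : G → ℂ) a = δ)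
    (l : A →* ℂˣ) (hl : l ≠ 1) (hll : l * l = 1) :
    ∃ χ₁ χ₂ : IrrCharacter G, χ₁ ≠ χ₂ ∧ χ₁ ≠ one ∧ χ₂ ≠ one ∧ χ₁ ≠ φ ∧ χ₂ ≠ φ ∧
      v l χ₁ ^ 2 = 1 ∧ v l χ₂ ^ 2 = 1 ∧
      (v l χ₁ : ℂ) * (χ₁ : G → ℂ) 1 = -(1 + (δ : ℂ) * (φ : G → ℂ) 1) / 2 ∧
      (v l χ₂ : ℂ) * (χ₂ : G → ℂ) 1 = -(1 + (δ : ℂ) * (φ : G → ℂ) 1) / 2 ∧
      (∀ a : A, a ≠ 1 → (χ₁ : G → ℂ) a = -(l a : ℂ) * v l χ₁) ∧
      (∀ a : A, a ≠ 1 → (χ₂ : G → ℂ) a = -(l a : ℂ) * v l χ₂) ∧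
      (∀ m : A →* ℂˣ, m ≠ l → v m χ₁ = 0) ∧ (∀ m : A →* ℂˣ, m ≠ l → v m χ₂ = 0) ∧
      (∀ F : IrrCharacter G → ℂ, ∑ χ, (v l χ : ℂ) * F χ =
        F one + δ * F φ + v l χ₁ * F χ₁ + v l χ₂ * F χ₂) := by
  classical
  have hall : ∀ l : A →* ℂˣ, l ≠ 1 → v l φ = δ := v_of_const φ δ hA
  have hδ' : (δ : ℂ) ^ 2 = 1 := by exact_mod_cast hδ
  have hδ0 : (δ : ℂ) ≠ 0 := by intro h0; rw [h0] at hδ'; norm_num at hδ'
  have hφt : (φ : G → ℂ) t = δ := hA t h.t_mem h.t_ne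
  have hx : (δ : ℂ) * (φ : G → ℂ) t = 1 := by rw [hφt]; linear_combination hδ'
  obtain ⟨hX1, hκ⟩ := kappa h hm φ hφ δ hδ hx hall
  have hg : (Nat.card G : ℂ) ≠ 0 := card_ne_zero_complex
  have hf0 : (φ : G → ℂ) 1 ≠ 0 := isIrr_apply_one_ne_zero φ.2
  obtain ⟨ψ3, ψ4, p1, p2, p3, p4, p5, p6, p7, p8, p9⟩ := fourth
      (fun χ : IrrCharacter G => v l χ) one φ hφ (v_one l hl) (by rw [hall l hl]; exact hδ)
      (norm_four h l hl hll)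
  have hz : ∀ m : A →* ℂˣ, m * m ≠ 1 → v m ψ3 = 0 ∧ v m ψ4 = 0 := by
    intro m hmm
    have hm1 : m ≠ 1 := by rintro rfl; exact hmm one_mul_one'
    have hlm : l ≠ m := by rintro rfl; exact hmm hll
    have hlm' : l * m ≠ 1 := by
      intro h1
      apply hlm
      ext a
      have h2 := DFunLike.congr_fun h1 a
      have h3 := DFunLike.congr_fun hll a
      rw [MonoidHom.mul_apply, MonoidHom.one_apply] at h2 h3
      have : l a = m a := mul_left_cancel (h3.trans h2.symm)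
      rw [this]
    have h1 := sum_v_mul_v h l m hl hm1
    rw [if_neg hlm, if_neg hlm'] at h1
    have h2 := p9 (fun χ => (v m χ : ℂ))
    have h2' : ∑ χ : IrrCharacter G, v l χ * v m χ = v m one + v l φ * v m φ +
        v l ψ3 * v m ψ3 + v l ψ4 * v m ψ4 := by exact_mod_cast h2
    rw [h1, v_one m hm1, hall l hl, hall m hm1] at h2'
    have h3 : v l ψ3 * v m ψ3 + v l ψ4 * v m ψ4 = 0 := by nlinarith
    obtain ⟨ω, r1, r2, r3, r4, -⟩ := rel h m hmm φ hφ (by rw [hall m hm1]; exact hδ)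
    have hne3 : v l ψ3 ≠ 0 := by intro h0; rw [h0] at p6; norm_num at p6
    have hne4 : v l ψ4 ≠ 0 := by intro h0; rw [h0] at p7; norm_num at p7
    by_cases h4 : ψ3 = ω
    · have h5 : v m ψ4 = 0 := r4 ψ4 p3 p4 (by rw [← h4]; exact Ne.symm p5)
      rw [h5, mul_zero, add_zero] at h3
      exact ⟨(mul_eq_zero.1 h3).resolve_left hne3, h5⟩
    · have h5 : v m ψ3 = 0 := r4 ψ3 p1 p2 h4
      rw [h5, mul_zero, zero_add] at h3
      exact ⟨h5, (mul_eq_zero.1 h3).resolve_left hne4⟩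
  obtain ⟨τ, hτ1, hτ2, hτ⟩ := exists_tau h
  have hlτ : l = τ := (hτ l hll).resolve_left hl
  have hzz : ∀ ψ : IrrCharacter G, (∀ m : A →* ℂˣ, m * m ≠ 1 → v m ψ = 0) →
      ∀ m : A →* ℂˣ, m ≠ l → v m ψ = 0 := by
    intro ψ hψ m hml
    by_cases hmm : m * m = 1
    · rcases hτ m hmm with h4 | h4
      · rw [h4, v_trivial]
      · exact absurd (h4.trans hlτ.symm) hml
    · exact hψ m hmm
  have hval : ∀ ψ : IrrCharacter G, (∀ m : A →* ℂˣ, m ≠ l → v m ψ = 0) →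
      ∀ a : A, a ≠ 1 → (ψ : G → ℂ) a = -(l a : ℂ) * (v l ψ : ℂ) := by
    intro ψ hψ a ha
    rw [char_eq h ψ a ha]
    have h1 : ∀ m : A →* ℂˣ, (m a : ℂ) * (v m ψ : ℂ) =
        if m = l then (l a : ℂ) * (v l ψ : ℂ) else 0 := by
      intro m
      by_cases hml : m = l
      · rw [if_pos hml, hml]
      · rw [if_neg hml, hψ m hml]; simp
    rw [Finset.sum_congr rfl (fun m _ => h1 m), Finset.sum_ite_eq', if_pos (Finset.mem_univ _)]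
    ring
  have z3 := hzz ψ3 (fun m hmm => (hz m hmm).1)
  have z4 := hzz ψ4 (fun m hmm => (hz m hmm).2)
  have h3t : (ψ3 : G → ℂ) t = -(l ⟨t, h.t_mem⟩ : ℂ) * (v l ψ3 : ℂ) :=
    hval ψ3 z3 ⟨t, h.t_mem⟩ (T_ne h)
  have h4t : (ψ4 : G → ℂ) t = -(l ⟨t, h.t_mem⟩ : ℂ) * (v l ψ4 : ℂ) :=
    hval ψ4 z4 ⟨t, h.t_mem⟩ (T_ne h)
  have q1 : (0 : ℂ) = 1 + δ * (φ : G → ℂ) 1 + (v l ψ3 : ℂ) * (ψ3 : G → ℂ) 1 +
      (v l ψ4 : ℂ) * (ψ4 : G → ℂ) 1 := by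
    have := p9 (fun χ => (χ : G → ℂ) 1)
    rw [← theta_eq_sum l (1 : G), theta_eq_zero l (by simp), hall l hl] at this
    exact this
  have q3 := sum_v_beta h l hl
  rw [p9 (fun χ => (χ : G → ℂ) t ^ 2 / (χ : G → ℂ) 1), hall l hl] at q3
  simp only [one_apply] at q3
  have e3 : ((v l ψ3 : ℤ) : ℂ) ^ 2 = 1 := by exact_mod_cast p6
  have e4 : ((v l ψ4 : ℤ) : ℂ) ^ 2 = 1 := by exact_mod_cast p7
  have f3 : (v l ψ3 : ℂ) ≠ 0 := by intro h0; rw [h0] at e3; norm_num at e3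
  have f4 : (v l ψ4 : ℂ) ≠ 0 := by intro h0; rw [h0] at e4; norm_num at e4
  have g3 : (ψ3 : G → ℂ) 1 ≠ 0 := isIrr_apply_one_ne_zero ψ3.2
  have g4 : (ψ4 : G → ℂ) 1 ≠ 0 := isIrr_apply_one_ne_zero ψ4.2
  have hl2 := l_t_sq h l
  -- the two degrees agree
  have hpp : ∀ F : IrrCharacter G → ℂ, ∑ χ, (v l χ : ℂ) * F χ =
        F one + δ * F φ + v l ψ3 * F ψ3 + v l ψ4 * F ψ4 := by
    intro F
    rw [p9 F, hall l hl]
  set Z3 := (v l ψ3 : ℂ) * (ψ3 : G → ℂ) 1 with hZ3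
  set Z4 := (v l ψ4 : ℂ) * (ψ4 : G → ℂ) 1 with hZ4
  set X := (δ : ℂ) * (φ : G → ℂ) 1 with hX
  have hZ30 : Z3 ≠ 0 := mul_ne_zero f3 g3
  have hZ40 : Z4 ≠ 0 := mul_ne_zero f4 g4
  have hX0 : X ≠ 0 := mul_ne_zero hδ0 hf0
  have hψ31 : (ψ3 : G → ℂ) 1 = (v l ψ3 : ℂ) * Z3 := by
    linear_combination (-(v l ψ3 : ℂ)) * hZ3 - (ψ3 : G → ℂ) 1 * e3
  have hψ41 : (ψ4 : G → ℂ) 1 = (v l ψ4 : ℂ) * Z4 := by
    linear_combination (-(v l ψ4 : ℂ)) * hZ4 - (ψ4 : G → ℂ) 1 * e4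
  have hφ1 : (φ : G → ℂ) 1 = δ * X := by
    linear_combination (-(δ : ℂ)) * hX - (φ : G → ℂ) 1 * hδ'
  have q4 : 1 / Z3 + 1 / Z4 = -4 / (1 + X) := by
    have h1 := mul_left_cancel₀ hg (q3.trans hκ.symm)
    rw [h3t, h4t, hφt, hψ31, hψ41, hφ1] at h1
    have a1 : (v l ψ3 : ℂ) * ((-(l ⟨t, h.t_mem⟩ : ℂ) * (v l ψ3 : ℂ)) ^ 2 / ((v l ψ3 : ℂ) * Z3)) =
        1 / Z3 := by
      field_simp
      linear_combination (l ⟨t, h.t_mem⟩ : ℂ) ^ 2 * e3 + hl2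
    have a2 : (v l ψ4 : ℂ) * ((-(l ⟨t, h.t_mem⟩ : ℂ) * (v l ψ4 : ℂ)) ^ 2 / ((v l ψ4 : ℂ) * Z4)) =
        1 / Z4 := by
      field_simp
      linear_combination (l ⟨t, h.t_mem⟩ : ℂ) ^ 2 * e4 + hl2
    have a3 : (δ : ℂ) * ((δ : ℂ) ^ 2 / (δ * X)) = 1 / X := by
      field_simp
      linear_combination hδ'
    rw [a1, a2, a3] at h1
    rw [neg_div]
    linear_combination h1
  have q5 : Z3 = Z4 := by
    have h1 : Z3 + Z4 = -(1 + X) := by linear_combination -q1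
    field_simp at q4
    have h2 : (Z3 - Z4) ^ 2 = 0 := by
      have h3 : (1 + X) * (Z3 + Z4) = -4 * (Z3 * Z4) := by linear_combination q4
      have h4 : 1 + X = -(Z3 + Z4) := by linear_combination h1
      rw [h4] at h3
      linear_combination -h3
    have := pow_eq_zero_iff (two_ne_zero) |>.1 h2
    linear_combination this
  have q6 : Z3 = -(1 + X) / 2 := by
    rw [← q5] at q1
    linear_combination -q1 / 2
  have q6' : Z4 = -(1 + X) / 2 := by rw [← q5]; exact q6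
  exact ⟨ψ3, ψ4, p5, p1, p3, p2, p4, p6, p7, q6, q6', hval ψ3 z3, hval ψ4 z4, z3, z4, hpp⟩

omit h [Fintype (IrrCharacter G)] [Fintype (A →* ℂˣ)] in
/-- The irreducible characters not constant multiples of the regular character on `A`. -/
structure TabA (A : Subgroup G) (δ : ℤ) (φ χ₁ χ₂ : IrrCharacter G) (l0 : A →* ℂˣ)
    (f : (A →* ℂˣ) → IrrCharacter G) : Prop where
  δ_cases : δ = 1 ∨ δ = -1
  card_ge : 4 ≤ Nat.card A
  φ_ne : φ ≠ one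
  χ₁_ne : χ₁ ≠ one
  χ₂_ne : χ₂ ≠ one
  χ₁_φ : χ₁ ≠ φ
  χ₂_φ : χ₂ ≠ φ
  χ₁_χ₂ : χ₁ ≠ χ₂
  l0_ne : l0 ≠ 1
  l0_sq : l0 * l0 = 1
  l0_unique : ∀ l : A →* ℂˣ, l * l = 1 → l = 1 ∨ l = l0
  φ_deg : (φ : G → ℂ) 1 = 2 * (Nat.card A : ℂ) + δ
  χ₁_deg : (χ₁ : G → ℂ) 1 = (Nat.card A : ℂ) + δ
  χ₂_deg : (χ₂ : G → ℂ) 1 = (Nat.card A : ℂ) + δ
  f_deg : ∀ l : A →* ℂˣ, l * l ≠ 1 → (f l : G → ℂ) 1 = 2 * ((Nat.card A : ℂ) + δ)
  card_eq : (Nat.card G : ℤ) = 2 * Nat.card A * ((2 * Nat.card A + δ) * (Nat.card A + δ))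
  φ_A : ∀ a ∈ A, a ≠ 1 → (φ : G → ℂ) a = δ
  χ₁_A : ∀ a : A, a ≠ 1 → (χ₁ : G → ℂ) a = δ * (l0 a : ℂ)
  χ₂_A : ∀ a : A, a ≠ 1 → (χ₂ : G → ℂ) a = δ * (l0 a : ℂ)
  f_A : ∀ l : A →* ℂˣ, l * l ≠ 1 → ∀ a : A, a ≠ 1 →
    (f l : G → ℂ) a = δ * ((l a : ℂ) + (((l a)⁻¹ : ℂˣ) : ℂ))
  theta0 : ∀ x, theta l0 x = 1 + δ * (φ : G → ℂ) x - δ * (χ₁ : G → ℂ) x - δ * (χ₂ : G → ℂ) x
  theta_f : ∀ l : A →* ℂˣ, l * l ≠ 1 → ∀ x,
    theta l x = 1 + δ * (φ : G → ℂ) x - δ * (f l : G → ℂ) x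
  f_inj : ∀ l l' : A →* ℂˣ, l * l ≠ 1 → l' * l' ≠ 1 → (f l = f l' ↔ l = l' ∨ l * l' = 1)
  f_ne : ∀ l : A →* ℂˣ, l * l ≠ 1 → f l ≠ one ∧ f l ≠ φ ∧ f l ≠ χ₁ ∧ f l ≠ χ₂
  beta_eq : ∀ d : G, ¬ ConjIn A d → (2 : ℂ) * beta d =
    (1 + δ) * (2 * Nat.card A + δ) + (2 * Nat.card A + δ - 1) * (φ : G → ℂ) d

theorem exists_tabA (hm : 4 ≤ Nat.card A) : ∃ (δ : ℤ) (φ χ₁ χ₂ : IrrCharacter G) (l0 : A →* ℂˣ)
    (f : (A →* ℂˣ) → IrrCharacter G), TabA A δ φ χ₁ χ₂ l0 f := by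
  classical
  obtain ⟨φ0, δ, hφirr, hφne, hδ, hφ1, hA, hN, hbeta⟩ :=
    Cfsg.Agent.Classification.BSW.CharMain.main h hm
  set φ : IrrCharacter G := ⟨φ0, hφirr⟩ with hφdef
  have hφA : ∀ a ∈ A, a ≠ 1 → (φ : G → ℂ) a = δ := hA
  have hφ1' : (φ : G → ℂ) 1 = 2 * (Nat.card A : ℂ) + δ := hφ1
  have hφ : φ ≠ one := fun h1 => hφne (congrArg Subtype.val h1)
  have hδ2 : δ ^ 2 = 1 := by rcases hδ with rfl | rfl <;> norm_num
  have hδ' : (δ : ℂ) ^ 2 = 1 := by exact_mod_cast hδ2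
  have hall : ∀ l : A →* ℂˣ, l ≠ 1 → v l φ = δ := v_of_const φ δ hφA
  obtain ⟨l0, hl0, hl0s, hl0u⟩ := exists_tau h
  obtain ⟨χ₁, χ₂, c1, c2, c3, c4, c5, c6, c7, c8, c9, c10, c11, c12, c13, c14⟩ :=
    exists_halves h hm φ hφ δ hδ2 hφA l0 hl0 hl0s
  -- signs
  have hA4 : (4 : ℤ) ≤ Nat.card A := by exact_mod_cast hm
  have sgn : ∀ (w : ℤ) (n : ℕ) (k : ℤ), 0 < n → 0 < k → w ^ 2 = 1 →
      (w : ℂ) * n = -δ * (((Nat.card A : ℤ) + δ : ℤ) * k) → w = -δ := by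
    intro w n k hn hk hw h1
    have h2 : w * n = -δ * ((Nat.card A + δ) * k) := by exact_mod_cast h1
    have h3 : 0 < ((Nat.card A : ℤ) + δ) * k := by
      apply mul_pos _ hk
      rcases hδ with rfl | rfl <;> omega
    have hn' : (0 : ℤ) < n := by exact_mod_cast hn
    rcases int_sq_one hw with rfl | rfl <;> rcases hδ with rfl | rfl <;>
      first | rfl | (exfalso; linarith)
  have e1 : v l0 χ₁ = -δ := by
    obtain ⟨n, hn, hn1⟩ := isIrr_apply_one χ₁.2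
    refine sgn _ n 1 hn one_pos c6 ?_
    rw [← hn1, c8, hφ1']
    push_cast
    linear_combination (1/2 : ℂ) * hδ'
  have e2 : v l0 χ₂ = -δ := by
    obtain ⟨n, hn, hn1⟩ := isIrr_apply_one χ₂.2
    refine sgn _ n 1 hn one_pos c7 ?_
    rw [← hn1, c9, hφ1']
    push_cast
    linear_combination (1/2 : ℂ) * hδ'
  have hcA : ∀ l : A →* ℂˣ, l * l ≠ 1 → ∃ ψ : IrrCharacter G, ψ ≠ one ∧ ψ ≠ φ ∧ v l ψ = -δ ∧
      (∀ j, j ≠ one → j ≠ φ → j ≠ ψ → v l j = 0) ∧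
      (∀ F : IrrCharacter G → ℂ, ∑ χ, (v l χ : ℂ) * F χ = F one + δ * F φ - δ * F ψ) ∧
      (ψ : G → ℂ) 1 = 2 * ((Nat.card A : ℂ) + δ) := by
    intro l hll
    have hl1 : l ≠ 1 := by rintro rfl; exact hll one_mul_one'
    obtain ⟨ψ, p1, p2, p3, p4, p5, p6, p7, p8⟩ := rel h l hll φ hφ (by rw [hall l hl1]; exact hδ2)
    rw [hall l hl1, hφ1'] at p6
    obtain ⟨n, hn, hn1⟩ := isIrr_apply_one ψ.2
    have hv : v l ψ = -δ := by
      refine sgn _ n 2 hn two_pos p3 ?_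
      rw [← hn1]
      push_cast
      linear_combination p6 + hδ'
    refine ⟨ψ, p1, p2, hv, p4, ?_, ?_⟩
    · intro F
      rw [p5 F, hall l hl1, hv]
      push_cast; ring
    · rw [hv] at p6
      push_cast at p6
      linear_combination (-(δ : ℂ)) * p6 + (2 * (Nat.card A : ℂ) + δ - (ψ : G → ℂ) 1) * hδ'
  have hcB : ∀ l : A →* ℂˣ, ∃ ψ : IrrCharacter G, l * l ≠ 1 → (ψ ≠ one ∧ ψ ≠ φ ∧ v l ψ = -δ ∧
      (∀ j, j ≠ one → j ≠ φ → j ≠ ψ → v l j = 0) ∧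
      (∀ F : IrrCharacter G → ℂ, ∑ χ, (v l χ : ℂ) * F χ = F one + δ * F φ - δ * F ψ) ∧
      (ψ : G → ℂ) 1 = 2 * ((Nat.card A : ℂ) + δ)) := by
    intro l
    by_cases hll : l * l ≠ 1
    · obtain ⟨ψ, hψ⟩ := hcA l hll
      exact ⟨ψ, fun _ => hψ⟩
    · exact ⟨one, fun h1 => absurd h1 hll⟩
  choose f hf using hcB
  have hcard : (Nat.card G : ℤ) = 2 * Nat.card A * ((2 * Nat.card A + δ) * (Nat.card A + δ)) := by
    rw [← hN]
    exact_mod_cast h.card_eq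
  have htf : ∀ l : A →* ℂˣ, l * l ≠ 1 → ∀ x,
      theta l x = 1 + δ * (φ : G → ℂ) x - δ * (f l : G → ℂ) x := by
    intro l hll x
    rw [theta_eq_sum l x, (hf l hll).2.2.2.2.1 (fun χ => (χ : G → ℂ) x)]
    rfl
  have hδ0 : δ ≠ 0 := by rcases hδ with rfl | rfl <;> norm_num
  refine ⟨δ, φ, χ₁, χ₂, l0, f, ⟨hδ, hm, hφ, c2, c3, c4, c5, c1, hl0, hl0s, hl0u, hφ1', ?_, ?_,
    fun l hll => (hf l hll).2.2.2.2.2, hcard, hφA, ?_, ?_, ?_, ?_, htf, ?_, ?_, hbeta⟩⟩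
  · rw [e1, hφ1'] at c8
    push_cast at c8
    linear_combination (-(δ : ℂ)) * c8 +
      ((Nat.card A : ℂ) + δ / 2 - (χ₁ : G → ℂ) 1) * hδ'
  · rw [e2, hφ1'] at c9
    push_cast at c9
    linear_combination (-(δ : ℂ)) * c9 +
      ((Nat.card A : ℂ) + δ / 2 - (χ₂ : G → ℂ) 1) * hδ'
  · intro a ha
    rw [c10 a ha, e1]; push_cast; ring
  · intro a ha
    rw [c11 a ha, e2]; push_cast; ring
  · intro l hll a ha
    have h1 := htf l hll a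
    rw [theta_mem h, hφA a a.2 (fun h1 => ha (Subtype.ext h1))] at h1
    linear_combination (δ : ℂ) * h1 - ((f l : G → ℂ) a - δ) * hδ'
  · intro x
    rw [theta_eq_sum l0 x, c14 (fun χ => (χ : G → ℂ) x), e1, e2, one_apply]
    push_cast; ring
  · intro l l' hll hll'
    have hl1 : l ≠ 1 := by rintro rfl; exact hll one_mul_one'
    have hl1' : l' ≠ 1 := by rintro rfl; exact hll' one_mul_one'
    have h1 := sum_v_mul_v h l l' hl1 hl1'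
    have h2 := (hf l hll).2.2.2.2.1 (fun χ => (v l' χ : ℂ))
    have h2' : ∑ χ : IrrCharacter G, v l χ * v l' χ = v l' one + δ * v l' φ - δ * v l' (f l) := by
      exact_mod_cast h2
    rw [h1, v_one l' hl1', hall l' hl1'] at h2'
    constructor
    · intro h3
      rw [h3, (hf l' hll').2.2.1] at h2'
      by_contra hc
      push Not at hc
      rw [if_neg hc.1, if_neg hc.2] at h2'
      have : δ * δ = 1 := by rw [← pow_two]; exact hδ2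
      nlinarith
    · intro h3
      by_contra hc
      rw [(hf l' hll').2.2.2.1 (f l) (hf l hll).1 (hf l hll).2.1 hc] at h2'
      have h5 : δ * δ = 1 := by rw [← pow_two]; exact hδ2
      rw [h5] at h2'
      rcases h3 with h3 | h3
      · rw [if_pos h3] at h2'
        split_ifs at h2' <;> omega
      · rw [if_pos h3] at h2'
        split_ifs at h2' <;> omega
  · intro l hll
    have hne0 : l ≠ l0 := by rintro rfl; exact hll hl0s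
    refine ⟨(hf l hll).1, (hf l hll).2.1, ?_, ?_⟩
    · intro h1
      have h2 := (hf l hll).2.2.1
      rw [h1, c12 l hne0] at h2
      omega
    · intro h1
      have h2 := (hf l hll).2.2.1
      rw [h1, c13 l hne0] at h2
      omega

end Cfsg.Agent.Ree.PSLCharA
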