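import Cfsg.Agent.Ree.PSLCharC

/-!
# The character table of `PSL₂(q)`, `q ≡ 3, 5 (mod 8)`: completeness and the values on the elements
of order `p`
-/

set_option autoImplicit false

open scoped ComplexConjugate
open Cfsg

namespace Cfsg.Agent.Ree.PSLCharD

open Cfsg.Agent.Characters.Core Cfsg.Agent.Characters.Linear Cfsg.Agent.Characters.ClassMul
open Cfsg.Agent.Classification.BSW.Setup Cfsg.Agent.Classification.BSW.Theta
open Cfsg.Agent.Classification.BSW.BetaSum Cfsg.Agent.Classification.BSW.SqSum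
open Cfsg.Agent.Classification.BSW.Good Cfsg.Agent.Classification.BSW.Order
open Cfsg.Agent.Ree.PSLCharA Cfsg.Agent.Ree.PSLCharDef Cfsg.Agent.Ree.PSLCharB
open Cfsg.Agent.Ree.PSLCharC

variable {G : Type*} [Group G] [Fintype G] {A B : Subgroup G} {t s r : G}

theorem hom_mul_eq_one_iff {X : Type*} [Group X] (l l' : X →* ℂˣ) : l * l' = 1 ↔ l = l'⁻¹ := by
  constructor
  · intro h
    ext a
    have h1 := DFunLike.congr_fun h a
    rw [MonoidHom.mul_apply, MonoidHom.one_apply] at h1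
    rw [MonoidHom.inv_apply, eq_inv_of_mul_eq_one_left h1]
  · rintro rfl
    ext a
    rw [MonoidHom.mul_apply, MonoidHom.one_apply, MonoidHom.inv_apply, inv_mul_cancel]

theorem hom_inv_mul {X : Type*} [Group X] (l : X →* ℂˣ) : l⁻¹ * l = 1 :=
  (hom_mul_eq_one_iff _ _).2 rfl

theorem hom_inv_sq {X : Type*} [Group X] {l : X →* ℂˣ} (h : l⁻¹ * l⁻¹ = 1) : l * l = 1 := by
  ext a
  have h1 := DFunLike.congr_fun h a
  rw [MonoidHom.mul_apply, MonoidHom.inv_apply, MonoidHom.one_apply, ← mul_inv, inv_eq_one] at h1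
  rw [MonoidHom.mul_apply, MonoidHom.one_apply, h1]

theorem hom_inv_eq_one {X : Type*} [Group X] {l : X →* ℂˣ} (h : l⁻¹ = 1) : l = 1 := by
  ext a
  have h1 := DFunLike.congr_fun h a
  rw [MonoidHom.inv_apply, MonoidHom.one_apply, inv_eq_one] at h1
  rw [MonoidHom.one_apply, h1]

theorem card_hom_nat {X : Type*} [Group X] [Finite X] (hX : ∀ a b : X, a * b = b * a)
    [Fintype (X →* ℂˣ)] : Fintype.card (X →* ℂˣ) = Nat.card X := by
  have := card_hom hX
  exact_mod_cast this

open scoped Classical in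
theorem card_filter_A (h : BSWData A t s) [Fintype (A →* ℂˣ)] :
    (Finset.univ.filter (fun l : A →* ℂˣ => l * l ≠ 1)).card + 2 = Nat.card A := by
  have h1 := card_sq_eq_one h
  have h2 := Finset.card_filter_add_card_filter_not (s := (Finset.univ : Finset (A →* ℂˣ)))
    (fun l : A →* ℂˣ => l * l = 1)
  rw [h1, Finset.card_univ, card_hom_nat (comm_sub h)] at h2
  have h3 : (Finset.univ.filter (fun l : A →* ℂˣ => ¬ (l * l = 1))) =
    (Finset.univ.filter (fun l : A →* ℂˣ => l * l ≠ 1)) := rfl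
  rw [h3] at h2
  omega

open scoped Classical in
theorem card_filter_B (hcomm : ∀ a b : B, a * b = b * a) [Fintype (B →* ℂˣ)] :
    (Finset.univ.filter (fun l : B →* ℂˣ => l ≠ 1)).card + 1 = Nat.card B := by
  have h2 := Finset.card_filter_add_card_filter_not (s := (Finset.univ : Finset (B →* ℂˣ)))
    (fun l : B →* ℂˣ => l = 1)
  rw [Finset.card_univ, card_hom_nat hcomm, Finset.filter_eq', if_pos (Finset.mem_univ _),
    Finset.card_singleton] at h2
  have h3 : (Finset.univ.filter (fun l : B →* ℂˣ => ¬ (l = 1))) =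
    (Finset.univ.filter (fun l : B →* ℂˣ => l ≠ 1)) := rfl
  rw [h3] at h2
  omega

section

variable {m : ℕ} {ε : ℤ} (D : PSLData A B t s r m ε) {φ χ₁ χ₂ : IrrCharacter G}
    {l0 : A →* ℂˣ} {f : (A →* ℂˣ) → IrrCharacter G} (T : TabA A ε φ χ₁ χ₂ l0 f)
    {g : (B →* ℂˣ) → IrrCharacter G} (S : TabB A B ε φ χ₁ χ₂ f g)
include D

omit [Fintype G] in
theorem cardA_int : (Nat.card A : ℤ) = 2 * m := by exact_mod_cast D.card_A

omit [Fintype G] in
theorem cardB_int : (Nat.card B : ℤ) = Nat.card A + ε := by rw [cardA_int D, D.card_B]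

omit [Fintype G] in
theorem odd_B : Odd (Nat.card B) := by
  have : Odd (Nat.card B : ℤ) := by
    rw [D.card_B]
    rcases D.ε_cases with h1 | h1
    · exact ⟨m, by rw [h1]⟩
    · exact ⟨m - 1, by rw [h1]; ring⟩
  exact_mod_cast this

omit [Fintype G] in
theorem eps_sq : (ε : ℂ) ^ 2 = 1 := by
  rcases D.ε_cases with h1 | h1 <;> rw [h1] <;> norm_num

include T S

open scoped Classical in
/-- Completeness: the sum over all irreducible characters. -/
theorem sum_irr_filter [Fintype (IrrCharacter G)] [Fintype (A →* ℂˣ)] [Fintype (B →* ℂˣ)]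
    (F : IrrCharacter G → ℂ) :
    ∑ χ : IrrCharacter G, F χ = F one + F φ + F χ₁ + F χ₂ +
      (∑ l ∈ Finset.univ.filter (fun l : A →* ℂˣ => l * l ≠ 1), F (f l)) / 2 +
      (∑ l ∈ Finset.univ.filter (fun l : B →* ℂˣ => l ≠ 1), F (g l)) / 2 := by
  have hodd := odd_B D
  set SA := Finset.univ.filter (fun l : A →* ℂˣ => l * l ≠ 1) with hSA
  set SB := Finset.univ.filter (fun l : B →* ℂˣ => l ≠ 1) with hSB
  have keyA : ∀ F : IrrCharacter G → ℂ, ∑ l ∈ SA, F (f l) = 2 * ∑ i ∈ SA.image f, F i := by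
    intro F
    apply sum_two_to_one SA (fun l => l⁻¹)
    · intro x hx
      rw [hSA, Finset.mem_filter] at hx
      have h1 : x⁻¹ * x⁻¹ ≠ 1 := by
        intro h2
        exact hx.2 (hom_inv_sq h2)
      refine ⟨?_, ?_⟩
      · rw [hSA, Finset.mem_filter]; exact ⟨Finset.mem_univ _, h1⟩
      · intro h2
        apply hx.2
        nth_rewrite 1 [← h2]
        exact hom_inv_mul x
    · intro x hx y hy
      rw [hSA, Finset.mem_filter] at hx hy
      rw [T.f_inj x y hx.2 hy.2, hom_mul_eq_one_iff]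
  have keyB : ∀ F : IrrCharacter G → ℂ, ∑ l ∈ SB, F (g l) = 2 * ∑ i ∈ SB.image g, F i := by
    intro F
    apply sum_two_to_one SB (fun l => l⁻¹)
    · intro x hx
      rw [hSB, Finset.mem_filter] at hx
      have hxx := l_sq_ne hodd x hx.2
      refine ⟨?_, ?_⟩
      · rw [hSB, Finset.mem_filter]
        refine ⟨Finset.mem_univ _, ?_⟩
        intro h2
        exact hx.2 (hom_inv_eq_one h2)
      · intro h2
        apply hxx
        nth_rewrite 1 [← h2]
        exact hom_inv_mul x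
    · intro x hx y hy
      rw [hSB, Finset.mem_filter] at hx hy
      rw [S.g_inj x y hx.2 hy.2, hom_mul_eq_one_iff]
  -- the set of known characters
  set K : Finset (IrrCharacter G) :=
    insert one (insert φ (insert χ₁ (insert χ₂ (SA.image f ∪ SB.image g)))) with hK
  have hfim : ∀ χ : IrrCharacter G, (∀ l : A →* ℂˣ, l * l ≠ 1 → f l ≠ χ) → χ ∉ SA.image f := by
    intro χ hχ hmem
    obtain ⟨l, hl, hl2⟩ := Finset.mem_image.1 hmem
    rw [hSA, Finset.mem_filter] at hl
    exact hχ l hl.2 hl2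
  have hgim : ∀ χ : IrrCharacter G, (∀ l : B →* ℂˣ, l ≠ 1 → g l ≠ χ) → χ ∉ SB.image g := by
    intro χ hχ hmem
    obtain ⟨l, hl, hl2⟩ := Finset.mem_image.1 hmem
    rw [hSB, Finset.mem_filter] at hl
    exact hχ l hl.2 hl2
  have hdisj : Disjoint (SA.image f) (SB.image g) := by
    rw [Finset.disjoint_right]
    intro χ hχ
    obtain ⟨l, hl, rfl⟩ := Finset.mem_image.1 hχ
    rw [hSB, Finset.mem_filter] at hl
    exact hfim _ (fun l' hl' h1 => S.g_ne_f l hl.2 l' hl' h1.symm)
  have sumK : ∀ F : IrrCharacter G → ℂ, ∑ χ ∈ K, F χ = F one + F φ + F χ₁ + F χ₂ +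
      (∑ l ∈ SA, F (f l)) / 2 + (∑ l ∈ SB, F (g l)) / 2 := by
    intro F
    rw [hK, Finset.sum_insert, Finset.sum_insert, Finset.sum_insert, Finset.sum_insert,
      Finset.sum_union hdisj, keyA, keyB]
    · ring
    · rw [Finset.mem_union]
      rintro (h1 | h1)
      · exact hfim _ (fun l hl => (T.f_ne l hl).2.2.2) h1
      · exact hgim _ (fun l hl => (S.g_ne l hl).2.2.2) h1
    · rw [Finset.mem_insert, Finset.mem_union]
      rintro (h1 | h1 | h1)
      · exact T.χ₁_χ₂ h1
      · exact hfim _ (fun l hl => (T.f_ne l hl).2.2.1) h1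
      · exact hgim _ (fun l hl => (S.g_ne l hl).2.2.1) h1
    · rw [Finset.mem_insert, Finset.mem_insert, Finset.mem_union]
      rintro (h1 | h1 | h1 | h1)
      · exact T.χ₁_φ h1.symm
      · exact T.χ₂_φ h1.symm
      · exact hfim _ (fun l hl => (T.f_ne l hl).2.1) h1
      · exact hgim _ (fun l hl => (S.g_ne l hl).2.1) h1
    · rw [Finset.mem_insert, Finset.mem_insert, Finset.mem_insert, Finset.mem_union]
      rintro (h1 | h1 | h1 | h1 | h1)
      · exact T.φ_ne h1.symm
      · exact T.χ₁_ne h1.symm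
      · exact T.χ₂_ne h1.symm
      · exact hfim _ (fun l hl => (T.f_ne l hl).1) h1
      · exact hgim _ (fun l hl => (S.g_ne l hl).1) h1
  -- sum of the squares of the degrees
  have hsq : ∑ χ : IrrCharacter G, (χ : G → ℂ) 1 ^ 2 = (Nat.card G : ℂ) := by
    have h1 := Cfsg.Agent.S0145.sum_irr_mul_conj (1 : G) 1
    rw [if_pos (IsConj.refl 1)] at h1
    have h2 : Nat.card (Subgroup.centralizer ({(1 : G)} : Set G)) = Nat.card G := by
      have : Subgroup.centralizer ({(1 : G)} : Set G) = ⊤ := by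
        rw [Subgroup.eq_top_iff']
        intro x
        rw [Subgroup.mem_centralizer_singleton_iff, mul_one, one_mul]
      rw [this, Subgroup.card_top]
    rw [h2] at h1
    rw [← h1]
    refine Finset.sum_congr rfl (fun χ _ => ?_)
    rw [char_one_real, pow_two]
  have hKsq : ∑ χ ∈ K, (χ : G → ℂ) 1 ^ 2 = (Nat.card G : ℂ) := by
    rw [sumK]
    have h1 : ∑ l ∈ SA, (f l : G → ℂ) 1 ^ 2 = ((Nat.card A : ℂ) - 2) * (2 * ((Nat.card A : ℂ) + ε)) ^ 2 := by
      rw [Finset.sum_congr rfl (fun l hl => by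
        rw [T.f_deg l (Finset.mem_filter.1 hl).2]), Finset.sum_const, nsmul_eq_mul]
      congr 1
      have h1 := card_filter_A D.bsw
      rw [← hSA] at h1
      have : (SA.card : ℂ) + 2 = Nat.card A := by exact_mod_cast h1
      linear_combination this
    have h2 : ∑ l ∈ SB, (g l : G → ℂ) 1 ^ 2 = ((Nat.card A : ℂ) + ε - 1) * (2 * (Nat.card A : ℂ)) ^ 2 := by
      rw [Finset.sum_congr rfl (fun l hl => by
        rw [S.g_deg l (Finset.mem_filter.1 hl).2]), Finset.sum_const, nsmul_eq_mul]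
      congr 1
      have h1 := card_filter_B (comm_subB D.tiB)
      rw [← hSB] at h1
      have h3 : (SB.card : ℂ) + 1 = Nat.card B := by exact_mod_cast h1
      have h4 : (Nat.card B : ℂ) = Nat.card A + ε := by exact_mod_cast cardB_int D
      linear_combination h3 + h4
    rw [h1, h2, T.φ_deg, T.χ₁_deg, T.χ₂_deg, one_apply]
    have h5 : (Nat.card G : ℂ) = 2 * Nat.card A * ((2 * Nat.card A + ε) * (Nat.card A + ε)) := by
      exact_mod_cast T.card_eq
    rw [h5]
    have hε := eps_sq D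
    set a := (Nat.card A : ℂ)
    linear_combination (1 + 2 * (a - 1) - 2 * a) * hε
  -- hence `K` is everything
  have hKuniv : K = Finset.univ := by
    by_contra hne
    obtain ⟨ψ, hψ⟩ : ∃ ψ, ψ ∉ K := by
      by_contra hc
      push Not at hc
      exact hne (Finset.eq_univ_iff_forall.2 hc)
    choose d hd0 hd using fun χ : IrrCharacter G => isIrr_apply_one χ.2
    have h1 : ∑ χ : IrrCharacter G, d χ ^ 2 = ∑ χ ∈ K, d χ ^ 2 := by
      have : ((∑ χ : IrrCharacter G, d χ ^ 2 : ℕ) : ℂ) = ((∑ χ ∈ K, d χ ^ 2 : ℕ) : ℂ) := by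
        push_cast
        have e1 : ∀ χ : IrrCharacter G, (d χ : ℂ) ^ 2 = (χ : G → ℂ) 1 ^ 2 := fun χ => by rw [hd χ]
        rw [Finset.sum_congr rfl (fun χ _ => e1 χ), Finset.sum_congr rfl (fun χ _ => e1 χ), hsq,
          hKsq]
      exact_mod_cast this
    have h2 : ∑ χ ∈ insert ψ K, d χ ^ 2 ≤ ∑ χ : IrrCharacter G, d χ ^ 2 :=
      Finset.sum_le_sum_of_subset (Finset.subset_univ _)
    rw [Finset.sum_insert hψ, h1] at h2
    have h3 : 0 < d ψ ^ 2 := pow_pos (hd0 ψ) 2
    omega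
  rw [← hKuniv]
  exact sumK F

open scoped Classical in
/-- Completeness: the sum over all irreducible characters. -/
theorem sum_irr [Fintype (IrrCharacter G)] [Fintype (A →* ℂˣ)] [Fintype (B →* ℂˣ)]
    (F : IrrCharacter G → ℂ) :
    ∑ χ : IrrCharacter G, F χ = F one + F φ + F χ₁ + F χ₂ +
      (∑ l : A →* ℂˣ, if l * l = 1 then 0 else F (f l)) / 2 +
      (∑ l : B →* ℂˣ, if l = 1 then 0 else F (g l)) / 2 := by
  rw [sum_irr_filter D T S F, Finset.sum_filter, Finset.sum_filter]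
  simp only [ite_not]

/-- Every irreducible character is in the list. -/
theorem irr_cases (χ : IrrCharacter G) : χ = one ∨ χ = φ ∨ χ = χ₁ ∨ χ = χ₂ ∨
    (∃ l : A →* ℂˣ, l * l ≠ 1 ∧ χ = f l) ∨ (∃ l : B →* ℂˣ, l ≠ 1 ∧ χ = g l) := by
  classical
  have := finite_irr (G := G)
  have := Fintype.ofFinite (IrrCharacter G)
  have := finite_hom (comm_sub D.bsw)
  have := Fintype.ofFinite (A →* ℂˣ)
  have := finite_hom (comm_subB D.tiB)
  have := Fintype.ofFinite (B →* ℂˣ)
  by_contra hc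
  push Not at hc
  obtain ⟨h1, h2, h3, h4, h5, h6⟩ := hc
  have h7 := sum_irr D T S (fun ψ => if ψ = χ then (1 : ℂ) else 0)
  rw [Finset.sum_ite_eq' Finset.univ χ, if_pos (Finset.mem_univ _), if_neg (Ne.symm h1),
    if_neg (Ne.symm h2), if_neg (Ne.symm h3), if_neg (Ne.symm h4)] at h7
  have e1 : ∀ l : A →* ℂˣ, (if l * l = 1 then (0 : ℂ) else if f l = χ then 1 else 0) = 0 := by
    intro l
    split_ifs with h8 h9
    · rfl
    · exact absurd h9.symm (h5 l h8)
    · rfl
  have e2 : ∀ l : B →* ℂˣ, (if l = 1 then (0 : ℂ) else if g l = χ then 1 else 0) = 0 := by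
    intro l
    split_ifs with h8 h9
    · rfl
    · exact absurd h9.symm (h6 l h8)
    · rfl
  rw [Finset.sum_congr rfl (fun l _ => e1 l), Finset.sum_congr rfl (fun l _ => e2 l)] at h7
  simp at h7

end

end Cfsg.Agent.Ree.PSLCharD
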