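import Cfsg.Agent.Ree.PSLPsiB

/-!
# Class functions of `PSL₂(q)`, `q ≡ 3, 5 (mod 8)`, vanishing on the elements of even order: existence
-/

set_option autoImplicit false
set_option linter.unusedSectionVars false

open scoped ComplexConjugate
open Cfsg

namespace Cfsg.Agent.Ree.PSLPsiC

open Cfsg.Agent.Characters.Core Cfsg.Agent.Characters.Linear Cfsg.Agent.Characters.ClassMul
open Cfsg.Agent.Classification.BSW.Setup Cfsg.Agent.Classification.BSW.Theta
open Cfsg.Agent.Classification.BSW.BetaSum Cfsg.Agent.Classification.BSW.SqSum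
open Cfsg.Agent.Classification.BSW.Good Cfsg.Agent.Classification.BSW.Order
open Cfsg.Agent.Ree.PSLCharA Cfsg.Agent.Ree.PSLCharDef Cfsg.Agent.Ree.PSLCharB
open Cfsg.Agent.Ree.PSLCharC Cfsg.Agent.Ree.PSLCharD Cfsg.Agent.Ree.PSLCharE
open Cfsg.Agent.Ree.PSLPsi Cfsg.Agent.Ree.PSLPsiB Cfsg.Agent.Ree.VecDef

variable {L : Type*} [Group L] [Fintype L] {A B : Subgroup L} {t s r : L} {m : ℕ} {ε : ℤ}
  (D : PSLData A B t s r m ε) {φ χ₁ χ₂ : IrrCharacter L} {l0 : A →* ℂˣ}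
  {f : (A →* ℂˣ) → IrrCharacter L} (T : TabA A ε φ χ₁ χ₂ l0 f)
  {g : (B →* ℂˣ) → IrrCharacter L} (S : TabB A B ε φ χ₁ χ₂ f g)
  {Y : Type*} [Group Y] [Finite Y] {ι : Y →* L} (hι : Function.Injective ι)
  (hYA : ∀ y, ι y ∈ A) (hY : Nat.card Y = m)
  {π : A →* Y} (hπ1 : ∀ a : A, ι (π a) = (a : L) ^ (m + 1))
  (hπ2 : ∀ y, π ⟨ι y, hYA y⟩ = y) (hπ3 : π ⟨t, D.bsw.t_mem⟩ = 1)

/-- `ε + σ θ` -/
noncomputable def pf (ε : ℤ) (θ : IrrCharacter L) (σ : ℤ) : L → ℂ :=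
  fun l => ε + σ * (θ : L → ℂ) l

omit [Fintype L] in
theorem pf_eq (ε : ℤ) (θ : IrrCharacter L) (σ : ℤ) :
    pf ε θ σ = (ε : ℂ) • (1 : L → ℂ) + (σ : ℂ) • (θ : L → ℂ) := by
  funext l
  simp [pf]

theorem ip_irr (χ ψ : IrrCharacter L) [Decidable (χ = ψ)] :
    classInner (χ : L → ℂ) (ψ : L → ℂ) = if χ = ψ then 1 else 0 := by
  split_ifs with h
  · rw [h]; exact classInner_irr_self ψ.2
  · exact classInner_irr_ne χ.2 ψ.2 (fun h1 => h (Subtype.ext h1))

theorem ip_one_irr (ψ : IrrCharacter L) (h : ψ ≠ one) :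
    classInner (1 : L → ℂ) (ψ : L → ℂ) = 0 :=
  classInner_irr_ne isIrr_one ψ.2 (fun h1 => h (Subtype.ext h1.symm))

theorem ip_irr_one (ψ : IrrCharacter L) (h : ψ ≠ one) :
    classInner (ψ : L → ℂ) (1 : L → ℂ) = 0 :=
  classInner_irr_ne ψ.2 isIrr_one (fun h1 => h (Subtype.ext h1))

theorem ip_one_one : classInner (1 : L → ℂ) (1 : L → ℂ) = 1 := classInner_irr_self isIrr_one

theorem ip_irr_ne (χ ψ : IrrCharacter L) (h : χ ≠ ψ) :
    classInner (χ : L → ℂ) (ψ : L → ℂ) = 0 :=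
  classInner_irr_ne χ.2 ψ.2 (fun h1 => h (Subtype.ext h1))

theorem ip_irr_self (χ : IrrCharacter L) :
    classInner (χ : L → ℂ) (χ : L → ℂ) = 1 := classInner_irr_self χ.2

theorem ip_pf_pf (ε : ℤ) (θ θ' : IrrCharacter L) (σ σ' : ℤ) (h : θ ≠ one) (h' : θ' ≠ one) :
    classInner (pf ε θ σ) (pf ε θ' σ') =
      ε * ε + σ * σ' * classInner (θ : L → ℂ) (θ' : L → ℂ) := by
  rw [pf_eq, pf_eq, classInner_add_left, classInner_add_right, classInner_add_right]
  simp only [classInner_smul_left, classInner_smul_right, ip_one_one, ip_one_irr θ' h',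
    ip_irr_one θ h, map_intCast]
  ring

theorem ip_pf_irr (ε : ℤ) (θ ψ : IrrCharacter L) (σ : ℤ) (h : ψ ≠ one) (h' : θ ≠ ψ) :
    classInner (pf ε θ σ) (ψ : L → ℂ) = 0 := by
  rw [pf_eq, classInner_add_left]
  simp only [classInner_smul_left, ip_one_irr ψ h, ip_irr_ne θ ψ h']
  ring

theorem ip_pf_one (ε : ℤ) (θ : IrrCharacter L) (σ : ℤ) (h : θ ≠ one) :
    classInner (pf ε θ σ) (1 : L → ℂ) = ε := by
  rw [pf_eq, classInner_add_left]
  simp only [classInner_smul_left, ip_irr_one θ h, ip_one_one]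
  ring

omit [Fintype L] in
theorem gen_irr (χ : IrrCharacter L) : IsGeneralizedCharacter L (χ : L → ℂ) :=
  ⟨χ, 0, isIrr_isCharacter χ.2, isCharacter_zero, by simp⟩

theorem hom_one_of_sq {Y : Type*} [Group Y] [Finite Y] (hodd : Odd (Nat.card Y)) (b : Y →* ℂˣ)
    (h : b * b = 1) : b = 1 := by
  ext y
  have h2 := DFunLike.congr_fun h y
  rw [MonoidHom.mul_apply, MonoidHom.one_apply] at h2
  have h3 : (b y) ^ Nat.card Y = 1 := by rw [← map_pow, pow_card_eq_one', map_one]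
  obtain ⟨k, hk⟩ := hodd
  rw [hk, pow_succ, pow_mul, pow_two, h2, one_pow, one_mul] at h3
  rw [h3]
  rfl

section ext

include hπ2
omit [Fintype L] [Finite Y] in
theorem comp_Y (b : Y →* ℂˣ) (y : Y) : (b.comp π) ⟨ι y, hYA y⟩ = b y := by
  rw [MonoidHom.comp_apply, hπ2]

omit [Fintype L] [Finite Y] in
theorem comp_inj {b b' : Y →* ℂˣ} (h : b.comp π = b'.comp π) : b = b' := by
  ext y
  have := DFunLike.congr_fun h ⟨ι y, hYA y⟩
  rw [comp_Y hYA hπ2, comp_Y hYA hπ2] at this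
  rw [this]

omit hπ2 [Fintype L] [Finite Y] in
theorem comp_mul (b b' : Y →* ℂˣ) : b.comp π * b'.comp π = (b * b').comp π := by
  ext a; simp [MonoidHom.mul_apply, MonoidHom.comp_apply]

omit [Fintype L] [Finite Y] in
theorem comp_mul_eq_one {b b' : Y →* ℂˣ} : b.comp π * b'.comp π = 1 ↔ b * b' = 1 := by
  rw [comp_mul]
  constructor
  · intro h
    apply comp_inj hYA hπ2
    rw [h]; ext a; simp
  · intro h
    rw [h]; ext a; simp

include hY D in
omit [Fintype L] in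
theorem comp_sq_ne {b : Y →* ℂˣ} (hb : b ≠ 1) : b.comp π * b.comp π ≠ 1 := by
  intro h
  rw [comp_mul_eq_one hYA hπ2] at h
  apply hb
  exact hom_one_of_sq (by rw [hY]; exact D.m_odd) b h

end ext

section l0

include T

omit [Group Y] [Finite Y] in
theorem mul_l0_sq (l : A →* ℂˣ) : (l * l0) * (l * l0) = l * l := by
  ext a
  have h1 := DFunLike.congr_fun T.l0_sq a
  rw [MonoidHom.mul_apply, MonoidHom.one_apply] at h1
  simp only [MonoidHom.mul_apply]
  congr 1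
  calc l a * l0 a * (l a * l0 a) = l a * l a * (l0 a * l0 a) := by
        rw [mul_mul_mul_comm]
    _ = l a * l a := by rw [h1, mul_one]

omit [Group Y] [Finite Y] in
theorem mul_l0_mul (l l' : A →* ℂˣ) : (l * l0) * (l' * l0) = l * l' := by
  ext a
  have h1 := DFunLike.congr_fun T.l0_sq a
  rw [MonoidHom.mul_apply, MonoidHom.one_apply] at h1
  simp only [MonoidHom.mul_apply]
  congr 1
  calc l a * l0 a * (l' a * l0 a) = l a * l' a * (l0 a * l0 a) := by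
        rw [mul_mul_mul_comm]
    _ = l a * l' a := by rw [h1, mul_one]

omit [Group Y] [Finite Y] in
theorem mul_l0_cancel {l l' : A →* ℂˣ} : l * l0 = l' * l0 ↔ l = l' := by
  constructor
  · intro h
    ext a
    have h1 := DFunLike.congr_fun h a
    rw [MonoidHom.mul_apply, MonoidHom.mul_apply] at h1
    rw [mul_right_cancel h1]
  · rintro rfl; rfl

end l0

section f

include D T hYA hY hπ2 hπ3

theorem sq1 {b : Y →* ℂˣ} (hb : b ≠ 1) : b.comp π * b.comp π ≠ 1 := comp_sq_ne D hYA hY hπ2 hb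

theorem sq2 {b : Y →* ℂˣ} (hb : b ≠ 1) : (b.comp π * l0) * (b.comp π * l0) ≠ 1 := by
  rw [mul_l0_sq T]
  exact comp_sq_ne D hYA hY hπ2 hb

theorem f_e_eq {b b' : Y →* ℂˣ} (hb : b ≠ 1) (hb' : b' ≠ 1) :
    f (b.comp π) = f (b'.comp π) ↔ b = b' ∨ b * b' = 1 := by
  rw [T.f_inj _ _ (comp_sq_ne D hYA hY hπ2 hb) (comp_sq_ne D hYA hY hπ2 hb'),
    comp_mul_eq_one hYA hπ2]
  constructor
  · rintro (h | h)
    · left; exact comp_inj hYA hπ2 h
    · right; exact h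
  · rintro (h | h)
    · left; rw [h]
    · right; exact h

theorem f_el_eq {b b' : Y →* ℂˣ} (hb : b ≠ 1) (hb' : b' ≠ 1) :
    f (b.comp π * l0) = f (b'.comp π * l0) ↔ b = b' ∨ b * b' = 1 := by
  rw [T.f_inj _ _ (sq2 D T hYA hY hπ2 hπ3 hb) (sq2 D T hYA hY hπ2 hπ3 hb'),
    mul_l0_mul T, comp_mul_eq_one hYA hπ2, mul_l0_cancel T]
  constructor
  · rintro (h | h)
    · left; exact comp_inj hYA hπ2 h
    · right; exact h
  · rintro (h | h)
    · left; rw [h]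
    · right; exact h

theorem f_ne {b b' : Y →* ℂˣ} (hb : b ≠ 1) (hb' : b' ≠ 1) :
    f (b.comp π) ≠ f (b'.comp π * l0) := by
  intro h
  have ht := l0_t D T
  have h1 : ∀ b : Y →* ℂˣ, (b.comp π) ⟨t, D.bsw.t_mem⟩ = 1 := by
    intro b
    rw [MonoidHom.comp_apply, hπ3, map_one]
  have hne : (1 : ℂˣ) ≠ -1 := by
    intro h2
    have := congrArg (fun x : ℂˣ => (x : ℂ)) h2
    norm_num at this
  rcases (T.f_inj _ _ (comp_sq_ne D hYA hY hπ2 hb) (sq2 D T hYA hY hπ2 hπ3 hb')).1 h with h2 | h2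
  · have h3 := DFunLike.congr_fun h2 ⟨t, D.bsw.t_mem⟩
    rw [MonoidHom.mul_apply, h1, h1, ht, one_mul] at h3
    exact hne h3
  · have h3 := DFunLike.congr_fun h2 ⟨t, D.bsw.t_mem⟩
    rw [MonoidHom.mul_apply, MonoidHom.mul_apply, h1, h1, ht, one_mul, one_mul,
      MonoidHom.one_apply] at h3
    exact hne h3.symm

end f

/-- `θ_b⁺ + θ_b⁻` -/
noncomputable def xf (f : (A →* ℂˣ) → IrrCharacter L) (l0 : A →* ℂˣ) (π : A →* Y)
    (b : Y →* ℂˣ) : L → ℂ :=
  (f (b.comp π) : L → ℂ) + (f (b.comp π * l0) : L → ℂ)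

section xf

include D T hYA hY hπ2 hπ3

open scoped Classical in
theorem ip_xf {b b' : Y →* ℂˣ} (hb : b ≠ 1) (hb' : b' ≠ 1) :
    classInner (xf f l0 π b) (xf f l0 π b') = if b = b' ∨ b * b' = 1 then 2 else 0 := by
  rw [xf, xf, classInner_add_left, classInner_add_right, classInner_add_right,
    ip_irr_ne _ _ (f_ne D T hYA hY hπ2 hπ3 hb hb'),
    ip_irr_ne _ _ (f_ne D T hYA hY hπ2 hπ3 hb' hb).symm]
  by_cases h : b = b' ∨ b * b' = 1
  · rw [if_pos h, (f_e_eq D T hYA hY hπ2 hπ3 hb hb').2 h, (f_el_eq D T hYA hY hπ2 hπ3 hb hb').2 h,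
      ip_irr_self, ip_irr_self]
    norm_num
  · rw [if_neg h, ip_irr_ne _ _ (fun h1 => h ((f_e_eq D T hYA hY hπ2 hπ3 hb hb').1 h1)),
      ip_irr_ne _ _ (fun h1 => h ((f_el_eq D T hYA hY hπ2 hπ3 hb hb').1 h1))]
    norm_num

theorem F_inv {b b' : Y →* ℂˣ} (hb : b ≠ 1) (hb' : b' ≠ 1) (h : b = b' ∨ b * b' = 1)
    (F : IrrCharacter L → ℂ) :
    F (f (b.comp π)) + F (f (b.comp π * l0)) = F (f (b'.comp π)) + F (f (b'.comp π * l0)) := by
  rw [(f_e_eq D T hYA hY hπ2 hπ3 hb hb').2 h, (f_el_eq D T hYA hY hπ2 hπ3 hb hb').2 h]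

theorem xf_inv {b b' : Y →* ℂˣ} (hb : b ≠ 1) (hb' : b' ≠ 1) (h : b = b' ∨ b * b' = 1) :
    xf f l0 π b = xf f l0 π b' := by
  rw [xf, xf, (f_e_eq D T hYA hY hπ2 hπ3 hb hb').2 h, (f_el_eq D T hYA hY hπ2 hπ3 hb hb').2 h]

end xf

/-! ### sums over the characters of `A` -/

section sum

include D T hYA hπ1 hπ2 hπ3

/-- every linear character of `A` is an extension of a character of the odd part, or `l0` times an
extension -/
theorem hom_cases (l : A →* ℂˣ) : ∃ b : Y →* ℂˣ, l = b.comp π ∨ l = b.comp π * l0 := by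
  -- restriction to the odd part
  let j : Y →* A := MonoidHom.mk' (fun y => (⟨ι y, hYA y⟩ : A))
    (fun a b => Subtype.ext (map_mul ι a b))
  refine ⟨l.comp j, ?_⟩
  have hj : ∀ a : A, j (π a) = a ^ (m + 1) := by
    intro a
    apply Subtype.ext
    show ι (π a) = ((a ^ (m + 1) : A) : L)
    rw [hπ1]; rfl
  have hval : ∀ a : A, ((l.comp j).comp π) a = l a ^ m * l a := by
    intro a
    rw [MonoidHom.comp_apply, MonoidHom.comp_apply, hj, map_pow, pow_succ]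
  have htt : l ⟨t, D.bsw.t_mem⟩ * l ⟨t, D.bsw.t_mem⟩ = 1 := by
    rw [← map_mul]
    have : (⟨t, D.bsw.t_mem⟩ : A) * ⟨t, D.bsw.t_mem⟩ = 1 := Subtype.ext D.bsw.t_sq
    rw [this, map_one]
  have ht : l ⟨t, D.bsw.t_mem⟩ = 1 ∨ l ⟨t, D.bsw.t_mem⟩ = -1 := by
    rcases mul_self_eq_one_iff.1 (show ((l ⟨t, D.bsw.t_mem⟩ : ℂˣ) : ℂ) *
        ((l ⟨t, D.bsw.t_mem⟩ : ℂˣ) : ℂ) = 1 by rw [← Units.val_mul, htt, Units.val_one]) with h2 | h2
    · left; exact Units.ext h2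
    · right; exact Units.ext (by rw [h2]; simp)
  have hpm : ∀ a : A, (a : L) ^ m = t → l a ^ m = l ⟨t, D.bsw.t_mem⟩ := by
    intro a ha
    have h2 : a ^ m = ⟨t, D.bsw.t_mem⟩ := Subtype.ext ha
    rw [← map_pow, h2]
  have hp1 : ∀ a : A, (a : L) ^ m = 1 → l a ^ m = 1 := by
    intro a ha
    have h2 : a ^ m = 1 := Subtype.ext ha
    rw [← map_pow, h2, map_one]
  rcases ht with ht | ht
  · left
    ext a
    rw [hval]
    rcases pow_m_cases D a.2 with h1 | h1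
    · rw [hp1 a h1, one_mul]
    · rw [hpm a h1, ht, one_mul]
  · right
    ext a
    rw [MonoidHom.mul_apply, hval]
    rcases pow_m_cases D a.2 with h1 | h1
    · rw [hp1 a h1, one_mul, l0_of_pow_one D T h1, mul_one]
    · rw [hpm a h1, ht, l0_of_pow_t D T h1]
      simp

include hY

open scoped Classical in
theorem sum_A [Fintype (A →* ℂˣ)] [Fintype (NT Y)] (H : (A →* ℂˣ) → ℂ) :
    ∑ l ∈ Finset.univ.filter (fun l : A →* ℂˣ => l * l ≠ 1), H l =
      ∑ b : NT Y, (H (b.1.comp π) + H (b.1.comp π * l0)) := by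
  have hb1 : ∀ b : Y →* ℂˣ, (b.comp π) ⟨t, D.bsw.t_mem⟩ = 1 := by
    intro b
    rw [MonoidHom.comp_apply, hπ3, map_one]
  have hne : (1 : ℂˣ) ≠ -1 := by
    intro h2
    have := congrArg (fun x : ℂˣ => (x : ℂ)) h2
    norm_num at this
  have hset : Finset.univ.filter (fun l : A →* ℂˣ => l * l ≠ 1) =
      (Finset.univ.image (fun b : NT Y => b.1.comp π)) ∪
        (Finset.univ.image (fun b : NT Y => b.1.comp π * l0)) := by
    ext l
    rw [Finset.mem_filter, Finset.mem_union, Finset.mem_image, Finset.mem_image]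
    constructor
    · rintro ⟨-, hl⟩
      obtain ⟨b, hb⟩ := hom_cases D T hYA hπ1 hπ2 hπ3 l
      have hb0 : b ≠ 1 := by
        rintro rfl
        apply hl
        have h1 : (1 : Y →* ℂˣ).comp π = 1 := by ext a; simp
        rw [h1] at hb
        rcases hb with hb | hb
        · rw [hb]; exact one_mul_one'
        · rw [hb, mul_l0_sq T]; exact one_mul_one'
      rcases hb with hb | hb
      · left; exact ⟨⟨b, hb0⟩, Finset.mem_univ _, hb.symm⟩
      · right; exact ⟨⟨b, hb0⟩, Finset.mem_univ _, hb.symm⟩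
    · rintro (⟨b, -, rfl⟩ | ⟨b, -, rfl⟩)
      · exact ⟨Finset.mem_univ _, comp_sq_ne D hYA hY hπ2 b.2⟩
      · exact ⟨Finset.mem_univ _, sq2 D T hYA hY hπ2 hπ3 b.2⟩
  have hdisj : Disjoint (Finset.univ.image (fun b : NT Y => b.1.comp π))
      (Finset.univ.image (fun b : NT Y => b.1.comp π * l0)) := by
    rw [Finset.disjoint_left]
    intro l h1 h2
    obtain ⟨b, -, rfl⟩ := Finset.mem_image.1 h1
    obtain ⟨b', -, h3⟩ := Finset.mem_image.1 h2
    have h4 := DFunLike.congr_fun h3 ⟨t, D.bsw.t_mem⟩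
    rw [MonoidHom.mul_apply, hb1, hb1, l0_t D T, one_mul] at h4
    exact hne h4.symm
  rw [hset, Finset.sum_union hdisj, Finset.sum_image, Finset.sum_image, Finset.sum_add_distrib]
  · intro b _ b' _ h
    have h2 : b.1.comp π = b'.1.comp π := (mul_l0_cancel T).1 h
    exact Subtype.ext (comp_inj hYA hπ2 h2)
  · intro b _ b' _ h
    exact Subtype.ext (comp_inj hYA hπ2 h)

end sum

end Cfsg.Agent.Ree.PSLPsiC
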