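import Cfsg.Agent.Ree.PSLPsiC
import Cfsg.Agent.Characters.Brauer
import Cfsg.Agent.Ree.PSLTori

/-!
# Class functions of `PSL₂(q)`, `q ≡ 3, 5 (mod 8)`, vanishing on the elements of even order: the theorem
-/

set_option autoImplicit false
set_option linter.unusedSectionVars false

open scoped ComplexConjugate
open Cfsg

namespace Cfsg.Agent.Ree.PSLPsiD

open Cfsg.Agent.Characters.Core Cfsg.Agent.Characters.Linear Cfsg.Agent.Characters.ClassMul
open Cfsg.Agent.Classification.BSW.Setup Cfsg.Agent.Classification.BSW.Theta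
open Cfsg.Agent.Classification.BSW.BetaSum Cfsg.Agent.Classification.BSW.SqSum
open Cfsg.Agent.Classification.BSW.Good Cfsg.Agent.Classification.BSW.Order
open Cfsg.Agent.Ree.PSLCharA Cfsg.Agent.Ree.PSLCharDef Cfsg.Agent.Ree.PSLCharB
open Cfsg.Agent.Ree.PSLCharC Cfsg.Agent.Ree.PSLCharD Cfsg.Agent.Ree.PSLCharE
open Cfsg.Agent.Ree.PSLPsi Cfsg.Agent.Ree.PSLPsiB Cfsg.Agent.Ree.PSLPsiC Cfsg.Agent.Ree.VecDef

/-- representative of a class -/
noncomputable def rep {Y : Type*} [Group Y] (c : BT Y) : NT Y := Classical.choose (cls_surj c)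

theorem cls_rep {Y : Type*} [Group Y] (c : BT Y) : cls (rep c) = c :=
  Classical.choose_spec (cls_surj c)

theorem mul_eq_one_of_invNT {Y : Type*} [Group Y] {b b' : NT Y} (h : b' = invNT b) :
    b.1 * b'.1 = 1 := by
  rw [h, invNT_val]
  ext y
  simp

theorem eq_invNT_of_mul {Y : Type*} [Group Y] {b b' : NT Y} (h : b.1 * b'.1 = 1) :
    b' = invNT b := by
  apply Subtype.ext
  rw [invNT_val]
  ext y
  have h1 := DFunLike.congr_fun h y
  rw [MonoidHom.mul_apply, MonoidHom.one_apply] at h1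
  rw [MonoidHom.inv_apply, eq_inv_of_mul_eq_one_right h1]

theorem cls_eq_iff' {Y : Type*} [Group Y] (b b' : NT Y) :
    cls b = cls b' ↔ b.1 = b'.1 ∨ b.1 * b'.1 = 1 := by
  rw [cls_eq_iff]
  constructor
  · rintro (h | h)
    · left; rw [h]
    · right; exact mul_eq_one_of_invNT h
  · rintro (h | h)
    · left; exact (Subtype.ext h).symm
    · right; exact eq_invNT_of_mul h

theorem rep_cls {Y : Type*} [Group Y] (b : NT Y) :
    (rep (cls b)).1 = b.1 ∨ (rep (cls b)).1 * b.1 = 1 :=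
  (cls_eq_iff' _ _).1 (cls_rep (cls b))

theorem rep_eq_iff {Y : Type*} [Group Y] (c c' : BT Y) :
    c = c' ↔ (rep c).1 = (rep c').1 ∨ (rep c).1 * (rep c').1 = 1 := by
  rw [← cls_eq_iff', cls_rep, cls_rep]

section nInv

variable {L : Type*} [Group L] [Fintype L]

theorem nInv_eq : ClassSum.nInv L = numInv L := by
  classical
  rw [ClassSum.nInv_def, numInv_def, Nat.card_eq_fintype_card, Fintype.card_subtype]
  congr 1
  ext w
  rw [Finset.mem_filter, Finset.mem_filter]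
  constructor
  · rintro ⟨-, h⟩
    refine ⟨Finset.mem_univ _, ?_, ClassSum.sq_eq_one_of_orderOf h⟩
    rintro rfl
    rw [orderOf_one] at h
    omega
  · rintro ⟨-, h1, h2⟩
    exact ⟨Finset.mem_univ _, ClassSum.orderOf_eq_two h2 h1⟩

end nInv

section main

variable {L : Type*} [Group L] [Fintype L] {A B : Subgroup L} {t s r : L} {m : ℕ} {ε : ℤ}
  (D : PSLData A B t s r m ε) {φ χ₁ χ₂ : IrrCharacter L} {l0 : A →* ℂˣ}
  {f : (A →* ℂˣ) → IrrCharacter L} (T : TabA A ε φ χ₁ χ₂ l0 f)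
  {g : (B →* ℂˣ) → IrrCharacter L} (S : TabB A B ε φ χ₁ χ₂ f g)
  {Y : Type*} [Group Y] [Finite Y] {ι : Y →* L} (hι : Function.Injective ι)
  (hYA : ∀ y, ι y ∈ A) (hY : Nat.card Y = m)
  {π : A →* Y} (hπ1 : ∀ a : A, ι (π a) = (a : L) ^ (m + 1))
  (hπ2 : ∀ y, π ⟨ι y, hYA y⟩ = y) (hπ3 : π ⟨t, D.bsw.t_mem⟩ = 1)

/-- the characters in the three vectors -/
def th (φ χ₁ χ₂ : IrrCharacter L) : Fin 3 → IrrCharacter L := ![χ₁, χ₂, φ]

/-- the signs -/
def sg : Fin 3 → ℤ := ![1, 1, -1]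

theorem sg_sq (k : Fin 3) : sg k * sg k = 1 := by fin_cases k <;> rfl

include T in
theorem th_ne_one (k : Fin 3) : th φ χ₁ χ₂ k ≠ one := by
  fin_cases k
  · exact T.χ₁_ne
  · exact T.χ₂_ne
  · exact T.φ_ne

include T in
theorem th_inj (k k' : Fin 3) : th φ χ₁ χ₂ k = th φ χ₁ χ₂ k' ↔ k = k' := by
  have h1 := T.χ₁_χ₂
  have h2 := T.χ₁_φ
  have h3 := T.χ₂_φ
  constructor
  · intro h
    fin_cases k <;> fin_cases k'
    · rfl
    · exact absurd h h1
    · exact absurd h h2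
    · exact absurd h.symm h1
    · rfl
    · exact absurd h h3
    · exact absurd h.symm h2
    · exact absurd h.symm h3
    · rfl
  · intro h
    rw [h]

include T in
theorem th_ne_f (k : Fin 3) (l : A →* ℂˣ) (hl : l * l ≠ 1) : th φ χ₁ χ₂ k ≠ f l := by
  fin_cases k
  · exact (T.f_ne l hl).2.2.1.symm
  · exact (T.f_ne l hl).2.2.2.symm
  · exact (T.f_ne l hl).2.1.symm

include S in
theorem th_ne_g (k : Fin 3) (l : B →* ℂˣ) (hl : l ≠ 1) : th φ χ₁ χ₂ k ≠ g l := by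
  fin_cases k
  · exact (S.g_ne l hl).2.2.1.symm
  · exact (S.g_ne l hl).2.2.2.symm
  · exact (S.g_ne l hl).2.1.symm

theorem isClass_irr (χ : IrrCharacter L) : IsClassFunction L (χ : L → ℂ) :=
  isIrr_isClassFunction χ.2

theorem irr_conj_eq (χ : IrrCharacter L) (l k : L) : (χ : L → ℂ) (k * l * k⁻¹) = (χ : L → ℂ) l :=
  isIrr_isClassFunction χ.2 l k

theorem gen_sign (n : ℤ) (hn : n = 1 ∨ n = -1) {χ : L → ℂ} (hχ : IsGeneralizedCharacter L χ) :
    IsGeneralizedCharacter L ((n : ℂ) • χ) := by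
  rcases hn with rfl | rfl
  · have : ((1 : ℤ) : ℂ) • χ = χ := by simp
    rw [this]; exact hχ
  · have : ((-1 : ℤ) : ℂ) • χ = -χ := by simp
    rw [this]; exact Cfsg.Agent.Characters.Brauer.isGeneralizedCharacter_neg hχ

theorem sg_cases (k : Fin 3) : sg k = 1 ∨ sg k = -1 := by
  fin_cases k
  · left; rfl
  · left; rfl
  · right; rfl

theorem gen_pf (hε : ε = 1 ∨ ε = -1) (k : Fin 3) :
    IsGeneralizedCharacter L (pf ε (th φ χ₁ χ₂ k) (sg k)) := by
  rw [pf_eq]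
  exact Cfsg.Agent.Characters.Brauer.isGeneralizedCharacter_add
    (gen_sign ε hε ⟨1, 0, isCharacter_one, isCharacter_zero, by simp⟩)
    (gen_sign _ (sg_cases k) (gen_irr _))

include D in
/-- values of the irreducible characters on elements of even order -/
theorem exists_even {l : L} (hl : 2 ∣ orderOf l) :
    ∃ a : A, a ≠ 1 ∧ (a : L) ^ m = t ∧ ∀ χ : IrrCharacter L, (χ : L → ℂ) l = (χ : L → ℂ) a := by
  obtain ⟨g, hg, hg2⟩ := even_cases D hl
  refine ⟨⟨g * l * g⁻¹, hg⟩, ?_, hg2, fun χ => (irr_conj_eq χ l g).symm⟩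
  intro h
  rw [h] at hg2
  apply D.bsw.t_ne
  rw [← hg2]; simp

include D T in
theorem th_even (k : Fin 3) {a : A} (ha : a ≠ 1) (hat : (a : L) ^ m = t) :
    (ε : ℂ) + sg k * (th φ χ₁ χ₂ k : L → ℂ) a = 0 := by
  have h1 : ((l0 a : ℂˣ) : ℂ) = -1 := by rw [l0_of_pow_t D T hat]; simp
  have ha' : (a : L) ≠ 1 := fun h => ha (Subtype.ext h)
  fin_cases k
  · show (ε : ℂ) + ((1 : ℤ) : ℂ) * (χ₁ : L → ℂ) a = 0
    rw [T.χ₁_A a ha, h1]; push_cast; ring
  · show (ε : ℂ) + ((1 : ℤ) : ℂ) * (χ₂ : L → ℂ) a = 0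
    rw [T.χ₂_A a ha, h1]; push_cast; ring
  · show (ε : ℂ) + ((-1 : ℤ) : ℂ) * (φ : L → ℂ) a = 0
    rw [T.φ_A a a.2 ha']; push_cast; ring

end main

section assemble

variable {L : Type*} [Group L] [Fintype L] {A B : Subgroup L} {t s r : L} {m : ℕ} {ε : ℤ}
  (D : PSLData A B t s r m ε) {φ χ₁ χ₂ : IrrCharacter L} {l0 : A →* ℂˣ}
  {f : (A →* ℂˣ) → IrrCharacter L} (T : TabA A ε φ χ₁ χ₂ l0 f)
  {g : (B →* ℂˣ) → IrrCharacter L} (S : TabB A B ε φ χ₁ χ₂ f g)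
  {Y : Type*} [Group Y] [Finite Y] {ι : Y →* L} (hι : Function.Injective ι)
  (hYA : ∀ y, ι y ∈ A) (hY : Nat.card Y = m)
  {π : A →* Y} (hπ1 : ∀ a : A, ι (π a) = (a : L) ^ (m + 1))
  (hπ2 : ∀ y, π ⟨ι y, hYA y⟩ = y) (hπ3 : π ⟨t, D.bsw.t_mem⟩ = 1)

include T S hπ1 hπ2 hπ3 hY hYA

/-- sums over the irreducible characters, in terms of classes modulo inversion -/
theorem sum_irr_BT [Fintype (IrrCharacter L)] (F : IrrCharacter L → ℂ) :
    ∑ χ : IrrCharacter L, F χ = F one + F φ + F χ₁ + F χ₂ +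
      ∑ b : BT Y, (F (f ((rep b).1.comp π)) + F (f ((rep b).1.comp π * l0))) +
      ∑ b : BT B, F (g (rep b).1) := by
  classical
  have := finite_hom (comm_sub D.bsw)
  have := Fintype.ofFinite (A →* ℂˣ)
  have := finite_hom (comm_subB D.tiB)
  have := Fintype.ofFinite (B →* ℂˣ)
  have : Fintype (NT Y) := Fintype.ofFinite _
  have hYodd : Odd (Nat.card Y) := by rw [hY]; exact D.m_odd
  rw [sum_irr_filter D T S F, sum_A D T hYA hY hπ1 hπ2 hπ3 (fun l => F (f l))]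
  have h1 : ∑ b : NT Y, (F (f (b.1.comp π)) + F (f (b.1.comp π * l0))) =
      2 * ∑ b : BT Y, (F (f ((rep b).1.comp π)) + F (f ((rep b).1.comp π * l0))) := by
    rw [← sum_NT hYodd]
    refine Finset.sum_congr rfl (fun b _ => ?_)
    exact (F_inv D T hYA hY hπ2 hπ3 (rep (cls b)).2 b.2 (rep_cls b) F).symm
  have h2 : ∑ l ∈ Finset.univ.filter (fun l : B →* ℂˣ => l ≠ 1), F (g l) =
      2 * ∑ b : BT B, F (g (rep b).1) := by
    rw [← sum_NT (odd_B D)]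
    have h3 : ∑ b : NT B, F (g (rep (cls b)).1) = ∑ b : NT B, F (g b.1) := by
      refine Finset.sum_congr rfl (fun b _ => ?_)
      rw [(S.g_inj _ _ (rep (cls b)).2 b.2).2 (rep_cls b)]
    rw [h3]
    exact Finset.sum_subtype _ (fun l => by simp) (fun l => F (g l))
  rw [h1, h2]
  ring

theorem psi : Psi ι B m ε (fun k => pf ε (th φ χ₁ χ₂ k) (sg k))
    (fun b : BT Y => xf f l0 π (rep b).1) (fun b : BT B => (g (rep b).1 : L → ℂ)) := by
  classical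
  have hfin := finite_irr (G := L)
  have := Fintype.ofFinite (IrrCharacter L)
  have hε := eps_sq D
  have hm0 : (m : ℂ) ≠ 0 := by exact_mod_cast D.m_odd.pos.ne'
  have hA2 : (Nat.card A : ℂ) = 2 * m := by rw [D.card_A]; push_cast; ring
  have hA0 : (Nat.card A : ℂ) ≠ 0 := card_ne_zero_complex
  have hB0 : (2 * (m : ℂ) + ε) ≠ 0 := by
    have h1 : (Nat.card B : ℂ) = 2 * m + ε := by exact_mod_cast D.card_B
    rw [← h1]; exact card_ne_zero_complex
  have hq0 : (4 * (m : ℂ) + ε) ≠ 0 := by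
    have h1 := D.m_odd.pos
    intro h0
    have : (4 * (m : ℤ) + ε) = 0 := by exact_mod_cast h0
    rcases D.ε_cases with h2 | h2 <;> omega
  have s1 := fun b : BT Y => sq1 D T hYA hY hπ2 hπ3 (rep b).2
  have s2 := fun b : BT Y => sq2 D T hYA hY hπ2 hπ3 (rep b).2
  -- values of irreducible characters on involutions
  have hinv : ∀ w : L, orderOf w = 2 → ∀ χ : IrrCharacter L, (χ : L → ℂ) w = (χ : L → ℂ) t := by
    intro w hw χ
    obtain ⟨k, hk⟩ := D.bsw.conj w (by rintro rfl; rw [orderOf_one] at hw; omega)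
      (ClassSum.sq_eq_one_of_orderOf hw)
    rw [← hk]
    exact (irr_conj_eq χ w k).symm
  have hT1 : (⟨t, D.bsw.t_mem⟩ : A) ≠ 1 := fun h => D.bsw.t_ne (congrArg Subtype.val h)
  have hl0t : ((l0 ⟨t, D.bsw.t_mem⟩ : ℂˣ) : ℂ) = -1 := by rw [l0_t D T]; simp
  have hχ₁t : (χ₁ : L → ℂ) t = -ε := by
    have := T.χ₁_A ⟨t, D.bsw.t_mem⟩ hT1
    rw [hl0t] at this
    rw [show (χ₁ : L → ℂ) t = _ from this]; ring
  have hχ₂t : (χ₂ : L → ℂ) t = -ε := by
    have := T.χ₂_A ⟨t, D.bsw.t_mem⟩ hT1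
    rw [hl0t] at this
    rw [show (χ₂ : L → ℂ) t = _ from this]; ring
  have hφt : (φ : L → ℂ) t = ε := T.φ_A t D.bsw.t_mem D.bsw.t_ne
  have hsum : ∀ χ : IrrCharacter L, ∑ l : L, (χ : L → ℂ) l * (ClassSum.phi l : ℂ) =
      (ClassSum.nInv L : ℂ) ^ 2 * ((χ : L → ℂ) t) ^ 2 / (χ : L → ℂ) 1 := by
    intro χ
    rw [← ClassSum.sum_phi (Or.inl χ.2) ((χ : L → ℂ) t) (fun w hw => hinv w hw χ)]
    exact Finset.sum_congr rfl (fun l _ => mul_comm _ _)
  have hphi1 : ∑ l : L, (ClassSum.phi l : ℂ) = (ClassSum.nInv L : ℂ) ^ 2 := by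
    have := hsum one
    simp only [one_apply, one_mul] at this
    rw [this]; ring
  refine
    { gen_p := fun k => gen_pf D.ε_cases k
      gen_x := fun b => Cfsg.Agent.Characters.Brauer.isGeneralizedCharacter_add (gen_irr _)
        (gen_irr _)
      gen_c := fun b => gen_irr _
      cl_p := ?_
      cl_x := ?_
      cl_c := fun b => isClass_irr _
      even_p := ?_
      even_x := ?_
      even_c := ?_
      pp := ?_
      xx := ?_
      cc := ?_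
      px := ?_
      pc := ?_
      xc := ?_
      p_one := fun k => ip_pf_one ε _ _ (th_ne_one T k)
      x_one := ?_
      c_one := fun b => ip_irr_one _ (S.g_ne _ (rep b).2).1
      reg_one := ?_
      reg_ne := ?_
      p_phi := ?_
      x_phi := ?_
      p_Y := ?_
      x_Y := ?_
      c_Y := ?_ }
  · intro k l h
    show (ε : ℂ) + _ * _ = (ε : ℂ) + _ * _
    rw [irr_conj_eq]
  · intro b l h
    show (f _ : L → ℂ) _ + (f _ : L → ℂ) _ = (f _ : L → ℂ) _ + (f _ : L → ℂ) _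
    rw [irr_conj_eq, irr_conj_eq]
  · intro k l hl
    obtain ⟨a, ha1, ha2, ha3⟩ := exists_even D hl
    show (ε : ℂ) + _ * _ = 0
    rw [ha3]
    exact th_even D T k ha1 ha2
  · intro b l hl
    obtain ⟨a, ha1, ha2, ha3⟩ := exists_even D hl
    show (f _ : L → ℂ) _ + (f _ : L → ℂ) _ = 0
    rw [ha3, ha3, T.f_A _ (s1 b) a ha1, T.f_A _ (s2 b) a ha1]
    have h1 : l0 a = -1 := l0_of_pow_t D T ha2
    rw [MonoidHom.mul_apply, h1]
    simp
    ring
  · intro b l hl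
    obtain ⟨a, ha1, ha2, ha3⟩ := exists_even D hl
    rw [ha3, S.g_A _ (rep b).2 a a.2 (fun h => ha1 (Subtype.ext h))]
  · intro k l
    rw [ip_pf_pf _ _ _ _ _ (th_ne_one T k) (th_ne_one T l)]
    by_cases h : k = l
    · subst h
      rw [if_pos rfl, ip_irr_self]
      have h1 : (sg k : ℂ) * sg k = 1 := by exact_mod_cast sg_sq k
      linear_combination hε + h1
    · rw [if_neg h, ip_irr_ne _ _ (fun h1 => h ((th_inj T k l).1 h1))]
      linear_combination hε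
  · intro b b'
    rw [ip_xf D T hYA hY hπ2 hπ3 (rep b).2 (rep b').2]
    by_cases h : b = b'
    · rw [if_pos h, if_pos ((rep_eq_iff b b').1 h)]
    · rw [if_neg h, if_neg (fun h1 => h ((rep_eq_iff b b').2 h1))]
  · intro b b'
    by_cases h : b = b'
    · rw [if_pos h, h, ip_irr_self]
    · rw [if_neg h, ip_irr_ne]
      intro h1
      exact h ((rep_eq_iff b b').2 ((S.g_inj _ _ (rep b).2 (rep b').2).1 h1))
  · intro k b
    show classInner (pf ε (th φ χ₁ χ₂ k) (sg k)) ((f _ : L → ℂ) + (f _ : L → ℂ)) = 0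
    rw [classInner_add_right, ip_pf_irr _ _ _ _ (T.f_ne _ (s1 b)).1 (th_ne_f T k _ (s1 b)),
      ip_pf_irr _ _ _ _ (T.f_ne _ (s2 b)).1 (th_ne_f T k _ (s2 b)), add_zero]
  · intro k b
    exact ip_pf_irr _ _ _ _ (S.g_ne _ (rep b).2).1 (th_ne_g S k _ (rep b).2)
  · intro b b'
    show classInner ((f _ : L → ℂ) + (f _ : L → ℂ)) (g _ : L → ℂ) = 0
    rw [classInner_add_left, ip_irr_ne _ _ (S.g_ne_f _ (rep b').2 _ (s1 b)).symm,
      ip_irr_ne _ _ (S.g_ne_f _ (rep b').2 _ (s2 b)).symm, add_zero]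
  · intro b
    show classInner ((f _ : L → ℂ) + (f _ : L → ℂ)) (1 : L → ℂ) = 0
    rw [classInner_add_left, ip_irr_one _ (T.f_ne _ (s1 b)).1, ip_irr_one _ (T.f_ne _ (s2 b)).1,
      add_zero]
  · -- regular character at 1
    have h1 := Cfsg.Agent.S0145.sum_irr_mul_conj (1 : L) 1
    rw [if_pos (IsConj.refl 1)] at h1
    have h2 : Nat.card (Subgroup.centralizer ({(1 : L)} : Set L)) = Nat.card L := by
      have : Subgroup.centralizer ({(1 : L)} : Set L) = ⊤ := by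
        rw [Subgroup.eq_top_iff']
        intro x
        rw [Subgroup.mem_centralizer_singleton_iff, mul_one, one_mul]
      rw [this, Subgroup.card_top]
    rw [h2, sum_irr_BT D T S hYA hY hπ1 hπ2 hπ3] at h1
    have e1 : ∀ b : BT Y, (f ((rep b).1.comp π) : L → ℂ) 1 * conj ((f ((rep b).1.comp π) : L → ℂ) 1) +
        (f ((rep b).1.comp π * l0) : L → ℂ) 1 * conj ((f ((rep b).1.comp π * l0) : L → ℂ) 1) =
        2 * (2 * (m : ℂ) + ε) * xf f l0 π (rep b).1 1 := by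
      intro b
      show _ = _ * ((f _ : L → ℂ) 1 + (f _ : L → ℂ) 1)
      rw [char_one_real, char_one_real, T.f_deg _ (s1 b), T.f_deg _ (s2 b), hA2]
      ring
    have e2 : ∀ b : BT B, (g (rep b).1 : L → ℂ) 1 * conj ((g (rep b).1 : L → ℂ) 1) =
        2 * (2 * (m : ℂ)) * (g (rep b).1 : L → ℂ) 1 := by
      intro b
      rw [char_one_real, S.g_deg _ (rep b).2, hA2]
    rw [Finset.sum_congr rfl (fun b _ => e1 b), Finset.sum_congr rfl (fun b _ => e2 b),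
      ← Finset.mul_sum, ← Finset.mul_sum, one_apply, map_one, char_one_real, char_one_real,
      char_one_real, T.φ_deg, T.χ₁_deg, T.χ₂_deg, hA2] at h1
    rw [← h1]
    show (4 * (m : ℂ) + 2 * ε) * (((ε : ℂ) + ((1 : ℤ) : ℂ) * (χ₁ : L → ℂ) 1) +
      ((ε : ℂ) + ((1 : ℤ) : ℂ) * (χ₂ : L → ℂ) 1)) -
      2 * (4 * m + ε) * ((ε : ℂ) + ((-1 : ℤ) : ℂ) * (φ : L → ℂ) 1) + _ + _ = _
    rw [T.φ_deg, T.χ₁_deg, T.χ₂_deg, hA2]
    push_cast
    linear_combination 2 * hε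
  · -- regular character off 1
    intro l hl
    have h1 := Cfsg.Agent.S0145.sum_irr_mul_conj l 1
    rw [if_neg (by
      intro h2
      obtain ⟨c, hc⟩ := isConj_iff.1 h2
      apply hl
      have : l = c⁻¹ * (c * l * c⁻¹) * c := by group
      rw [this, hc]; group), sum_irr_BT D T S hYA hY hπ1 hπ2 hπ3] at h1
    have e1 : ∀ b : BT Y, (f ((rep b).1.comp π) : L → ℂ) l * conj ((f ((rep b).1.comp π) : L → ℂ) 1) +
        (f ((rep b).1.comp π * l0) : L → ℂ) l * conj ((f ((rep b).1.comp π * l0) : L → ℂ) 1) =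
        2 * (2 * (m : ℂ) + ε) * xf f l0 π (rep b).1 l := by
      intro b
      show _ = _ * ((f _ : L → ℂ) l + (f _ : L → ℂ) l)
      rw [char_one_real, char_one_real, T.f_deg _ (s1 b), T.f_deg _ (s2 b), hA2]
      ring
    have e2 : ∀ b : BT B, (g (rep b).1 : L → ℂ) l * conj ((g (rep b).1 : L → ℂ) 1) =
        2 * (2 * (m : ℂ)) * (g (rep b).1 : L → ℂ) l := by
      intro b
      rw [char_one_real, S.g_deg _ (rep b).2, hA2]
      ring
    rw [Finset.sum_congr rfl (fun b _ => e1 b), Finset.sum_congr rfl (fun b _ => e2 b),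
      ← Finset.mul_sum, ← Finset.mul_sum, one_apply, one_apply, map_one, char_one_real,
      char_one_real, char_one_real, T.φ_deg, T.χ₁_deg, T.χ₂_deg, hA2] at h1
    show (4 * (m : ℂ) + 2 * ε) * (((ε : ℂ) + ((1 : ℤ) : ℂ) * (χ₁ : L → ℂ) l) +
      ((ε : ℂ) + ((1 : ℤ) : ℂ) * (χ₂ : L → ℂ) l)) -
      2 * (4 * m + ε) * ((ε : ℂ) + ((-1 : ℤ) : ℂ) * (φ : L → ℂ) l) + _ + _ = 0
    push_cast
    linear_combination 2 * h1 + 2 * hε
  · -- phi, p
    intro k
    have h1 : ∑ l : L, pf ε (th φ χ₁ χ₂ k) (sg k) l * (ClassSum.phi l : ℂ) =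
        ε * (ClassSum.nInv L : ℂ) ^ 2 + sg k * ((ClassSum.nInv L : ℂ) ^ 2 *
          ((th φ χ₁ χ₂ k : L → ℂ) t) ^ 2 / (th φ χ₁ χ₂ k : L → ℂ) 1) := by
      rw [← hsum, ← hphi1, Finset.mul_sum, Finset.mul_sum, ← Finset.sum_add_distrib]
      refine Finset.sum_congr rfl (fun l _ => ?_)
      show ((ε : ℂ) + sg k * (th φ χ₁ χ₂ k : L → ℂ) l) * _ = _
      ring
    rw [h1]
    fin_cases k
    · show (ε : ℂ) * (ClassSum.nInv L : ℂ) ^ 2 + ((1 : ℤ) : ℂ) * ((ClassSum.nInv L : ℂ) ^ 2 *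
          ((χ₁ : L → ℂ) t) ^ 2 / (χ₁ : L → ℂ) 1) = (ClassSum.nInv L : ℂ) ^ 2 *
          ((ε : ℂ) + 2 / (4 * m + 2 * ε))
      rw [hχ₁t, T.χ₁_deg, hA2]
      have h4 : (4 * (m : ℂ) + 2 * ε) = 2 * (2 * m + ε) := by ring
      rw [h4]
      push_cast
      field_simp
      linear_combination (ClassSum.nInv L : ℂ) ^ 2 * hε
    · show (ε : ℂ) * (ClassSum.nInv L : ℂ) ^ 2 + ((1 : ℤ) : ℂ) * ((ClassSum.nInv L : ℂ) ^ 2 *
          ((χ₂ : L → ℂ) t) ^ 2 / (χ₂ : L → ℂ) 1) = (ClassSum.nInv L : ℂ) ^ 2 *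
          ((ε : ℂ) + 2 / (4 * m + 2 * ε))
      rw [hχ₂t, T.χ₂_deg, hA2]
      have h4 : (4 * (m : ℂ) + 2 * ε) = 2 * (2 * m + ε) := by ring
      rw [h4]
      push_cast
      field_simp
      linear_combination (ClassSum.nInv L : ℂ) ^ 2 * hε
    · show (ε : ℂ) * (ClassSum.nInv L : ℂ) ^ 2 + ((-1 : ℤ) : ℂ) * ((ClassSum.nInv L : ℂ) ^ 2 *
          ((φ : L → ℂ) t) ^ 2 / (φ : L → ℂ) 1) = (ClassSum.nInv L : ℂ) ^ 2 *
          ((ε : ℂ) - 1 / (4 * m + ε))
      rw [hφt, T.φ_deg, hA2]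
      have h4 : (2 * (2 * (m : ℂ)) + ε) = 4 * m + ε := by ring
      rw [h4]
      push_cast
      field_simp
      linear_combination (-(ClassSum.nInv L : ℂ) ^ 2) * hε
  · -- phi, x
    intro b
    have hft : ∀ l : A →* ℂˣ, l * l ≠ 1 → ((f l : L → ℂ) t) ^ 2 = 4 := by
      intro l hl
      have h1 := T.f_A l hl ⟨t, D.bsw.t_mem⟩ hT1
      rw [show (f l : L → ℂ) t = _ from h1]
      have h2 : (((l ⟨t, D.bsw.t_mem⟩)⁻¹ : ℂˣ) : ℂ) = (l ⟨t, D.bsw.t_mem⟩ : ℂ) := l_t_inv D.bsw l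
      have h3 := l_t_sq D.bsw l
      rw [h2]
      linear_combination (4 * (l ⟨t, D.bsw.t_mem⟩ : ℂ) * (l ⟨t, D.bsw.t_mem⟩ : ℂ)) * hε + 4 * h3
    show ∑ l : L, ((f _ : L → ℂ) l + (f _ : L → ℂ) l) * (ClassSum.phi l : ℂ) = _
    simp only [add_mul, Finset.sum_add_distrib]
    rw [hsum, hsum, hft _ (s1 b), hft _ (s2 b), T.f_deg _ (s1 b), T.f_deg _ (s2 b), hA2]
    have h4 : (4 * (m : ℂ) + 2 * ε) = 2 * (2 * m + ε) := by ring
    rw [h4]
    field_simp
    ring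
  · -- values on Y, p
    intro k y hy
    have hy1 : (⟨ι y, hYA y⟩ : A) ≠ 1 := by
      intro h
      apply hy
      rw [← hπ2 y, h, map_one]
    have hy2 : ι y ≠ 1 := fun h => hy1 (Subtype.ext h)
    have hl : ((l0 ⟨ι y, hYA y⟩ : ℂˣ) : ℂ) = 1 := by
      rw [l0_of_pow_one D T (pow_Y ι hY y)]; simp
    fin_cases k
    · show (ε : ℂ) + ((1 : ℤ) : ℂ) * (χ₁ : L → ℂ) (ι y) = 2 * ε
      have := T.χ₁_A ⟨ι y, hYA y⟩ hy1
      rw [show (χ₁ : L → ℂ) (ι y) = _ from this, hl]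
      push_cast; ring
    · show (ε : ℂ) + ((1 : ℤ) : ℂ) * (χ₂ : L → ℂ) (ι y) = 2 * ε
      have := T.χ₂_A ⟨ι y, hYA y⟩ hy1
      rw [show (χ₂ : L → ℂ) (ι y) = _ from this, hl]
      push_cast; ring
    · show (ε : ℂ) + ((-1 : ℤ) : ℂ) * (φ : L → ℂ) (ι y) = 0
      rw [T.φ_A _ (hYA y) hy2]
      push_cast; ring
  · -- values on Y, x
    intro b y hy
    have hy1 : (⟨ι y, hYA y⟩ : A) ≠ 1 := by
      intro h
      apply hy
      rw [← hπ2 y, h, map_one]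
    have hl : l0 ⟨ι y, hYA y⟩ = 1 := l0_of_pow_one D T (pow_Y ι hY y)
    have hx : xf f l0 π (rep (cls b)).1 = xf f l0 π b.1 :=
      xf_inv D T hYA hY hπ2 hπ3 (rep (cls b)).2 b.2 (rep_cls b)
    rw [hx]
    show (f (b.1.comp π) : L → ℂ) (ι y) + (f (b.1.comp π * l0) : L → ℂ) (ι y) = _
    have h1 := T.f_A _ (sq1 D T hYA hY hπ2 hπ3 b.2) ⟨ι y, hYA y⟩ hy1
    have h2 := T.f_A _ (sq2 D T hYA hY hπ2 hπ3 b.2) ⟨ι y, hYA y⟩ hy1
    rw [MonoidHom.mul_apply, hl, mul_one] at h2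
    rw [comp_Y hYA hπ2] at h1 h2
    rw [show (f (b.1.comp π) : L → ℂ) (ι y) = _ from h1,
      show (f (b.1.comp π * l0) : L → ℂ) (ι y) = _ from h2]
    ring
  · -- values on Y, c
    intro b y hy
    have hy1 : (⟨ι y, hYA y⟩ : A) ≠ 1 := by
      intro h
      apply hy
      rw [← hπ2 y, h, map_one]
    exact S.g_A _ (rep b).2 _ (hYA y) (fun h => hy1 (Subtype.ext h))

end assemble

/-- **The class functions exist.** -/
theorem exists_psi {L : Type*} [Group L] [Fintype L] {A B : Subgroup L} {t s r : L} {m : ℕ} {ε : ℤ}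
    (D : PSLData A B t s r m ε) (hm1 : 1 < m) {Y : Type*} [Group Y] [Finite Y] (ι : Y →* L)
    (hι : Function.Injective ι) (hYA : ∀ y, ι y ∈ A) (hY : Nat.card Y = m) :
    ∃ (p : Fin 3 → L → ℂ) (x : BT Y → L → ℂ) (c : BT B → L → ℂ), Psi ι B m ε p x c := by
  classical
  have hfin := finite_irr (G := L)
  have := Fintype.ofFinite (IrrCharacter L)
  have := finite_hom (comm_sub D.bsw)
  have := Fintype.ofFinite (A →* ℂˣ)
  obtain ⟨k, hk⟩ := D.m_odd
  have hcard : 4 ≤ Nat.card A := by rw [D.card_A]; omega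
  obtain ⟨δ, φ, χ₁, χ₂, l0, f, T⟩ := exists_tabA D.bsw hcard
  have hδ := PSLCharC.TabA.δ_eq D T
  subst hδ
  obtain ⟨g, S⟩ := exists_tabB D T
  obtain ⟨π, hπ1, hπ2, hπ3⟩ := exists_proj D ι hι hYA hY
  exact ⟨_, _, _, psi D T S hYA hY hπ1 hπ2 hπ3⟩

/-- The class functions exist for any group isomorphic to `PSL₂(q)`. -/
theorem exists_psi_of_iso {L : Type*} [Group L] [Fintype L] {F : Type*} [Field F] [Fintype F]
    (hL : Nonempty (L ≃* Matrix.ProjectiveSpecialLinearGroup (Fin 2) F)) {m : ℕ} {ε : ℤ}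
    (hε : ε = 1 ∨ ε = -1) (hm : Odd m) (hm1 : 1 < m) (hq : (Fintype.card F : ℤ) = 4 * m + ε)
    {Y : Type*} [Group Y] [Finite Y] (ι : Y →* L) (hι : Function.Injective ι)
    (hYc : ∀ a b : Y, a * b = b * a) (hY : Nat.card Y = m) :
    ∃ (B : Subgroup L) (p : Fin 3 → L → ℂ) (x : BT Y → L → ℂ) (c : BT B → L → ℂ),
      Psi ι B m ε p x c ∧ (Nat.card B : ℤ) = 2 * m + ε ∧
      2 * (Nat.card L : ℤ) = (4 * m + ε) * ((4 * m + ε) ^ 2 - 1) ∧
      ClassSum.nInv L * (4 * m) = Nat.card L := by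
  obtain ⟨e⟩ := hL
  obtain ⟨A0, B0, t0, s0, r0, D0⟩ := Cfsg.Agent.Ree.PSLTori.exists_data (F := F) m ε hε hm hq
  have D1 := data_map e.symm D0
  have hrange : Nat.card ι.range = m := by
    rw [← hY]
    exact (Nat.card_congr (MonoidHom.ofInjective hι).toEquiv).symm
  obtain ⟨A, B, t, s, r, D, hle⟩ := exists_data_ge D1 hm1 ι.range hrange (by
    rintro _ ⟨a, rfl⟩ _ ⟨b, rfl⟩
    rw [← map_mul, ← map_mul, hYc])
  obtain ⟨p, x, c, h⟩ := exists_psi D hm1 ι hι (fun y => hle ⟨y, rfl⟩) hY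
  refine ⟨B, p, x, c, h, D.card_B, D.card_L, ?_⟩
  rw [nInv_eq, D.bsw.card_eq, D.card_A]
  ring

end Cfsg.Agent.Ree.PSLPsiD
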