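import Mathlib
import Cfsg.Agent.S0251
import Cfsg.Agent.SmallSimple.SylowEight
import Cfsg.Agent.TwoFusion.AbelianJanko

/-!
# S0343, `q = 3`: local facts from `C(t) ≃* 2 × A₄`
-/

set_option autoImplicit false
set_option maxRecDepth 100000

open Subgroup

namespace Cfsg.Agent.Ree.QThreeLoc

abbrev A4 := alternatingGroup (Fin 4)

theorem f1 : ∀ y : A4, y ^ 3 = 1 → y ≠ 1 → ∀ g : A4, g * y ≠ y⁻¹ * g := by decide
theorem f2 : ∀ y : A4, y ^ 3 = 1 → y ≠ 1 → Fintype.card {g : A4 // g * y = y * g} = 3 := by decide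
theorem f3 : Fintype.card {g : A4 // g * g = 1 ∧ g ≠ 1} = 3 := by decide
theorem f4 : ∀ z : A4, (∀ g : A4, g * z = z * g) → z = 1 := by decide
theorem f5 : ∃ y : A4, y ^ 3 = 1 ∧ y ≠ 1 := by decide
theorem f6 : ∀ y : A4, y ^ 8 = 1 → y * y = 1 := by decide
theorem f7 : Fintype.card A4 = 12 := by decide

abbrev H := Multiplicative (ZMod 2) × A4

theorem z2 : ∀ i : Multiplicative (ZMod 2), i = 1 ∨ i = Multiplicative.ofAdd 1 := by decide
theorem z2' : ∀ i : Multiplicative (ZMod 2), i * i = 1 := by decide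

variable {G : Type*} [Group G] {t : G}

/-- the data: `Y` of order 3 with the counting facts -/
structure Q3 (t : G) (Y : Subgroup G) : Prop where
  ord_t : orderOf t = 2
  card_Y : Nat.card Y = 3
  comm : ∀ y ∈ Y, t * y = y * t
  card_C : Nat.card (centralizer ({t} : Set G)) = 24
  card_Cy : ∀ y ∈ Y, y ≠ 1 → Nat.card {g : G // g * t = t * g ∧ g * y = y * g} = 6
  no_inv : ∀ y ∈ Y, y ≠ 1 → ∀ g : G, g * t = t * g → g * y ≠ y⁻¹ * g
  card_inv : Nat.card {u : G // u * t = t * u ∧ u * u = 1 ∧ u ≠ 1 ∧ u ≠ t} = 6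

section local_

variable (e : centralizer ({t} : Set G) ≃* H)

/-- fibres of the projection to `A₄` -/
theorem card_fiber (P : A4 → Prop) :
    Nat.card {c : centralizer ({t} : Set G) // P (e c).2} = 2 * Nat.card {a : A4 // P a} := by
  have h1 : Nat.card {c : centralizer ({t} : Set G) // P (e c).2} = Nat.card {h : H // P h.2} :=
    Nat.card_congr (e.toEquiv.subtypeEquiv fun c => Iff.rfl)
  have h2 : {h : H // P h.2} ≃ Multiplicative (ZMod 2) × {a : A4 // P a} :=
    { toFun := fun h => (h.1.1, ⟨h.1.2, h.2⟩)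
      invFun := fun h => ⟨(h.1, h.2.1), h.2.2⟩
      left_inv := fun h => rfl
      right_inv := fun h => rfl }
  rw [h1, Nat.card_congr h2, Nat.card_prod]
  congr 1
  rw [Nat.card_eq_fintype_card]
  rfl

/-- subtypes of `G` inside the centralizer -/
theorem card_sub (Q : G → Prop) (P : A4 → Prop)
    (hPQ : ∀ c : centralizer ({t} : Set G), Q c ↔ P (e c).2) :
    Nat.card {g : G // g * t = t * g ∧ Q g} = 2 * Nat.card {a : A4 // P a} := by
  rw [← card_fiber e P]
  refine Nat.card_congr
    { toFun := fun g => ⟨⟨g.1, mem_centralizer_singleton_iff.2 g.2.1⟩, (hPQ _).1 g.2.2⟩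
      invFun := fun c => ⟨c.1, mem_centralizer_singleton_iff.1 c.1.2, (hPQ _).2 c.2⟩
      left_inv := fun g => rfl
      right_inv := fun c => rfl }

theorem e_t (ht : orderOf t = 2) (htC : t ∈ centralizer ({t} : Set G)) :
    e ⟨t, htC⟩ = (Multiplicative.ofAdd 1, 1) := by
  have h1 : ∀ c : centralizer ({t} : Set G), c * ⟨t, htC⟩ = ⟨t, htC⟩ * c := by
    intro c
    apply Subtype.ext
    exact mem_centralizer_singleton_iff.1 c.2
  have h2 : (e ⟨t, htC⟩).2 = 1 := by
    apply f4
    intro a
    have := congrArg e (h1 (e.symm (1, a)))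
    rw [map_mul, map_mul, e.apply_symm_apply] at this
    exact congrArg Prod.snd this
  have h3 : (e ⟨t, htC⟩).1 ≠ 1 := by
    intro h3
    have h4 : e ⟨t, htC⟩ = 1 := Prod.ext h3 h2
    have h5 : (⟨t, htC⟩ : centralizer ({t} : Set G)) = 1 := by
      rw [← e.symm_apply_apply ⟨t, htC⟩, h4, map_one]
    have h6 : t = 1 := congrArg Subtype.val h5
    rw [h6, orderOf_one] at ht
    omega
  rcases z2 (e ⟨t, htC⟩).1 with h4 | h4
  · exact absurd h4 h3
  · exact Prod.ext h4 h2

theorem commute_iff (c d : centralizer ({t} : Set G)) :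
    (c : G) * d = d * c ↔ (e c).2 * (e d).2 = (e d).2 * (e c).2 := by
  have h1 : (c : G) * d = d * c ↔ c * d = d * c := by rw [Subtype.ext_iff]; rfl
  have h2 : c * d = d * c ↔ e (c * d) = e (d * c) := e.injective.eq_iff.symm
  rw [h1, h2, map_mul, map_mul]
  constructor
  · intro h; exact congrArg Prod.snd h
  · intro h
    exact Prod.ext (mul_comm _ _) h

theorem exists_Q3 (e : centralizer ({t} : Set G) ≃* H) (ht : orderOf t = 2) :
    ∃ Y : Subgroup G, Q3 t Y := by
  obtain ⟨y0, hy0, hy1⟩ := f5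
  have htC : t ∈ centralizer ({t} : Set G) := mem_centralizer_singleton_iff.2 rfl
  have het := e_t e ht htC
  have ht2 : t * t = 1 := by rw [← pow_two, ← ht, pow_orderOf_eq_one]
  set y : centralizer ({t} : Set G) := e.symm (1, y0) with hy
  have hyo : orderOf y = 3 := by
    rw [hy, MulEquiv.orderOf_eq]
    apply orderOf_eq_prime
    · exact Prod.ext (one_pow 3) hy0
    · intro h
      exact hy1 (congrArg Prod.snd h)
  have hyG : orderOf (y : G) = 3 := by rw [Subgroup.orderOf_coe, hyo]
  have hmem : ∀ y' ∈ zpowers (y : G), ∃ (c : centralizer ({t} : Set G)) (w : A4), (c : G) = y' ∧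
      e c = (1, w) ∧ w ^ 3 = 1 ∧ (y' ≠ 1 → w ≠ 1) := by
    intro y' hy'
    obtain ⟨k, rfl⟩ := mem_zpowers_iff.1 hy'
    refine ⟨y ^ k, y0 ^ k, by simp, ?_, ?_, ?_⟩
    · rw [map_zpow, hy, e.apply_symm_apply]
      exact Prod.ext (one_zpow k) rfl
    · rw [← zpow_natCast, ← zpow_mul, mul_comm, zpow_mul, zpow_natCast, hy0, one_zpow]
    · intro h1 h2
      apply h1
      have h3 : y ^ k = 1 := by
        apply e.injective
        rw [map_zpow, hy, e.apply_symm_apply, map_one]
        exact Prod.ext (one_zpow k) h2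
      have := congrArg Subtype.val h3
      simpa using this
  refine ⟨zpowers (y : G), ?_⟩
  exact
    { ord_t := ht
      card_Y := by rw [Nat.card_zpowers, hyG]
      comm := by
        intro y' hy'
        obtain ⟨c, w, hc, -⟩ := hmem y' hy'
        rw [← hc]
        exact (mem_centralizer_singleton_iff.1 c.2).symm
      card_C := by
        rw [Nat.card_congr e.toEquiv, Nat.card_eq_fintype_card, Fintype.card_prod, f7]
        rfl
      card_Cy := by
        intro y' hy' hne
        obtain ⟨c, w, hc, hcw, hw3, hw1⟩ := hmem y' hy'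
        rw [card_sub e (fun g => g * y' = y' * g) (fun a => a * w = w * a)]
        · rw [Nat.card_eq_fintype_card, f2 w hw3 (hw1 hne)]
        · intro d
          rw [← hc, commute_iff e d c, hcw]
      no_inv := by
        intro y' hy' hne g hg h1
        obtain ⟨c, w, hc, hcw, hw3, hw1⟩ := hmem y' hy'
        have hd : g ∈ centralizer ({t} : Set G) := mem_centralizer_singleton_iff.2 hg
        have h2 : (⟨g, hd⟩ : centralizer ({t} : Set G)) * c = c⁻¹ * ⟨g, hd⟩ := by
          apply Subtype.ext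
          simp only [Subgroup.coe_mul, Subgroup.coe_inv, hc]
          exact h1
        have h3 := congrArg (fun x => (e x).2) h2
        simp only [map_mul, map_inv, Prod.snd_mul, Prod.snd_inv, hcw] at h3
        exact f1 w hw3 (hw1 hne) _ h3
      card_inv := by
        rw [card_sub e (fun g => g * g = 1 ∧ g ≠ 1 ∧ g ≠ t) (fun a => a * a = 1 ∧ a ≠ 1)]
        · rw [Nat.card_eq_fintype_card, f3]
        · intro c
          have h1 : (c : G) * c = 1 ↔ c * c = 1 := by rw [Subtype.ext_iff]; rfl
          have h2 : c * c = 1 ↔ (e c).2 * (e c).2 = 1 := by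
            rw [← e.injective.eq_iff, map_mul, map_one]
            constructor
            · intro h; exact congrArg Prod.snd h
            · intro h; exact Prod.ext (z2' _) h
          have h3 : ((c : G) ≠ 1 ∧ (c : G) ≠ t) ↔ (e c).2 ≠ 1 := by
            constructor
            · rintro ⟨h4, h5⟩ h6
              rcases z2 (e c).1 with h7 | h7
              · apply h4
                have : c = 1 := by
                  apply e.injective
                  rw [map_one]
                  exact Prod.ext h7 h6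
                rw [this]; rfl
              · apply h5
                have : c = ⟨t, htC⟩ := by
                  apply e.injective
                  rw [het]
                  exact Prod.ext h7 h6
                rw [this]
            · intro h4
              refine ⟨fun h5 => h4 ?_, fun h5 => h4 ?_⟩
              · have : c = 1 := Subtype.ext h5
                rw [this, map_one]; rfl
              · have : c = ⟨t, htC⟩ := Subtype.ext h5
                rw [this, het]
          rw [h1, h2, h3] }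

end local_

section sylow

variable [Finite G]

/-- the Sylow 2-subgroups -/
theorem sylow (e : centralizer ({t} : Set G) ≃* H) (ht : orderOf t = 2)
    (hab : ∀ P : Sylow 2 G, ∀ a b : P, a * b = b * a) :
    (∀ P : Sylow 2 G, Nat.card P = 8) ∧ ∀ P : Sylow 2 G, ∀ x ∈ (P : Subgroup G), x * x = 1 := by
  have hC : Nat.card (centralizer ({t} : Set G)) = 24 := by
    rw [Nat.card_congr e.toEquiv, Nat.card_eq_fintype_card, Fintype.card_prod, f7]
    rfl
  have hP0 : IsPGroup 2 (zpowers t) := by
    apply IsPGroup.of_card (n := 1)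
    rw [Nat.card_zpowers, ht, pow_one]
  obtain ⟨S, hS⟩ := hP0.exists_le_sylow
  have htS : t ∈ (S : Subgroup G) := hS (mem_zpowers t)
  have hSC : (S : Subgroup G) ≤ centralizer ({t} : Set G) := by
    intro x hx
    rw [mem_centralizer_singleton_iff]
    exact congrArg Subtype.val (hab S ⟨x, hx⟩ ⟨t, htS⟩)
  have h1 : Nat.card S ∣ 24 := hC ▸ Subgroup.card_dvd_of_le hSC
  have h2 : 8 ∣ Nat.card G := by
    have : 24 ∣ Nat.card G := hC ▸ card_subgroup_dvd_card _
    exact Dvd.dvd.trans (by norm_num) this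
  have h3 : 8 ∣ Nat.card S := by
    have := S.pow_dvd_card_of_pow_dvd_card (n := 3) (by simpa using h2)
    simpa using this
  have h4 : Nat.card S = 8 := by
    obtain ⟨k, hk⟩ := IsPGroup.iff_card.1 S.isPGroup'
    have hk' : Nat.card (S : Subgroup G) = 2 ^ k := hk
    have h5 : Nat.card S = 2 ^ k := hk
    rw [h5] at h1 h3 ⊢
    have h6 : 2 ^ k ≤ 24 := Nat.le_of_dvd (by norm_num) h1
    have h7 : k < 5 := by
      by_contra h7
      have : 2 ^ 5 ≤ 2 ^ k := Nat.pow_le_pow_right (by norm_num) (by omega)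
      omega
    interval_cases k <;> omega
  have h5 : ∀ P : Sylow 2 G, Nat.card P = 8 := fun P => by
    rw [← h4]; exact Nat.card_congr (Sylow.equiv P S).toEquiv
  refine ⟨h5, ?_⟩
  have h6 : ∀ x ∈ (S : Subgroup G), x * x = 1 := by
    intro x hx
    have h7 : (⟨x, hSC hx⟩ : centralizer ({t} : Set G)) ^ 8 = 1 := by
      apply Subtype.ext
      have h8 : (⟨x, hx⟩ : (S : Subgroup G)) ^ 8 = 1 := by
        rw [← h4]; exact pow_card_eq_one'
      have := congrArg Subtype.val h8
      simpa using this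
    have h9 : (e ⟨x, hSC hx⟩).2 * (e ⟨x, hSC hx⟩).2 = 1 := by
      apply f6
      have h7' : e ⟨x, hSC hx⟩ ^ 8 = 1 := by rw [← map_pow, h7, map_one]
      exact congrArg Prod.snd h7'
    have h10 : e (⟨x, hSC hx⟩ * ⟨x, hSC hx⟩) = 1 := by
      rw [map_mul]
      exact Prod.ext (z2' _) h9
    have h11 : (⟨x, hSC hx⟩ * ⟨x, hSC hx⟩ : centralizer ({t} : Set G)) = 1 := by
      apply e.injective; rw [h10, map_one]
    exact congrArg Subtype.val h11
  intro P x hx
  obtain ⟨g, hg⟩ := MulAction.exists_smul_eq G S P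
  rw [← hg] at hx
  have h1 : g⁻¹ * x * g ∈ (S : Subgroup G) := by
    have h2 := Subgroup.mem_pointwise_smul_iff_inv_smul_mem.1 hx
    have h3 : (MulAut.conj g)⁻¹ • x = g⁻¹ * x * g := by
      rw [← map_inv, MulAut.smul_def, MulAut.conj_apply, inv_inv]
    rw [← h3]; exact h2
  have h2 := h6 _ h1
  calc x * x = g * ((g⁻¹ * x * g) * (g⁻¹ * x * g)) * g⁻¹ := by group
    _ = 1 := by rw [h2]; group

/-- `7` divides the order -/
theorem seven_dvd (h8 : ∀ P : Sylow 2 G, Nat.card P = 8)
    (hab : ∀ P : Sylow 2 G, ∀ a b : P, a * b = b * a)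
    (hexp : ∀ P : Sylow 2 G, ∀ x ∈ (P : Subgroup G), x * x = 1)
    (hconj : ∀ u v : G, orderOf u = 2 → orderOf v = 2 → IsConj u v) (ht : orderOf t = 2) :
    7 ∣ Nat.card G := by
  have hP0 : IsPGroup 2 (zpowers t) := by
    apply IsPGroup.of_card (n := 1)
    rw [Nat.card_zpowers, ht, pow_one]
  obtain ⟨S, hS⟩ := hP0.exists_le_sylow
  have htS : t ∈ (S : Subgroup G) := hS (mem_zpowers t)
  have hSab : IsMulCommutative (S : Subgroup G) := ⟨⟨fun a b => hab S a b⟩⟩
  have ht1 : t ≠ 1 := by rintro rfl; rw [orderOf_one] at ht; omega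
  have h1 := TwoFusion.AbelianJanko.ncard_orbit (normalizer ((S : Subgroup G) : Set G)) t
  have h2 : {y : G | ∃ n ∈ normalizer ((S : Subgroup G) : Set G), n * t * n⁻¹ = y} =
      ((S : Subgroup G) : Set G) \ {1} := by
    ext x
    constructor
    · rintro ⟨n, hn, rfl⟩
      refine ⟨(mem_normalizer_iff.1 hn t).1 htS, fun h3 => ht1 ?_⟩
      have h3 : n * t * n⁻¹ = 1 := h3
      calc t = n⁻¹ * (n * t * n⁻¹) * n := by group
        _ = 1 := by rw [h3]; group
    · rintro ⟨hx, hx1⟩
      have hxo : orderOf x = 2 := orderOf_eq_prime (by rw [pow_two]; exact hexp S x hx) hx1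
      obtain ⟨g, hg⟩ := isConj_iff.1 (hconj x t hxo ht)
      have hg' : x = g⁻¹ * t * g := by rw [← hg]; group
      obtain ⟨n, hn, hn'⟩ := S.conj_eq_normalizer_conj_of_mem t g htS (by rw [← hg']; exact hx)
      refine ⟨n⁻¹, inv_mem hn, ?_⟩
      rw [inv_inv, ← hn', hg']
  rw [h2] at h1
  have h3 : (((S : Subgroup G) : Set G) \ {1}).ncard + 1 = Nat.card S :=
    Set.ncard_sdiff_singleton_add_one (S : Subgroup G).one_mem
  rw [h8 S] at h3
  have h4 : 7 = (centralizer {t}).relIndex (normalizer ((S : Subgroup G) : Set G)) := by omega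
  rw [h4]
  exact (relIndex_dvd_card _ _).trans (card_subgroup_dvd_card _)

end sylow

end Cfsg.Agent.Ree.QThreeLoc
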