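import Mathlib

/-!
# S0343, `q = 3`: the numerical part

`a, b, b ∘ σ` are integral vectors of norm `4` with scalar products `2`; `τ = a + b + b ∘ σ`.
-/

set_option autoImplicit false

namespace Cfsg.Agent.Ree.QThreeNum

variable {ι : Type*} [DecidableEq ι]

omit [DecidableEq ι] in
theorem sq_one {x : ℤ} (h : x ^ 2 = 1) : x = 1 ∨ x = -1 := by
  have h1 : (x - 1) * (x + 1) = 0 := by linear_combination h
  rcases mul_eq_zero.1 h1 with h2 | h2
  · left; linarith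
  · right; linarith

theorem exists_one {s : Finset ι} {f : ι → ℤ} (h : ∑ i ∈ s, f i ^ 2 = 1) :
    ∃ p ∈ s, (f p = 1 ∨ f p = -1) ∧ ∀ k ∈ s, k ≠ p → f k = 0 := by
  obtain ⟨p, hp, hp0⟩ : ∃ p ∈ s, f p ≠ 0 := by
    by_contra hcon
    push Not at hcon
    rw [Finset.sum_eq_zero fun i hi => by rw [hcon i hi]; norm_num] at h
    norm_num at h
  rw [← Finset.add_sum_erase s _ hp] at h
  have h1 : 0 ≤ ∑ i ∈ s.erase p, f i ^ 2 := Finset.sum_nonneg fun i _ => sq_nonneg _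
  have h2 : 0 < f p ^ 2 := by positivity
  have h3 : f p ^ 2 = 1 := by omega
  have h4 : ∑ i ∈ s.erase p, f i ^ 2 = 0 := by omega
  refine ⟨p, hp, sq_one h3, fun k hk hkp => ?_⟩
  have h5 := (Finset.sum_eq_zero_iff_of_nonneg fun i _ => sq_nonneg (f i)).1 h4 k
    (Finset.mem_erase.2 ⟨hkp, hk⟩)
  exact pow_eq_zero_iff (two_ne_zero) |>.1 h5

theorem exists_two {s : Finset ι} {f : ι → ℤ} (h : ∑ i ∈ s, f i ^ 2 = 2) :
    ∃ p ∈ s, ∃ q ∈ s, p ≠ q ∧ (f p = 1 ∨ f p = -1) ∧ (f q = 1 ∨ f q = -1) ∧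
      ∀ k ∈ s, k ≠ p → k ≠ q → f k = 0 := by
  obtain ⟨p, hp, hp0⟩ : ∃ p ∈ s, f p ≠ 0 := by
    by_contra hcon
    push Not at hcon
    rw [Finset.sum_eq_zero fun i hi => by rw [hcon i hi]; norm_num] at h
    norm_num at h
  have h' := h
  rw [← Finset.add_sum_erase s _ hp] at h'
  have h1 : 0 ≤ ∑ i ∈ s.erase p, f i ^ 2 := Finset.sum_nonneg fun i _ => sq_nonneg _
  have h2 : 0 < f p ^ 2 := by positivity
  have h3 : f p ^ 2 = 1 := by
    have h4 : f p ^ 2 ≤ 2 := by omega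
    have h5 : f p ≤ 1 := by nlinarith
    have h6 : -1 ≤ f p := by nlinarith
    have h7 : f p = 1 ∨ f p = -1 := by omega
    rcases h7 with h7 | h7 <;> rw [h7] <;> norm_num
  have h4 : ∑ i ∈ s.erase p, f i ^ 2 = 1 := by omega
  obtain ⟨q, hq, hq1, hq2⟩ := exists_one h4
  rw [Finset.mem_erase] at hq
  refine ⟨p, hp, q, hq.2, Ne.symm hq.1, sq_one h3, hq1,
    fun k hk hkp hkq => hq2 k (Finset.mem_erase.2 ⟨hkp, hk⟩) hkq⟩

/-- the equations of case (i) -/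
theorem caseI {κ : ℚ} {P Q C I J : ℤ} (hC : C ≠ 0) (hI : I ≠ 0)
    (hJ : J ≠ 0) (h1 : 1 + P + Q + C = 0) (h2 : P + Q + I + J = 0)
    (h3 : 1 + 9 / (P : ℚ) + 9 / Q + 1 / C = κ) (h4 : 9 / (P : ℚ) + 9 / Q + 1 / I + 1 / J = κ)
    (hC1 : C ≠ -1) (hI1 : I ≠ 1) (hJ1 : J ≠ 1) : False := by
  have hC' : (C : ℚ) ≠ 0 := by exact_mod_cast hC
  have hI' : (I : ℚ) ≠ 0 := by exact_mod_cast hI
  have hJ' : (J : ℚ) ≠ 0 := by exact_mod_cast hJ
  have h5 : 1 / (I : ℚ) + 1 / J = 1 + 1 / C := by linarith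
  have h6 : (C : ℚ) * (I + J) = (1 + C) * (I * J) := by
    field_simp at h5
    linear_combination h5
  have h7 : (C : ℤ) * (I + J) = (1 + C) * (I * J) := by exact_mod_cast h6
  have h8 : I + J = 1 + C := by linarith
  rw [h8] at h7
  have h9 : (1 + C) * (C - I * J) = 0 := by linear_combination h7
  rcases mul_eq_zero.1 h9 with h10 | h10
  · exact hC1 (by linarith)
  · have h11 : (I - 1) * (J - 1) = 0 := by linear_combination -h8 - h10
    rcases mul_eq_zero.1 h11 with h12 | h12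
    · exact hI1 (by linarith)
    · exact hJ1 (by linarith)

/-- the equations of case (ii) -/
theorem caseII {κ : ℚ} {P Q I J : ℤ} (hP : P ≠ 0) (hQ : Q ≠ 0) (hI : I ≠ 0) (hJ : J ≠ 0)
    (h1 : 1 + P + 2 * I = 0) (h2 : P + Q + I + J = 0)
    (h3 : 1 + 9 / (P : ℚ) + 8 / I = κ) (h4 : 9 / (P : ℚ) + 4 / Q + 4 / I + 1 / J = κ)
    (hJ1 : J ≠ 1) (hmod : I % 8 = 2) : κ = 16 / 33 := by
  have hP' : (P : ℚ) ≠ 0 := by exact_mod_cast hP
  have hQ' : (Q : ℚ) ≠ 0 := by exact_mod_cast hQ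
  have hI' : (I : ℚ) ≠ 0 := by exact_mod_cast hI
  have hJ' : (J : ℚ) ≠ 0 := by exact_mod_cast hJ
  have h5 : 4 / (Q : ℚ) + 1 / J = 1 + 4 / I := by
    have h0 : 8 / (I : ℚ) = 2 * (4 / I) := by ring
    linarith
  have h6 : (I : ℚ) * (4 * J + Q) = (I + 4) * (Q * J) := by
    field_simp at h5
    linear_combination h5
  have h7 : I * (4 * J + Q) = (I + 4) * (Q * J) := by exact_mod_cast h6
  have hQI : Q = 1 + I - J := by linarith
  rw [hQI] at h7
  have h8 : (J - 1) * ((I + 4) * J - I * (I + 1)) = 0 := by linear_combination h7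
  have h9 : (I + 4) * J = I * (I + 1) := by
    rcases mul_eq_zero.1 h8 with h | h
    · exact absurd (by linarith) hJ1
    · linarith
  have h10 : (I + 4) ∣ 12 := ⟨J - I + 3, by linear_combination -h9⟩
  have h11 : I = -6 := by
    have h12 : |I + 4| ≤ 12 := Int.le_of_dvd (by norm_num) ((abs_dvd _ _).2 h10)
    obtain ⟨h13, h14⟩ := abs_le.1 h12
    obtain ⟨c, hc⟩ := h10
    have h15 : I = 2 ∨ I = -6 ∨ I = -14 := by omega
    rcases h15 with h | h | h
    · exfalso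
      apply hJ1
      rw [h] at h9
      linarith
    · exact h
    · exfalso
      rw [h] at hc
      omega
  have h12 : P = 11 := by rw [h11] at h1; linarith
  rw [← h3, h11, h12]
  norm_num

/-- The data. -/
structure Num [Fintype ι] (one : ι) (σ : ι → ι) (d τ a b : ι → ℤ) (κ : ℚ) : Prop where
  σσ : ∀ i, σ (σ i) = i
  d_pos : ∀ i, 0 < d i
  d_one : d one = 1
  d_eq : ∀ i, d i = 1 → i = one
  dσ : ∀ i, d (σ i) = d i
  aσ : ∀ i, a (σ i) = a i
  a_one : a one = 1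
  b_one : b one = 0
  bσ_one : b (σ one) = 0
  aa : ∑ i, a i ^ 2 = 4
  bb : ∑ i, b i ^ 2 = 4
  ab : ∑ i, a i * b i = 2
  bc : ∑ i, b i * b (σ i) = 2
  val : ∀ i, τ i = a i + b i + b (σ i)
  ad : ∑ i, a i * d i = 0
  bd : ∑ i, b i * d i = 0
  ac : ∑ i, (a i : ℚ) * ((τ i : ℚ) ^ 2 / d i) = κ
  bcl : ∑ i, (b i : ℚ) * ((τ i : ℚ) ^ 2 / d i) = κ
  mod8 : ∀ i, (8 : ℤ) ∣ d i - τ i

variable [Fintype ι] {one : ι} {σ : ι → ι} {d τ a b : ι → ℤ} {κ : ℚ}

omit [DecidableEq ι] in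
theorem Num.sum_comp (h : Num one σ d τ a b κ) {R : Type*} [AddCommMonoid R] (f : ι → R) :
    ∑ i, f (σ i) = ∑ i, f i :=
  Fintype.sum_equiv ⟨σ, σ, h.σσ, h.σσ⟩ _ _ fun _ => rfl

/-- the shape of `b` -/
theorem Num.shape (h : Num one σ d τ a b κ) :
    ∃ p q i j : ι, p ≠ q ∧ i ≠ j ∧ i ≠ σ j ∧ i ≠ σ i ∧ j ≠ σ j ∧
      (p ≠ i ∧ p ≠ j ∧ p ≠ σ i ∧ p ≠ σ j) ∧ (q ≠ i ∧ q ≠ j ∧ q ≠ σ i ∧ q ≠ σ j) ∧
      (b p = 1 ∨ b p = -1) ∧ (b q = 1 ∨ b q = -1) ∧ (b i = 1 ∨ b i = -1) ∧ (b j = 1 ∨ b j = -1) ∧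
      b (σ p) = b p ∧ b (σ q) = b q ∧ b (σ i) = 0 ∧ b (σ j) = 0 ∧
      (∀ k, k ≠ p → k ≠ q → k ≠ i → k ≠ j → b k = 0) ∧
      (∀ k, k ≠ i → k ≠ j → k ≠ σ i → k ≠ σ j → b (σ k) = b k) := by
  -- the vector `β = b - b ∘ σ`
  set β : ι → ℤ := fun k => b k - b (σ k) with hβ
  have hβσ : ∀ k, β (σ k) = - β k := by
    intro k
    simp only [hβ, h.σσ]
    ring
  have e1 : ∑ i, b (σ i) ^ 2 = 4 := by rw [h.sum_comp fun i => b i ^ 2, h.bb]
  have hββ : ∑ k, β k ^ 2 = 4 := by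
    have : ∀ k, β k ^ 2 = b k ^ 2 + b (σ k) ^ 2 - 2 * (b k * b (σ k)) := by
      intro k; simp only [hβ]; ring
    rw [Finset.sum_congr rfl fun k _ => this k, Finset.sum_sub_distrib, Finset.sum_add_distrib,
      h.bb, e1, ← Finset.mul_sum, h.bc]
    norm_num
  have hpos : ∑ k ∈ Finset.univ.filter (fun k => 0 < β k), β k ^ 2 = 2 := by
    have h1 : ∑ k ∈ Finset.univ.filter (fun k => β k < 0), β k ^ 2 =
        ∑ k ∈ Finset.univ.filter (fun k => 0 < β k), β k ^ 2 := by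
      refine Finset.sum_nbij' σ σ ?_ ?_ (fun k _ => h.σσ k) (fun k _ => h.σσ k) ?_
      · intro k hk
        simp only [Finset.mem_filter, Finset.mem_univ, true_and] at hk ⊢
        rw [hβσ]; omega
      · intro k hk
        simp only [Finset.mem_filter, Finset.mem_univ, true_and] at hk ⊢
        rw [hβσ]; omega
      · intro k _
        rw [hβσ]; ring
    have h2 : ∑ k ∈ Finset.univ.filter (fun k => ¬ 0 < β k), β k ^ 2 =
        ∑ k ∈ Finset.univ.filter (fun k => β k < 0), β k ^ 2 := by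
      symm
      apply Finset.sum_subset
      · intro k hk
        simp only [Finset.mem_filter, Finset.mem_univ, true_and] at hk ⊢
        omega
      · intro k hk hk'
        simp only [Finset.mem_filter, Finset.mem_univ, true_and] at hk hk'
        have : β k = 0 := by omega
        rw [this]; norm_num
    rw [← Finset.sum_filter_add_sum_filter_not Finset.univ (fun k => 0 < β k), h2, h1] at hββ
    omega
  obtain ⟨i, hi, j, hj, hij, hi1, hj1, hrest⟩ := exists_two hpos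
  simp only [Finset.mem_filter, Finset.mem_univ, true_and] at hi hj hrest
  replace hi1 : β i = 1 := by omega
  replace hj1 : β j = 1 := by omega
  have hzero : ∀ k, k ≠ i → k ≠ j → k ≠ σ i → k ≠ σ j → β k = 0 := by
    intro k h1 h2 h3 h4
    by_contra hne
    rcases lt_or_gt_of_ne hne with h5 | h5
    · have h6 : 0 < β (σ k) := by rw [hβσ]; omega
      have := hrest (σ k) h6 (fun e => h3 (by rw [← e, h.σσ])) (fun e => h4 (by rw [← e, h.σσ]))
      omega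
    · have := hrest k h5 h1 h2
      omega
  have hσi : β (σ i) = -1 := by rw [hβσ, hi1]
  have hσj : β (σ j) = -1 := by rw [hβσ, hj1]
  have n1 : i ≠ σ j := by intro e; rw [e, hσj] at hi1; omega
  have n2 : i ≠ σ i := by intro e; rw [← e] at hσi; omega
  have n3 : j ≠ σ j := by intro e; rw [← e] at hσj; omega
  have n4 : j ≠ σ i := by intro e; rw [e, hσi] at hj1; omega
  have n5 : σ i ≠ σ j := by
    intro e
    apply hij
    rw [← h.σσ i, e, h.σσ]
  -- norm of `b + b ∘ σ`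
  have hs : ∑ k, (b k + b (σ k)) ^ 2 = 12 := by
    have : ∀ k, (b k + b (σ k)) ^ 2 = b k ^ 2 + b (σ k) ^ 2 + 2 * (b k * b (σ k)) := by
      intro k; ring
    rw [Finset.sum_congr rfl fun k _ => this k, Finset.sum_add_distrib, Finset.sum_add_distrib,
      h.bb, e1, ← Finset.mul_sum, h.bc]
    norm_num
  set U : Finset ι := {i, j, σ i, σ j} with hU
  have hUsum : ∀ f : ι → ℤ, ∑ k ∈ U, f k = f i + f j + f (σ i) + f (σ j) := by
    intro f
    rw [hU, Finset.sum_insert, Finset.sum_insert, Finset.sum_insert, Finset.sum_singleton]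
    · ring
    · simpa using n5
    · simp only [Finset.mem_insert, Finset.mem_singleton, not_or]
      exact ⟨n4, n3⟩
    · simp only [Finset.mem_insert, Finset.mem_singleton, not_or]
      exact ⟨hij, n2, n1⟩
  have hUmem : ∀ k, k ∈ Uᶜ ↔ (k ≠ i ∧ k ≠ j ∧ k ≠ σ i ∧ k ≠ σ j) := by
    intro k
    rw [hU, Finset.mem_compl]
    simp only [Finset.mem_insert, Finset.mem_singleton, not_or]
  have hcomp : ∑ k ∈ Uᶜ, (b k + b (σ k)) ^ 2 = 4 * ∑ k ∈ Uᶜ, b k ^ 2 := by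
    rw [Finset.mul_sum]
    refine Finset.sum_congr rfl fun k hk => ?_
    obtain ⟨h1, h2, h3, h4⟩ := (hUmem k).1 hk
    have h5 := hzero k h1 h2 h3 h4
    simp only [hβ] at h5
    have h6 : b (σ k) = b k := by omega
    rw [h6]; ring
  rw [← Finset.sum_add_sum_compl U, hcomp, hUsum] at hs
  simp only [h.σσ] at hs
  have hi2 : b i = b (σ i) + 1 := by simp only [hβ] at hi1; omega
  have hj2 : b j = b (σ j) + 1 := by simp only [hβ] at hj1; omega
  have hB0 : 0 ≤ ∑ k ∈ Uᶜ, b k ^ 2 := Finset.sum_nonneg fun k _ => sq_nonneg _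
  set B := ∑ k ∈ Uᶜ, b k ^ 2 with hB
  rw [hi2, hj2] at hs
  generalize hx : b (σ i) = x at *
  generalize hy : b (σ j) = y at *
  have hxx : x * (x + 1) ≤ 1 := by nlinarith
  have hyy : y * (y + 1) ≤ 1 := by nlinarith
  have hx' : x = 0 ∨ x = -1 := by
    have h1 : x ≤ 1 := by nlinarith
    have h2 : -2 ≤ x := by nlinarith
    interval_cases x <;> simp_all
  have hy' : y = 0 ∨ y = -1 := by
    have h1 : y ≤ 1 := by nlinarith
    have h2 : -2 ≤ y := by nlinarith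
    interval_cases y <;> simp_all
  have hB2 : B = 2 := by
    rcases hx' with h1 | h1 <;> rcases hy' with h2 | h2 <;> rw [h1, h2] at hs <;> omega
  obtain ⟨p, hp, q, hq, hpq, hp1, hq1, hr⟩ := exists_two hB2
  obtain ⟨p1, p2, p3, p4⟩ := (hUmem p).1 hp
  obtain ⟨q1, q2, q3, q4⟩ := (hUmem q).1 hq
  have hsym : ∀ k, k ≠ i → k ≠ j → k ≠ σ i → k ≠ σ j → b (σ k) = b k := by
    intro k h1 h2 h3 h4
    have h5 := hzero k h1 h2 h3 h4
    simp only [hβ] at h5
    omega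
  have hr' : ∀ k, k ≠ i → k ≠ j → k ≠ σ i → k ≠ σ j → k ≠ p → k ≠ q → b k = 0 :=
    fun k h1 h2 h3 h4 h5 h6 => hr k ((hUmem k).2 ⟨h1, h2, h3, h4⟩) h5 h6
  have hbp := hsym p p1 p2 p3 p4
  have hbq := hsym q q1 q2 q3 q4
  rcases hx' with hx' | hx' <;> rcases hy' with hy' | hy'
  · refine ⟨p, q, i, j, hpq, hij, n1, n2, n3, ⟨p1, p2, p3, p4⟩, ⟨q1, q2, q3, q4⟩, hp1, hq1,
      Or.inl (by omega), Or.inl (by omega), hbp, hbq, by omega, by omega, ?_, hsym⟩
    intro k h1 h2 h3 h4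
    by_cases h5 : k = σ i
    · rw [h5]; omega
    by_cases h6 : k = σ j
    · rw [h6]; omega
    exact hr' k h3 h4 h5 h6 h1 h2
  · refine ⟨p, q, i, σ j, hpq, n1, by rw [h.σσ]; exact hij, n2, by rw [h.σσ]; exact n3.symm,
      ⟨p1, p4, p3, by rw [h.σσ]; exact p2⟩, ⟨q1, q4, q3, by rw [h.σσ]; exact q2⟩, hp1, hq1,
      Or.inl (by omega), Or.inr (by omega), hbp, hbq, by omega, by rw [h.σσ]; omega, ?_, ?_⟩
    · intro k h1 h2 h3 h4
      by_cases h5 : k = σ i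
      · rw [h5]; omega
      by_cases h6 : k = j
      · rw [h6]; omega
      exact hr' k h3 h6 h5 h4 h1 h2
    · intro k h1 h2 h3 h4
      rw [h.σσ] at h4
      exact hsym k h1 h4 h3 h2
  · refine ⟨p, q, σ i, j, hpq, n4.symm, n5, by rw [h.σσ]; exact n2.symm, n3,
      ⟨p3, p2, by rw [h.σσ]; exact p1, p4⟩, ⟨q3, q2, by rw [h.σσ]; exact q1, q4⟩, hp1, hq1,
      Or.inr (by omega), Or.inl (by omega), hbp, hbq, by rw [h.σσ]; omega, by omega, ?_, ?_⟩
    · intro k h1 h2 h3 h4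
      by_cases h5 : k = i
      · rw [h5]; omega
      by_cases h6 : k = σ j
      · rw [h6]; omega
      exact hr' k h5 h4 h3 h6 h1 h2
    · intro k h1 h2 h3 h4
      rw [h.σσ] at h3
      exact hsym k h3 h2 h1 h4
  · refine ⟨p, q, σ i, σ j, hpq, n5, by rw [h.σσ]; exact n4.symm, by rw [h.σσ]; exact n2.symm,
      by rw [h.σσ]; exact n3.symm,
      ⟨p3, p4, by rw [h.σσ]; exact p1, by rw [h.σσ]; exact p2⟩,
      ⟨q3, q4, by rw [h.σσ]; exact q1, by rw [h.σσ]; exact q2⟩, hp1, hq1,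
      Or.inr (by omega), Or.inr (by omega), hbp, hbq, by rw [h.σσ]; omega, by rw [h.σσ]; omega,
      ?_, ?_⟩
    · intro k h1 h2 h3 h4
      by_cases h5 : k = i
      · rw [h5]; omega
      by_cases h6 : k = j
      · rw [h6]; omega
      exact hr' k h5 h6 h3 h4 h1 h2
    · intro k h1 h2 h3 h4
      rw [h.σσ] at h3 h4
      exact hsym k h3 h4 h1 h2

/-- the shape of `b`, as a structure -/
structure Sh (σ : ι → ι) (b : ι → ℤ) (p q i j : ι) : Prop where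
  pq : p ≠ q
  ij : i ≠ j
  isj : i ≠ σ j
  isi : i ≠ σ i
  jsj : j ≠ σ j
  pp : p ≠ i ∧ p ≠ j ∧ p ≠ σ i ∧ p ≠ σ j
  qq : q ≠ i ∧ q ≠ j ∧ q ≠ σ i ∧ q ≠ σ j
  bp : b p = 1 ∨ b p = -1
  bq : b q = 1 ∨ b q = -1
  bi : b i = 1 ∨ b i = -1
  bj : b j = 1 ∨ b j = -1
  bσp : b (σ p) = b p
  bσq : b (σ q) = b q
  bσi : b (σ i) = 0
  bσj : b (σ j) = 0
  zero : ∀ k, k ≠ p → k ≠ q → k ≠ i → k ≠ j → b k = 0
  sym : ∀ k, k ≠ i → k ≠ j → k ≠ σ i → k ≠ σ j → b (σ k) = b k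

omit [DecidableEq ι] [Fintype ι] in
theorem Sh.swap1 {p q i j : ι} (h : Sh σ b p q i j) : Sh σ b q p i j where
  pq := h.pq.symm
  ij := h.ij
  isj := h.isj
  isi := h.isi
  jsj := h.jsj
  pp := h.qq
  qq := h.pp
  bp := h.bq
  bq := h.bp
  bi := h.bi
  bj := h.bj
  bσp := h.bσq
  bσq := h.bσp
  bσi := h.bσi
  bσj := h.bσj
  zero := fun k h1 h2 h3 h4 => h.zero k h2 h1 h3 h4
  sym := h.sym

omit [DecidableEq ι] [Fintype ι] in
theorem Sh.swap2 {p q i j : ι} (hσ : ∀ i, σ (σ i) = i) (h : Sh σ b p q i j) : Sh σ b p q j i where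
  pq := h.pq
  ij := h.ij.symm
  isj := fun e => h.isj (by rw [e, hσ])
  isi := h.jsj
  jsj := h.isi
  pp := ⟨h.pp.2.1, h.pp.1, h.pp.2.2.2, h.pp.2.2.1⟩
  qq := ⟨h.qq.2.1, h.qq.1, h.qq.2.2.2, h.qq.2.2.1⟩
  bp := h.bp
  bq := h.bq
  bi := h.bj
  bj := h.bi
  bσp := h.bσp
  bσq := h.bσq
  bσi := h.bσj
  bσj := h.bσi
  zero := fun k h1 h2 h3 h4 => h.zero k h1 h2 h4 h3
  sym := fun k h1 h2 h3 h4 => h.sym k h2 h1 h4 h3

theorem sum4 {R : Type*} [AddCommMonoid R] {g : ι → R} {p q i j : ι} (h1 : p ≠ q) (h2 : p ≠ i)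
    (h3 : p ≠ j) (h4 : q ≠ i) (h5 : q ≠ j) (h6 : i ≠ j)
    (h : ∀ k, k ≠ p → k ≠ q → k ≠ i → k ≠ j → g k = 0) :
    ∑ k, g k = g p + (g q + (g i + g j)) := by
  have e : ∑ k ∈ ({p, q, i, j} : Finset ι), g k = ∑ k, g k := by
    apply Finset.sum_subset (Finset.subset_univ _)
    intro k _ hk
    simp only [Finset.mem_insert, Finset.mem_singleton, not_or] at hk
    exact h k hk.1 hk.2.1 hk.2.2.1 hk.2.2.2
  rw [← e, Finset.sum_insert, Finset.sum_insert, Finset.sum_insert, Finset.sum_singleton]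
  · simpa using h6
  · simp only [Finset.mem_insert, Finset.mem_singleton, not_or]
    exact ⟨h4, h5⟩
  · simp only [Finset.mem_insert, Finset.mem_singleton, not_or]
    exact ⟨h1, h2, h3⟩

theorem Sh.sum {p q i j : ι} (h : Sh σ b p q i j) {R : Type*} [Ring R] (f : ι → R) :
    ∑ k, (b k : R) * f k = b p * f p + (b q * f q + (b i * f i + b j * f j)) := by
  apply sum4 h.pq h.pp.1 h.pp.2.1 h.qq.1 h.qq.2.1 h.ij
  intro k h1 h2 h3 h4
  rw [h.zero k h1 h2 h3 h4]; simp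

theorem term (e k d : ℤ) (he : e = 1 ∨ e = -1) {τ : ℤ} (hτ : τ = k * e) :
    (e : ℚ) * ((τ : ℚ) ^ 2 / d) = (k : ℚ) ^ 2 / ((e * d : ℤ) : ℚ) := by
  rw [hτ]
  rcases he with h | h <;> rw [h] <;> push_cast <;> ring

theorem mul_ne {e d : ℤ} (he : e = 1 ∨ e = -1) (hd : 0 < d) : e * d ≠ 0 := by
  rcases he with h | h <;> rw [h] <;> omega

section final

variable {p q i j : ι} (h : Num one σ d τ a b κ) (s : Sh σ b p q i j)
include h s

omit [DecidableEq ι] in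
theorem ne_one : one ≠ p ∧ one ≠ q ∧ one ≠ i ∧ one ≠ j ∧ one ≠ σ i ∧ one ≠ σ j := by
  have h1 := h.b_one
  have h2 := h.bσ_one
  refine ⟨?_, ?_, ?_, ?_, ?_, ?_⟩
  · rintro rfl; rcases s.bp with h | h <;> omega
  · rintro rfl; rcases s.bq with h | h <;> omega
  · rintro rfl; rcases s.bi with h | h <;> omega
  · rintro rfl; rcases s.bj with h | h <;> omega
  · intro e
    rw [e, h.σσ] at h2
    rcases s.bi with h | h <;> omega
  · intro e
    rw [e, h.σσ] at h2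
    rcases s.bj with h | h <;> omega

omit [DecidableEq ι] in
theorem hτ_one : τ one = 1 := by rw [h.val, h.a_one, h.b_one, h.bσ_one]; norm_num

theorem case_two (hp : a p = b p) (hi : a i = b i)
    (hzero : ∀ k, k ≠ one → k ≠ p → k ≠ i → k ≠ σ i → a k = 0) : κ = 16 / 33 := by
  obtain ⟨n1, n2, n3, n4, n5, n6⟩ := ne_one h s
  have hσi : a (σ i) = b i := by rw [h.aσ, hi]
  have ht1 := hτ_one h s
  have htp : τ p = 3 * b p := by rw [h.val, s.bσp, hp]; ring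
  have htq : τ q = 2 * b q := by
    rw [h.val, s.bσq, hzero q n2.symm s.pq.symm s.qq.1 s.qq.2.2.1]; ring
  have hti : τ i = 2 * b i := by rw [h.val, s.bσi, hi]; ring
  have htσi : τ (σ i) = 2 * b i := by rw [h.val, h.σσ, s.bσi, hσi]; ring
  have haj : a j = 0 := hzero j n4.symm s.pp.2.1.symm s.ij.symm
    (fun e => s.isj (by rw [e, h.σσ]))
  have htj : τ j = 1 * b j := by rw [h.val, s.bσj, haj]; ring
  have hsum : ∀ {R : Type} [Ring R] (f : ι → R), ∑ k, (a k : R) * f k =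
      f one + (b p * f p + (b i * f i + b i * f (σ i))) := by
    intro R _ f
    rw [sum4 (g := fun k => (a k : R) * f k) n1 n3 n5 s.pp.1 s.pp.2.2.1 s.isi]
    · simp only [h.a_one, hp, hi, hσi, Int.cast_one, one_mul]
    · intro k h1 h2 h3 h4
      simp only [hzero k h1 h2 h3 h4, Int.cast_zero, zero_mul]
  have E1 := h.ad
  have E2 := h.bd
  have E3 := h.ac
  have E4 := h.bcl
  have E1' := hsum (R := ℤ) d
  have E2' := s.sum (R := ℤ) d
  rw [hsum] at E3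
  rw [s.sum] at E4
  simp only [Int.cast_id] at E1' E2'
  rw [E1, h.d_one, h.dσ] at E1'
  rw [E2] at E2'
  rw [term (b p) 3 (d p) s.bp htp, term (b i) 2 (d i) s.bi hti, ht1, h.d_one, h.dσ,
    term (b i) 2 (d i) s.bi htσi] at E3
  rw [term (b p) 3 (d p) s.bp htp, term (b q) 2 (d q) s.bq htq, term (b i) 2 (d i) s.bi hti,
    term (b j) 1 (d j) s.bj htj] at E4
  refine caseII (P := b p * d p) (Q := b q * d q) (I := b i * d i) (J := b j * d j)
    (mul_ne s.bp (h.d_pos _)) (mul_ne s.bq (h.d_pos _)) (mul_ne s.bi (h.d_pos _))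
    (mul_ne s.bj (h.d_pos _)) (by linarith) (by linarith) ?_ ?_ ?_ ?_
  · rw [← E3]
    push_cast
    ring
  · rw [← E4]
    push_cast
    ring
  · intro e
    apply n4
    symm
    apply h.d_eq
    have := h.d_pos j
    rcases s.bj with h' | h' <;> rw [h'] at e <;> omega
  · have h8 := h.mod8 i
    rw [hti] at h8
    rcases s.bi with h' | h' <;> rw [h'] at h8 ⊢ <;> omega

theorem case_one (hp : a p = b p) (hq : a q = b q) (hi : a i = 0) (hj : a j = 0) {c : ι}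
    (hc : a c = 1 ∨ a c = -1) (c1 : c ≠ one) (cp : c ≠ p) (cq : c ≠ q) (ci : c ≠ i) (cj : c ≠ j)
    (csi : c ≠ σ i) (csj : c ≠ σ j)
    (hzero : ∀ k, k ≠ one → k ≠ p → k ≠ q → k ≠ c → a k = 0) : False := by
  obtain ⟨n1, n2, n3, n4, n5, n6⟩ := ne_one h s
  have ht1 := hτ_one h s
  have htp : τ p = 3 * b p := by rw [h.val, s.bσp, hp]; ring
  have htq : τ q = 3 * b q := by rw [h.val, s.bσq, hq]; ring
  have hti : τ i = 1 * b i := by rw [h.val, s.bσi, hi]; ring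
  have htj : τ j = 1 * b j := by rw [h.val, s.bσj, hj]; ring
  have htc : τ c = 1 * a c := by
    rw [h.val, s.sym c ci cj csi csj, s.zero c cp cq ci cj]; ring
  have hsum : ∀ {R : Type} [Ring R] (f : ι → R), ∑ k, (a k : R) * f k =
      f one + (b p * f p + (b q * f q + a c * f c)) := by
    intro R _ f
    rw [sum4 (g := fun k => (a k : R) * f k) n1 n2 c1.symm s.pq cp.symm cq.symm]
    · simp only [h.a_one, hp, hq, Int.cast_one, one_mul]
    · intro k h1 h2 h3 h4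
      simp only [hzero k h1 h2 h3 h4, Int.cast_zero, zero_mul]
  have E1 := h.ad
  have E2 := h.bd
  have E3 := h.ac
  have E4 := h.bcl
  have E1' := hsum (R := ℤ) d
  have E2' := s.sum (R := ℤ) d
  rw [hsum] at E3
  rw [s.sum] at E4
  simp only [Int.cast_id] at E1' E2'
  rw [E1, h.d_one] at E1'
  rw [E2] at E2'
  rw [term (b p) 3 (d p) s.bp htp, term (b q) 3 (d q) s.bq htq, ht1, h.d_one,
    term (a c) 1 (d c) hc htc] at E3
  rw [term (b p) 3 (d p) s.bp htp, term (b q) 3 (d q) s.bq htq, term (b i) 1 (d i) s.bi hti,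
    term (b j) 1 (d j) s.bj htj] at E4
  refine caseI (κ := κ) (P := b p * d p) (Q := b q * d q) (C := a c * d c) (I := b i * d i)
    (J := b j * d j) (mul_ne hc (h.d_pos _)) (mul_ne s.bi (h.d_pos _))
    (mul_ne s.bj (h.d_pos _)) (by linarith) (by linarith) ?_ ?_ ?_ ?_ ?_
  · rw [← E3]
    push_cast
    ring
  · rw [← E4]
    push_cast
    ring
  · intro e
    apply c1
    apply h.d_eq
    have := h.d_pos c
    rcases hc with h' | h' <;> rw [h'] at e <;> omega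
  · intro e
    apply n3
    symm
    apply h.d_eq
    have := h.d_pos i
    rcases s.bi with h' | h' <;> rw [h'] at e <;> omega
  · intro e
    apply n4
    symm
    apply h.d_eq
    have := h.d_pos j
    rcases s.bj with h' | h' <;> rw [h'] at e <;> omega

end final

theorem solve {p q i j R : ℤ} (hR : 0 ≤ R) (h1 : p ^ 2 + q ^ 2 + 2 * i ^ 2 + 2 * j ^ 2 + R = 3)
    (h2 : p + q + i + j = 2) :
    (p = 1 ∧ q = 1 ∧ i = 0 ∧ j = 0 ∧ R = 1) ∨ (p = 1 ∧ q = 0 ∧ i = 1 ∧ j = 0 ∧ R = 0) ∨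
    (p = 1 ∧ q = 0 ∧ i = 0 ∧ j = 1 ∧ R = 0) ∨ (p = 0 ∧ q = 1 ∧ i = 1 ∧ j = 0 ∧ R = 0) ∨
    (p = 0 ∧ q = 1 ∧ i = 0 ∧ j = 1 ∧ R = 0) := by
  have p1 : p ≤ 1 := by nlinarith [sq_nonneg q, sq_nonneg i, sq_nonneg j]
  have p2 : -1 ≤ p := by nlinarith [sq_nonneg q, sq_nonneg i, sq_nonneg j]
  have q1 : q ≤ 1 := by nlinarith [sq_nonneg p, sq_nonneg i, sq_nonneg j]
  have q2 : -1 ≤ q := by nlinarith [sq_nonneg p, sq_nonneg i, sq_nonneg j]
  have i1 : i ≤ 1 := by nlinarith [sq_nonneg p, sq_nonneg q, sq_nonneg j]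
  have i2 : -1 ≤ i := by nlinarith [sq_nonneg p, sq_nonneg q, sq_nonneg j]
  have hj : j = 2 - p - q - i := by linarith
  subst hj
  interval_cases p <;> interval_cases q <;> interval_cases i <;> omega

theorem main (h : Num one σ d τ a b κ) : κ = 16 / 33 := by
  obtain ⟨p, q, i, j, x1, x2, x3, x4, x5, x6, x7, x8, x9, x10, x11, x12, x13, x14, x15, x16, x17⟩ :=
    h.shape
  have s : Sh σ b p q i j := ⟨x1, x2, x3, x4, x5, x6, x7, x8, x9, x10, x11, x12, x13, x14, x15,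
    x16, x17⟩
  clear x1 x2 x3 x4 x5 x6 x7 x8 x9 x10 x11 x12 x13 x14 x15 x16 x17
  obtain ⟨n1, n2, n3, n4, n5, n6⟩ := ne_one h s
  set W : Finset ι := {one, p, q, i, j, σ i, σ j} with hW
  have hWmem : ∀ k, k ∈ Wᶜ ↔ (k ≠ one ∧ k ≠ p ∧ k ≠ q ∧ k ≠ i ∧ k ≠ j ∧ k ≠ σ i ∧ k ≠ σ j) := by
    intro k
    rw [hW, Finset.mem_compl]
    simp only [Finset.mem_insert, Finset.mem_singleton, not_or]
  have hWsum : ∑ k ∈ W, a k ^ 2 = a one ^ 2 + (a p ^ 2 + (a q ^ 2 + (a i ^ 2 + (a j ^ 2 +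
      (a (σ i) ^ 2 + a (σ j) ^ 2))))) := by
    rw [hW, Finset.sum_insert, Finset.sum_insert, Finset.sum_insert, Finset.sum_insert,
      Finset.sum_insert, Finset.sum_insert, Finset.sum_singleton]
    · simp only [Finset.mem_singleton]
      intro e
      apply s.ij
      rw [← h.σσ i, e, h.σσ]
    · simp only [Finset.mem_insert, Finset.mem_singleton, not_or]
      exact ⟨fun e => s.isj (by rw [e, h.σσ]), s.jsj⟩
    · simp only [Finset.mem_insert, Finset.mem_singleton, not_or]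
      exact ⟨s.ij, s.isi, s.isj⟩
    · simp only [Finset.mem_insert, Finset.mem_singleton, not_or]
      exact s.qq
    · simp only [Finset.mem_insert, Finset.mem_singleton, not_or]
      exact ⟨s.pq, s.pp⟩
    · simp only [Finset.mem_insert, Finset.mem_singleton, not_or]
      exact ⟨n1, n2, n3, n4, n5, n6⟩
  have hR : 0 ≤ ∑ k ∈ Wᶜ, a k ^ 2 := Finset.sum_nonneg fun k _ => sq_nonneg _
  have hb2 : ∀ {k : ι}, b k = 1 ∨ b k = -1 → b k ^ 2 = 1 := by
    intro k hk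
    rcases hk with hk | hk <;> rw [hk] <;> norm_num
  have H1 : (a p * b p) ^ 2 + (a q * b q) ^ 2 + 2 * (a i * b i) ^ 2 + 2 * (a j * b j) ^ 2 +
      ∑ k ∈ Wᶜ, a k ^ 2 = 3 := by
    have := h.aa
    rw [← Finset.sum_add_sum_compl W, hWsum, h.aσ, h.aσ, h.a_one] at this
    simp only [mul_pow, hb2 s.bp, hb2 s.bq, hb2 s.bi, hb2 s.bj, mul_one]
    linarith
  have H2 : a p * b p + a q * b q + a i * b i + a j * b j = 2 := by
    have h1 := h.ab
    have h2 := s.sum (R := ℤ) a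
    simp only [Int.cast_id] at h2
    have h3 : ∑ k, a k * b k = ∑ k, b k * a k := Finset.sum_congr rfl fun k _ => mul_comm _ _
    rw [h3, h2] at h1
    linarith
  have hab : ∀ {k : ι}, (b k = 1 ∨ b k = -1) → a k * b k = 1 → a k = b k := by
    intro k hk h1
    rcases hk with hk | hk <;> rw [hk] at h1 ⊢ <;> omega
  have hab0 : ∀ {k : ι}, (b k = 1 ∨ b k = -1) → a k * b k = 0 → a k = 0 := by
    intro k hk h1
    rcases hk with hk | hk <;> rw [hk] at h1 <;> omega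
  have hzero0 : ∑ k ∈ Wᶜ, a k ^ 2 = 0 → ∀ k, k ≠ one → k ≠ p → k ≠ q → k ≠ i → k ≠ j →
      k ≠ σ i → k ≠ σ j → a k = 0 := by
    intro h0 k k1 k2 k3 k4 k5 k6 k7
    have h5 := (Finset.sum_eq_zero_iff_of_nonneg fun i _ => sq_nonneg (a i)).1 h0 k
      ((hWmem k).2 ⟨k1, k2, k3, k4, k5, k6, k7⟩)
    exact pow_eq_zero_iff (two_ne_zero) |>.1 h5
  rcases solve hR H1 H2 with ⟨e1, e2, e3, e4, e5⟩ | ⟨e1, e2, e3, e4, e5⟩ | ⟨e1, e2, e3, e4, e5⟩ |
    ⟨e1, e2, e3, e4, e5⟩ | ⟨e1, e2, e3, e4, e5⟩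
  · exfalso
    have ap := hab s.bp e1
    have aq := hab s.bq e2
    have ai := hab0 s.bi e3
    have aj := hab0 s.bj e4
    obtain ⟨c, hc, hc1, hc2⟩ := exists_one e5
    obtain ⟨k1, k2, k3, k4, k5, k6, k7⟩ := (hWmem c).1 hc
    refine case_one h s ap aq ai aj hc1 k1 k2 k3 k4 k5 k6 k7 ?_
    intro k m1 m2 m3 m4
    by_cases m5 : k = i
    · rw [m5, ai]
    by_cases m6 : k = j
    · rw [m6, aj]
    by_cases m7 : k = σ i
    · rw [m7, h.aσ, ai]
    by_cases m8 : k = σ j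
    · rw [m8, h.aσ, aj]
    exact hc2 k ((hWmem k).2 ⟨m1, m2, m3, m5, m6, m7, m8⟩) m4
  · have ap := hab s.bp e1
    have aq := hab0 s.bq e2
    have ai := hab s.bi e3
    have aj := hab0 s.bj e4
    refine case_two h s ap ai fun k m1 m2 m3 m4 => ?_
    by_cases m5 : k = q
    · rw [m5, aq]
    by_cases m6 : k = j
    · rw [m6, aj]
    by_cases m8 : k = σ j
    · rw [m8, h.aσ, aj]
    exact hzero0 e5 k m1 m2 m5 m3 m6 m4 m8
  · have ap := hab s.bp e1
    have aq := hab0 s.bq e2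
    have ai := hab0 s.bi e3
    have aj := hab s.bj e4
    refine case_two h (s.swap2 h.σσ) ap aj fun k m1 m2 m3 m4 => ?_
    by_cases m5 : k = q
    · rw [m5, aq]
    by_cases m6 : k = i
    · rw [m6, ai]
    by_cases m8 : k = σ i
    · rw [m8, h.aσ, ai]
    exact hzero0 e5 k m1 m2 m5 m6 m3 m8 m4
  · have ap := hab0 s.bp e1
    have aq := hab s.bq e2
    have ai := hab s.bi e3
    have aj := hab0 s.bj e4
    refine case_two h s.swap1 aq ai fun k m1 m2 m3 m4 => ?_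
    by_cases m5 : k = p
    · rw [m5, ap]
    by_cases m6 : k = j
    · rw [m6, aj]
    by_cases m8 : k = σ j
    · rw [m8, h.aσ, aj]
    exact hzero0 e5 k m1 m5 m2 m3 m6 m4 m8
  · have ap := hab0 s.bp e1
    have aq := hab s.bq e2
    have ai := hab0 s.bi e3
    have aj := hab s.bj e4
    refine case_two h (s.swap1.swap2 h.σσ) aq aj fun k m1 m2 m3 m4 => ?_
    by_cases m5 : k = p
    · rw [m5, ap]
    by_cases m6 : k = i
    · rw [m6, ai]
    by_cases m8 : k = σ i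
    · rw [m8, h.aσ, ai]
    exact hzero0 e5 k m1 m5 m2 m6 m3 m8 m4

end Cfsg.Agent.Ree.QThreeNum
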