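import Mathlib
import Cfsg.Agent.Ree.QThreeLoc
import Cfsg.Agent.Ree.QThreeNum
import Cfsg.Agent.Ree.VecInt
import Cfsg.Agent.Classification.BSW.Theta
import Cfsg.Agent.SmallSimple.Parity

/-!
# S0343, `q = 3`: no simple group has an involution with centralizer `2 × A₄`
-/

set_option autoImplicit false

open scoped ComplexConjugate
open Cfsg Cfsg.Agent.Ree.VecDef Cfsg.Agent.Ree.QThreeLoc Subgroup

namespace Cfsg.Agent.Ree.QThree

universe u
variable {G : Type u} [Group G] {t : G} {Y : Subgroup G}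

namespace Q

theorem tt (h : Q3 t Y) : t * t = 1 := by rw [← pow_two, ← h.ord_t, pow_orderOf_eq_one]

theorem t_ne (h : Q3 t Y) : t ≠ 1 := by
  intro h1
  have := h.ord_t
  rw [h1, orderOf_one] at this
  omega

theorem cube (h : Q3 t Y) {y : G} (hy : y ∈ Y) : y ^ 3 = 1 := by
  have : (⟨y, hy⟩ : Y) ^ 3 = 1 := by rw [← h.card_Y]; exact pow_card_eq_one'
  exact congrArg Subtype.val this

theorem Ycomm (h : Q3 t Y) (a b : Y) : a * b = b * a := by
  have : Fact (Nat.Prime 3) := ⟨Nat.prime_three⟩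
  have := isCyclic_of_prime_card h.card_Y
  exact (IsCyclic.commGroup (α := Y)).mul_comm a b

theorem ty_cube (h : Q3 t Y) {y : G} (hy : y ∈ Y) : (t * y) ^ 3 = t := by
  rw [(show Commute t y from h.comm y hy).mul_pow, cube h hy, mul_one, pow_three, tt h, mul_one]

theorem ty_ne (h : Q3 t Y) {y : G} (hy : y ∈ Y) : t * y ≠ 1 := by
  intro h1
  apply t_ne h
  rw [← ty_cube h hy, h1, one_pow]

/-- a conjugation `t y' → t y` centralises `t` -/
theorem split (h : Q3 t Y) {y y' g : G} (hy : y ∈ Y) (hy' : y' ∈ Y)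
    (hg : g * (t * y') * g⁻¹ = t * y) : g * t = t * g ∧ g * y' = y * g := by
  have e1 : g * t * g⁻¹ = t := by
    rw [← ty_cube h hy', ← conj_pow, hg, ty_cube h hy, ty_cube h hy']
  have e2 : g * t = t * g := by
    calc g * t = (g * t * g⁻¹) * g := by group
      _ = t * g := by rw [e1]
  refine ⟨e2, ?_⟩
  have e3 : t * (g * y' * g⁻¹) = t * y := by
    rw [← hg]
    calc t * (g * y' * g⁻¹) = (t * g) * y' * g⁻¹ := by group
      _ = g * (t * y') * g⁻¹ := by rw [← e2]; group
  have e4 := mul_left_cancel e3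
  calc g * y' = (g * y' * g⁻¹) * g := by group
    _ = y * g := by rw [e4]

theorem eq_or_inv (h : Q3 t Y) {y y' : G} (hy : y ∈ Y) (hy' : y' ∈ Y) (h1 : y ≠ 1) (h1' : y' ≠ 1) :
    y' = y ∨ y' = y⁻¹ := by
  by_contra hcon
  push Not at hcon
  have hfin : Finite Y := Nat.finite_of_card_ne_zero (by rw [h.card_Y]; norm_num)
  have := Fintype.ofFinite Y
  have hyy : y ≠ y⁻¹ := by
    intro h2
    have h3 : y * y = 1 := by nth_rw 2 [h2]; exact mul_inv_cancel y
    have h4 := cube h hy
    rw [pow_three, h3, mul_one] at h4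
    exact h1 h4
  classical
  let s : Finset Y := {1, ⟨y, hy⟩, ⟨y⁻¹, Y.inv_mem hy⟩, ⟨y', hy'⟩}
  have hs : s.card = 4 := by
    have e1 : (1 : Y) ∉ ({⟨y, hy⟩, ⟨y⁻¹, Y.inv_mem hy⟩, ⟨y', hy'⟩} : Finset Y) := by
      simp only [Finset.mem_insert, Finset.mem_singleton, Subtype.ext_iff, OneMemClass.coe_one,
        not_or]
      exact ⟨h1.symm, fun h => h1 (inv_eq_one.1 h.symm), h1'.symm⟩
    have e2 : (⟨y, hy⟩ : Y) ∉ ({⟨y⁻¹, Y.inv_mem hy⟩, ⟨y', hy'⟩} : Finset Y) := by
      simp only [Finset.mem_insert, Finset.mem_singleton, Subtype.ext_iff, not_or]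
      exact ⟨hyy, fun h => hcon.1 h.symm⟩
    have e3 : (⟨y⁻¹, Y.inv_mem hy⟩ : Y) ∉ ({⟨y', hy'⟩} : Finset Y) := by
      simp only [Finset.mem_singleton, Subtype.ext_iff]
      exact fun h => hcon.2 h.symm
    simp only [s]
    rw [Finset.card_insert_of_notMem e1, Finset.card_insert_of_notMem e2,
      Finset.card_insert_of_notMem e3, Finset.card_singleton]
  have h5 := s.card_le_univ
  rw [hs, ← Nat.card_eq_fintype_card, h.card_Y] at h5
  omega

open Classical in
/-- the counting function -/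
theorem count (h : Q3 t Y) (y y' : Y) :
    (Nat.card {g : G // g * (t * y') * g⁻¹ = t * y} : ℂ) =
      (if y = y' then 6 else 0) + (if y = 1 then (if y' = 1 then 18 else 0) else 0) := by
  have hiff : ∀ g : G, g * (t * y') * g⁻¹ = t * y ↔ (g * t = t * g ∧ g * y' = y * g) := by
    intro g
    constructor
    · exact split h y.2 y'.2
    · rintro ⟨h1, h2⟩
      calc g * (t * y') * g⁻¹ = (g * t) * y' * g⁻¹ := by group
        _ = t * (g * y') * g⁻¹ := by rw [h1]; group
        _ = t * y := by rw [h2]; group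
  by_cases hyy : y = y'
  · subst hyy
    rw [if_pos rfl]
    by_cases hy : y = 1
    · subst hy
      rw [if_pos rfl, if_pos rfl]
      have : Nat.card {g : G // g * (t * ((1 : Y) : G)) * g⁻¹ = t * ((1 : Y) : G)} = 24 := by
        rw [← h.card_C]
        refine Nat.card_congr (Equiv.subtypeEquivRight fun g => ?_)
        rw [hiff g, mem_centralizer_singleton_iff]
        simp
      rw [this]; norm_num
    · rw [if_neg hy, add_zero]
      have : Nat.card {g : G // g * (t * (y : G)) * g⁻¹ = t * (y : G)} = 6 := by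
        rw [← h.card_Cy y y.2 (fun h1 => hy (Subtype.ext h1))]
        exact Nat.card_congr (Equiv.subtypeEquivRight fun g => hiff g)
      rw [this]; norm_num
  · rw [if_neg hyy, zero_add]
    have h0 : IsEmpty {g : G // g * (t * (y' : G)) * g⁻¹ = t * (y : G)} := by
      refine ⟨fun g => ?_⟩
      obtain ⟨g, hg⟩ := g
      obtain ⟨h1, h2⟩ := (hiff g).1 hg
      by_cases hy : (y : G) = 1
      · apply hyy
        apply Subtype.ext
        rw [hy] at h2 ⊢
        rw [one_mul] at h2
        exact (mul_left_cancel (h2.trans (mul_one g).symm)).symm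
      · have hy' : (y' : G) ≠ 1 := by
          intro h3
          rw [h3, mul_one] at h2
          apply hy
          exact mul_right_cancel (h2.symm.trans (one_mul g).symm)
        rcases eq_or_inv h y.2 y'.2 hy hy' with h3 | h3
        · exact hyy (Subtype.ext h3.symm)
        · have h4 : (y : G) = (y' : G)⁻¹ := by rw [h3, inv_inv]
          rw [h4] at h2
          exact h.no_inv y' y'.2 hy' g h1 h2
    rw [Nat.card_eq_zero.2 (Or.inl h0)]
    by_cases hy : y = 1
    · rw [if_pos hy, if_neg (fun h1 => hyy (hy.trans h1.symm))]; norm_num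
    · rw [if_neg hy]; norm_num

open Classical in
/-- pairs of involutions with product `t y` -/
theorem pairs (h : Q3 t Y) (hconj : ∀ u v : G, orderOf u = 2 → orderOf v = 2 → IsConj u v) (y : Y) :
    (Nat.card {p : G × G // IsConj t p.1 ∧ IsConj t p.2 ∧ p.1 * p.2 = t * y} : ℂ) =
      if y = 1 then 6 else 0 := by
  have hI : ∀ x : G, IsConj t x ↔ orderOf x = 2 := by
    intro x
    constructor
    · intro h1
      obtain ⟨g, rfl⟩ := isConj_iff.1 h1
      rw [← h.ord_t]
      exact orderOf_injective (MulAut.conj g).toMonoidHom (MulAut.conj g).injective t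
    · exact hconj t x h.ord_t
  have h2 : ∀ x : G, orderOf x = 2 ↔ x * x = 1 ∧ x ≠ 1 := by
    intro x
    constructor
    · intro h1
      refine ⟨by rw [← pow_two, ← h1, pow_orderOf_eq_one], ?_⟩
      rintro rfl
      rw [orderOf_one] at h1; omega
    · rintro ⟨h1, h3⟩
      exact orderOf_eq_prime (by rw [pow_two]; exact h1) h3
  -- the first component inverts `t y`
  have key : ∀ u w : G, u * u = 1 → w * w = 1 → u * w = t * y →
      u * t = t * u ∧ u * y = (y : G)⁻¹ * u := by
    intro u w hu hw huw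
    have hui : u⁻¹ = u := inv_eq_of_mul_eq_one_left hu
    have hwi : w⁻¹ = w := inv_eq_of_mul_eq_one_left hw
    have h3 : u * (t * y) * u⁻¹ = t * (y : G)⁻¹ := by
      have h4 : (t * (y : G))⁻¹ = t * (y : G)⁻¹ := by
        rw [mul_inv_rev, inv_eq_of_mul_eq_one_left (tt h)]
        exact (h.comm _ (Y.inv_mem y.2)).symm
      rw [← h4, ← huw, mul_inv_rev, hwi, hui]
      rw [← mul_assoc u u w, hu, one_mul]
    exact split h (Y.inv_mem y.2) y.2 h3
  by_cases hy : y = 1
  · rw [if_pos hy, hy]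
    have e : {p : G × G // IsConj t p.1 ∧ IsConj t p.2 ∧ p.1 * p.2 = t * ((1 : Y) : G)} ≃
        {u : G // u * t = t * u ∧ u * u = 1 ∧ u ≠ 1 ∧ u ≠ t} :=
      { toFun := fun p => ⟨p.1.1, by
          obtain ⟨⟨u, w⟩, h3, h4, h5⟩ := p
          have h3' := (h2 _).1 ((hI _).1 h3)
          have h4' := (h2 _).1 ((hI _).1 h4)
          have h6 := (key u w h3'.1 h4'.1 (by rw [hy]; exact h5)).1
          refine ⟨h6, h3'.1, h3'.2, fun h7 => h4'.2 ?_⟩
          have h8 : u * w = t * ((1 : Y) : G) := h5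
          have h7' : u = t := h7
          rw [h7', Subgroup.coe_one] at h8
          exact mul_left_cancel h8⟩
        invFun := fun u => ⟨(u.1, u.1 * t), by
          obtain ⟨u, h3, h4, h5, h6⟩ := u
          simp only [hI, h2, Subgroup.coe_one, mul_one]
          refine ⟨⟨h4, h5⟩, ⟨?_, ?_⟩, ?_⟩
          · calc u * t * (u * t) = u * (t * u) * t := by group
              _ = (u * u) * (t * t) := by rw [← h3]; group
              _ = 1 := by rw [h4, tt h, one_mul]
          · intro h7
            apply h6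
            calc u = (u * t) * t := by rw [mul_assoc, tt h, mul_one]
              _ = t := by rw [h7, one_mul]
          · rw [← mul_assoc, h4, one_mul]⟩
        left_inv := fun p => by
          obtain ⟨⟨u, w⟩, h3, h4, h5⟩ := p
          apply Subtype.ext
          simp only [Subgroup.coe_one, mul_one] at h5 ⊢
          simp only [hI, h2] at h3
          refine Prod.ext rfl ?_
          simp only
          rw [← h5, ← mul_assoc, h3.1, one_mul]
        right_inv := fun u => rfl }
    rw [Nat.card_congr e, h.card_inv]; norm_num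
  · rw [if_neg hy]
    have h0 : IsEmpty {p : G × G // IsConj t p.1 ∧ IsConj t p.2 ∧ p.1 * p.2 = t * (y : G)} := by
      refine ⟨fun p => ?_⟩
      obtain ⟨⟨u, w⟩, h3, h4, h5⟩ := p
      simp only [hI, h2] at h3 h4
      simp only at h5
      obtain ⟨h6, h7⟩ := key u w h3.1 h4.1 h5
      exact h.no_inv y y.2 (fun h8 => hy (Subtype.ext h8)) u h6 h7
    rw [Nat.card_eq_zero.2 (Or.inl h0)]; norm_num

end Q

/-- the vectors -/
noncomputable def rv (t : G) [Fintype Y] (b : Y →* ℂˣ) (χ : G → ℂ) : ℂ :=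
  (3 : ℂ)⁻¹ * ∑ y : Y, (b y : ℂ) * conj (χ (t * y))

open Classical in
theorem gram [Fintype G] [Fintype (IrrCharacter G)] [Fintype Y] (h : Q3 t Y) (b b' : Y →* ℂˣ) :
    ∑ χ : IrrCharacter G, rv t b (χ : G → ℂ) * conj (rv t b' (χ : G → ℂ)) =
      if b = b' then 4 else 2 := by
  have h1 := sum_vec_mul (G := G) (c := fun y : Y => (b y : ℂ)) (x := fun y : Y => t * y)
    (d := fun y : Y => (b' y : ℂ)) (y := fun y : Y => t * y)
  have h2 : ∑ y : Y, ∑ y' : Y, (b y : ℂ) * conj (b' y' : ℂ) *
      (Nat.card {g : G // g * (t * y') * g⁻¹ = t * y} : ℂ) =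
      6 * (if b = b' then 3 else 0) + 18 := by
    simp only [Q.count h]
    have e1 : ∀ y : Y, ∑ y' : Y, (b y : ℂ) * conj (b' y' : ℂ) *
        ((if y = y' then 6 else 0) + (if y = 1 then (if y' = 1 then 18 else 0) else 0)) =
        6 * ((b y : ℂ) * conj (b' y : ℂ)) + if y = 1 then 18 else 0 := by
      intro y
      simp only [mul_add, Finset.sum_add_distrib]
      congr 1
      · rw [Finset.sum_eq_single y]
        · rw [if_pos rfl]; ring
        · intro y' _ hne
          rw [if_neg hne.symm, mul_zero]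
        · intro hn; exact absurd (Finset.mem_univ _) hn
      · by_cases hy : y = 1
        · simp only [if_pos hy]
          rw [Finset.sum_eq_single 1]
          · rw [if_pos rfl, hy]; simp
          · intro y' _ hne
            rw [if_neg hne, mul_zero]
          · intro hn; exact absurd (Finset.mem_univ _) hn
        · simp only [if_neg hy, mul_zero, Finset.sum_const_zero]
    rw [Finset.sum_congr rfl fun y _ => e1 y, Finset.sum_add_distrib, ← Finset.mul_sum,
      sum_hom_mul_conj, Finset.sum_ite_eq', if_pos (Finset.mem_univ _), h.card_Y]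
    push_cast
    rfl
  rw [h2] at h1
  have h3 : ∀ χ : IrrCharacter G, rv t b (χ : G → ℂ) * conj (rv t b' (χ : G → ℂ)) =
      (9 : ℂ)⁻¹ * ((∑ y : Y, (b y : ℂ) * conj ((χ : G → ℂ) (t * y))) *
        conj (∑ y : Y, (b' y : ℂ) * conj ((χ : G → ℂ) (t * y)))) := by
    intro χ
    unfold rv
    rw [map_mul, map_inv₀, show (conj (3 : ℂ)) = 3 from Complex.conj_ofNat 3]
    ring
  simp only [h3]
  rw [← Finset.mul_sum, h1]
  split_ifs <;> norm_num

theorem sum_deg [Fintype G] [Fintype (IrrCharacter G)] [Fintype Y] (h : Q3 t Y) (b : Y →* ℂˣ) :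
    ∑ χ : IrrCharacter G, rv t b (χ : G → ℂ) * (χ : G → ℂ) 1 = 0 := by
  have h1 := sum_vec_mul (G := G) (c := fun y : Y => (b y : ℂ)) (x := fun y : Y => t * y)
    (d := fun _ : Unit => (1 : ℂ)) (y := fun _ : Unit => (1 : G))
  simp only [Finset.univ_unique, Finset.sum_singleton, one_mul, Complex.conj_conj, map_one,
    mul_one, mul_inv_cancel] at h1
  have h2 : ∀ y : Y, (Nat.card {g : G // (1 : G) = t * y} : ℂ) = 0 := by
    intro y
    have : IsEmpty {g : G // (1 : G) = t * y} := ⟨fun g => Q.ty_ne h y.2 g.2.symm⟩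
    rw [Nat.card_eq_zero.2 (Or.inl this), Nat.cast_zero]
  simp only [h2, mul_zero, Finset.sum_const_zero] at h1
  unfold rv
  simp only [mul_assoc]
  rw [← Finset.mul_sum, h1, mul_zero]

theorem sum_class [Fintype G] [Fintype (IrrCharacter G)] [Fintype Y] (h : Q3 t Y)
    (hconj : ∀ u v : G, orderOf u = 2 → orderOf v = 2 → IsConj u v) (b : Y →* ℂˣ) :
    ∑ χ : IrrCharacter G, rv t b (χ : G → ℂ) * ((χ : G → ℂ) t ^ 2 / (χ : G → ℂ) 1) =
      1152 / (Nat.card G : ℂ) := by
  classical
  have h1 := sum_vec_class (G := G) t (c := fun y : Y => (b y : ℂ)) (x := fun y : Y => t * y)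
  simp only [Q.pairs h hconj, mul_ite, mul_zero] at h1
  rw [Finset.sum_ite_eq', if_pos (Finset.mem_univ _), map_one, Units.val_one, h.card_C] at h1
  unfold rv
  simp only [mul_assoc] at h1 ⊢
  rw [← Finset.mul_sum, h1]
  push_cast
  ring

/-- value at the trivial character -/
theorem rv_one [Fintype Y] (h : Q3 t Y) (b : Y →* ℂˣ) [Decidable (b = 1)] :
    rv t b (fun _ : G => (1 : ℂ)) = if b = 1 then 1 else 0 := by
  classical
  have h1 := sum_hom_mul_conj (Y := Y) b 1
  unfold rv
  simp only [map_one, mul_one, MonoidHom.one_apply, Units.val_one] at h1 ⊢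
  rw [h1, h.card_Y]
  split_ifs <;> norm_num

/-- complex conjugation -/
theorem rv_conj [Finite Y] [Fintype Y] (b : Y →* ℂˣ) (χ : G → ℂ) :
    rv t b (fun g => conj (χ g)) = conj (rv t b⁻¹ χ) := by
  unfold rv
  rw [map_mul, map_inv₀, show (conj (3 : ℂ)) = 3 from Complex.conj_ofNat 3, map_sum]
  congr 1
  refine Finset.sum_congr rfl fun y _ => ?_
  rw [map_mul, ← Cfsg.Agent.OddOrderCharacters.CyclicTI.conj_hom_apply]
  simp only [Complex.conj_conj]

/-- `∑ over the three linear characters` -/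
theorem sum_rv [Fintype Y] [Fintype (Y →* ℂˣ)] (h : Q3 t Y) (χ : G → ℂ) :
    ∑ b : Y →* ℂˣ, rv t b χ = conj (χ t) := by
  classical
  unfold rv
  rw [← Finset.mul_sum, Finset.sum_comm]
  have h1 : ∀ y : Y, ∑ b : Y →* ℂˣ, (b y : ℂ) * conj (χ (t * y)) =
      if y = 1 then 3 * conj (χ t) else 0 := by
    intro y
    rw [← Finset.sum_mul, Cfsg.Agent.Classification.BSW.Theta.sum_hom_apply (Q.Ycomm h) y, h.card_Y]
    split_ifs with hy
    · rw [hy]; simp
    · rw [zero_mul]
  rw [Finset.sum_congr rfl fun y _ => h1 y, Finset.sum_ite_eq', if_pos (Finset.mem_univ _),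
    inv_mul_cancel_left₀ (by norm_num)]

open Classical in
/-- the sign character of `⟨t⟩` -/
noncomputable def sgn (h : Q3 t Y) : zpowers t →* ℂˣ where
  toFun v := if (v : G) = 1 then 1 else -1
  map_one' := by simp
  map_mul' v w := by
    have hc : ∀ v : zpowers t, (v : G) = 1 ∨ (v : G) = t := by
      rintro ⟨v, hv⟩
      obtain ⟨k, rfl⟩ := mem_zpowers_iff.1 hv
      rcases Int.even_or_odd' k with ⟨j, rfl | rfl⟩
      · left
        simp only
        rw [zpow_mul, zpow_two, Q.tt h, one_zpow]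
      · right
        simp only
        rw [zpow_add, zpow_mul, zpow_two, Q.tt h, one_zpow, one_mul, zpow_one]
    have h1 := Q.t_ne h
    rcases hc v with hv | hv <;> rcases hc w with hw | hw <;>
      simp [hv, hw, h1, Q.tt h]

theorem exists_int_rv [Finite G] [Fintype Y] (h : Q3 t Y) (b : Y →* ℂˣ) (χ : IrrCharacter G) :
    ∃ n : ℤ, rv t b (χ : G → ℂ) = n := by
  classical
  have := Fintype.ofFinite (zpowers t)
  have hcomm : ∀ (v : zpowers t) (y : Y), Commute (v : G) (y : G) := by
    rintro ⟨v, hv⟩ y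
    obtain ⟨k, rfl⟩ := mem_zpowers_iff.1 hv
    exact (show Commute t (y : G) from h.comm y y.2).zpow_left k
  let φ : zpowers t × Y →* G := (zpowers t).subtype.noncommCoprod Y.subtype hcomm
  let f1 : zpowers t × Y →* ℂˣ := b.comp (MonoidHom.snd (zpowers t) Y)
  let f2 : zpowers t × Y →* ℂˣ := ((sgn h).comp (MonoidHom.fst (zpowers t) Y)) * f1
  have hθ : IsGeneralizedCharacter (zpowers t × Y) ((fun p => (f1 p : ℂ)) - fun p => (f2 p : ℂ)) :=
    ⟨_, _, Cfsg.Agent.Characters.Linear.isCharacter_hom f1,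
      Cfsg.Agent.Characters.Linear.isCharacter_hom f2, rfl⟩
  obtain ⟨n, hn⟩ := exists_int_hom φ hθ χ
  refine ⟨n, ?_⟩
  rw [← hn, Nat.card_prod, Nat.card_zpowers, h.ord_t, h.card_Y, Fintype.sum_prod_type]
  have hne : (1 : zpowers t) ≠ ⟨t, mem_zpowers t⟩ := by
    intro h1
    exact Q.t_ne h (congrArg Subtype.val h1).symm
  have huniv : (Finset.univ : Finset (zpowers t)) = {1, ⟨t, mem_zpowers t⟩} := by
    symm
    apply Finset.eq_univ_of_card
    rw [Finset.card_pair hne, ← Nat.card_eq_fintype_card, Nat.card_zpowers, h.ord_t]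
  rw [huniv, Finset.sum_pair hne]
  have e1 : ∀ y : Y, ((fun p => (f1 p : ℂ)) - fun p => (f2 p : ℂ)) ((1 : zpowers t), y) = 0 := by
    intro y
    simp only [Pi.sub_apply, f2, MonoidHom.mul_apply, MonoidHom.comp_apply, MonoidHom.coe_fst,
      map_one, one_mul, sub_self]
  have e2 : ∀ y : Y, ((fun p => (f1 p : ℂ)) - fun p => (f2 p : ℂ))
      ((⟨t, mem_zpowers t⟩ : zpowers t), y) = 2 * (b y : ℂ) := by
    intro y
    have h3 : sgn h ⟨t, mem_zpowers t⟩ = -1 := if_neg (Q.t_ne h)
    simp only [Pi.sub_apply, f2, f1, MonoidHom.mul_apply, MonoidHom.comp_apply, MonoidHom.coe_fst,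
      MonoidHom.coe_snd, h3, Units.val_mul, Units.val_neg, Units.val_one]
    ring
  simp only [e1, e2, zero_mul, Finset.sum_const_zero, zero_add]
  unfold rv
  have e3 : ∀ y : Y, φ ((⟨t, mem_zpowers t⟩ : zpowers t), y) = t * y := fun y => rfl
  simp only [e3, mul_assoc]
  rw [← Finset.mul_sum]
  push_cast
  ring

/-- the integral vector -/
noncomputable def iv (t : G) [Fintype Y] (b : Y →* ℂˣ) (χ : IrrCharacter G) : ℤ :=
  ⌊(rv t b (χ : G → ℂ)).re⌋

theorem iv_coe [Finite G] [Fintype Y] (h : Q3 t Y) (b : Y →* ℂˣ) (χ : IrrCharacter G) :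
    (iv t b χ : ℂ) = rv t b (χ : G → ℂ) := by
  obtain ⟨n, hn⟩ := exists_int_rv h b χ
  rw [iv, hn]
  simp

theorem iv_gram [Finite G] [Fintype (IrrCharacter G)] [Fintype Y] (h : Q3 t Y) (b b' : Y →* ℂˣ)
    [Decidable (b = b')] :
    ∑ χ : IrrCharacter G, iv t b χ * iv t b' χ = if b = b' then 4 else 2 := by
  have := Fintype.ofFinite G
  have h1 : ((∑ χ : IrrCharacter G, iv t b χ * iv t b' χ : ℤ) : ℂ) =
      ((if b = b' then 4 else 2 : ℤ) : ℂ) := by
    have h2 := gram h b b'
    have h4 : ((∑ χ : IrrCharacter G, iv t b χ * iv t b' χ : ℤ) : ℂ) =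
        ∑ χ : IrrCharacter G, rv t b (χ : G → ℂ) * conj (rv t b' (χ : G → ℂ)) := by
      rw [Int.cast_sum]
      refine Finset.sum_congr rfl fun χ _ => ?_
      rw [← iv_coe h b χ, ← iv_coe h b' χ, VecInt.conj_int, Int.cast_mul]
    rw [h4, h2]
    by_cases hbb : b = b'
    · rw [if_pos hbb, if_pos hbb]; norm_num
    · rw [if_neg hbb, if_neg hbb]; norm_num
  exact_mod_cast h1

/-- the conjugate character -/
noncomputable def cj [Finite G] (χ : IrrCharacter G) : IrrCharacter G :=
  ⟨fun g => conj ((χ : G → ℂ) g), Characters.Core.isIrr_conj χ.2⟩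

theorem iv_cj [Finite G] [Fintype Y] (h : Q3 t Y) (b : Y →* ℂˣ) (χ : IrrCharacter G) :
    iv t b (cj χ) = iv t b⁻¹ χ := by
  have h1 : (iv t b (cj χ) : ℂ) = (iv t b⁻¹ χ : ℂ) := by
    rw [iv_coe h, ← VecInt.conj_int (iv t b⁻¹ χ), iv_coe h]
    exact rv_conj b _
  exact_mod_cast h1

theorem main [Finite G] [IsSimpleGroup G] (hG : ¬ ∀ a b : G, a * b = b * a) (h : Q3 t Y)
    (hconj : ∀ u v : G, orderOf u = 2 → orderOf v = 2 → IsConj u v)
    (h8 : ∀ P : Sylow 2 G, Nat.card P = 8)
    (hexp : ∀ P : Sylow 2 G, ∀ x ∈ (P : Subgroup G), x * x = 1) :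
    (1152 : ℚ) / Nat.card G = 16 / 33 := by
  classical
  have := Fintype.ofFinite G
  have := Fintype.ofFinite Y
  have : Finite (IrrCharacter G) := Characters.Core.finite_irr
  have := Fintype.ofFinite (IrrCharacter G)
  have : Fintype (Y →* ℂˣ) := Fintype.ofFinite _
  have hcard : Fintype.card (Y →* ℂˣ) = 3 := by
    rw [← Nat.card_eq_fintype_card, card_hom (Q.Ycomm h), h.card_Y]
  obtain ⟨θ, hθ⟩ : ∃ θ : Y →* ℂˣ, θ ≠ 1 := by
    by_contra hcon
    push Not at hcon
    have : Fintype.card (Y →* ℂˣ) ≤ 1 := Fintype.card_le_one_iff.2 fun a b => by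
      rw [hcon a, hcon b]
    omega
  have hinv : ∀ y : Y, (θ⁻¹ : Y →* ℂˣ) y = (θ y)⁻¹ := fun y => rfl
  have h3 : ∀ y : Y, θ y * (θ y * θ y) = 1 := by
    intro y
    have h1 : y ^ 3 = 1 := by rw [← h.card_Y]; exact pow_card_eq_one'
    rw [← pow_three, ← map_pow, h1, map_one]
  have hθi1 : (θ⁻¹ : Y →* ℂˣ) ≠ 1 := by
    intro h1
    apply hθ
    refine MonoidHom.ext fun y => ?_
    have h2 := DFunLike.congr_fun h1 y
    rw [hinv, MonoidHom.one_apply, inv_eq_one] at h2
    exact h2
  have hθi : (θ⁻¹ : Y →* ℂˣ) ≠ θ := by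
    intro h1
    apply hθ
    refine MonoidHom.ext fun y => ?_
    have h2 := DFunLike.congr_fun h1 y
    rw [hinv] at h2
    have h4 : θ y * θ y = 1 := by
      nth_rw 1 [← h2]; exact inv_mul_cancel _
    have h5 := h3 y
    rw [h4, mul_one] at h5
    exact h5
  have hii : ((θ⁻¹)⁻¹ : Y →* ℂˣ) = θ := MonoidHom.ext fun y => by
    show ((θ y)⁻¹)⁻¹ = θ y
    exact inv_inv _
  have h1i : ((1 : Y →* ℂˣ)⁻¹ : Y →* ℂˣ) = 1 := MonoidHom.ext fun y => by
    show (1 : ℂˣ)⁻¹ = 1
    exact inv_one
  have huniv : (Finset.univ : Finset (Y →* ℂˣ)) = {1, θ, θ⁻¹} := by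
    symm
    apply Finset.eq_univ_of_card
    rw [hcard, Finset.card_insert_of_notMem, Finset.card_pair hθi.symm]
    simp only [Finset.mem_insert, Finset.mem_singleton, not_or]
    exact ⟨hθ.symm, hθi1.symm⟩
  let one : IrrCharacter G := ⟨fun _ => 1, Blocks.Basic.isIrrCharacter_one⟩
  have hone : (one : G → ℂ) = fun _ => 1 := rfl
  have iv1 : ∀ b : Y →* ℂˣ, iv t b one = if b = 1 then 1 else 0 := by
    intro b
    have h1 : (iv t b one : ℂ) = ((if b = 1 then 1 else 0 : ℤ) : ℂ) := by
      rw [iv_coe h, hone, rv_one h]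
      split_ifs <;> simp
    exact_mod_cast h1
  have hdegc : ∀ χ : IrrCharacter G, DegVal.deg (cj χ) = DegVal.deg χ := by
    intro χ
    have h1 : (DegVal.deg (cj χ) : ℂ) = (DegVal.deg χ : ℂ) := by
      rw [DegVal.deg_coe, ← VecInt.conj_int (DegVal.deg χ), DegVal.deg_coe]
      rfl
    exact_mod_cast h1
  have hsum0 : ∀ b : Y →* ℂˣ, ∑ χ : IrrCharacter G, iv t b χ * DegVal.deg χ = 0 := by
    intro b
    have h1 : ((∑ χ : IrrCharacter G, iv t b χ * DegVal.deg χ : ℤ) : ℂ) = ((0 : ℤ) : ℂ) := by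
      push_cast
      rw [← sum_deg h b]
      exact Finset.sum_congr rfl fun χ _ => by rw [iv_coe h, DegVal.deg_coe]
    exact_mod_cast h1
  have hsumc : ∀ b : Y →* ℂˣ, ∑ χ : IrrCharacter G, (iv t b χ : ℚ) *
      ((DegVal.val t χ : ℚ) ^ 2 / DegVal.deg χ) = 1152 / Nat.card G := by
    intro b
    refine VecInt.rat_of_complex (iv_coe h b) (DegVal.val_coe h.ord_t) DegVal.deg_coe ?_
    rw [sum_class h hconj b]
    push_cast
    rfl
  refine QThreeNum.main (one := one) (σ := cj) (d := DegVal.deg) (τ := DegVal.val t)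
    (a := iv t (1 : Y →* ℂˣ)) (b := iv t θ) ?_
  exact
    { σσ := fun χ => Subtype.ext (funext fun g => Complex.conj_conj _)
      d_pos := DegVal.deg_pos
      d_one := DegVal.deg_one one hone
      d_eq := by
        intro χ hχ
        have h1 : (χ : G → ℂ) 1 = 1 := by
          rw [← DegVal.deg_coe, hχ]; norm_num
        obtain ⟨f, hf⟩ := Characters.Linear.exists_hom_of_isIrrCharacter χ.2 h1
        apply Subtype.ext
        rw [hone]
        have h2 : (χ : G → ℂ) = fun g => (f g : ℂ) := hf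
        rw [h2]
        funext g
        rw [SmallSimple.Parity.commHom_eq_one hG f g]
        simp
      dσ := hdegc
      aσ := by intro χ; rw [iv_cj h, h1i]
      a_one := by rw [iv1, if_pos rfl]
      b_one := by rw [iv1, if_neg hθ]
      bσ_one := by rw [iv_cj h, iv1, if_neg hθi1]
      aa := by
        have := iv_gram h (1 : Y →* ℂˣ) 1
        rw [if_pos rfl] at this
        simpa only [pow_two] using this
      bb := by
        have := iv_gram h θ θ
        rw [if_pos rfl] at this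
        simpa only [pow_two] using this
      ab := by
        have := iv_gram h 1 θ
        rw [if_neg hθ.symm] at this
        exact this
      bc := by
        have := iv_gram h θ θ⁻¹
        rw [if_neg hθi.symm] at this
        simp only [iv_cj h]
        exact this
      val := by
        intro χ
        rw [iv_cj h]
        have h1 := sum_rv h (χ : G → ℂ)
        rw [huniv, Finset.sum_insert, Finset.sum_pair hθi.symm] at h1
        · have h2 : (DegVal.val t χ : ℂ) =
              ((iv t (1 : Y →* ℂˣ) χ + iv t θ χ + iv t θ⁻¹ χ : ℤ) : ℂ) := by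
            push_cast
            rw [iv_coe h, iv_coe h, iv_coe h, ← VecInt.conj_int, DegVal.val_coe h.ord_t, ← h1]
            ring
          exact_mod_cast h2
        · simp only [Finset.mem_insert, Finset.mem_singleton, not_or]
          exact ⟨hθ.symm, hθi1.symm⟩
      ad := hsum0 1
      bd := hsum0 θ
      ac := hsumc 1
      bcl := hsumc θ
      mod8 := DegVal.mod8 h.ord_t hconj h8 hexp }

/-- **The case `q = 3`.** -/
theorem false {G : Type*} [Group G] [Finite G] [IsSimpleGroup G]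
    (hab : ∀ P : Sylow 2 G, ∀ a b : P, a * b = b * a) {F : Type*} [Field F] [Fintype F]
    (hF : Fintype.card F = 3) {t : G} (ht : orderOf t = 2)
    (e : centralizer ({t} : Set G) ≃*
      Multiplicative (ZMod 2) × Matrix.ProjectiveSpecialLinearGroup (Fin 2) F) : False := by
  obtain ⟨e3⟩ := Cfsg.Agent.S0251.result (F := F) hF
  let e' : centralizer ({t} : Set G) ≃* H :=
    e.trans (MulEquiv.prodCongr (MulEquiv.refl _) e3)
  obtain ⟨h8, hexp⟩ := QThreeLoc.sylow e' ht hab
  obtain ⟨Y, hY⟩ := exists_Q3 e' ht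
  have h24 : 24 ∣ Nat.card G := hY.card_C ▸ card_subgroup_dvd_card _
  have hG : ¬ ∀ a b : G, a * b = b * a := by
    intro hcomm
    obtain ⟨y0, hy0, hy1⟩ := f5
    have hall : ∀ z : A4, (∀ g : A4, g * z = z * g) := by
      intro z g
      have h1 : e'.symm (1, g) * e'.symm (1, z) = e'.symm (1, z) * e'.symm (1, g) :=
        Subtype.ext (hcomm _ _)
      rw [← map_mul, ← map_mul] at h1
      exact congrArg Prod.snd (e'.symm.injective h1)
    exact hy1 (f4 y0 (hall y0))
  have hG' : ¬ IsMulCommutative G := fun h => hG fun a b => h.is_comm.comm a b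
  have h16 : ¬ 16 ∣ Nat.card G := by
    intro h16
    obtain ⟨P⟩ : Nonempty (Sylow 2 G) := inferInstance
    have h1 := P.pow_dvd_card_of_pow_dvd_card (n := 4) (by simpa using h16)
    have h2 : Nat.card (P : Subgroup G) = 8 := h8 P
    rw [h2] at h1
    norm_num at h1
  have hconj : ∀ u v : G, orderOf u = 2 → orderOf v = 2 → IsConj u v :=
    SmallSimple.SylowEight.isConj_of_card_sylow_eight hG'
      (Dvd.dvd.trans (by norm_num) h24) h16
  have h1 := main hG hY hconj h8 hexp
  have h7 := seven_dvd h8 hab hexp hconj ht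
  have hpos : (Nat.card G : ℚ) ≠ 0 := by exact_mod_cast Nat.card_pos.ne'
  have h2 : (Nat.card G : ℚ) = 2376 := by
    rw [div_eq_div_iff hpos (by norm_num)] at h1
    linarith
  have h3 : Nat.card G = 2376 := by exact_mod_cast h2
  rw [h3] at h7
  norm_num at h7

end Cfsg.Agent.Ree.QThree
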