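import Mathlib
import Cfsg.Agent.Classification.SmallOrders.AbelianSylow
import Cfsg.Agent.TwoFusion.AbelianJanko

/-!
# S0343, reduction: fusion in an elementary abelian Sylow 2-subgroup `S = ⟨t⟩ × A`

If `C(t) ∩ N(S)` normalises `A` and is transitive on `A \ 1`, and `G` is simple nonabelian, then `N(S)` is transitive on
`S \ 1` and `|S| ≤ 8`.
-/

set_option autoImplicit false

open Subgroup

namespace Cfsg.Agent.Ree.RedFusion

variable {G : Type*} [Group G]

/-- The situation. -/
structure Fus (S : Sylow 2 G) (t : G) (A : Subgroup G) : Prop where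
  exp : ∀ x ∈ (S : Subgroup G), x * x = 1
  t_mem : t ∈ (S : Subgroup G)
  t_ne : t ≠ 1
  A_le : A ≤ S
  t_not : t ∉ A
  cover : ∀ x ∈ (S : Subgroup G), x ∈ A ∨ t * x ∈ A
  A_ne : A ≠ ⊥
  norm : ∀ n ∈ normalizer ((S : Subgroup G) : Set G), n * t = t * n → ∀ a ∈ A, n * a * n⁻¹ ∈ A
  trans : ∀ a ∈ A, ∀ b ∈ A, a ≠ 1 → b ≠ 1 →
    ∃ n ∈ normalizer ((S : Subgroup G) : Set G), n * t = t * n ∧ n * a * n⁻¹ = b

variable {S : Sylow 2 G} {t : G} {A : Subgroup G}

theorem Fus.comm (h : Fus S t A) {x y : G} (hx : x ∈ (S : Subgroup G)) (hy : y ∈ (S : Subgroup G)) :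
    x * y = y * x := by
  have h1 := h.exp _ (mul_mem hx hy)
  have e1 : x⁻¹ = x := inv_eq_of_mul_eq_one_left (h.exp x hx)
  have e2 : y⁻¹ = y := inv_eq_of_mul_eq_one_left (h.exp y hy)
  calc x * y = (x * y)⁻¹ := (inv_eq_of_mul_eq_one_left h1).symm
    _ = y⁻¹ * x⁻¹ := mul_inv_rev x y
    _ = y * x := by rw [e1, e2]

theorem Fus.tt (h : Fus S t A) : t * t = 1 := h.exp t h.t_mem

/-- `A` has index two in `S`. -/
theorem Fus.mul_mem_iff (h : Fus S t A) {x y : G} (hx : x ∈ (S : Subgroup G))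
    (hy : y ∈ (S : Subgroup G)) : x * y ∈ A ↔ (x ∈ A ↔ y ∈ A) := by
  by_cases hxA : x ∈ A
  · simp only [hxA, true_iff]
    constructor
    · intro h1
      have := A.mul_mem (A.inv_mem hxA) h1
      rwa [inv_mul_cancel_left] at this
    · exact fun h1 => A.mul_mem hxA h1
  · by_cases hyA : y ∈ A
    · simp only [hxA, hyA, false_iff]
      constructor
      · intro h1
        exact absurd (by
          have := A.mul_mem h1 (A.inv_mem hyA)
          rwa [mul_inv_cancel_right] at this) hxA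
      · intro h1
        exact absurd trivial h1
    · have hx' := (h.cover x hx).resolve_left hxA
      have hy' := (h.cover y hy).resolve_left hyA
      have : x * y = (t * x) * (t * y) := by
        rw [h.comm h.t_mem hx, mul_assoc, ← mul_assoc t t y, h.tt, one_mul]
      simp only [hxA, hyA, iff_self, iff_true]
      rw [this]
      exact A.mul_mem hx' hy'

section trans

variable [Finite G]

omit [Finite G] in
theorem Fus.even_card (h : Fus S t A) : Even (Nat.card A) := by
  obtain ⟨a, ha1⟩ := A.ne_bot_iff_exists_ne_one.1 h.A_ne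
  have h2 : orderOf a = 2 := by
    apply orderOf_eq_prime
    · rw [pow_two]
      exact Subtype.ext (h.exp a (h.A_le a.2))
    · exact ha1
  rw [even_iff_two_dvd, ← h2]
  exact orderOf_dvd_natCard a

theorem Fus.odd_orbit (h : Fus S t A) :
    Odd ({y : G | ∃ n ∈ normalizer ((S : Subgroup G) : Set G), n * t * n⁻¹ = y}.ncard) := by
  rw [TwoFusion.AbelianJanko.ncard_orbit]
  have h1 : (S : Subgroup G) ≤ centralizer ({t} : Set G) := by
    intro x hx
    rw [mem_centralizer_singleton_iff]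
    exact h.comm hx h.t_mem
  have h2 : (centralizer ({t} : Set G)).relIndex (normalizer ((S : Subgroup G) : Set G)) ∣
      (S : Subgroup G).relIndex (normalizer ((S : Subgroup G) : Set G)) :=
    relIndex_dvd_of_le_left _ h1
  have h3 : (S : Subgroup G).relIndex (normalizer ((S : Subgroup G) : Set G)) ∣
      (S : Subgroup G).index := ⟨_, (relIndex_mul_index le_normalizer).symm⟩
  have h4 : ¬ 2 ∣ (S : Subgroup G).index := S.not_dvd_index
  rw [← Nat.not_even_iff_odd, even_iff_two_dvd]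
  exact fun h5 => h4 (h5.trans (h2.trans h3))

/-- `N(S)` is transitive on `S \ 1`. -/
theorem Fus.transitive [IsSimpleGroup G] (hG : ¬ IsMulCommutative G) (h : Fus S t A) :
    ∀ x ∈ (S : Subgroup G), x ≠ 1 →
      ∃ n ∈ normalizer ((S : Subgroup G) : Set G), n * t * n⁻¹ = x := by
  classical
  set O : Set G := {y : G | ∃ n ∈ normalizer ((S : Subgroup G) : Set G), n * t * n⁻¹ = y} with hO
  have hodd := h.odd_orbit
  rw [← hO] at hodd
  have hev := h.even_card
  have htO : t ∈ O := ⟨1, one_mem _, by group⟩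
  have hOS : ∀ x ∈ O, x ∈ (S : Subgroup G) := by
    rintro x ⟨n, hn, rfl⟩
    exact (mem_normalizer_iff.1 hn t).1 h.t_mem
  have hO1 : (1 : G) ∉ O := by
    rintro ⟨n, _, hn⟩
    apply h.t_ne
    have : t = n⁻¹ * (n * t * n⁻¹) * n := by group
    rw [this, hn]; group
  have hA : ∀ a ∈ A, a ≠ 1 → a ∈ O → ∀ b ∈ A, b ≠ 1 → b ∈ O := by
    rintro a ha ha1 ⟨n, hn, hna⟩ b hb hb1
    obtain ⟨c, hc, -, hcb⟩ := h.trans a ha b hb ha1 hb1
    exact ⟨c * n, mul_mem hc hn, by rw [← hcb, ← hna]; group⟩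
  have htA : ∀ a ∈ A, a ≠ 1 → t * a ∈ O → ∀ b ∈ A, b ≠ 1 → t * b ∈ O := by
    rintro a ha ha1 ⟨n, hn, hna⟩ b hb hb1
    obtain ⟨c, hc, hct, hcb⟩ := h.trans a ha b hb ha1 hb1
    refine ⟨c * n, mul_mem hc hn, ?_⟩
    calc c * n * t * (c * n)⁻¹ = c * (n * t * n⁻¹) * c⁻¹ := by group
      _ = (c * t) * a * c⁻¹ := by rw [hna]; group
      _ = t * (c * a * c⁻¹) := by rw [hct]; group
      _ = t * b := by rw [hcb]
  have hcardA : (A : Set G).ncard = Nat.card A := rfl
  by_cases c1 : ∃ a ∈ A, a ≠ 1 ∧ a ∈ O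
  · obtain ⟨a, ha, ha1, haO⟩ := c1
    have hAO := hA a ha ha1 haO
    by_cases c2 : ∃ a ∈ A, a ≠ 1 ∧ t * a ∈ O
    · obtain ⟨a', ha', ha1', haO'⟩ := c2
      have htAO := htA a' ha' ha1' haO'
      intro x hx hx1
      rcases h.cover x hx with hxA | hxA
      · exact hAO x hxA hx1
      · by_cases hxt : t * x = 1
        · have : x = t := by
            have h1 : t * x = t * t := by rw [hxt, h.tt]
            exact mul_left_cancel h1
          rw [this]; exact htO
        · have := htAO _ hxA hxt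
          rwa [← mul_assoc, h.tt, one_mul] at this
    · exfalso
      push Not at c2
      have hOeq : O = insert t ((A : Set G) \ {1}) := by
        ext x
        constructor
        · intro hx
          have hxS := hOS x hx
          rcases h.cover x hxS with hxA | hxA
          · right
            exact ⟨hxA, fun h1 => hO1 (by rw [← Set.mem_singleton_iff.1 h1]; exact hx)⟩
          · left
            by_contra hne
            have h1 : t * x ≠ 1 := by
              intro h2
              apply hne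
              have h3 : t * x = t * t := by rw [h2, h.tt]
              exact mul_left_cancel h3
            apply c2 _ hxA h1
            rwa [← mul_assoc, h.tt, one_mul]
        · rintro (rfl | ⟨hxA, hx1⟩)
          · exact htO
          · exact hAO x hxA hx1
      have h1 : O.ncard = Nat.card A := by
        rw [hOeq, Set.ncard_insert_of_notMem, Set.ncard_sdiff_singleton_add_one A.one_mem, hcardA]
        rintro ⟨h1, -⟩
        exact h.t_not h1
      rw [h1] at hodd
      exact (Nat.not_even_iff_odd.2 hodd) hev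
  · push Not at c1
    by_cases c2 : ∃ a ∈ A, a ≠ 1 ∧ t * a ∈ O
    · exfalso
      obtain ⟨a', ha', ha1', haO'⟩ := c2
      have htAO := htA a' ha' ha1' haO'
      have hOeq : O = (fun x => t * x) '' (A : Set G) := by
        ext x
        constructor
        · intro hx
          have hxS := hOS x hx
          rcases h.cover x hxS with hxA | hxA
          · exfalso
            apply c1 x hxA _ hx
            rintro rfl
            exact hO1 hx
          · exact ⟨t * x, hxA, by simp only; rw [← mul_assoc, h.tt, one_mul]⟩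
        · rintro ⟨a, ha, rfl⟩
          by_cases ha1 : a = 1
          · rw [ha1]; simpa using htO
          · exact htAO a ha ha1
      have h1 : O.ncard = Nat.card A := by
        rw [hOeq, Set.ncard_image_of_injective _ (mul_right_injective t), hcardA]
      rw [h1] at hodd
      exact (Nat.not_even_iff_odd.2 hodd) hev
    · exfalso
      push Not at c2
      apply h.t_ne
      refine Classification.SmallOrders.AbelianSylow.eq_one_of_forall_normalizer_comm hG S
        ⟨⟨fun x y => Subtype.ext (h.comm x.2 y.2)⟩⟩ h.t_mem fun n hn => ?_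
      have hx : n * t * n⁻¹ ∈ O := ⟨n, hn, rfl⟩
      have hxS := hOS _ hx
      have : n * t * n⁻¹ = t := by
        rcases h.cover _ hxS with hxA | hxA
        · exfalso
          apply c1 _ hxA _ hx
          intro h1
          rw [h1] at hx
          exact hO1 hx
        · by_contra hne
          have h1 : t * (n * t * n⁻¹) ≠ 1 := by
            intro h2
            apply hne
            have h3 : t * (n * t * n⁻¹) = t * t := by rw [h2, h.tt]
            exact mul_left_cancel h3
          apply c2 _ hxA h1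
          rwa [← mul_assoc, h.tt, one_mul]
      calc n * t = (n * t * n⁻¹) * n := by group
        _ = t * n := by rw [this]

end trans

section bound

variable [Finite G]

/-- no element of `N(S)` interchanges two elements of `S` -/
theorem Fus.no_swap (h : Fus S t A) {x y w : G} (hx : x ∈ (S : Subgroup G))
    (hw : w ∈ normalizer ((S : Subgroup G) : Set G)) (h1 : w * x * w⁻¹ = y) (h2 : w * y * w⁻¹ = x) :
    x = y := by
  obtain ⟨k, m, hm, hkm⟩ := Nat.exists_eq_two_pow_mul_odd (orderOf_pos w).ne'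
  have hpow : ∀ j : ℕ, w ^ (2 * j) * x * (w ^ (2 * j))⁻¹ = x := by
    intro j
    induction j with
    | zero => simp
    | succ j ih =>
      calc w ^ (2 * (j + 1)) * x * (w ^ (2 * (j + 1)))⁻¹
          = w * (w * (w ^ (2 * j) * x * (w ^ (2 * j))⁻¹) * w⁻¹) * w⁻¹ := by
            rw [show 2 * (j + 1) = 2 * j + 1 + 1 by ring, pow_succ', pow_succ']; group
        _ = x := by rw [ih, h1, h2]
  have hodd : w ^ m * x * (w ^ m)⁻¹ = y := by
    obtain ⟨j, rfl⟩ := hm
    calc w ^ (2 * j + 1) * x * (w ^ (2 * j + 1))⁻¹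
        = w * (w ^ (2 * j) * x * (w ^ (2 * j))⁻¹) * w⁻¹ := by rw [pow_succ']; group
      _ = y := by rw [hpow, h1]
  have h2pow : (w ^ m) ^ (2 ^ k) = 1 := by
    rw [← pow_mul, mul_comm, ← hkm, pow_orderOf_eq_one]
  have hP : IsPGroup 2 (zpowers (w ^ m)) := by
    rintro ⟨g, hg⟩
    obtain ⟨i, rfl⟩ := mem_zpowers_iff.1 hg
    refine ⟨k, Subtype.ext ?_⟩
    simp only [SubmonoidClass.coe_pow, OneMemClass.coe_one]
    rw [← zpow_natCast, ← zpow_mul, mul_comm, zpow_mul, zpow_natCast, h2pow, one_zpow]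
  have hle : zpowers (w ^ m) ≤ normalizer ((S : Subgroup G) : Set G) := by
    rw [zpowers_le]
    exact pow_mem hw m
  have h3 := IsPGroup.inf_normalizer_sylow hP S
  have h4 : w ^ m ∈ zpowers (w ^ m) ⊓ (S : Subgroup G) :=
    h3.le ⟨mem_zpowers _, hle (mem_zpowers _)⟩
  have h5 := h.comm h4.2 hx
  rw [← hodd, h5, mul_inv_cancel_right]

omit [Finite G] in
theorem conj_mem {n x : G} (hn : n ∈ normalizer ((S : Subgroup G) : Set G))
    (hx : x ∈ (S : Subgroup G)) : n⁻¹ * x * n ∈ (S : Subgroup G) := by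
  have h1 : n⁻¹ ∈ normalizer ((S : Subgroup G) : Set G) := inv_mem hn
  have := (mem_normalizer_iff.1 h1 x).1 hx
  rwa [inv_inv] at this

/-- `y` is in the complement attached to `x = n t n⁻¹` -/
def P (S : Sylow 2 G) (t : G) (A : Subgroup G) (x y : G) : Prop :=
  ∃ n ∈ normalizer ((S : Subgroup G) : Set G), n * t * n⁻¹ = x ∧ n⁻¹ * y * n ∈ A

omit [Finite G] in
theorem Fus.P_iff (h : Fus S t A) {n x y : G} (hn : n ∈ normalizer ((S : Subgroup G) : Set G))
    (hx : n * t * n⁻¹ = x) : P S t A x y ↔ n⁻¹ * y * n ∈ A := by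
  constructor
  · rintro ⟨n', hn', hx', hy⟩
    have h1 : (n⁻¹ * n') * t = t * (n⁻¹ * n') := by
      have h2 : n' * t * n'⁻¹ = n * t * n⁻¹ := by rw [hx', hx]
      calc (n⁻¹ * n') * t = n⁻¹ * (n' * t * n'⁻¹) * n' := by group
        _ = t * (n⁻¹ * n') := by rw [h2]; group
    have h2 := h.norm _ (mul_mem (inv_mem hn) hn') h1 _ hy
    have h3 : n⁻¹ * n' * (n'⁻¹ * y * n') * (n⁻¹ * n')⁻¹ = n⁻¹ * y * n := by group
    rwa [h3] at h2
  · exact fun hy => ⟨n, hn, hx, hy⟩

theorem Fus.P_xor (h : Fus S t A)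
    (ht : ∀ x ∈ (S : Subgroup G), x ≠ 1 →
      ∃ n ∈ normalizer ((S : Subgroup G) : Set G), n * t * n⁻¹ = x) {x y : G}
    (hx : x ∈ (S : Subgroup G)) (hx1 : x ≠ 1) (hy : y ∈ (S : Subgroup G)) (hy1 : y ≠ 1)
    (hxy : x ≠ y) : P S t A x y ↔ ¬ P S t A y x := by
  obtain ⟨n, hn, hnx⟩ := ht x hx hx1
  obtain ⟨k, hk, hky⟩ := ht y hy hy1
  rw [h.P_iff hn hnx, h.P_iff hk hky]
  set a := n⁻¹ * y * n with ha
  set b := k⁻¹ * x * k with hb
  have haS : a ∈ (S : Subgroup G) := conj_mem hn hy
  have hbS : b ∈ (S : Subgroup G) := conj_mem hk hx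
  have hya : n * a * n⁻¹ = y := by rw [ha]; group
  have hxb : k * b * k⁻¹ = x := by rw [hb]; group
  have ha1 : a ≠ 1 := by
    intro h1
    apply hy1
    rw [← hya, h1]; group
  have hb1 : b ≠ 1 := by
    intro h1
    apply hx1
    rw [← hxb, h1]; group
  have key : ∀ c ∈ normalizer ((S : Subgroup G) : Set G), c * t = t * c → c * a * c⁻¹ = b →
      False := by
    intro c hc hct hcab
    apply hxy
    refine h.no_swap hx (mul_mem (mul_mem hk hc) (inv_mem hn)) ?_ ?_
    · calc k * c * n⁻¹ * x * (k * c * n⁻¹)⁻¹ = k * (c * (n⁻¹ * x * n) * c⁻¹) * k⁻¹ := by group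
        _ = k * (c * t * c⁻¹) * k⁻¹ := by rw [← hnx]; group
        _ = k * t * k⁻¹ := by rw [hct]; group
        _ = y := hky
    · calc k * c * n⁻¹ * y * (k * c * n⁻¹)⁻¹ = k * (c * (n⁻¹ * y * n) * c⁻¹) * k⁻¹ := by group
        _ = k * b * k⁻¹ := by rw [← ha, hcab]
        _ = x := hxb
  constructor
  · intro h1 h2
    obtain ⟨c, hc, hct, hcab⟩ := h.trans a h1 b h2 ha1 hb1
    exact key c hc hct hcab
  · intro h2
    by_contra h1
    have h1' := (h.cover a haS).resolve_left h1
    have h2' := (h.cover b hbS).resolve_left h2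
    have hat : t * a ≠ 1 := by
      intro h3
      apply hxy
      have h4 : a = t := by
        have : t * a = t * t := by rw [h3, h.tt]
        exact mul_left_cancel this
      rw [← hnx, ← hya, h4]
    have hbt : t * b ≠ 1 := by
      intro h3
      apply hxy
      have h4 : b = t := by
        have : t * b = t * t := by rw [h3, h.tt]
        exact mul_left_cancel this
      rw [← hky, ← hxb, h4]
    obtain ⟨c, hc, hct, hcab⟩ := h.trans _ h1' _ h2' hat hbt
    apply key c hc hct
    have h5 : t * (c * a * c⁻¹) = t * b := by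
      calc t * (c * a * c⁻¹) = (t * c) * a * c⁻¹ := by group
        _ = c * (t * a) * c⁻¹ := by rw [← hct]; group
        _ = t * b := hcab
    exact mul_left_cancel h5

omit [Finite G] in
theorem Fus.P_mul (h : Fus S t A)
    (ht : ∀ x ∈ (S : Subgroup G), x ≠ 1 →
      ∃ n ∈ normalizer ((S : Subgroup G) : Set G), n * t * n⁻¹ = x) {x y z : G}
    (hx : x ∈ (S : Subgroup G)) (hx1 : x ≠ 1) (hy : y ∈ (S : Subgroup G))
    (hz : z ∈ (S : Subgroup G)) : P S t A x (y * z) ↔ (P S t A x y ↔ P S t A x z) := by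
  obtain ⟨n, hn, hnx⟩ := ht x hx hx1
  rw [h.P_iff hn hnx, h.P_iff hn hnx, h.P_iff hn hnx]
  have : n⁻¹ * (y * z) * n = (n⁻¹ * y * n) * (n⁻¹ * z * n) := by group
  rw [this, h.mul_mem_iff (conj_mem hn hy) (conj_mem hn hz)]

/-- the key relation -/
theorem Fus.P_key (h : Fus S t A)
    (ht : ∀ x ∈ (S : Subgroup G), x ≠ 1 →
      ∃ n ∈ normalizer ((S : Subgroup G) : Set G), n * t * n⁻¹ = x) {x y w : G}
    (hx : x ∈ (S : Subgroup G)) (hx1 : x ≠ 1) (hy : y ∈ (S : Subgroup G)) (hy1 : y ≠ 1)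
    (hxy : x ≠ y) (hw : w ∈ (S : Subgroup G)) (hw1 : w ≠ 1) (hwx : w ≠ x) (hwy : w ≠ y)
    (hwxy : w ≠ x * y) : P S t A (x * y) w ↔ ¬ (P S t A x w ↔ P S t A y w) := by
  have hxy1 : x * y ≠ 1 := by
    intro h1
    apply hxy
    have : x * y = x * x := by rw [h1, h.exp x hx]
    exact (mul_left_cancel this).symm
  rw [h.P_xor ht (mul_mem hx hy) hxy1 hw hw1 hwxy.symm, h.P_mul ht hw hw1 hx hy,
    h.P_xor ht hw hw1 hx hx1 hwx, h.P_xor ht hw hw1 hy hy1 hwy]
  tauto

omit [Finite G] in
theorem exists_not_mem {H : Subgroup G} {l : Finset G} (hl : l.card < Nat.card H) :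
    ∃ x ∈ H, x ∉ l := by
  by_contra hcon
  push Not at hcon
  have h1 : (H : Set G) ⊆ (l : Set G) := fun x hx => hcon x hx
  have h2 := Set.ncard_le_ncard h1 l.finite_toSet
  rw [Set.ncard_coe_finset] at h2
  have h3 : (H : Set G).ncard = Nat.card H := rfl
  omega

/-- `|S| ≤ 8` -/
theorem Fus.card_le (h : Fus S t A)
    (ht : ∀ x ∈ (S : Subgroup G), x ≠ 1 →
      ∃ n ∈ normalizer ((S : Subgroup G) : Set G), n * t * n⁻¹ = x) : Nat.card S ≤ 8 := by
  classical
  by_contra hcon
  push Not at hcon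
  obtain ⟨x, hx, hx'⟩ := exists_not_mem (H := (S : Subgroup G)) (l := {1})
    (lt_of_le_of_lt (by simp) hcon)
  obtain ⟨y, hy, hy'⟩ := exists_not_mem (H := (S : Subgroup G)) (l := {1, x})
    (lt_of_le_of_lt (Finset.card_le_two.trans (by norm_num)) hcon)
  obtain ⟨w, hw, hw'⟩ := exists_not_mem (H := (S : Subgroup G)) (l := {1, x, y, x * y})
    (lt_of_le_of_lt (Finset.card_le_four.trans (by norm_num)) hcon)
  obtain ⟨v, hv, hv'⟩ := exists_not_mem (H := (S : Subgroup G))
    (l := ({1, x, y, x * y} : Finset G) ∪ {w * 1, w * x, w * y, w * (x * y)})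
    (lt_of_le_of_lt ((Finset.card_union_le _ _).trans
      (add_le_add Finset.card_le_four Finset.card_le_four)) hcon)
  simp only [Finset.mem_union, Finset.mem_insert, Finset.mem_singleton, not_or] at hx' hy' hw' hv'
  obtain ⟨hy1, hyx⟩ := hy'
  obtain ⟨hw1, hwx, hwy, hwxy⟩ := hw'
  obtain ⟨⟨hv1, hvx, hvy, hvxy⟩, hvw1, hvwx, hvwy, hvwxy⟩ := hv'
  have hww := h.exp w hw
  have hcancel : ∀ z, w * v = z → v = w * z := by
    intro z hz
    rw [← hz, ← mul_assoc, hww, one_mul]
  have hk1 := h.P_key ht hx hx' hy hy1 (Ne.symm hyx) hw hw1 hwx hwy hwxy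
  have hk2 := h.P_key ht hx hx' hy hy1 (Ne.symm hyx) hv hv1 hvx hvy hvxy
  have hk3 := h.P_key ht hx hx' hy hy1 (Ne.symm hyx) (mul_mem hw hv)
    (fun h1 => hvw1 (hcancel _ h1)) (fun h1 => hvwx (hcancel _ h1))
    (fun h1 => hvwy (hcancel _ h1)) (fun h1 => hvwxy (hcancel _ h1))
  have hxy1 : x * y ≠ 1 := by
    intro h1
    apply hyx
    have : x * y = x * x := by rw [h1, h.exp x hx]
    exact mul_left_cancel this
  rw [h.P_mul ht (mul_mem hx hy) hxy1 hw hv, h.P_mul ht hx hx' hw hv, h.P_mul ht hy hy1 hw hv]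
    at hk3
  generalize P S t A (x * y) w = e at hk1 hk3
  generalize P S t A (x * y) v = f at hk2 hk3
  generalize P S t A x w = a at hk1 hk3
  generalize P S t A y w = b at hk1 hk3
  generalize P S t A x v = c at hk2 hk3
  generalize P S t A y v = d at hk2 hk3
  clear * - hk1 hk2 hk3
  rw [hk1, hk2] at hk3
  clear hk1 hk2
  by_cases a <;> by_cases b <;> by_cases c <;> by_cases d <;> simp_all

end bound

section global

variable [Finite G]

/-- every Sylow 2-subgroup is elementary abelian -/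
theorem Fus.sylow_exp (h : Fus S t A) (P : Sylow 2 G) : ∀ x ∈ (P : Subgroup G), x * x = 1 := by
  obtain ⟨g, hg⟩ := MulAction.exists_smul_eq G S P
  intro x hx
  rw [← hg] at hx
  have h1 : g⁻¹ * x * g ∈ (S : Subgroup G) := by
    have h2 := Subgroup.mem_pointwise_smul_iff_inv_smul_mem.1 hx
    have h3 : (MulAut.conj g)⁻¹ • x = g⁻¹ * x * g := by
      rw [← map_inv, MulAut.smul_def, MulAut.conj_apply, inv_inv]
    rw [← h3]; exact h2
  have h2 := h.exp _ h1
  calc x * x = g * ((g⁻¹ * x * g) * (g⁻¹ * x * g)) * g⁻¹ := by group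
    _ = 1 := by rw [h2]; group

theorem sylow_card (P : Sylow 2 G) : Nat.card P = Nat.card S :=
  Nat.card_congr (Sylow.equiv P S).toEquiv

/-- an involution is conjugate to `t` -/
theorem Fus.conj_t (h : Fus S t A)
    (ht : ∀ x ∈ (S : Subgroup G), x ≠ 1 →
      ∃ n ∈ normalizer ((S : Subgroup G) : Set G), n * t * n⁻¹ = x) {u : G} (hu : orderOf u = 2) :
    IsConj t u := by
  have hP : IsPGroup 2 (zpowers u) := by
    apply IsPGroup.of_card (n := 1)
    rw [Nat.card_zpowers, hu, pow_one]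
  obtain ⟨P, hP⟩ := hP.exists_le_sylow
  have huP : u ∈ (P : Subgroup G) := hP (mem_zpowers u)
  obtain ⟨g, hg⟩ := MulAction.exists_smul_eq G S P
  rw [← hg] at huP
  have h1 : g⁻¹ * u * g ∈ (S : Subgroup G) := by
    have h2 := Subgroup.mem_pointwise_smul_iff_inv_smul_mem.1 huP
    have h3 : (MulAut.conj g)⁻¹ • u = g⁻¹ * u * g := by
      rw [← map_inv, MulAut.smul_def, MulAut.conj_apply, inv_inv]
    rw [← h3]; exact h2
  have h2 : g⁻¹ * u * g ≠ 1 := by
    intro h3
    have h4 : u = 1 := by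
      calc u = g * (g⁻¹ * u * g) * g⁻¹ := by group
        _ = 1 := by rw [h3]; group
    rw [h4, orderOf_one] at hu
    omega
  obtain ⟨n, _, hn⟩ := ht _ h1 h2
  rw [isConj_iff]
  exact ⟨g * n, by
    calc g * n * t * (g * n)⁻¹ = g * (n * t * n⁻¹) * g⁻¹ := by group
      _ = u := by rw [hn]; group⟩

theorem Fus.conj (h : Fus S t A)
    (ht : ∀ x ∈ (S : Subgroup G), x ≠ 1 →
      ∃ n ∈ normalizer ((S : Subgroup G) : Set G), n * t * n⁻¹ = x) :
    ∀ u v : G, orderOf u = 2 → orderOf v = 2 → IsConj u v := fun _ _ hu hv =>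
  (h.conj_t ht hu).symm.trans (h.conj_t ht hv)

/-- the order of `G` is divisible by `|S| - 1` -/
theorem Fus.card_sub_one_dvd (h : Fus S t A)
    (ht : ∀ x ∈ (S : Subgroup G), x ≠ 1 →
      ∃ n ∈ normalizer ((S : Subgroup G) : Set G), n * t * n⁻¹ = x) :
    Nat.card S - 1 ∣ Nat.card G := by
  have h1 := TwoFusion.AbelianJanko.ncard_orbit (normalizer ((S : Subgroup G) : Set G)) t
  have h2 : {y : G | ∃ n ∈ normalizer ((S : Subgroup G) : Set G), n * t * n⁻¹ = y} =
      ((S : Subgroup G) : Set G) \ {1} := by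
    ext x
    constructor
    · rintro ⟨n, hn, rfl⟩
      refine ⟨(mem_normalizer_iff.1 hn t).1 h.t_mem, fun h3 => h.t_ne ?_⟩
      have h3 : n * t * n⁻¹ = 1 := h3
      calc t = n⁻¹ * (n * t * n⁻¹) * n := by group
        _ = 1 := by rw [h3]; group
    · rintro ⟨hx, hx1⟩
      exact ht x hx hx1
  rw [h2] at h1
  have h3 : (((S : Subgroup G) : Set G) \ {1}).ncard + 1 = Nat.card S :=
    Set.ncard_sdiff_singleton_add_one (S : Subgroup G).one_mem
  have h4 : Nat.card S - 1 = (centralizer {t}).relIndex (normalizer ((S : Subgroup G) : Set G)) := by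
    omega
  rw [h4]
  exact (relIndex_dvd_card _ _).trans (card_subgroup_dvd_card _)

end global

end Cfsg.Agent.Ree.RedFusion
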