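import Cfsg.Agent.Ree.EvenQGroup
import Cfsg.Agent.S0252
import Cfsg.Agent.S0253
import Cfsg.Agent.S0448

/-!
# [REE] S0343: the reduction for odd fields
-/

set_option autoImplicit false
set_option linter.unusedSectionVars false

namespace Cfsg.Agent.Ree.ReduceOdd

open Subgroup
open Cfsg.Agent.Ree.LocalSetup (Comp)
open Cfsg.Agent.TwoFusion.PSLTwoGood (Good)

variable {G : Type*} [Group G] [Finite G]

local notation "PSL2" F => Matrix.ProjectiveSpecialLinearGroup (Fin 2) F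

/-- 2-subgroups are abelian. -/
theorem comm_of_isPGroup (hab : ∀ P : Sylow 2 G, ∀ a b : P, a * b = b * a) (Q : Subgroup G)
    (hQ : IsPGroup 2 Q) {x y : G} (hx : x ∈ Q) (hy : y ∈ Q) : x * y = y * x := by
  obtain ⟨P, hP⟩ := hQ.exists_le_sylow
  exact congrArg Subtype.val (hab P ⟨x, hP hx⟩ ⟨y, hP hy⟩)

theorem psl_sylow_comm (hab : ∀ P : Sylow 2 G, ∀ a b : P, a * b = b * a)
    {F : Type*} [Field F] [Fintype F] {t : G}
    (e : Subgroup.centralizer ({t} : Set G) ≃* Multiplicative (ZMod 2) × PSL2 F)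
    (P : Sylow 2 (PSL2 F)) : IsMulCommutative (P : Subgroup (PSL2 F)) := by
  let f : (PSL2 F) →* G := (Subgroup.subtype _).comp (e.symm.toMonoidHom.comp (MonoidHom.inr _ _))
  have hf : Function.Injective f := by
    intro x y hxy
    have h1 : (e.symm (1, x)) = (e.symm (1, y)) := Subtype.ext hxy
    exact congrArg Prod.snd (e.symm.injective h1)
  have h3 := P.isPGroup'.map f
  refine ⟨⟨fun x y => Subtype.ext (hf ?_)⟩⟩
  change f ((x : PSL2 F) * y) = f (y * x)
  rw [map_mul, map_mul]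
  exact comm_of_isPGroup hab _ h3 ⟨x, x.2, rfl⟩ ⟨y, y.2, rfl⟩

theorem good_of_iso (hab : ∀ P : Sylow 2 G, ∀ a b : P, a * b = b * a)
    {F : Type*} [Field F] [Fintype F] (hodd : Odd (Fintype.card F)) {t : G}
    (e : Subgroup.centralizer ({t} : Set G) ≃* Multiplicative (ZMod 2) × PSL2 F) :
    Good (PSL2 F) ∧ (Fintype.card F % 8 = 3 ∨ Fintype.card F % 8 = 5) := by
  obtain ⟨P⟩ : Nonempty (Sylow 2 (PSL2 F)) := inferInstance
  have h1 := psl_sylow_comm hab e P
  exact ⟨TwoFusion.PSLTwoGood.good_psl hodd P h1, TwoFusion.PSLTwoGood.mod_eight hodd P h1⟩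

/-- The Sylow 2-subgroups of `G`. -/
theorem sylow_structure (hab : ∀ P : Sylow 2 G, ∀ a b : P, a * b = b * a)
    {F : Type*} [Field F] [Fintype F] (hodd : Odd (Fintype.card F)) {t : G} (ht : orderOf t = 2)
    (e : Subgroup.centralizer ({t} : Set G) ≃* Multiplicative (ZMod 2) × PSL2 F) :
    ∃ P : Sylow 2 G, Nat.card (P : Subgroup G) = 8 ∧ (∀ x ∈ (P : Subgroup G), x * x = 1) ∧
      t ∈ (P : Subgroup G) := by
  classical
  have h2 : Fact (Nat.Prime 2) := ⟨Nat.prime_two⟩
  obtain ⟨hgood, hmod⟩ := good_of_iso hab hodd e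
  obtain ⟨K, hK⟩ := EvenQGroup.comp_of_center ht
    (fun x hx => LocalSetup.good_center hgood hx) e
  obtain ⟨eK⟩ := hK.iso
  have htt : t * t = 1 := by
    have := pow_orderOf_eq_one t
    rwa [ht, pow_two] at this
  have hKt : ∀ k ∈ K, k * t = t * k := fun k hk =>
    Subgroup.mem_centralizer_singleton_iff.1 (hK.le hk)
  let Q : Sylow 2 K := default
  obtain ⟨hQ2, hQcard, hQc⟩ := Walter.PSLFacts.odd_facts hmod eK Q
  set A : Subgroup G := (Q : Subgroup K).map K.subtype with hA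
  have hAK : A ≤ K := by
    rintro _ ⟨x, -, rfl⟩
    exact x.2
  have hA2 : ∀ a ∈ A, a * a = 1 := by
    rintro _ ⟨x, hx, rfl⟩
    exact congrArg Subtype.val (hQ2 x hx)
  have hAcard : Nat.card A = 4 := by
    rw [← hQcard]
    exact Nat.card_congr (equivMapOfInjective _ _ K.subtype_injective).toEquiv.symm
  have hAc : ∀ k ∈ K, (∀ a ∈ A, a * k = k * a) → k ∈ A := by
    intro k hk hka
    refine ⟨⟨k, hk⟩, hQc ?_, rfl⟩
    rw [mem_centralizer_iff]
    intro x hx
    exact Subtype.ext (hka x ⟨x, hx, rfl⟩)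
  have htA : t ∉ A := fun h => hK.not_mem (hAK h)
  obtain ⟨P, hAP, htP⟩ : ∃ P : Sylow 2 G, A ≤ P ∧ t ∈ P := by
    have hB : IsPGroup 2 (A ⊔ zpowers t : Subgroup G) := by
      have h3 : IsPGroup 2 (zpowers t) := IsPGroup.of_card (n := 1) (by rw [Nat.card_zpowers, ht, pow_one])
      have h4 : IsPGroup 2 A := IsPGroup.of_card (n := 2) (by rw [hAcard]; norm_num)
      refine IsPGroup.to_sup_of_normal_right' h4 h3 ?_
      intro a ha
      rw [mem_normalizer_iff]
      have hat : a * t = t * a := hKt a (hAK ha)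
      have hcm : ∀ i : ℤ, Commute a (t ^ i) := fun i => (show Commute a t from hat).zpow_right i
      have key : ∀ i : ℤ, a * t ^ i * a⁻¹ = t ^ i := fun i => by
        rw [(hcm i).eq, mul_inv_cancel_right]
      intro x
      constructor
      · rintro ⟨i, rfl⟩
        exact ⟨i, (key i).symm⟩
      · rintro ⟨i, hi⟩
        refine ⟨i, ?_⟩
        have hi' : t ^ i = a * x * a⁻¹ := hi
        have h6 : x = a⁻¹ * (a * x * a⁻¹) * a := by group
        change t ^ i = x
        rw [h6, ← hi', mul_assoc, (hcm i).eq.symm, inv_mul_cancel_left]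
    obtain ⟨P, hP⟩ := hB.exists_le_sylow
    exact ⟨P, le_sup_left.trans hP, hP ((le_sup_right : zpowers t ≤ A ⊔ zpowers t) (mem_zpowers t))⟩
  have hPc : ∀ x ∈ (P : Subgroup G), ∀ y ∈ (P : Subgroup G), x * y = y * x := fun x hx y hy =>
    congrArg Subtype.val (hab P ⟨x, hx⟩ ⟨y, hy⟩)
  have hPK : ∀ x ∈ (P : Subgroup G), x ∈ K → x ∈ A := fun x hx hxK =>
    hAc x hxK (fun a ha => hPc a (hAP ha) x hx)
  have hPdec : ∀ x ∈ (P : Subgroup G), x ∈ A ∨ t * x ∈ A := by
    intro x hx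
    rcases hK.cover x (Subgroup.mem_centralizer_singleton_iff.2 (hPc x hx t htP)) with h3 | h3
    · exact Or.inl (hPK x hx h3)
    · exact Or.inr (hPK _ ((P : Subgroup G).mul_mem htP hx) h3)
  have hPcard : Nat.card (P : Subgroup G) = 8 := by
    rw [TwoFusion.AbelianJanko.card_eq_two_mul hAP htP htA htt hPdec, hAcard]
  refine ⟨P, hPcard, ?_, htP⟩
  intro x hx
  rcases hPdec x hx with h3 | h3
  · exact hA2 x h3
  · have h4 := hA2 _ h3
    have h5 : t * x = x * t := hPc t htP x hx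
    calc x * x = (t * t) * (x * x) := by rw [htt, one_mul]
      _ = t * (t * x) * x := by simp only [mul_assoc]
      _ = t * (x * t) * x := by rw [h5]
      _ = (t * x) * (t * x) := by simp only [mul_assoc]
      _ = 1 := h4

theorem not_comm [IsSimpleGroup G] {F : Type*} [Field F] [Fintype F] (hgood : Good (PSL2 F)) {t : G}
    (e : Subgroup.centralizer ({t} : Set G) ≃* Multiplicative (ZMod 2) × PSL2 F) :
    ¬ IsMulCommutative G := by
  intro hc
  have h1 : ∀ x : PSL2 F, x = 1 := by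
    intro x
    apply LocalSetup.good_center hgood
    intro g
    have h2 : e.symm (1, g) * e.symm (1, x) = e.symm (1, x) * e.symm (1, g) :=
      Subtype.ext (hc.is_comm.comm _ _)
    rw [← map_mul, ← map_mul] at h2
    exact congrArg Prod.snd (e.symm.injective h2)
  obtain ⟨P⟩ : Nonempty (Sylow 2 (PSL2 F)) := inferInstance
  have h3 := (hgood.klein P).card_four
  have h4 : Subsingleton (P : Subgroup (PSL2 F)) := ⟨fun a b => Subtype.ext (by rw [h1 a, h1 b])⟩
  rw [Nat.card_of_subsingleton (1 : (P : Subgroup (PSL2 F)))] at h3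
  omega

/-- **The reduction for odd fields.** -/
theorem main [IsSimpleGroup G] (hab : ∀ P : Sylow 2 G, ∀ a b : P, a * b = b * a)
    {F : Type*} [Field F] [Fintype F] (hodd : Odd (Fintype.card F)) {t : G} (ht : orderOf t = 2)
    (e : Subgroup.centralizer ({t} : Set G) ≃* Multiplicative (ZMod 2) × PSL2 F) :
    (Fintype.card F % 8 = 3 ∨ Fintype.card F % 8 = 5) ∧
      (∀ u v : G, orderOf u = 2 → orderOf v = 2 → IsConj u v) ∧
      (∀ P : Sylow 2 G, Nat.card P = 8) ∧ ∀ P : Sylow 2 G, ∀ x ∈ (P : Subgroup G), x * x = 1 := by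
  have h2 : Fact (Nat.Prime 2) := ⟨Nat.prime_two⟩
  obtain ⟨hgood, hmod⟩ := good_of_iso hab hodd e
  obtain ⟨P, hP8, hP2, -⟩ := sylow_structure hab hodd ht e
  have hG := not_comm hgood e
  have hcard : ∀ Q : Sylow 2 G, Nat.card Q = 8 := fun Q => by
    rw [← hP8]
    exact Nat.card_congr (Sylow.equiv Q P).toEquiv
  have h8 : 8 ∣ Nat.card G := by
    rw [← hP8]; exact card_subgroup_dvd_card _
  have h16 : ¬ 16 ∣ Nat.card G := by
    intro h16
    have h10 := (P : Subgroup G).card_mul_index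
    have h9 : (2 : ℕ) ^ 4 ∣ Nat.card (P : Subgroup G) := by
      have h11 : Nat.Coprime (2 ^ 4) (P : Subgroup G).index :=
        Nat.Coprime.pow_left _ ((Nat.Prime.coprime_iff_not_dvd Nat.prime_two).2 P.not_dvd_index)
      apply h11.dvd_of_dvd_mul_right
      rw [h10]; exact h16
    rw [hP8] at h9
    revert h9
    norm_num
  refine ⟨hmod, fun u v hu hv =>
    SmallSimple.SylowEight.isConj_of_card_sylow_eight hG h8 h16 u v hu hv, hcard, ?_⟩
  intro Q x hx
  have h3 : ((Sylow.equiv Q P) ⟨x, hx⟩) * ((Sylow.equiv Q P) ⟨x, hx⟩) = 1 :=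
    Subtype.ext (hP2 _ ((Sylow.equiv Q P) ⟨x, hx⟩).2)
  rw [← map_mul] at h3
  have h4 := (Sylow.equiv Q P).injective (h3.trans (map_one _).symm)
  exact congrArg Subtype.val h4

/-- `q = 4` or `5`: Janko's group. -/
theorem isJ1 [IsSimpleGroup G] (hab : ∀ P : Sylow 2 G, ∀ a b : P, a * b = b * a)
    {F : Type*} [Field F] [Fintype F] (hF : Fintype.card F = 4 ∨ Fintype.card F = 5) {t : G}
    (ht : orderOf t = 2)
    (e : Subgroup.centralizer ({t} : Set G) ≃* Multiplicative (ZMod 2) × PSL2 F) : Cfsg.IsJ1 G := by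
  have h2 : Fact (Nat.Prime 2) := ⟨Nat.prime_two⟩
  obtain ⟨f⟩ : Nonempty ((PSL2 F) ≃* alternatingGroup (Fin 5)) := by
    rcases hF with hF | hF
    · exact Cfsg.Agent.S0252.result hF
    · exact Cfsg.Agent.S0253.result hF
  refine Cfsg.Agent.S0448.result t ⟨ht, ?_⟩
    (e.trans (MulEquiv.prodCongr (MulEquiv.refl (Multiplicative (ZMod 2))) f))
  have h3 : IsPGroup 2 (zpowers t) := IsPGroup.of_card (n := 1) (by rw [Nat.card_zpowers, ht, pow_one])
  obtain ⟨P, hP⟩ := h3.exists_le_sylow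
  have htP : t ∈ P := hP (mem_zpowers t)
  exact ⟨P, htP, fun x hx => congrArg Subtype.val (hab P ⟨x, hx⟩ ⟨t, htP⟩)⟩

end Cfsg.Agent.Ree.ReduceOdd
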