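import Cfsg.Agent.Ree.CharFinal
import Cfsg.Agent.Ree.DelLoc
import Cfsg.Agent.Ree.ClassSum
import Cfsg.Agent.Ree.LBlock
import Cfsg.Agent.Ree.PSLTauMain

/-!
# Values of the characters at `V Y`, numerical hypotheses
-/

set_option autoImplicit false

open Cfsg Cfsg.Agent.Characters.Core
open Cfsg.Agent.Ree.Interface Cfsg.Agent.Ree.Rows Cfsg.Agent.Ree.DegVal
open scoped ComplexConjugate

namespace Cfsg.Agent.Ree.SectionVal

variable {G : Type*} [Group G] {F : Type*} [Field F] [Fintype F]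
  {t : G} {L V Y : Subgroup G} {m : ℕ} {ε : ℤ}

theorem tt (h : Good F t L V Y m ε) : t * t = 1 := by
  rw [← pow_two, ← h.ord_t, pow_orderOf_eq_one]

theorem odd_orderOf [Finite G] (h : Good F t L V Y m ε) {y : G} (hy : y ∈ Y) :
    Odd (orderOf y) := by
  have h1 : orderOf (⟨y, hy⟩ : Y) ∣ Nat.card Y := orderOf_dvd_natCard _
  rw [← Subgroup.orderOf_coe, h.Y_card] at h1
  exact h.odd_m.of_dvd_nat h1

/-- There is an involution of `L` centralising `Y`. -/
theorem exists_inv [Finite G] (h : Good F t L V Y m ε) :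
    ∃ u : L, orderOf u = 2 ∧ ∀ y ∈ Y, y * (u : G) = u * y := by
  obtain ⟨z, ρ, s, hl⟩ := DelLoc.exists_loc h
  have hzc : z ∈ Subgroup.centralizer ({t} : Set G) :=
    Subgroup.mem_centralizer_singleton_iff.2 (DelLoc.comm_of_exp h.V_exp hl.z_mem h.t_mem_V)
  have key : ∀ u : G, u ∈ V → u ≠ 1 → u ∈ L → ∃ u : L, orderOf u = 2 ∧ ∀ y ∈ Y, y * (u : G) = u * y := by
    intro u hu hu1 huL
    refine ⟨⟨u, huL⟩, ?_, ?_⟩
    · rw [← Subgroup.orderOf_coe]
      exact orderOf_eq_prime (by rw [pow_two]; exact h.V_exp u hu) hu1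
    · intro y hy
      exact ((Subgroup.mem_centralizer_iff.1 (h.Y_cent hy)) u hu).symm
  rcases h.cover z hzc with hz | hz
  · exact key z hl.z_mem hl.z_ne_one hz
  · refine key (t * z) (mul_mem h.t_mem_V hl.z_mem) ?_ hz
    intro h1
    apply hl.z_ne_t
    exact mul_left_cancel (h1.trans (tt h).symm)

/-- Value at `t y`. -/
theorem value_t [Finite G] (h : Good F t L V Y m ε) {M : Ideal AlgInt} (hM : IsPModular 2 M)
    {τ : Fin 4 → L → ℂ} (hτ : Tau M τ)
    (hy1 : ∀ y u : L, y ≠ 1 → Odd (orderOf y) → orderOf u = 2 → y * u = u * y →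
      τ 1 y = -1 ∧ τ 2 y = -1 ∧ τ 3 y = 1) (χ : IrrCharacter G)
    (hχ : ∃ i, r t L τ i χ ≠ 0) {y : G} (hy : y ∈ Y) (hy0 : y ≠ 1) :
    (χ : G → ℂ) (t * y) = ((-r t L τ 0 χ - r t L τ 1 χ + r t L τ 2 χ : ℤ) : ℂ) := by
  obtain ⟨u, hu, huY⟩ := exists_inv h
  have hodd : Odd (orderOf (⟨y, h.Y_le hy⟩ : L)) := by
    rw [← Subgroup.orderOf_coe]
    exact odd_orderOf h hy
  obtain ⟨e1, e2, e3⟩ := hy1 ⟨y, h.Y_le hy⟩ u (fun h1 => hy0 (congrArg Subtype.val h1)) hodd hu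
    (Subtype.ext (huY y hy))
  have h4 := val_section' hM (CharFinal.setup h) hτ χ hχ ⟨y, h.Y_le hy⟩
    (fun h1 => (Nat.not_even_iff_odd.2 hodd) (even_iff_two_dvd.2 h1))
  rw [Fin.sum_univ_three] at h4
  have e0' : (Fin.succ 0 : Fin 4) = 1 := rfl
  have e1' : (Fin.succ 1 : Fin 4) = 2 := rfl
  have e2' : (Fin.succ 2 : Fin 4) = 3 := rfl
  rw [e0', e1', e2', e1, e2, e3] at h4
  rw [h4]
  push_cast
  ring

/-- Value at `v y`, `v ≠ 1`. -/
theorem value_V [Finite G] (h : Good F t L V Y m ε) {M : Ideal AlgInt} (hM : IsPModular 2 M)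
    {τ : Fin 4 → L → ℂ} (hτ : Tau M τ)
    (hy1 : ∀ y u : L, y ≠ 1 → Odd (orderOf y) → orderOf u = 2 → y * u = u * y →
      τ 1 y = -1 ∧ τ 2 y = -1 ∧ τ 3 y = 1) (χ : IrrCharacter G)
    (hχ : ∃ i, r t L τ i χ ≠ 0) (v : G) (hv : v ∈ V) (hv1 : v ≠ 1) (y : G) (hy : y ∈ Y)
    (hy0 : y ≠ 1) :
    (χ : G → ℂ) (v * y) = ((-r t L τ 0 χ - r t L τ 1 χ + r t L τ 2 χ : ℤ) : ℂ) := by
  obtain ⟨z, ρ, s, hl⟩ := DelLoc.exists_loc h
  -- conjugation back to `t`
  have key : ∀ g : G, g ∈ Subgroup.normalizer (V : Set G) → g * t * g⁻¹ = v →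
      (χ : G → ℂ) (v * y) = ((-r t L τ 0 χ - r t L τ 1 χ + r t L τ 2 χ : ℤ) : ℂ) := by
    intro g hg hgv
    have hg' : g⁻¹ ∈ Subgroup.normalizer (V : Set G) := inv_mem hg
    have h1 := hl.norm_Y g⁻¹ hg' y hy
    rw [inv_inv] at h1
    have h2 : g⁻¹ * y * g ≠ 1 := by
      intro h3
      apply hy0
      have : y = g * (g⁻¹ * y * g) * g⁻¹ := by group
      rw [this, h3, mul_one, mul_inv_cancel]
    rw [← value_t h hM hτ hy1 χ hχ h1 h2]
    have h4 : v * y = g * (t * (g⁻¹ * y * g)) * g⁻¹ := by rw [← hgv]; group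
    rw [h4, Blocks.Basic.irr_conj χ.2]
  rcases hl.V_cases v hv with h1 | h1 | h1 | h1
  · exact absurd h1 hv1
  · exact key 1 (one_mem _) (by rw [h1]; group)
  · exact key ρ hl.ρ_norm (by rw [h1, hl.ρ_t])
  · refine key (ρ * ρ) (mul_mem hl.ρ_norm hl.ρ_norm) ?_
    rw [h1, ← hl.ρ_z, ← hl.ρ_t]
    group

theorem Q_facts (h : Good F t L V Y m ε) :
    11 ≤ (Fintype.card F : ℤ) ∧ 3 ≤ m := by
  have h1 := h.card_F
  have h2 := h.one_lt_m
  obtain ⟨k, hk⟩ := h.odd_m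
  rcases h.eps with h3 | h3 <;> constructor <;> omega

theorem nInv_eq [Finite G] (h : Good F t L V Y m ε) : ClassSum.nInv L * (4 * m) = Nat.card L := by
  classical
  have := Fintype.ofFinite L
  obtain ⟨A, B, u, s, r, D⟩ := PSLTauMain.exists_data_of_iso h.iso m ε h.eps h.odd_m h.card_F
  have h1 := D.bsw.card_eq
  rw [D.card_A] at h1
  have h2 : ClassSum.nInv L = Classification.BSW.Setup.numInv L := by
    rw [ClassSum.nInv_def, Classification.BSW.Setup.numInv_def, Nat.card_eq_fintype_card,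
      Fintype.card_subtype]
    congr 1
    ext w
    simp only [Finset.mem_filter, Finset.mem_univ, true_and]
    constructor
    · intro hw
      refine ⟨?_, ?_⟩
      · rintro rfl
        rw [orderOf_one] at hw
        omega
      · rw [← pow_two, ← hw, pow_orderOf_eq_one]
    · rintro ⟨hw1, hw2⟩
      exact orderOf_eq_prime (by rw [pow_two]; exact hw2) hw1
  rw [h2, h1]
  ring

theorem numHyp [Finite G] (h : Good F t L V Y m ε) :
    ClassSum.NumHyp (ε * Fintype.card F) m (Nat.card L) (ClassSum.nInv L) := by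
  obtain ⟨h1, h2⟩ := Q_facts h
  have h3 := CharFinal.abs_Q h
  have h4 := h.card_F
  refine ⟨?_, ?_, ?_, by omega, ?_, nInv_eq h, ?_⟩
  · rcases h.eps with h5 | h5 <;> rw [h5] <;> omega
  · rcases h.eps with h5 | h5 <;> rw [h5] <;> omega
  · rcases h.eps with h5 | h5 <;> rw [h5] <;> omega
  · have h5 := CharFinal.card_centralizer_t h
    rw [card_centralizer h.ord_t h.L_le h.t_not_mem h.cover] at h5
    exact_mod_cast h5
  · rw [h3]
    rcases h.eps with h5 | h5 <;> rw [h5] at h4 ⊢ <;> rw [h4] <;> ring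

theorem hyp_LBlock [Finite G] (h : Good F t L V Y m ε) : LBlock.Hyp V Y := by
  obtain ⟨z, ρ, s, hl⟩ := DelLoc.exists_loc h
  exact {
    V_card := h.V_card
    V_exp := h.V_exp
    Y_odd := hl.odd_Y
    Y_comm := hl.Y_comm
    VY_comm := fun v hv y hy => (Subgroup.mem_centralizer_iff.1 (h.Y_cent hy)) v hv
    cent_y := h.cent_y }

end Cfsg.Agent.Ree.SectionVal
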