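import Mathlib

/-! Integer vectors of small norm. -/

set_option autoImplicit false

open Matrix

namespace Cfsg.Agent.Ree.Vec

variable {ι : Type*} [Fintype ι] [DecidableEq ι]

theorem sq_le_norm (v : ι → ℤ) (i : ι) : v i ^ 2 ≤ v ⬝ᵥ v := by
  have h : v ⬝ᵥ v = ∑ j, v j ^ 2 := by
    simp [dotProduct, pow_two]
  rw [h]
  exact Finset.single_le_sum (f := fun j => v j ^ 2) (fun j _ => sq_nonneg _) (Finset.mem_univ i)

/-- if all entries are at most one in absolute value, the norm is the size of the support -/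
theorem norm_eq_card (v : ι → ℤ) (h : ∀ i, v i = 0 ∨ v i = 1 ∨ v i = -1) :
    v ⬝ᵥ v = ((Finset.univ.filter fun i => v i ≠ 0).card : ℤ) := by
  classical
  rw [Finset.card_filter]
  push_cast
  unfold dotProduct
  refine Finset.sum_congr rfl fun i _ => ?_
  rcases h i with h | h | h <;> simp [h]

theorem entry_of_norm_lt_four {v : ι → ℤ} (h : v ⬝ᵥ v < 4) (i : ι) :
    v i = 0 ∨ v i = 1 ∨ v i = -1 := by
  have h1 := sq_le_norm v i
  have h2 : v i ^ 2 < 4 := lt_of_le_of_lt h1 h
  have h3 : v i < 2 := by nlinarith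
  have h4 : -2 < v i := by nlinarith
  omega

/-- a vector of norm one -/
theorem norm_one {v : ι → ℤ} (h : v ⬝ᵥ v = 1) :
    ∃ a, ∃ s : ℤ, (s = 1 ∨ s = -1) ∧ v = Pi.single a s := by
  have he := entry_of_norm_lt_four (v := v) (by omega)
  have hc := norm_eq_card v he
  rw [h] at hc
  have hc' : (Finset.univ.filter fun i => v i ≠ 0).card = 1 := by exact_mod_cast hc.symm
  obtain ⟨a, ha⟩ := Finset.card_eq_one.mp hc'
  have hmem : ∀ i, v i ≠ 0 ↔ i = a := by
    intro i
    have : i ∈ (Finset.univ.filter fun i => v i ≠ 0) ↔ i ∈ ({a} : Finset ι) := by rw [ha]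
    simpa using this
  refine ⟨a, v a, ?_, ?_⟩
  · have := (hmem a).mpr rfl
    rcases he a with h | h | h
    · exact absurd h this
    · exact Or.inl h
    · exact Or.inr h
  · funext i
    by_cases hi : i = a
    · subst hi; simp
    · rw [Pi.single_eq_of_ne hi]
      by_contra hne
      exact hi ((hmem i).mp hne)

/-- a vector of norm two -/
theorem norm_two {v : ι → ℤ} (h : v ⬝ᵥ v = 2) :
    ∃ a b, a ≠ b ∧ ∃ s r : ℤ, (s = 1 ∨ s = -1) ∧ (r = 1 ∨ r = -1) ∧
      v = Pi.single a s + Pi.single b r := by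
  have he := entry_of_norm_lt_four (v := v) (by omega)
  have hc := norm_eq_card v he
  rw [h] at hc
  have hc' : (Finset.univ.filter fun i => v i ≠ 0).card = 2 := by exact_mod_cast hc.symm
  obtain ⟨a, b, hab, hS⟩ := Finset.card_eq_two.mp hc'
  have hmem : ∀ i, v i ≠ 0 ↔ (i = a ∨ i = b) := by
    intro i
    have : i ∈ (Finset.univ.filter fun i => v i ≠ 0) ↔ i ∈ ({a, b} : Finset ι) := by rw [hS]
    simpa using this
  have hs : ∀ i, (i = a ∨ i = b) → (v i = 1 ∨ v i = -1) := by
    intro i hi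
    have := (hmem i).mpr hi
    rcases he i with h | h | h
    · exact absurd h this
    · exact Or.inl h
    · exact Or.inr h
  refine ⟨a, b, hab, v a, v b, hs a (Or.inl rfl), hs b (Or.inr rfl), ?_⟩
  funext i
  rw [Pi.add_apply]
  by_cases hi : i = a
  · subst hi; rw [Pi.single_eq_same, Pi.single_eq_of_ne hab, add_zero]
  · by_cases hi' : i = b
    · subst hi'; rw [Pi.single_eq_same, Pi.single_eq_of_ne hi, zero_add]
    · rw [Pi.single_eq_of_ne hi, Pi.single_eq_of_ne hi', add_zero]
      by_contra hne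
      rcases (hmem i).mp hne with h | h
      · exact hi h
      · exact hi' h

/-- a vector of norm three -/
theorem norm_three {v : ι → ℤ} (h : v ⬝ᵥ v = 3) :
    ∃ a b c, a ≠ b ∧ a ≠ c ∧ b ≠ c ∧ ∃ s r u : ℤ, (s = 1 ∨ s = -1) ∧ (r = 1 ∨ r = -1) ∧
      (u = 1 ∨ u = -1) ∧ v = Pi.single a s + Pi.single b r + Pi.single c u := by
  have he := entry_of_norm_lt_four (v := v) (by omega)
  have hc := norm_eq_card v he
  rw [h] at hc
  have hc' : (Finset.univ.filter fun i => v i ≠ 0).card = 3 := by exact_mod_cast hc.symm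
  obtain ⟨a, b, c, hab, hac, hbc, hS⟩ := Finset.card_eq_three.mp hc'
  have hmem : ∀ i, v i ≠ 0 ↔ (i = a ∨ i = b ∨ i = c) := by
    intro i
    have : i ∈ (Finset.univ.filter fun i => v i ≠ 0) ↔ i ∈ ({a, b, c} : Finset ι) := by rw [hS]
    simpa using this
  have hs : ∀ i, (i = a ∨ i = b ∨ i = c) → (v i = 1 ∨ v i = -1) := by
    intro i hi
    have := (hmem i).mpr hi
    rcases he i with h | h | h
    · exact absurd h this
    · exact Or.inl h
    · exact Or.inr h
  refine ⟨a, b, c, hab, hac, hbc, v a, v b, v c, hs a (by simp), hs b (by simp), hs c (by simp), ?_⟩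
  funext i
  rw [Pi.add_apply, Pi.add_apply]
  by_cases hi : i = a
  · subst hi
    rw [Pi.single_eq_same, Pi.single_eq_of_ne hab, Pi.single_eq_of_ne hac]; ring
  · by_cases hi' : i = b
    · subst hi'
      rw [Pi.single_eq_same, Pi.single_eq_of_ne hi, Pi.single_eq_of_ne hbc]; ring
    · by_cases hi'' : i = c
      · subst hi''
        rw [Pi.single_eq_same, Pi.single_eq_of_ne hi, Pi.single_eq_of_ne hi']; ring
      · rw [Pi.single_eq_of_ne hi, Pi.single_eq_of_ne hi', Pi.single_eq_of_ne hi'']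
        by_contra hne
        rcases (hmem i).mp (by simpa using hne) with h | h | h
        · exact hi h
        · exact hi' h
        · exact hi'' h

/-- norm two and orthogonal to a positive vector: a difference of two unit vectors -/
theorem norm_two_deg {v d : ι → ℤ} (h : v ⬝ᵥ v = 2) (hd : ∀ i, 0 < d i) (hv : v ⬝ᵥ d = 0) :
    ∃ a b, a ≠ b ∧ d a = d b ∧ v = Pi.single a 1 - Pi.single b 1 := by
  obtain ⟨a, b, hab, s, r, hs, hr, hv'⟩ := norm_two h
  rw [hv', add_dotProduct, single_dotProduct, single_dotProduct] at hv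
  have ha := hd a
  have hb := hd b
  rcases hs with rfl | rfl <;> rcases hr with rfl | rfl
  · nlinarith
  · refine ⟨a, b, hab, by linarith, ?_⟩
    rw [hv', Pi.single_neg, sub_eq_add_neg]
  · refine ⟨b, a, hab.symm, by linarith, ?_⟩
    rw [hv', Pi.single_neg, sub_eq_add_neg, add_comm]
  · nlinarith

/-- number of nonzero entries, entries in `{0, ±1}` at finitely many distinct places: norm bound -/
theorem sum_sq_le (v : ι → ℤ) (s : Finset ι) : ∑ i ∈ s, v i ^ 2 ≤ v ⬝ᵥ v := by
  have h : v ⬝ᵥ v = ∑ j, v j ^ 2 := by simp [dotProduct, pow_two]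
  rw [h]
  exact Finset.sum_le_sum_of_subset_of_nonneg (Finset.subset_univ _) (fun j _ _ => sq_nonneg _)

end Cfsg.Agent.Ree.Vec
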